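import Mathlib
import Cfsg.Agent.Cl.GF

/-!
# Table fields of orders 2, 3, 4, 5, 7, 8, 9, 11, 13, 16 (Conway polynomials)
-/

set_option autoImplicit false

namespace Cfsg.Agent.Cl

/-- Tables of the field with 2 elements. -/
def gf2 : TFData where
  q := 2
  addT := 0x10100
  mulT := 0x1000000
  negT := 0x100
  invT := 0x100
  w := 1
  lg := 0x0

instance gf2_ok : Fact (gf2.ok = true) := ⟨by decide +kernel⟩

/-- The field with 2 elements; the code `∑ dᵢ 2^i` stands for `∑ dᵢ wⁱ`, `w = TF.prim gf2`. -/
abbrev GF2 : Type := TF gf2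

theorem card_GF2 : Fintype.card GF2 = 2 := TF.card_eq

theorem natCard_GF2 : Nat.card GF2 = 2 := TF.natCard_eq

theorem prim_rel_GF2 : (TF.prim gf2 + 1 : GF2) = 0 := by decide +kernel

instance charP_GF2 : CharP GF2 2 :=
  haveI : Fact (Nat.Prime 2) := ⟨by norm_num⟩
  TF.charP 2 (by decide +kernel)

theorem nonempty_ringEquiv_GF2 (F : Type*) [Field F] [Fintype F] (hF : Fintype.card F = 2) :
    Nonempty (F ≃+* GF2) := TF.nonempty_ringEquiv F hF

theorem nonempty_ringEquiv_GF2' (F : Type*) [Field F] (hF : Nat.card F = 2) :
    Nonempty (F ≃+* GF2) := TF.nonempty_ringEquiv' F hF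

/-- Tables of the field with 3 elements. -/
def gf3 : TFData where
  q := 3
  addT := 0x10002000201020100
  mulT := 0x10200020100000000
  negT := 0x10200
  invT := 0x20100
  w := 2
  lg := 0x10000

instance gf3_ok : Fact (gf3.ok = true) := ⟨by decide +kernel⟩

/-- The field with 3 elements; the code `∑ dᵢ 3^i` stands for `∑ dᵢ wⁱ`, `w = TF.prim gf3`. -/
abbrev GF3 : Type := TF gf3

theorem card_GF3 : Fintype.card GF3 = 3 := TF.card_eq

theorem natCard_GF3 : Nat.card GF3 = 3 := TF.natCard_eq

theorem prim_rel_GF3 : (TF.prim gf3 + 1 : GF3) = 0 := by decide +kernel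

instance charP_GF3 : CharP GF3 3 :=
  haveI : Fact (Nat.Prime 3) := ⟨by norm_num⟩
  TF.charP 3 (by decide +kernel)

theorem nonempty_ringEquiv_GF3 (F : Type*) [Field F] [Fintype F] (hF : Fintype.card F = 3) :
    Nonempty (F ≃+* GF3) := TF.nonempty_ringEquiv F hF

theorem nonempty_ringEquiv_GF3' (F : Type*) [Field F] (hF : Nat.card F = 3) :
    Nonempty (F ≃+* GF3) := TF.nonempty_ringEquiv' F hF

/-- Tables of the field with 4 elements. -/
def gf4 : TFData where
  q := 4
  addT := 0x10203010003020203000103020100
  mulT := 0x2010300010302000302010000000000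
  negT := 0x3020100
  invT := 0x2030100
  w := 2
  lg := 0x2010000

instance gf4_ok : Fact (gf4.ok = true) := ⟨by decide +kernel⟩

/-- The field with 4 elements; the code `∑ dᵢ 2^i` stands for `∑ dᵢ wⁱ`, `w = TF.prim gf4`. -/
abbrev GF4 : Type := TF gf4

theorem card_GF4 : Fintype.card GF4 = 4 := TF.card_eq

theorem natCard_GF4 : Nat.card GF4 = 4 := TF.natCard_eq

theorem prim_rel_GF4 : (TF.prim gf4 ^ 2 + TF.prim gf4 + 1 : GF4) = 0 := by decide +kernel

instance charP_GF4 : CharP GF4 2 :=
  haveI : Fact (Nat.Prime 2) := ⟨by norm_num⟩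
  TF.charP 2 (by decide +kernel)

theorem nonempty_ringEquiv_GF4 (F : Type*) [Field F] [Fintype F] (hF : Fintype.card F = 4) :
    Nonempty (F ≃+* GF4) := TF.nonempty_ringEquiv F hF

theorem nonempty_ringEquiv_GF4' (F : Type*) [Field F] (hF : Nat.card F = 4) :
    Nonempty (F ≃+* GF4) := TF.nonempty_ringEquiv' F hF

/-- Tables of the field with 5 elements. -/
def gf5 : TFData where
  q := 5
  addT := 0x3020100040201000403010004030200040302010403020100
  mulT := 0x1020304000204010300030104020004030201000000000000
  negT := 0x102030400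
  invT := 0x402030100
  w := 2
  lg := 0x203010000

instance gf5_ok : Fact (gf5.ok = true) := ⟨by decide +kernel⟩

/-- The field with 5 elements; the code `∑ dᵢ 5^i` stands for `∑ dᵢ wⁱ`, `w = TF.prim gf5`. -/
abbrev GF5 : Type := TF gf5

theorem card_GF5 : Fintype.card GF5 = 5 := TF.card_eq

theorem natCard_GF5 : Nat.card GF5 = 5 := TF.natCard_eq

theorem prim_rel_GF5 : (TF.prim gf5 + 3 : GF5) = 0 := by decide +kernel

instance charP_GF5 : CharP GF5 5 :=
  haveI : Fact (Nat.Prime 5) := ⟨by norm_num⟩
  TF.charP 5 (by decide +kernel)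

theorem nonempty_ringEquiv_GF5 (F : Type*) [Field F] [Fintype F] (hF : Fintype.card F = 5) :
    Nonempty (F ≃+* GF5) := TF.nonempty_ringEquiv F hF

theorem nonempty_ringEquiv_GF5' (F : Type*) [Field F] (hF : Nat.card F = 5) :
    Nonempty (F ≃+* GF5) := TF.nonempty_ringEquiv' F hF

/-- Tables of the field with 7 elements. -/
def gf7 : TFData where
  q := 7
  addT := 0x5040302010006040302010006050302010006050402010006050403010006050403020006050403020106050403020100
  mulT := 0x1020304050600020406010305000306020501040004010502060300050301060402000605040302010000000000000000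
  negT := 0x1020304050600
  invT := 0x6030205040100
  w := 3
  lg := 0x3050401020000

instance gf7_ok : Fact (gf7.ok = true) := ⟨by decide +kernel⟩

/-- The field with 7 elements; the code `∑ dᵢ 7^i` stands for `∑ dᵢ wⁱ`, `w = TF.prim gf7`. -/
abbrev GF7 : Type := TF gf7

theorem card_GF7 : Fintype.card GF7 = 7 := TF.card_eq

theorem natCard_GF7 : Nat.card GF7 = 7 := TF.natCard_eq

theorem prim_rel_GF7 : (TF.prim gf7 + 4 : GF7) = 0 := by decide +kernel

instance charP_GF7 : CharP GF7 7 :=
  haveI : Fact (Nat.Prime 7) := ⟨by norm_num⟩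
  TF.charP 7 (by decide +kernel)

theorem nonempty_ringEquiv_GF7 (F : Type*) [Field F] [Fintype F] (hF : Fintype.card F = 7) :
    Nonempty (F ≃+* GF7) := TF.nonempty_ringEquiv F hF

theorem nonempty_ringEquiv_GF7' (F : Type*) [Field F] (hF : Nat.card F = 7) :
    Nonempty (F ≃+* GF7) := TF.nonempty_ringEquiv' F hF

/-- Tables of the field with 8 elements. -/
def gf8 : TFData where
  q := 8
  addT := 0x10203040506070100030205040706020300010607040503020100070605040405060700010203050407060100030206070405020300010706050403020100
  mulT := 0x3040601020507000402030501070600060307020401050001050206070304000201040705060300050701030604020007060504030201000000000000000000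
  negT := 0x706050403020100
  invT := 0x403020706050100
  w := 2
  lg := 0x504060203010000

instance gf8_ok : Fact (gf8.ok = true) := ⟨by decide +kernel⟩

/-- The field with 8 elements; the code `∑ dᵢ 2^i` stands for `∑ dᵢ wⁱ`, `w = TF.prim gf8`. -/
abbrev GF8 : Type := TF gf8

theorem card_GF8 : Fintype.card GF8 = 8 := TF.card_eq

theorem natCard_GF8 : Nat.card GF8 = 8 := TF.natCard_eq

theorem prim_rel_GF8 : (TF.prim gf8 ^ 3 + TF.prim gf8 + 1 : GF8) = 0 := by decide +kernel

instance charP_GF8 : CharP GF8 2 :=
  haveI : Fact (Nat.Prime 2) := ⟨by norm_num⟩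
  TF.charP 2 (by decide +kernel)

theorem nonempty_ringEquiv_GF8 (F : Type*) [Field F] [Fintype F] (hF : Fintype.card F = 8) :
    Nonempty (F ≃+* GF8) := TF.nonempty_ringEquiv F hF

theorem nonempty_ringEquiv_GF8' (F : Type*) [Field F] (hF : Nat.card F = 8) :
    Nonempty (F ≃+* GF8) := TF.nonempty_ringEquiv' F hF

/-- Tables of the field with 9 elements. -/
def gf9 : TFData where
  q := 9
  addT := 0x40305010002070608030504000201060807050403020100080706010002070608040305000201060807030504020100080706050403070608040305010002060807030504000201080706050403020100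
  mulT := 0x20307060105040800030801040602050700070104020508030600060402080301070500010605030207080400050208010704060300040503070806010200080706050403020100000000000000000000
  negT := 0x40503070806010200
  invT := 0x40607030805020100
  w := 3
  lg := 0x60305070201040000

instance gf9_ok : Fact (gf9.ok = true) := ⟨by decide +kernel⟩

/-- The field with 9 elements; the code `∑ dᵢ 3^i` stands for `∑ dᵢ wⁱ`, `w = TF.prim gf9`. -/
abbrev GF9 : Type := TF gf9

theorem card_GF9 : Fintype.card GF9 = 9 := TF.card_eq

theorem natCard_GF9 : Nat.card GF9 = 9 := TF.natCard_eq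

theorem prim_rel_GF9 : (TF.prim gf9 ^ 2 + 2 * TF.prim gf9 + 2 : GF9) = 0 := by decide +kernel

instance charP_GF9 : CharP GF9 3 :=
  haveI : Fact (Nat.Prime 3) := ⟨by norm_num⟩
  TF.charP 3 (by decide +kernel)

theorem nonempty_ringEquiv_GF9 (F : Type*) [Field F] [Fintype F] (hF : Fintype.card F = 9) :
    Nonempty (F ≃+* GF9) := TF.nonempty_ringEquiv F hF

theorem nonempty_ringEquiv_GF9' (F : Type*) [Field F] (hF : Nat.card F = 9) :
    Nonempty (F ≃+* GF9) := TF.nonempty_ringEquiv' F hF

/-- Tables of the field with 11 elements. -/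
def gf11 : TFData where
  q := 11
  addT := 0x90807060504030201000a0807060504030201000a0907060504030201000a0908060504030201000a0908070504030201000a0908070604030201000a0908070605030201000a0908070605040201000a0908070605040301000a0908070605040302000a0908070605040302010a09080706050403020100
  mulT := 0x102030405060708090a00020406080a0103050709000306090104070a02050800040801050902060a030700050a04090308020701060006010702080309040a050007030a06020905010804000805020a0704010906030009070503010a08060402000a090807060504030201000000000000000000000000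
  negT := 0x102030405060708090a00
  invT := 0xa05070802090304060100
  w := 2
  lg := 0x506030709040208010000

instance gf11_ok : Fact (gf11.ok = true) := ⟨by decide +kernel⟩

/-- The field with 11 elements; the code `∑ dᵢ 11^i` stands for `∑ dᵢ wⁱ`, `w = TF.prim gf11`. -/
abbrev GF11 : Type := TF gf11

theorem card_GF11 : Fintype.card GF11 = 11 := TF.card_eq

theorem natCard_GF11 : Nat.card GF11 = 11 := TF.natCard_eq

theorem prim_rel_GF11 : (TF.prim gf11 + 9 : GF11) = 0 := by decide +kernel

instance charP_GF11 : CharP GF11 11 :=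
  haveI : Fact (Nat.Prime 11) := ⟨by norm_num⟩
  TF.charP 11 (by decide +kernel)

theorem nonempty_ringEquiv_GF11 (F : Type*) [Field F] [Fintype F] (hF : Fintype.card F = 11) :
    Nonempty (F ≃+* GF11) := TF.nonempty_ringEquiv F hF

theorem nonempty_ringEquiv_GF11' (F : Type*) [Field F] (hF : Nat.card F = 11) :
    Nonempty (F ≃+* GF11) := TF.nonempty_ringEquiv' F hF

/-- Tables of the field with 13 elements. -/
def gf13 : TFData where
  q := 13
  addT := 0xb0a090807060504030201000c0a090807060504030201000c0b090807060504030201000c0b0a0807060504030201000c0b0a0907060504030201000c0b0a0908060504030201000c0b0a0908070504030201000c0b0a0908070604030201000c0b0a0908070605030201000c0b0a0908070605040201000c0b0a0908070605040301000c0b0a0908070605040302000c0b0a0908070605040302010c0b0a09080706050403020100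
  mulT := 0x102030405060708090a0b0c00020406080a0c01030507090b000306090c0205080b0104070a0004080c03070b02060a01050900050a02070c040901060b030800060c050b040a030902080107000701080209030a040b050c060008030b060109040c07020a05000905010a06020b07030c0804000a0704010b0805020c090603000b09070503010c0a08060402000c0b0a0908070605040302010000000000000000000000000000
  negT := 0x102030405060708090a0b0c00
  invT := 0xc06040305020b080a09070100
  w := 2
  lg := 0x6070a08030b05090204010000

instance gf13_ok : Fact (gf13.ok = true) := ⟨by decide +kernel⟩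

/-- The field with 13 elements; the code `∑ dᵢ 13^i` stands for `∑ dᵢ wⁱ`, `w = TF.prim gf13`. -/
abbrev GF13 : Type := TF gf13

theorem card_GF13 : Fintype.card GF13 = 13 := TF.card_eq

theorem natCard_GF13 : Nat.card GF13 = 13 := TF.natCard_eq

theorem prim_rel_GF13 : (TF.prim gf13 + 11 : GF13) = 0 := by decide +kernel

instance charP_GF13 : CharP GF13 13 :=
  haveI : Fact (Nat.Prime 13) := ⟨by norm_num⟩
  TF.charP 13 (by decide +kernel)

theorem nonempty_ringEquiv_GF13 (F : Type*) [Field F] [Fintype F] (hF : Fintype.card F = 13) :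
    Nonempty (F ≃+* GF13) := TF.nonempty_ringEquiv F hF

theorem nonempty_ringEquiv_GF13' (F : Type*) [Field F] (hF : Nat.card F = 13) :
    Nonempty (F ≃+* GF13) := TF.nonempty_ringEquiv' F hF

/-- Tables of the field with 16 elements. -/
def gf16 : TFData where
  q := 16
  addT := 0x102030405060708090a0b0c0d0e0f010003020504070609080b0a0d0c0f0e02030001060704050a0b08090e0f0c0d03020100070605040b0a09080f0e0d0c04050607000102030c0d0e0f08090a0b05040706010003020d0c0f0e09080b0a06070405020300010e0f0c0d0a0b080907060504030201000f0e0d0c0b0a090808090a0b0c0d0e0f000102030405060709080b0a0d0c0f0e01000302050407060a0b08090e0f0c0d02030001060704050b0a09080f0e0d0c03020100070605040c0d0e0f08090a0b04050607000102030d0c0f0e09080b0a05040706010003020e0f0c0d0a0b080906070405020300010f0e0d0c0b0a09080706050403020100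
  mulT := 0xa050708030c0e010b040609020d0f00050b0a04080607090c02030d010f0e00070a0e03060b0f0205080c0104090d000804030f0d01060a020e0905070b0c000308060d09020c07040f010a0e050b000c060b010208050f0309040e0d070a000e070f060c050d040a030b02080109000109020a070f040c0d050e060b0308000b0c050204030a0d0601080f090e07000402080e0f09030501070d0b0a0c060006030c0901040b0e080d02070f0a0500090d01050a0e02060f0b07030c080400020104070e0d080b090a0f0c050603000d0f090b050701030e0c0a08060402000f0e0d0c0b0a0908070605040302010000000000000000000000000000000000
  negT := 0xf0e0d0c0b0a09080706050403020100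
  invT := 0x803040a050c020f06070b0d0e090100
  w := 2
  lg := 0xc0b0d0607090e030a05080204010000

instance gf16_ok : Fact (gf16.ok = true) := ⟨by decide +kernel⟩

/-- The field with 16 elements; the code `∑ dᵢ 2^i` stands for `∑ dᵢ wⁱ`, `w = TF.prim gf16`. -/
abbrev GF16 : Type := TF gf16

theorem card_GF16 : Fintype.card GF16 = 16 := TF.card_eq

theorem natCard_GF16 : Nat.card GF16 = 16 := TF.natCard_eq

theorem prim_rel_GF16 : (TF.prim gf16 ^ 4 + TF.prim gf16 + 1 : GF16) = 0 := by decide +kernel

instance charP_GF16 : CharP GF16 2 :=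
  haveI : Fact (Nat.Prime 2) := ⟨by norm_num⟩
  TF.charP 2 (by decide +kernel)

theorem nonempty_ringEquiv_GF16 (F : Type*) [Field F] [Fintype F] (hF : Fintype.card F = 16) :
    Nonempty (F ≃+* GF16) := TF.nonempty_ringEquiv F hF

theorem nonempty_ringEquiv_GF16' (F : Type*) [Field F] (hF : Nat.card F = 16) :
    Nonempty (F ≃+* GF16) := TF.nonempty_ringEquiv' F hF

end Cfsg.Agent.Cl
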