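import Mathlib
import Cfsg.Agent.Cl.OrthCard
import Cfsg.Agent.Cl.LinearBasic

/-!
# Low-dimensional orthogonal groups I: the general criterion, `Ω₃`, `Ω₄⁺`, `Ω₄⁻`

`o_range_eq_commutator` / `o_nonempty_pomega_equiv`: a homomorphism `φ : G →* O(Q)` with
`|O(Q)| = 2 |G|`, kernel inside `{±1}` and no sign characters on `G` maps onto `Ω(Q)`.
-/

set_option autoImplicit false

namespace Cfsg.Agent.Cl

open QuadraticMap Module Matrix

section General

variable {F V : Type*} [Field F] [AddCommGroup V] [Module F V] {Q : QuadraticForm F V}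
  {G : Type*} [Group G]

/-- Pulling back a representation along an injective linear map with invariant image. -/
theorem o_exists_hom_OG {M : Type*} [AddCommGroup M] [Module F M] (j : V →ₗ[F] M)
    (hj : Function.Injective j) (ρ : G →* Module.End F M) (hρ : ∀ g v, ∃ v', j v' = ρ g (j v))
    (hQ : ∀ g v v', j v' = ρ g (j v) → Q v' = Q v) :
    ∃ φ : G →* OG Q, ∀ g v, j ((φ g).1 v) = ρ g (j v) := by
  choose f hf using hρ
  let L : G → V →ₗ[F] V := fun g =>
    { toFun := f g
      map_add' := fun x y => hj (by simp [hf])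
      map_smul' := fun c x => hj (by simp [hf]) }
  have hL : ∀ g v, j (L g v) = ρ g (j v) := hf
  have hmul : ∀ g h v, L g (L h v) = L (g * h) v := fun g h v => hj (by simp [hL])
  have hone : ∀ v, L 1 v = v := fun v => hj (by simp [hL])
  exact ⟨{ toFun := fun g => OG.ofLinear (L g) (L g⁻¹) (fun v => by rw [hmul, mul_inv_cancel, hone])
              (fun v => by rw [hmul, inv_mul_cancel, hone]) fun v => hQ g v _ (hL g v)
           map_one' := OG.ext hone
           map_mul' := fun g h => OG.ext fun v => (hmul g h v).symm }, hL⟩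

theorem o_hom_eq_one_of_commutator (h : commutator G = ⊤) (f : G →* ℤˣ) : f = 1 :=
  MonoidHom.ext fun g => Abelianization.commutator_subset_ker f (h ▸ Subgroup.mem_top g)

theorem o_sl_hom_eq_one {ι : Type*} [Fintype ι] [DecidableEq ι] (h : 3 ≤ Nat.card F)
    (f : SpecialLinearGroup ι F →* ℤˣ) : f = 1 := by
  have : Finite F := Nat.finite_of_card_ne_zero (by omega)
  by_cases h2 : (2 : F) = 0
  · refine o_hom_eq_one_of_commutator (sl_commutator_eq_top (Or.inr
      (exists_sq_ne_one_of_four_le_card ?_))) f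
    have := Fintype.ofFinite F
    have := FiniteField.even_card_of_char_two (o_ringChar_eq_two h2)
    rw [Nat.card_eq_fintype_card] at h ⊢
    omega
  · refine MonoidHom.ext (sl_transvection_induction (fun A => f A = 1) (map_one f)
      (fun i j hij c => ?_) fun A B hA hB => by rw [map_mul, hA, hB, one_mul])
    rw [show c = c / 2 + c / 2 by field_simp; ring, SpecialLinearGroup.transvection_add, map_mul]
    exact Int.units_mul_self _

variable [Finite F] [FiniteDimensional F V]

theorem o_range_le_commutator (hQ : (polarBilin Q).Nondegenerate) (hexc : ¬ OExc Q)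
    (φ : G →* OG Q) (h1 : ∀ f : G →* ℤˣ, f = 1) (g : G) : φ g ∈ commutator (OG Q) :=
  (mem_commutator_OG_iff hQ hexc _).2 ⟨DFunLike.congr_fun (h1 ((dickson hQ).comp φ)) g,
    DFunLike.congr_fun (h1 ((ospin hQ).comp φ)) g⟩

theorem o_finite_OG : Finite (OG Q) :=
  have : Finite V := Module.finite_of_finite F
  Finite.of_injective (fun g : OG Q => (g.1 : V → V)) fun _ _ h => OG.ext (congrFun h)

theorem o_range_eq_commutator (hQ : (polarBilin Q).Nondegenerate) (hexc : ¬ OExc Q)
    (hn : 2 ≤ finrank F V) (φ : G →* OG Q) (h1 : ∀ f : G →* ℤˣ, f = 1)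
    (hcard : Nat.card (OG Q) = 2 * Nat.card G) {z : G} (hz : (2 : F) = 0 → z = 1)
    (hker : ∀ g, φ g = 1 → g = 1 ∨ g = z) : φ.range = commutator (OG Q) := by
  have : Finite (OG Q) := o_finite_OG
  refine Subgroup.eq_of_le_of_card_ge (by
    rintro _ ⟨g, rfl⟩; exact o_range_le_commutator hQ hexc φ h1 g) ?_
  have e1 := φ.ker.index_mul_card
  have e2 := (commutator (OG Q)).index_mul_card
  rw [Subgroup.index_ker] at e1
  rw [hcard, ← e1] at e2
  have e3 : Nat.card φ.ker ≤ ({1, z} : Set G).ncard :=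
    Set.ncard_le_ncard (s := (φ.ker : Set G)) (fun g hg => hker g hg) (Set.toFinite _)
  by_cases h2 : (2 : F) = 0
  · rw [hz h2, Set.pair_eq_singleton, Set.ncard_singleton] at e3
    rw [index_commutator_OG_of_two_eq_zero hQ hexc h2 (by omega)] at e2
    nlinarith
  · have := e3.trans (Set.ncard_insert_le _ _)
    rw [Set.ncard_singleton] at this
    rw [index_commutator_OG_of_two_ne_zero hQ h2 hn] at e2
    nlinarith

theorem o_nonempty_pomega_equiv (hQ : (polarBilin Q).Nondegenerate) (hexc : ¬ OExc Q)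
    (hn : 3 ≤ finrank F V) (φ : G →* OG Q) (hr : φ.range = commutator (OG Q))
    (hcen : ∀ g, φ g = 1 ∨ φ g = OG.negOne Q → g ∈ Subgroup.center G) :
    Nonempty ((commutator (OG Q) ⧸ Subgroup.center (commutator (OG Q))) ≃*
      G ⧸ Subgroup.center G) := by
  let ψ : G →* commutator (OG Q) := φ.codRestrict _ fun g => hr ▸ ⟨g, rfl⟩
  have hψ : Function.Surjective ψ := fun ⟨x, hx⟩ => by
    rw [← hr] at hx
    obtain ⟨g, rfl⟩ := hx
    exact ⟨g, rfl⟩
  have hk : ((QuotientGroup.mk' (Subgroup.center _)).comp ψ).ker = Subgroup.center G := by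
    ext g
    rw [MonoidHom.mem_ker, MonoidHom.comp_apply, QuotientGroup.mk'_apply, QuotientGroup.eq_one_iff]
    refine ⟨fun h => hcen g ((mem_center_commutator_iff hQ hexc hn
      (quad_exists_singular Q hn) _).1 h), fun h => Subgroup.mem_center_iff.2 fun x => ?_⟩
    obtain ⟨x, rfl⟩ := hψ x
    rw [← map_mul, ← map_mul, Subgroup.mem_center_iff.1 h]
  exact ⟨(QuotientGroup.quotientKerEquivOfSurjective
    ((QuotientGroup.mk' (Subgroup.center _)).comp ψ)
    ((QuotientGroup.mk'_surjective _).comp hψ)).symm.trans (QuotientGroup.quotientMulEquivOfEq hk)⟩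

/-- Recognition of the minus type. -/
theorem o_exists_equiv_minus (hQ : (polarBilin Q).Nondegenerate) {m : ℕ}
    (hV : finrank F V = 2 * m + 2) {E : Submodule F V} (hE : finrank F E ≤ m)
    (hmax : ∀ x, Q x = 0 → x ∈ quad_perp Q E → x ∈ E) {a b : F}
    (hab : ∀ z₁ z₂ : F, z₁ ^ 2 + a * z₁ * z₂ + b * z₂ ^ 2 = 0 → z₁ = 0 ∧ z₂ = 0) :
    ∃ e : V ≃ₗ[F] ((Fin m ⊕ Fin m) ⊕ Fin 2 → F), ∀ v, quad_minus m F a b (e v) = Q v := by
  rcases quad_classify_even hQ (m := m + 1) (by omega) with ⟨g, hg⟩ | ⟨-, h⟩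
  · obtain ⟨U, h1, h3⟩ := quad_plus_exists_singular (F := F) (m + 1)
    have := quad_finrank_singular_le (U := U.map (g.symm : _ →ₗ[F] V)) (by
      rintro _ ⟨u, hu, rfl⟩
      rw [← hg]
      simpa using h1 u hu) hmax
    rw [LinearEquiv.finrank_map_eq] at this
    omega
  · exact h a b ((quad_aniso_iff a b).1 hab)

end General

/-- `(G × H) / Z(G × H) ≅ G / Z(G) × H / Z(H)`. -/
theorem o_nonempty_prod_center_quot (G H : Type*) [Group G] [Group H] :
    Nonempty (((G × H) ⧸ Subgroup.center (G × H)) ≃*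
      (G ⧸ Subgroup.center G) × (H ⧸ Subgroup.center H)) := by
  let π := (QuotientGroup.mk' (Subgroup.center G)).prodMap (QuotientGroup.mk' (Subgroup.center H))
  have hk : Subgroup.center (G × H) = π.ker := by
    ext ⟨g, h⟩
    simp only [π, MonoidHom.mem_ker, MonoidHom.coe_prodMap, Prod.map_apply, Prod.mk_eq_one,
      QuotientGroup.mk'_apply, QuotientGroup.eq_one_iff, Subgroup.mem_center_iff, Prod.forall,
      Prod.mk_mul_mk, Prod.mk.injEq]
    exact ⟨fun H' => ⟨fun a => (H' a 1).1, fun b => (H' 1 b).2⟩, fun H' a b => ⟨H'.1 a, H'.2 b⟩⟩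
  exact ⟨(QuotientGroup.quotientMulEquivOfEq hk).trans (QuotientGroup.quotientKerEquivOfSurjective
    π ((QuotientGroup.mk'_surjective _).prodMap (QuotientGroup.mk'_surjective _)))⟩

section Two

variable {F : Type*} [Field F]

theorem o_sl_mem_center_of_smul {ι : Type*} [Fintype ι] [DecidableEq ι]
    {A : SpecialLinearGroup ι F} {c : F} (h : A.1 = c • 1) :
    A ∈ Subgroup.center (SpecialLinearGroup ι F) :=
  Subgroup.mem_center_iff.2 fun B => Subtype.ext (by simp [h])

theorem o_sl_two_eq_of_smul {A : SpecialLinearGroup (Fin 2) F} {c : F} (h : A.1 = c • 1) :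
    A = 1 ∨ A = -1 := by
  have := A.2
  rw [h, det_smul, det_one, mul_one, Fintype.card_fin, sq_eq_one_iff] at this
  rcases this with rfl | rfl
  · exact Or.inl (Subtype.ext (by simpa using h))
  · exact Or.inr (Subtype.ext (by simpa using h))

theorem o_sl_neg_one_eq {ι : Type*} [Fintype ι] [DecidableEq ι] [Fact (Even (Fintype.card ι))]
    (h2 : (2 : F) = 0) : (-1 : SpecialLinearGroup ι F) = 1 := by
  have : (-1 : F) = 1 := by linear_combination -h2
  ext i j
  simp [Matrix.one_apply, this, apply_ite]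

/-- Two-sided multiplication `X ↦ A X B`. -/
def oLR {R : Type*} [Field R] [Algebra F R] {ι : Type*} [Fintype ι] (A B : Matrix ι ι R) :
    Module.End F (Matrix ι ι R) where
  toFun X := A * X * B
  map_add' X Y := by rw [Matrix.mul_add, Matrix.add_mul]
  map_smul' c X := by simp

@[simp] theorem oLR_apply {R : Type*} [Field R] [Algebra F R] {ι : Type*} [Fintype ι]
    (A B X : Matrix ι ι R) : oLR (F := F) A B X = A * X * B := rfl

variable (F) in
/-- Coordinates on trace-zero `2 × 2` matrices in which `-det` is the standard odd form. -/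
def oJ3 : (Unit ⊕ (Fin 1 ⊕ Fin 1) → F) →ₗ[F] Matrix (Fin 2) (Fin 2) F where
  toFun v := !![v (.inl ()), v (.inr (.inl 0)); v (.inr (.inr 0)), -v (.inl ())]
  map_add' u v := by ext i j; fin_cases i <;> fin_cases j <;> simp [add_comm]
  map_smul' c v := by ext i j; fin_cases i <;> fin_cases j <;> simp

theorem oJ3_apply (v : Unit ⊕ (Fin 1 ⊕ Fin 1) → F) :
    oJ3 F v = !![v (.inl ()), v (.inr (.inl 0)); v (.inr (.inr 0)), -v (.inl ())] := rfl

theorem oJ3_injective : Function.Injective (oJ3 F) := fun u v h => by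
  ext (_ | i | i)
  · exact congrFun (congrFun h 0) 0
  · rw [Subsingleton.elim i 0]; exact congrFun (congrFun h 0) 1
  · rw [Subsingleton.elim i 0]; exact congrFun (congrFun h 1) 0

theorem det_oJ3 (v : Unit ⊕ (Fin 1 ⊕ Fin 1) → F) : (oJ3 F v).det = -quad_odd 1 F v := by
  simp [oJ3_apply, quad_odd_apply, det_fin_two]; ring

theorem trace_oJ3 (v : Unit ⊕ (Fin 1 ⊕ Fin 1) → F) : (oJ3 F v).trace = 0 := by
  simp [oJ3_apply]

theorem exists_oJ3_eq {X : Matrix (Fin 2) (Fin 2) F} (h : X.trace = 0) : ∃ v, oJ3 F v = X := by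
  refine ⟨Sum.elim (fun _ => X 0 0) (Sum.elim (fun _ => X 0 1) fun _ => X 1 0), ?_⟩
  rw [trace_fin_two] at h
  ext i j
  fin_cases i <;> fin_cases j <;> simp [oJ3_apply]
  linear_combination -h

/-- The adjoint action of `GL₂` on trace-zero matrices. -/
theorem exists_hom_GL_two_odd : ∃ φ : GL (Fin 2) F →* OG (quad_odd 1 F),
    ∀ g v, oJ3 F ((φ g).1 v) = g.1 * oJ3 F v * (g⁻¹).1 := by
  let ρ : GL (Fin 2) F →* Module.End F (Matrix (Fin 2) (Fin 2) F) :=
    { toFun := fun g => oLR g.1 (g⁻¹).1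
      map_one' := by ext : 1; simp
      map_mul' := fun g h => by ext : 1; simp [Matrix.mul_assoc, -Matrix.coe_units_inv] }
  refine o_exists_hom_OG (oJ3 F) oJ3_injective ρ (fun g v => exists_oJ3_eq ?_) fun g v v' h => ?_
  · change (g.1 * oJ3 F v * (g⁻¹).1).trace = 0
    rw [trace_mul_cycle, Units.inv_mul, Matrix.one_mul, trace_oJ3]
  · have := congrArg Matrix.det h
    change _ = (g.1 * oJ3 F v * (g⁻¹).1).det at this
    rw [det_units_conj, det_oJ3, det_oJ3] at this
    exact neg_injective this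

theorem o_scalar_of_comm_oJ3 {A : Matrix (Fin 2) (Fin 2) F} (h : ∀ v, A * oJ3 F v = oJ3 F v * A) :
    A = A 0 0 • 1 := by
  have h1 := h (Pi.single (.inr (.inl 0)) 1)
  have h2 := h (Pi.single (.inr (.inr 0)) 1)
  have a := congrFun (congrFun h1 0) 0
  have b := congrFun (congrFun h1 0) 1
  have c := congrFun (congrFun h2 0) 0
  simp [oJ3_apply, Matrix.mul_apply] at a b c
  ext i j
  fin_cases i <;> fin_cases j <;> simp [← a, b, c]

/-- **`Ω₃(q)` is the image of `SL₂(q)`** under the adjoint representation. -/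
theorem exists_hom_SL_two_odd [Finite F] (h2 : (2 : F) ≠ 0) :
    ∃ φ : SpecialLinearGroup (Fin 2) F →* OG (quad_odd 1 F),
      (∀ g v, oJ3 F ((φ g).1 v) = g.1 * oJ3 F v * (g⁻¹).1) ∧
      φ.range = commutator (OG (quad_odd 1 F)) ∧ (∀ g, φ g = 1 → g = 1 ∨ g = -1) ∧
      ∀ g, φ g = 1 ∨ φ g = OG.negOne _ → g ∈ Subgroup.center _ := by
  obtain ⟨φ, hφ⟩ := exists_hom_GL_two_odd (F := F)
  have hq : 3 ≤ Nat.card F := by
    have := Fintype.ofFinite F
    have h' := Nat.odd_iff.1 (o_odd_card_of_two_ne_zero h2)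
    have := Fintype.one_lt_card (α := F)
    rw [Nat.card_eq_fintype_card]
    omega
  have hexc : ¬ OExc (quad_odd 1 F) := not_oExc_of_two_ne_zero h2
  have hsc : ∀ g : SpecialLinearGroup (Fin 2) F, φ (SpecialLinearGroup.toGL g) = 1 →
      g.1 = g.1 0 0 • 1 := fun g hg => o_scalar_of_comm_oJ3 fun v => by
    have := hφ (SpecialLinearGroup.toGL g) v
    rw [hg, OG.one_app] at this
    conv_rhs => rw [this, Matrix.mul_assoc]
    rw [show ((SpecialLinearGroup.toGL g)⁻¹).1 * g.1 = 1 from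
      Units.inv_mul (SpecialLinearGroup.toGL g), Matrix.mul_one]
    rfl
  refine ⟨φ.comp SpecialLinearGroup.toGL, fun g v => hφ _ v, ?_,
    fun g hg => o_sl_two_eq_of_smul (hsc g hg), ?_⟩
  · refine o_range_eq_commutator (quad_odd_nondeg h2) hexc (by simp) _ (o_sl_hom_eq_one hq) ?_
      (z := -1) (fun h => absurd h h2) fun g hg => o_sl_two_eq_of_smul (hsc g hg)
    rw [card_OG_odd h2, card_sl_two]
    simp [mul_assoc]
  · rintro g (hg | hg)
    · exact o_sl_mem_center_of_smul (hsc g hg)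
    · refine absurd (hg ▸ o_range_le_commutator (quad_odd_nondeg h2) hexc _ (o_sl_hom_eq_one hq) g)
        (negOne_notMem_commutator_of_odd (quad_odd_nondeg h2) h2 ?_)
      rw [o_finrank_odd]; decide

variable (F) in
/-- Coordinates on `2 × 2` matrices in which `det` is the standard plus form. -/
def oJ4 : (Fin 2 ⊕ Fin 2 → F) →ₗ[F] Matrix (Fin 2) (Fin 2) F where
  toFun v := !![v (.inl 0), v (.inl 1); -v (.inr 1), v (.inr 0)]
  map_add' u v := by ext i j; fin_cases i <;> fin_cases j <;> simp [add_comm]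
  map_smul' c v := by ext i j; fin_cases i <;> fin_cases j <;> simp

theorem oJ4_apply (v : Fin 2 ⊕ Fin 2 → F) :
    oJ4 F v = !![v (.inl 0), v (.inl 1); -v (.inr 1), v (.inr 0)] := rfl

theorem oJ4_injective : Function.Injective (oJ4 F) := fun u v h => by
  ext (i | i) <;> fin_cases i
  · exact congrFun (congrFun h 0) 0
  · exact congrFun (congrFun h 0) 1
  · exact congrFun (congrFun h 1) 1
  · exact neg_injective (congrFun (congrFun h 1) 0)

theorem oJ4_surjective : Function.Surjective (oJ4 F) := fun X =>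
  ⟨Sum.elim ![X 0 0, X 0 1] ![X 1 1, -X 1 0], by
    ext i j; fin_cases i <;> fin_cases j <;> simp [oJ4_apply]⟩

theorem det_oJ4 (v : Fin 2 ⊕ Fin 2 → F) : (oJ4 F v).det = quad_plus 2 F v := by
  simp [oJ4_apply, quad_plus_apply, det_fin_two]

theorem o_scalar_of_comm {ι : Type*} [Fintype ι] [DecidableEq ι] [Nonempty ι] {A : Matrix ι ι F}
    (h : ∀ X, A * X = X * A) : ∃ c : F, A = c • 1 := by
  obtain ⟨c, hc⟩ := Matrix.mem_range_scalar_of_commute_single (M := A) fun i j _ => (h _).symm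
  exact ⟨c, by rw [← hc]; simp [Matrix.smul_one_eq_diagonal]⟩

/-- **`Ω₄⁺(q)` is the image of `SL₂(q) × SL₂(q)`.** -/
theorem exists_hom_SL_two_prod_plus [Finite F] (hq : 3 ≤ Nat.card F) :
    ∃ φ : SpecialLinearGroup (Fin 2) F × SpecialLinearGroup (Fin 2) F →* OG (quad_plus 2 F),
      (∀ g v, oJ4 F ((φ g).1 v) = g.1.1 * oJ4 F v * (g.2⁻¹).1) ∧
      φ.range = commutator (OG (quad_plus 2 F)) ∧ (∀ g, φ g = 1 → g = 1 ∨ g = (-1, -1)) ∧
      ∀ g, φ g = 1 ∨ φ g = OG.negOne _ → g ∈ Subgroup.center _ := by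
  let ρ : SpecialLinearGroup (Fin 2) F × SpecialLinearGroup (Fin 2) F →*
      Module.End F (Matrix (Fin 2) (Fin 2) F) :=
    { toFun := fun g => oLR g.1.1 (g.2⁻¹).1
      map_one' := by ext : 1; simp
      map_mul' := fun g h => by
        ext : 1; simp [Matrix.mul_assoc, -SpecialLinearGroup.coe_inv] }
  obtain ⟨φ, hφ⟩ := o_exists_hom_OG (Q := quad_plus 2 F) (oJ4 F) oJ4_injective ρ
    (fun g v => oJ4_surjective _) fun g v v' h => by
      rw [← det_oJ4, h, ← det_oJ4]
      change (g.1.1 * oJ4 F v * (g.2⁻¹).1).det = _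
      rw [det_mul, det_mul, g.1.2, (g.2⁻¹).2, one_mul, mul_one]
  have hsc : ∀ (g : SpecialLinearGroup (Fin 2) F × SpecialLinearGroup (Fin 2) F) (e : F),
      (∀ v, (φ g).1 v = e • v) → g.1.1 = e • g.2.1 ∧ ∃ c : F, g.2.1 = c • 1 := by
    intro g e hg
    have h1 : ∀ X, g.1.1 * X = e • (X * g.2.1) := fun X => by
      obtain ⟨v, rfl⟩ := oJ4_surjective X
      have : oJ4 F ((φ g).1 v) = g.1.1 * oJ4 F v * (g.2⁻¹).1 := hφ g v
      rw [← Matrix.smul_mul, ← map_smul, ← hg, this, Matrix.mul_assoc,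
        show (g.2⁻¹).1 * g.2.1 = 1 from congrArg Subtype.val (inv_mul_cancel g.2), Matrix.mul_one]
    have h3 : g.1.1 = e • g.2.1 := by simpa using h1 1
    have he : e ≠ 0 := by
      rintro rfl
      have := g.1.2
      rw [h3, zero_smul, det_zero] at this
      exact zero_ne_one this
    exact ⟨h3, o_scalar_of_comm fun X => smul_right_injective _ he (by
      simp only [← h1, h3, Matrix.smul_mul])⟩
  have hker : ∀ g, φ g = 1 → g = 1 ∨ g = (-1, -1) := fun g hg => by
    obtain ⟨h1, c, h3⟩ := hsc g 1 fun v => by simp [hg]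
    have h4 : g.1 = g.2 := Subtype.ext (by simpa using h1)
    rcases o_sl_two_eq_of_smul h3 with h | h
    · exact Or.inl (Prod.ext (h4.trans h) h)
    · exact Or.inr (Prod.ext (h4.trans h) h)
  refine ⟨φ, hφ, o_range_eq_commutator quad_plus_nondeg (not_oExc_of_card (by omega)) (by simp) _
    (fun f => ?_) ?_ (z := (-1, -1)) (fun h => by rw [o_sl_neg_one_eq h]; rfl) hker, hker, ?_⟩
  · refine MonoidHom.ext fun g => ?_
    have a := DFunLike.congr_fun (o_sl_hom_eq_one hq (f.comp (MonoidHom.inl _ _))) g.1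
    have b := DFunLike.congr_fun (o_sl_hom_eq_one hq (f.comp (MonoidHom.inr _ _))) g.2
    simp only [MonoidHom.comp_apply, MonoidHom.inl_apply, MonoidHom.inr_apply,
      MonoidHom.one_apply] at a b
    rw [← g.fst_mul_snd, map_mul, a, b]
    simp
  · rw [card_OG_plus, Nat.card_prod, card_sl_two]
    simp
    ring
  · intro g hg
    obtain ⟨e, he⟩ : ∃ e : F, ∀ v, (φ g).1 v = e • v := by
      rcases hg with hg | hg
      · exact ⟨1, fun v => by simp [hg]⟩
      · exact ⟨-1, fun v => by simp [hg]⟩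
    obtain ⟨h1, c, h3⟩ := hsc g e he
    rw [h3, smul_smul] at h1
    exact Subgroup.mem_center_iff.2 fun x => Prod.ext
      (Subgroup.mem_center_iff.1 (o_sl_mem_center_of_smul h1) _)
      (Subgroup.mem_center_iff.1 (o_sl_mem_center_of_smul h3) _)

end Two

section Herm

variable {F K : Type*} [Field F] [Field K] [Algebra F K] {σ : K →+* K} (h : OQuadExt F σ)
include h

/-- The form `a b - N(z)`, the determinant of Hermitian `2 × 2` matrices. -/
noncomputable def OQuadExt.hermQ : QuadraticForm F ((F × F) × K) := (ohyp F).prod (-h.onorm)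

/-- Coordinates on Hermitian `2 × 2` matrices. -/
def OQuadExt.herm : ((F × F) × K) →ₗ[F] Matrix (Fin 2) (Fin 2) K where
  toFun v := !![algebraMap F K v.1.1, v.2; σ v.2, algebraMap F K v.1.2]
  map_add' u v := by ext i j; fin_cases i <;> fin_cases j <;> simp
  map_smul' c v := by
    ext i j; fin_cases i <;> fin_cases j <;> simp [Algebra.smul_def, h.σ_alg]

namespace OQuadExt

theorem herm_apply (v : (F × F) × K) :
    h.herm v = !![algebraMap F K v.1.1, v.2; σ v.2, algebraMap F K v.1.2] := rfl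

theorem herm_injective : Function.Injective h.herm := fun _ _ H =>
  Prod.ext (Prod.ext ((algebraMap F K).injective (congrFun (congrFun H 0) 0))
    ((algebraMap F K).injective (congrFun (congrFun H 1) 1))) (congrFun (congrFun H 0) 1)

theorem det_herm (v : (F × F) × K) : (h.herm v).det = algebraMap F K (h.hermQ v) := by
  simp [herm_apply, hermQ, det_fin_two, h.alg_onorm, sub_eq_add_neg]

theorem herm_star (v : (F × F) × K) : ((h.herm v).map σ)ᵀ = h.herm v := by
  ext i j; fin_cases i <;> fin_cases j <;> simp [herm_apply, h.σσ, h.σ_alg]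

theorem exists_herm_eq {X : Matrix (Fin 2) (Fin 2) K} (hX : (X.map σ)ᵀ = X) :
    ∃ v, h.herm v = X := by
  have e : ∀ i j, σ (X j i) = X i j := fun i j => congrFun (congrFun hX i) j
  refine ⟨((h.proj (X 0 0), h.proj (X 1 1)), X 0 1), ?_⟩
  ext i j
  fin_cases i <;> fin_cases j <;> simp [herm_apply, h.alg_proj (e _ _), e]

theorem hermQ_nondeg : (polarBilin h.hermQ).Nondegenerate :=
  o_prod_nondeg ohyp_nondeg (by
    rw [← neg_one_smul F h.onorm]; exact o_nondeg_smul (by simp) h.onorm_nondeg)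

theorem finrank_herm : finrank F ((F × F) × K) = 2 * 1 + 2 := by
  have := h.finiteDimensional
  simp [h.finrank_eq_two]

theorem exists_hermQ_equiv_minus [Finite F] {a b : F}
    (hab : ∀ z₁ z₂ : F, z₁ ^ 2 + a * z₁ * z₂ + b * z₂ ^ 2 = 0 → z₁ = 0 ∧ z₂ = 0) :
    ∃ e : ((F × F) × K) ≃ₗ[F] ((Fin 1 ⊕ Fin 1) ⊕ Fin 2 → F),
      ∀ v, quad_minus 1 F a b (e v) = h.hermQ v := by
  have := h.finiteDimensional
  refine o_exists_equiv_minus h.hermQ_nondeg h.finrank_herm
    (E := Submodule.span F {((1, 0), 0)}) (finrank_span_singleton (by simp)).le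
    (fun x hx hx' => ?_) hab
  have h1 := hx' _ (Submodule.mem_span_singleton_self _)
  change polar h.hermQ _ x = 0 at h1
  simp only [hermQ, polar_prod, polar_ohyp, polar_zero_left, one_mul, zero_mul, add_zero] at h1
  simp only [hermQ, prod_apply, ohyp_apply, h1, mul_zero, zero_add, _root_.neg_apply,
    neg_eq_zero] at hx
  exact Submodule.mem_span_singleton.2 ⟨x.1.1, by
    simp [Prod.ext_iff, h1, h.onorm_eq_zero hx]⟩

/-- **`Ω₄⁻(q)` is the image of `SL₂(q²)`** acting on Hermitian matrices. -/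
theorem exists_hom_SL_two_minus [Finite F] :
    ∃ φ : SpecialLinearGroup (Fin 2) K →* OG h.hermQ,
      (∀ g v, h.herm ((φ g).1 v) = g.1 * h.herm v * (g.1.map σ)ᵀ) ∧
      φ.range = commutator (OG h.hermQ) ∧ (∀ g, φ g = 1 → g = 1 ∨ g = -1) ∧
      ∀ g, φ g = 1 ∨ φ g = OG.negOne _ → g ∈ Subgroup.center _ := by
  have := h.finiteDimensional
  have : Finite K := Module.finite_of_finite F
  let ρ : SpecialLinearGroup (Fin 2) K →* Module.End F (Matrix (Fin 2) (Fin 2) K) :=
    { toFun := fun g => oLR g.1 (g.1.map σ)ᵀ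
      map_one' := by ext : 1; simp
      map_mul' := fun g h => by ext : 1; simp [Matrix.mul_assoc, Matrix.map_mul] }
  obtain ⟨φ, hφ⟩ := o_exists_hom_OG (Q := h.hermQ) h.herm h.herm_injective ρ
    (fun g v => h.exists_herm_eq (by
      change ((g.1 * h.herm v * (g.1.map σ)ᵀ).map σ)ᵀ = g.1 * h.herm v * (g.1.map σ)ᵀ
      rw [Matrix.map_mul, Matrix.map_mul, transpose_mul, transpose_mul, h.herm_star,
        Matrix.mul_assoc]
      congr 1
      ext i j; simp [h.σσ])) fun g v v' H => (algebraMap F K).injective (by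
      rw [← det_herm, H, ← det_herm]
      change (g.1 * h.herm v * (g.1.map σ)ᵀ).det = _
      rw [det_mul, det_mul, g.2, det_transpose, ← RingHom.mapMatrix_apply, ← RingHom.map_det, g.2,
        map_one, one_mul, mul_one])
  have hsc : ∀ (g : SpecialLinearGroup (Fin 2) K) (e : F), (∀ v, (φ g).1 v = e • v) →
      ∃ c : K, g.1 = c • 1 := by
    intro g e hg
    obtain ⟨θ, hθ⟩ := h.invol.2
    have h1 : ∀ v, g.1 * h.herm v * (g.1.map σ)ᵀ = e • h.herm v := fun v => by
      rw [← map_smul, ← hg]; exact (hφ g v).symm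
    have h3 : ∀ X, g.1 * X * (g.1.map σ)ᵀ = e • X := fun X => by
      have : X = X 0 0 • h.herm ((1, 0), 0) + X 1 1 • h.herm ((0, 1), 0) +
          ((X 0 1 - X 1 0) / (θ - σ θ)) • h.herm ((0, 0), θ) +
          ((θ * X 1 0 - σ θ * X 0 1) / (θ - σ θ)) • h.herm ((0, 0), 1) := by
        have : θ - σ θ ≠ 0 := sub_ne_zero.2 hθ.symm
        ext i j
        fin_cases i <;> fin_cases j <;> simp [herm_apply] <;> field_simp <;> ring
      rw [this]
      simp only [Matrix.mul_add, Matrix.add_mul, Matrix.mul_smul, Matrix.smul_mul, h1, smul_add,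
        smul_comm e]
    refine o_scalar_of_comm fun X => ?_
    have h4 := h3 1
    have h5 := h3 (X * g.1)
    have hu : IsUnit (g.1.map σ)ᵀ.det := by
      rw [det_transpose, ← RingHom.mapMatrix_apply, ← RingHom.map_det, g.2, map_one]
      exact isUnit_one
    rw [Matrix.mul_one] at h4
    apply (Matrix.isUnit_iff_isUnit_det _).2 hu |>.mul_right_cancel
    rw [h3, Matrix.mul_assoc, h4, Matrix.mul_smul, Matrix.mul_one]
  have hker : ∀ g, φ g = 1 → g = 1 ∨ g = -1 := fun g hg => by
    obtain ⟨c, hc⟩ := hsc g 1 fun v => by simp [hg]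
    exact o_sl_two_eq_of_smul hc
  obtain ⟨ζ, hζ⟩ := quad_exists_aniso F
  obtain ⟨e, he⟩ := h.exists_hermQ_equiv_minus ((quad_aniso_iff 1 ζ).2 hζ)
  have hK : Nat.card K = Nat.card F ^ 2 := by
    rw [Module.natCard_eq_pow_finrank (K := F), h.finrank_eq_two]
  have hq : 2 ≤ Nat.card F := Finite.one_lt_card
  refine ⟨φ, hφ, o_range_eq_commutator h.hermQ_nondeg ?_ (by rw [h.finrank_herm]; omega) _
    (o_sl_hom_eq_one (by rw [hK]; nlinarith)) ?_ (z := -1) (fun h2 => o_sl_neg_one_eq ?_) hker,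
    hker, ?_⟩
  · rintro ⟨-, -, u, v, hli, hu, hv, huv⟩
    have := quad_minus_singular_le hζ (U := (Submodule.span F (Set.range ![u, v])).map
      (e : _ →ₗ[F] _)) (by
        rintro _ ⟨x, hx, rfl⟩
        exact (he x).trans (o_singular_span_pair hu hv huv x (by simpa [Set.pair_comm] using hx)))
    rw [LinearEquiv.finrank_map_eq, finrank_span_eq_card hli] at this
    simp at this
  · rw [card_OG_congr e he, card_OG_minus ((quad_aniso_iff 1 ζ).2 hζ), card_sl_two, hK]
    zify
    simp only [o_cast_pow_sub_one _ _ (Nat.card_pos (α := F)), ← pow_mul, Finset.prod_range_one]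
    ring
  · have := congrArg (algebraMap F K) h2
    rwa [map_ofNat, map_zero] at this
  · intro g hg
    obtain ⟨e, he⟩ : ∃ e : F, ∀ v, (φ g).1 v = e • v := by
      rcases hg with hg | hg
      · exact ⟨1, fun v => by simp [hg]⟩
      · exact ⟨-1, fun v => by simp [hg]⟩
    obtain ⟨c, hc⟩ := hsc g e he
    exact o_sl_mem_center_of_smul hc

end OQuadExt

end Herm

end Cfsg.Agent.Cl
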