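import Mathlib
import Cfsg.Agent.Cl.LinearIso

/-!
# The isomorphism `GL₄(2) ≅ A₈`

`SL₄(2)` permutes the eight heptads of non-degenerate alternating matrices.
-/

set_option autoImplicit false

namespace Cfsg.Agent.Cl

open Matrix Matrix.SpecialLinearGroup

/-- The eight heptads of non-degenerate alternating `4 × 4` matrices over `𝔽₂`. -/
def isoHeptads : Fin 8 → Multiset (Matrix (Fin 4) (Fin 4) (ZMod 2)) := ![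
  {!![0, 0, 0, 1; 0, 0, 1, 0; 0, 1, 0, 0; 1, 0, 0, 0],
   !![0, 0, 1, 0; 0, 0, 1, 1; 1, 1, 0, 0; 0, 1, 0, 0],
   !![0, 0, 1, 1; 0, 0, 0, 1; 1, 0, 0, 1; 1, 1, 1, 0],
   !![0, 1, 0, 0; 1, 0, 1, 1; 0, 1, 0, 1; 0, 1, 1, 0],
   !![0, 1, 0, 1; 1, 0, 0, 0; 0, 0, 0, 1; 1, 0, 1, 0],
   !![0, 1, 1, 0; 1, 0, 1, 0; 1, 1, 0, 1; 0, 0, 1, 0],
   !![0, 1, 1, 1; 1, 0, 0, 1; 1, 0, 0, 0; 1, 1, 0, 0]},
  {!![0, 0, 0, 1; 0, 0, 1, 1; 0, 1, 0, 0; 1, 1, 0, 0],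
   !![0, 0, 1, 0; 0, 0, 0, 1; 1, 0, 0, 1; 0, 1, 1, 0],
   !![0, 0, 1, 1; 0, 0, 1, 0; 1, 1, 0, 0; 1, 0, 0, 0],
   !![0, 1, 0, 0; 1, 0, 1, 0; 0, 1, 0, 1; 0, 0, 1, 0],
   !![0, 1, 0, 1; 1, 0, 0, 0; 0, 0, 0, 1; 1, 0, 1, 0],
   !![0, 1, 1, 0; 1, 0, 0, 1; 1, 0, 0, 0; 0, 1, 0, 0],
   !![0, 1, 1, 1; 1, 0, 1, 1; 1, 1, 0, 1; 1, 1, 1, 0]},
  {!![0, 0, 0, 1; 0, 0, 1, 1; 0, 1, 0, 1; 1, 1, 1, 0],
   !![0, 0, 1, 0; 0, 0, 0, 1; 1, 0, 0, 1; 0, 1, 1, 0],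
   !![0, 0, 1, 1; 0, 0, 1, 0; 1, 1, 0, 1; 1, 0, 1, 0],
   !![0, 1, 0, 0; 1, 0, 0, 0; 0, 0, 0, 1; 0, 0, 1, 0],
   !![0, 1, 0, 1; 1, 0, 1, 0; 0, 1, 0, 0; 1, 0, 0, 0],
   !![0, 1, 1, 0; 1, 0, 1, 1; 1, 1, 0, 0; 0, 1, 0, 0],
   !![0, 1, 1, 1; 1, 0, 0, 1; 1, 0, 0, 0; 1, 1, 0, 0]},
  {!![0, 0, 0, 1; 0, 0, 1, 0; 0, 1, 0, 0; 1, 0, 0, 0],
   !![0, 0, 1, 0; 0, 0, 1, 1; 1, 1, 0, 1; 0, 1, 1, 0],
   !![0, 0, 1, 1; 0, 0, 0, 1; 1, 0, 0, 0; 1, 1, 0, 0],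
   !![0, 1, 0, 0; 1, 0, 1, 0; 0, 1, 0, 1; 0, 0, 1, 0],
   !![0, 1, 0, 1; 1, 0, 0, 1; 0, 0, 0, 1; 1, 1, 1, 0],
   !![0, 1, 1, 0; 1, 0, 1, 1; 1, 1, 0, 0; 0, 1, 0, 0],
   !![0, 1, 1, 1; 1, 0, 0, 0; 1, 0, 0, 1; 1, 0, 1, 0]},
  {!![0, 0, 0, 1; 0, 0, 1, 1; 0, 1, 0, 0; 1, 1, 0, 0],
   !![0, 0, 1, 0; 0, 0, 0, 1; 1, 0, 0, 0; 0, 1, 0, 0],
   !![0, 0, 1, 1; 0, 0, 1, 0; 1, 1, 0, 1; 1, 0, 1, 0],
   !![0, 1, 0, 0; 1, 0, 1, 1; 0, 1, 0, 1; 0, 1, 1, 0],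
   !![0, 1, 0, 1; 1, 0, 0, 1; 0, 0, 0, 1; 1, 1, 1, 0],
   !![0, 1, 1, 0; 1, 0, 0, 0; 1, 0, 0, 1; 0, 0, 1, 0],
   !![0, 1, 1, 1; 1, 0, 1, 0; 1, 1, 0, 0; 1, 0, 0, 0]},
  {!![0, 0, 0, 1; 0, 0, 1, 0; 0, 1, 0, 1; 1, 0, 1, 0],
   !![0, 0, 1, 0; 0, 0, 1, 1; 1, 1, 0, 0; 0, 1, 0, 0],
   !![0, 0, 1, 1; 0, 0, 0, 1; 1, 0, 0, 0; 1, 1, 0, 0],
   !![0, 1, 0, 0; 1, 0, 0, 1; 0, 0, 0, 1; 0, 1, 1, 0],
   !![0, 1, 0, 1; 1, 0, 1, 0; 0, 1, 0, 0; 1, 0, 0, 0],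
   !![0, 1, 1, 0; 1, 0, 0, 0; 1, 0, 0, 1; 0, 0, 1, 0],
   !![0, 1, 1, 1; 1, 0, 1, 1; 1, 1, 0, 1; 1, 1, 1, 0]},
  {!![0, 0, 0, 1; 0, 0, 1, 1; 0, 1, 0, 1; 1, 1, 1, 0],
   !![0, 0, 1, 0; 0, 0, 0, 1; 1, 0, 0, 0; 0, 1, 0, 0],
   !![0, 0, 1, 1; 0, 0, 1, 0; 1, 1, 0, 0; 1, 0, 0, 0],
   !![0, 1, 0, 0; 1, 0, 0, 1; 0, 0, 0, 1; 0, 1, 1, 0],
   !![0, 1, 0, 1; 1, 0, 1, 1; 0, 1, 0, 0; 1, 1, 0, 0],
   !![0, 1, 1, 0; 1, 0, 1, 0; 1, 1, 0, 1; 0, 0, 1, 0],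
   !![0, 1, 1, 1; 1, 0, 0, 0; 1, 0, 0, 1; 1, 0, 1, 0]},
  {!![0, 0, 0, 1; 0, 0, 1, 0; 0, 1, 0, 1; 1, 0, 1, 0],
   !![0, 0, 1, 0; 0, 0, 1, 1; 1, 1, 0, 1; 0, 1, 1, 0],
   !![0, 0, 1, 1; 0, 0, 0, 1; 1, 0, 0, 1; 1, 1, 1, 0],
   !![0, 1, 0, 0; 1, 0, 0, 0; 0, 0, 0, 1; 0, 0, 1, 0],
   !![0, 1, 0, 1; 1, 0, 1, 1; 0, 1, 0, 0; 1, 1, 0, 0],
   !![0, 1, 1, 0; 1, 0, 0, 1; 1, 0, 0, 0; 0, 1, 0, 0],
   !![0, 1, 1, 1; 1, 0, 1, 0; 1, 1, 0, 0; 1, 0, 0, 0]}]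

theorem isoHeptads_transvection (i j : Fin 4) (hij : i ≠ j) :
    ∃ h : alternatingGroup (Fin 8), ∀ y,
      isoFormAct (RingHom.id (ZMod 2)) (transvection hij 1) (isoHeptads y) =
        isoHeptads (h • y) := by
  simp only [isoFormAct, transvection_coe, RingHom.coe_id, Matrix.map_id]
  fin_cases i <;> fin_cases j
  · exact absurd rfl hij
  · exact ⟨⟨⟨![1, 0, 7, 6, 5, 4, 3, 2], ![1, 0, 7, 6, 5, 4, 3, 2], by decide, by decide⟩,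
      Equiv.Perm.mem_alternatingGroup.2 (by decide +kernel)⟩, by decide +kernel⟩
  · exact ⟨⟨⟨![2, 7, 0, 5, 6, 3, 4, 1], ![2, 7, 0, 5, 6, 3, 4, 1], by decide, by decide⟩,
      Equiv.Perm.mem_alternatingGroup.2 (by decide +kernel)⟩, by decide +kernel⟩
  · exact ⟨⟨⟨![3, 6, 5, 0, 7, 2, 1, 4], ![3, 6, 5, 0, 7, 2, 1, 4], by decide, by decide⟩,
      Equiv.Perm.mem_alternatingGroup.2 (by decide +kernel)⟩, by decide +kernel⟩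
  · exact ⟨⟨⟨![4, 3, 7, 1, 0, 6, 5, 2], ![4, 3, 7, 1, 0, 6, 5, 2], by decide, by decide⟩,
      Equiv.Perm.mem_alternatingGroup.2 (by decide +kernel)⟩, by decide +kernel⟩
  · exact absurd rfl hij
  · exact ⟨⟨⟨![3, 4, 5, 0, 1, 2, 7, 6], ![3, 4, 5, 0, 1, 2, 7, 6], by decide, by decide⟩,
      Equiv.Perm.mem_alternatingGroup.2 (by decide +kernel)⟩, by decide +kernel⟩
  · exact ⟨⟨⟨![5, 7, 3, 2, 6, 0, 4, 1], ![5, 7, 3, 2, 6, 0, 4, 1], by decide, by decide⟩,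
      Equiv.Perm.mem_alternatingGroup.2 (by decide +kernel)⟩, by decide +kernel⟩
  · exact ⟨⟨⟨![5, 2, 1, 7, 6, 0, 4, 3], ![5, 2, 1, 7, 6, 0, 4, 3], by decide, by decide⟩,
      Equiv.Perm.mem_alternatingGroup.2 (by decide +kernel)⟩, by decide +kernel⟩
  · exact ⟨⟨⟨![3, 6, 4, 0, 2, 7, 1, 5], ![3, 6, 4, 0, 2, 7, 1, 5], by decide, by decide⟩,
      Equiv.Perm.mem_alternatingGroup.2 (by decide +kernel)⟩, by decide +kernel⟩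
  · exact absurd rfl hij
  · exact ⟨⟨⟨![6, 3, 7, 1, 5, 4, 0, 2], ![6, 3, 7, 1, 5, 4, 0, 2], by decide, by decide⟩,
      Equiv.Perm.mem_alternatingGroup.2 (by decide +kernel)⟩, by decide +kernel⟩
  · exact ⟨⟨⟨![3, 4, 6, 0, 1, 7, 2, 5], ![3, 4, 6, 0, 1, 7, 2, 5], by decide, by decide⟩,
      Equiv.Perm.mem_alternatingGroup.2 (by decide +kernel)⟩, by decide +kernel⟩
  · exact ⟨⟨⟨![7, 2, 1, 5, 6, 3, 4, 0], ![7, 2, 1, 5, 6, 3, 4, 0], by decide, by decide⟩,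
      Equiv.Perm.mem_alternatingGroup.2 (by decide +kernel)⟩, by decide +kernel⟩
  · exact ⟨⟨⟨![1, 0, 7, 4, 3, 6, 5, 2], ![1, 0, 7, 4, 3, 6, 5, 2], by decide, by decide⟩,
      Equiv.Perm.mem_alternatingGroup.2 (by decide +kernel)⟩, by decide +kernel⟩
  · exact absurd rfl hij

/-- `SL₄(2) ≅ A₈`, with the action on the heptads. -/
theorem exists_sl4_zmod_two_equiv_alt :
    ∃ φ : SpecialLinearGroup (Fin 4) (ZMod 2) ≃* alternatingGroup (Fin 8), ∀ g y,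
      isoFormAct (RingHom.id (ZMod 2)) g (isoHeptads y) = isoHeptads (φ g • y) := by
  have h1 := psl_fin_isSimpleGroup (F := ZMod 2) (n := 4) (by omega) (by simp)
  have : IsSimpleGroup (SpecialLinearGroup (Fin 4) (ZMod 2)) :=
    (centerQuotEquivOfEqBot (center_sl_eq_bot_of_card_two (by simp))).symm.isSimpleGroup
  refine exists_mulEquiv_of_intertwine_simple (isoFormAct (RingHom.id (ZMod 2)))
    (isoFormAct_one _) (isoFormAct_mul _) isoHeptads (fun g => ?_)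
    ⟨transvection (show (0 : Fin 4) ≠ 1 by decide) 1, 0, ?_⟩ ?_
  · have : intertwinable (alternatingGroup (Fin 8)) (isoFormAct (RingHom.id (ZMod 2)))
        (isoFormAct_one _) (isoFormAct_mul _) isoHeptads = ⊤ :=
      sl_eq_top_of_prime (by simp; norm_num) _ fun i j hij =>
        mem_intertwinable.2 (isoHeptads_transvection i j hij)
    exact mem_intertwinable.1 (this ▸ Subgroup.mem_top g)
  · simp only [isoFormAct, transvection_coe, RingHom.coe_id, Matrix.map_id]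
    decide +kernel
  · rw [nat_card_alternatingGroup, card_sl_four]
    simp only [Nat.card_zmod, Nat.card_fin]
    norm_num [Nat.factorial]

theorem sl4_two_equiv_alt {F : Type*} [Field F] (hF : Nat.card F = 2) :
    Nonempty (SpecialLinearGroup (Fin 4) F ≃* alternatingGroup (Fin 8)) := by
  have : Finite F := Nat.finite_of_card_ne_zero (by omega)
  obtain ⟨σ⟩ := nonempty_ringEquiv_of_natCard_eq (F := F) (K := ZMod 2) (by simp [hF])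
  exact ⟨(slMapEquiv _ σ).trans exists_sl4_zmod_two_equiv_alt.choose⟩

theorem psl4_two_equiv_alt {F : Type*} [Field F] (hF : Nat.card F = 2) :
    Nonempty (ProjectiveSpecialLinearGroup (Fin 4) F ≃* alternatingGroup (Fin 8)) :=
  ⟨(centerQuotEquivOfEqBot (center_sl_eq_bot_of_card_two hF)).trans (sl4_two_equiv_alt hF).some⟩

theorem gl4_two_equiv_alt {F : Type*} [Field F] (hF : Nat.card F = 2) :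
    Nonempty (GL (Fin 4) F ≃* alternatingGroup (Fin 8)) :=
  ⟨(slEquivGLOfCardTwo hF).symm.trans (sl4_two_equiv_alt hF).some⟩

end Cfsg.Agent.Cl
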