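/-
Non-maximal geometric subgroups of `SU₃(3)` and `SU₃(5)`: normalisers of Singer cycles.
-/
import Mathlib
import Cfsg.Agent.Cl.MxU5

set_option autoImplicit false
set_option linter.unusedSectionVars false
set_option linter.unusedVariables false

namespace Cfsg.Agent.Cl.Mx

open Matrix Cfsg.Geo Cfsg.Agent.Cl.Max

variable {ι : Type} [Fintype ι] [DecidableEq ι] {F : Type*} [Field F]
variable {κ : Type} [Fintype κ] [DecidableEq κ]
variable {σ : F →+* F} {q : ℕ} {f : (ι → F) → (ι → F) → F}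
variable {k : Type} [Field k]

/-- Hermitian Toeplitz matrices. -/
def toe3 (q : ℕ) (a b c : k) : Matrix (Fin 3) (Fin 3) k :=
  !![a, b ^ q, c ^ q; b, a, b ^ q; c, b, a]

theorem toe3_of (hq : q ≠ 0) {b : k} {G : Matrix (Fin 3) (Fin 3) k} (hG : ∀ i j, G i j = G j i ^ q)
    (hZ : UI q G (cz3 b)) :
    ∃ x y, G = toe3 q x y (y ^ q + (b + 1) * x + b * y) ∧ x = x ^ q := by
  have e : ∀ i j, ((cz3 b)ᵀ * G * (cz3 b).map (· ^ q)) i j = G i j :=
    fun i j => congrFun (congrFun hZ i) j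
  have e0 := e 0 0
  have e1 := e 1 1
  have e4 := e 1 0
  have e7 := e 2 0
  simp [cz3, Matrix.mul_apply, Fin.sum_univ_three, hq] at e0 e1 e4 e7
  refine ⟨G 0 0, G 1 0, ?_, hG 0 0⟩
  rw [show G 1 0 ^ q + (b + 1) * G 0 0 + b * G 1 0 = G 2 0 by
    rw [← hG 0 1]; linear_combination e7 - (b + 1) * e0 - b * e4]
  ext i j
  fin_cases i <;> fin_cases j <;> simp [toe3, e0, e1, e4] <;> rw [hG] <;> simp [e4]

/-- The values of the forms belonging to the Singer cycle. -/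
def tw3 (t : ℕ → k) (q i : ℕ) (a b c : k) : k :=
  t ((i + 5) % 7) * (a * c ^ q) + t ((i + 6) % 7) * (a * b ^ q + b * c ^ q) +
  t (i % 7) * (a * a ^ q + b * b ^ q + c * c ^ q) +
  t ((i + 8) % 7) * (b * a ^ q + c * b ^ q) + t ((i + 9) % 7) * (c * a ^ q)

theorem uf_tM_three (t : ℕ → k) (q i : ℕ) (x : Fin 3 → k) :
    uf q (tM t 7 i) x x = tw3 t q i (x 0) (x 1) (x 2) := by
  simp [uf, tM, tw3, dotProduct, mulVec, Fin.sum_univ_three, add_assoc]
  ring

/-- Invariants of the normaliser of the Singer cycle. -/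
def SgX (Y : k → k → k → Prop) (t : ℕ → k) (q : ℕ) (b : k) (x : Fin 3 → k) : Prop :=
  Y (tw3 t q 0 (x 0) (x 1) (x 2)) (tw3 t q 1 (x 0) (x 1) (x 2) ^ (q + 1) +
    tw3 t q 2 (x 0) (x 1) (x 2) ^ (q + 1) + tw3 t q 4 (x 0) (x 1) (x 2) ^ (q + 1))
    ((cz3 b ^ 1 *ᵥ x) ⬝ᵥ (cz3 b ^ 2 *ᵥ x) ⨯₃ (cz3 b ^ 4 *ᵥ x))

theorem triple_mulVec (A : Matrix (Fin 3) (Fin 3) k) (u v w : Fin 3 → k) :
    (A *ᵥ u) ⬝ᵥ (A *ᵥ v) ⨯₃ (A *ᵥ w) = A.det * u ⬝ᵥ v ⨯₃ w := by
  simp [det_fin_three, cross_apply, mulVec, dotProduct, Fin.sum_univ_three]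
  ring

theorem singer_three [Fintype F] (hσ : UField σ q) (h : HForm σ 1 f) (hn : Fintype.card ι = 3)
    {K : Subalgebra F (Matrix ι ι F)} (hK : IsFieldSubalgebra 3 K) (hS : IsAdjointClosedFor f K)
    (φ₀ : F ≃+* k) (hq : q ^ 2 % 7 = 2 ∨ q ^ 2 % 7 = 4) {b : k} (hb : b ^ 2 + b + 2 = 0)
    (hb1 : (-1 - b) ^ q = b) (hb2 : b ^ q ≠ b) (hc : ∀ c : k, c ^ 7 = 1 → c = 1) {t : ℕ → k}
    (hd : (tM t 7 0 : Matrix (Fin 3) (Fin 3) k).det ≠ 0) (h7 : cz3 b ^ 7 = 1)
    (hZ : ∀ i < 7, (cz3 b)ᵀ * tM t 7 i = tM t 7 ((i + 1) % 7))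
    (C : k → k → Fin 3 → k) (hC : ∀ x y, x = x ^ q → x ≠ 0 ∨ y ≠ 0 → (pz (cz3 b) (C x y))ᵀ *
      toe3 q x y (y ^ q + (b + 1) * x + b * y) * (pz (cz3 b) (C x y)).map (· ^ q) = tM t 7 0)
    (Y : k → k → k → Prop) {A B : Matrix (Fin 3) (Fin 3) k} (hA : UI q (tM t 7 0) A)
    (hA1 : A.det = 1) (hA2 : ∀ x, SgX Y t q b x → SgX Y t q b (A *ᵥ x))
    (hA3 : ∀ j < 7, cz3 b * A ≠ A * cz3 b ^ j) (hB : UI q (tM t 7 0) B) (hB1 : B.det = 1)
    {x : Fin 3 → k} (hx : SgX Y t q b x) (hB2 : ¬ SgX Y t q b (B *ᵥ x)) :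
    ∃ L, subalgebraNormalizer K ⊓ suG f < L ∧ L < suG f := by
  haveI : Nonempty ι := Fintype.card_pos_iff.1 (by omega)
  have hF : Fintype.card F = q ^ 2 := by rw [← Nat.card_eq_fintype_card, hσ.card]
  have hq0 : q ≠ 0 := by rintro rfl; simp at hq
  obtain ⟨ζ, hζ, h1, h2, hpow⟩ := exists_root_of_unity hK (s := 7) (by norm_num) (by
    rw [hF]
    refine (Nat.modEq_iff_dvd' (Nat.one_le_pow _ _ (by positivity))).1 ?_
    rcases hq with hq | hq <;> rw [Nat.ModEq, Nat.pow_mod, hq])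
  obtain ⟨c, hc1, h3⟩ := root_seven hK hζ h1 h2 (c := φ₀.symm b) (φ₀.injective (by
    simpa only [map_add, map_pow, map_ofNat, map_zero, RingEquiv.apply_symm_apply] using hb))
  obtain ⟨φ, hφ⟩ := exists_equiv_root hσ φ₀ (b := c) (b₀ := b) (hc1.imp (by rintro rfl; simp) (by
    rintro rfl
    simpa only [map_sub, map_neg, map_one, RingEquiv.apply_symm_apply] using hb1))
  obtain ⟨s, hs⟩ := exists_conj hσ φ
  obtain ⟨e, P, hM, hN⟩ := singer_model hσ h hn (by norm_num) (by norm_num) hK hS hζ h1 h2 hpow φ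
    hc (Z := cz3 b) (G₀ := tM t 7 0) (fun j => by
      fin_cases j <;> simp [cz3, Fin.sum_univ_three, ← hφ, h3])
    (by simpa [cz3, trace_fin_three] using hb2) hd fun G hG hZ h0 => by
      obtain ⟨x, y, rfl, hx⟩ := toe3_of hq0 hG hZ
      refine ⟨_, pz_comm _ _, hC x y hx ?_⟩
      by_contra h4
      push Not at h4
      obtain ⟨rfl, rfl⟩ := h4
      exact h0 (by ext i j; fin_cases i <;> fin_cases j <;> simp [toe3, hq0])
  refine hM.between (SgX Y t q b) (fun g hg hA hd x hx => ?_) hA hA1 hA2 (fun g hg hH => ?_)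
    hB hB1 hx hB2
  · obtain ⟨m, hm, hj⟩ := (hN g hg).1
    generalize (g : Matrix (Fin 3) (Fin 3) F).map φ = A at hA hd hj ⊢
    rw [pow_eq_pow_mod _ h7] at hj
    have h4 : (q ^ 2) ^ m % 7 = 1 ∨ (q ^ 2) ^ m % 7 = 2 ∨ (q ^ 2) ^ m % 7 = 4 := by
      rw [Nat.pow_mod]
      rcases hq with hq | hq <;> rw [hq] <;> interval_cases m <;> simp
    generalize (q ^ 2) ^ m % 7 = j at hj h4
    have h5 : ∀ i, cz3 b ^ i *ᵥ A *ᵥ x = A *ᵥ cz3 b ^ (j * i % 7) *ᵥ x := fun i => by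
      rw [mulVec_mulVec, ← (SemiconjBy.pow_right hj.symm i).eq, ← mulVec_mulVec, ← pow_mul,
        ← pow_eq_pow_mod _ h7]
    simp only [SgX, ← uf_tM_three] at hx ⊢
    simp only [uf_tM_mulVec (by norm_num) hs hZ hA hj, h5, triple_mulVec, hd, one_mul]
    rcases h4 with rfl | rfl | rfl
    · exact hx
    · rw [triple_product_permutation, add_rotate] at hx
      exact hx
    · rw [← triple_product_permutation, ← add_rotate] at hx
      exact hx
  · obtain ⟨m, hm, hj⟩ := (hN g hH).1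
    rw [hg, pow_eq_pow_mod _ h7] at hj
    exact hA3 _ (Nat.mod_lt _ (by norm_num)) hj

theorem su_singer_three_between [Fintype F] (hF : Fintype.card F = q ^ 2) (h3 : q = 3)
    {K : Subalgebra F (Matrix (Fin 3) (Fin 3) F)} (hK : IsFieldSubalgebra 3 K)
    (hS : IsAdjointClosedFor (hermForm 3 F q) K) :
    ∃ L, subalgebraNormalizer K ⊓ (GU 3 F q ⊓ specialLinear (Fin 3) F) < L ∧
      L < GU 3 F q ⊓ specialLinear (Fin 3) F := by
  subst h3
  obtain ⟨φ⟩ := nonempty_ringEquiv_GF9 F hF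
  refine singer_three (uField_uConj hF) (hform_hermForm (uField_uConj hF) 3) (by simp) hK hS φ
    (by norm_num) (b := TF.ofCode gf9 5) (by decide +kernel) (by decide +kernel)
    (by decide +kernel) (by decide +kernel) (t := fun m => TF.ofCode gf9 (3580569 / 9 ^ m))
    (by rw [det_fin_three]; decide +kernel) (by decide +kernel) (by decide +kernel)
    (fun x y i => TF.ofCode gf9
      (0xc6b6d4d792312f1c35e4305110a1815920efe919bb2f3e76472c470408db268f /
        9 ^ (3 * (x.code * 9 + y.code) + i))) (by decide +kernel) (fun a b _ => a = 1 ∧ b = 2)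
    (A := m9 !![2, 0, 0; 8, 4, 7; 1, 3, 8]) (B := m9 !![2, 0, 0; 0, 8, 7; 0, 3, 4])
    (by decide +kernel) (by rw [det_fin_three]; decide +kernel) (fun x => ?_) (by decide +kernel)
    (by decide +kernel) (by rw [det_fin_three]; decide +kernel)
    (x := fun i => TF.ofCode gf9 (![0, 1, 4] i)) ?_ ?_
  · obtain ⟨a, b, c, rfl⟩ : ∃ a b c, x = ![a, b, c] :=
      ⟨x 0, x 1, x 2, by funext i; fin_cases i <;> rfl⟩
    revert a b c
    unfold SgX
    decide +kernel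
  all_goals
    unfold SgX
    decide +kernel

/-- Elements of prescribed norm. -/
def tab125 : ℕ :=
  0x2a2205aab0b4cc28ddae489f7013ab0cf1ae593e1e5ba0bd033a1e491f8349525d71e650c0eacd30bce43b639b467582cd7e20ed4cdc86a03714dbff826d9d98910686d934ea324790b3a8bff08f825cc261ec773ebf3a523e21a49652d8a86c4ba2cab97a4fbb49f241ff360de17c80735cc024a3cdef54ddc31a792df70a61a70387e6e6543bf0a85381d710cda83355e95f9c4291b128d568121b77229bf966a6d553b01c7de7ae13b9592db53efd67529cdd0a1b71094596d199b85ccbcc5e1496c37091e74707336124158bec0f30277bdb3f93e1eea068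

theorem su_singer_five_between [Fintype F] (hF : Fintype.card F = q ^ 2) (h3 : q = 5)
    {K : Subalgebra F (Matrix (Fin 3) (Fin 3) F)} (hK : IsFieldSubalgebra 3 K)
    (hS : IsAdjointClosedFor (hermForm 3 F q) K) :
    ∃ L, subalgebraNormalizer K ⊓ (GU 3 F q ⊓ specialLinear (Fin 3) F) < L ∧
      L < GU 3 F q ⊓ specialLinear (Fin 3) F := by
  subst h3
  obtain ⟨φ⟩ := nonempty_ringEquiv_GF25 F hF
  refine singer_three (uField_uConj hF) (hform_hermForm (uField_uConj hF) 3) (by simp) hK hS φ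
    (by norm_num) (b := TF.ofCode gf25 9) (by decide +kernel) (by decide +kernel)
    (by decide +kernel) (by decide +kernel) (t := fun m => TF.ofCode gf25 (3813914701 / 25 ^ m))
    (by rw [det_fin_three]; decide +kernel) (by decide +kernel) (by decide +kernel)
    (fun x y i => TF.ofCode gf25 (tab125 / 25 ^ (3 * (x.code * 25 + y.code) + i)))
    (by decide +kernel) (fun a b c => a = 1 ∧ b = 0 ∧ c ^ 2 = 4)
    (A := m25 !![4, 0, 0; 8, 18, 22; 17, 21, 12]) (B := m25 !![4, 0, 0; 0, 4, 0; 5, 5, 1])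
    (by decide +kernel) (by rw [det_fin_three]; decide +kernel) (fun x => ?_) (by decide +kernel)
    (by decide +kernel) (by rw [det_fin_three]; decide +kernel)
    (x := fun i => TF.ofCode gf25 (![0, 7, 1] i)) ?_ ?_
  · obtain ⟨a, b, c, rfl⟩ : ∃ a b c, x = ![a, b, c] :=
      ⟨x 0, x 1, x 2, by funext i; fin_cases i <;> rfl⟩
    revert a b c
    unfold SgX
    decide +kernel
  all_goals
    unfold SgX
    decide +kernel

end Cfsg.Agent.Cl.Mx
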