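/-
Elements of `PSL₂(r)`, `A₇` and `M₁₁`.
-/
import Mathlib
import Cfsg.Agent.Cl.D3Base
import Cfsg.Agent.Cl.PSL2Struct
import Cfsg.Agent.Inv.M11A

set_option autoImplicit false

namespace Cfsg.Agent.Cl.D3

open Matrix Cfsg.Geo Cfsg.Agent.Cl.Max Cfsg.Agent.Cl.Mx
open scoped MatrixGroups

variable {K : Type*} [Field K] [Fintype K]

namespace ModB

open L2

theorem exists_aff_of_tau {g : PSL(2, K)} (h : tau (emb g) = 4) :
    ∃ (c : PGL(2, K)) (b : K), emb g = c * aff 1 b * c⁻¹ := by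
  obtain ⟨x, hx⟩ := exists_mem_uniS h
  obtain ⟨c, rfl⟩ := exists_smul_one x
  obtain ⟨b, hb⟩ := mem_uni_smul_inf.1 (mem_uniS'.1 hx)
  exact ⟨c, b, hb⟩

omit [Fintype K] in
theorem conj_uni {g h : PSL(2, K)} {c : PGL(2, K)} {a b : K} (hg : emb g = c * aff 1 b * c⁻¹)
    (hh : emb h = c * aff 1 (a * b) * c⁻¹) (ha : a ≠ 0) (hs : IsSquare a) : IsConj g h := by
  obtain ⟨y, hy⟩ := exists_emb_of_mem (psl_normal.conj_mem _ ((aff_mem_psl ha 0).2 hs) c)
  refine isConj_iff.2 ⟨y, emb_injective ?_⟩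
  rw [map_mul, map_mul, map_inv, hy, hg, hh, ← aff_conj_one ha 0]
  group

theorem conj_pow_uni {g : PSL(2, K)} (h : tau (emb g) = 4) {k : ℕ} (hk : (k : K) ≠ 0)
    (hs : IsSquare (k : K)) : IsConj g (g ^ k) := by
  obtain ⟨c, b, e⟩ := exists_aff_of_tau h
  exact conj_uni e (by rw [map_pow, e, conj_pow, aff_one_pow]) hk hs

omit [Fintype K] in
theorem real_of_tau [Finite K] {g : PSL(2, K)} (h : tau (emb g) ≠ 4) : IsConj g g⁻¹ := by
  obtain ⟨n, hn, hn'⟩ := exists_mem_ntorS_not_mem h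
  exact isConj_iff.2 ⟨n, conj_eq_inv_of_mem_ntorS h hn hn' (self_mem_torS g)⟩

theorem pow_char_of_tau (l : ℕ) [CharP K l] {g : PSL(2, K)} (h : tau (emb g) = 4) : g ^ l = 1 := by
  obtain ⟨x, hx⟩ := exists_mem_uniS h
  exact emb_injective (by rw [map_pow, map_one]; exact pow_char_of_mem_uni l hx)

theorem four_of_squares (l : ℕ) [Fact l.Prime] [CharP K l] {S : Finset ℕ} (h4 : 4 ≤ S.card)
    (hS : ∀ k ∈ S, 0 < k ∧ k < l ∧ IsSquare (k : K)) : ∃ x : PSL(2, K), Four l x := by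
  obtain ⟨x, hx, h1⟩ := exists_ne_one_mem_uniS (inf : P1 K)
  refine ⟨x, orderOf_of_mem_uniS l hx h1, S, h4, fun k hk => ⟨(hS k hk).2.1,
    conj_pow_uni (mem_uniS.1 hx).2 ?_ (hS k hk).2.2⟩⟩
  rw [Ne, CharP.cast_eq_zero_iff K l]
  exact Nat.not_dvd_of_pos_of_lt (hS k hk).1 (hS k hk).2.1

omit [Field K] in
theorem gcd_two {q : ℕ} (hK : Fintype.card K = q) (hq : q % 2 = 1) :
    Nat.card K = q ∧ Nat.gcd 2 (Nat.card K - 1) = 2 := by
  rw [Nat.card_eq_fintype_card, hK]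
  exact ⟨rfl, Nat.gcd_eq_left (by omega)⟩

theorem charP_of_card {p n : ℕ} (hp : p.Prime) (hK : Fintype.card K = p ^ n) : CharP K p := by
  obtain ⟨l, hl, m, hl', hm⟩ := FiniteField.card' K
  obtain rfl : l = p := (Nat.prime_dvd_prime_iff_eq hl' hp).1
    (hl'.dvd_of_dvd_pow (hK ▸ hm ▸ dvd_pow_self l m.ne_zero))
  exact hl

theorem four_of_normalizer {G : Type*} [Group G] [Finite G] {l e : ℕ} {x : G} (hx : orderOf x = l)
    (hC : Subgroup.centralizer ({x} : Set G) = Subgroup.zpowers x) (he : 4 ≤ e)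
    (hN : Nat.card (Subgroup.normalizer (Subgroup.zpowers x : Set G)) = l * e) : Four l x := by
  classical
  have hl : 0 < l := hx ▸ orderOf_pos x
  set N := Subgroup.normalizer (Subgroup.zpowers x : Set G)
  have := Fintype.ofFinite N
  have hex : ∀ n : N, ∃ k, k < l ∧ n.1 * x * n.1⁻¹ = x ^ k := fun n => by
    have h1 : n.1 * x * n.1⁻¹ ∈ Subgroup.zpowers x :=
      (Subgroup.mem_normalizer_iff.1 n.2 x).1 (Subgroup.mem_zpowers x)
    obtain ⟨k, hk⟩ := mem_powers_iff_mem_zpowers.2 h1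
    exact ⟨k % l, Nat.mod_lt _ hl, by rw [← hx, pow_mod_orderOf]; exact hk.symm⟩
  choose f hf hf' using hex
  refine ⟨hx, Finset.univ.image f, ?_, fun k hk => ?_⟩
  · have h1 : (Finset.univ : Finset N).card ≤ l * (Finset.univ.image f).card := by
      refine Finset.card_le_mul_card_image _ _ fun a ha => ?_
      obtain ⟨m, -, rfl⟩ := Finset.mem_image.1 ha
      rw [← hx, ← Nat.card_zpowers, ← hC, ← Nat.card_eq_finsetCard]
      refine Nat.card_le_card_of_injective (fun n => ⟨m.1⁻¹ * n.1.1, ?_⟩) fun a b e => ?_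
      · rw [Subgroup.mem_centralizer_singleton_iff]
        have h2 := hf' n.1
        rw [(Finset.mem_filter.1 n.2).2, ← hf'] at h2
        calc m.1⁻¹ * n.1.1 * x = m.1⁻¹ * (n.1.1 * x * n.1.1⁻¹) * n.1.1 := by group
          _ = _ := by rw [h2]; group
      · exact Subtype.ext (Subtype.ext (mul_left_cancel (congrArg Subtype.val e)))
    rw [Finset.card_univ, ← Nat.card_eq_fintype_card, hN] at h1
    exact he.trans (Nat.le_of_mul_le_mul_left h1 hl)
  · obtain ⟨n, -, rfl⟩ := Finset.mem_image.1 hk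
    exact ⟨hf n, isConj_iff.2 ⟨n, hf' n⟩⟩

theorem types7 (m : Multiset ℕ) (h2 : ∀ x ∈ m, 2 ≤ x) (hs : m.sum ≤ 7)
    (he : Even (m.sum + m.card)) : m = 0 ∨ m = {3} ∨ m = {5} ∨ m = {7} ∨ m = {2, 2} ∨
      m = {2, 4} ∨ m = {3, 3} ∨ m = {2, 2, 3} := by
  have hc : m.card • 2 ≤ m.sum := Multiset.card_nsmul_le_sum h2
  rw [smul_eq_mul] at hc
  have : m.card = 0 ∨ m.card = 1 ∨ m.card = 2 ∨ m.card = 3 := by omega
  rcases this with h | h | h | h
  · exact Or.inl (Multiset.card_eq_zero.1 h)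
  · obtain ⟨a, rfl⟩ := Multiset.card_eq_one.1 h
    have ha := h2 a (by simp)
    simp only [Multiset.sum_singleton] at hs
    revert he
    interval_cases a <;> decide
  · obtain ⟨a, b, rfl⟩ := Multiset.card_eq_two.1 h
    have ha := h2 a (by simp)
    have hb := h2 b (by simp)
    have hs' : a + b ≤ 7 := by simpa using hs
    have : a ≤ 5 := by omega
    have : b ≤ 5 := by omega
    revert he hs'
    interval_cases a <;> interval_cases b <;> decide
  · obtain ⟨a, b, c, rfl⟩ := Multiset.card_eq_three.1 h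
    have ha := h2 a (by simp)
    have hb := h2 b (by simp)
    have hc := h2 c (by simp)
    have hs' : a + (b + c) ≤ 7 := by simpa using hs
    have : a ≤ 3 := by omega
    have : b ≤ 3 := by omega
    have : c ≤ 3 := by omega
    revert he hs'
    interval_cases a <;> interval_cases b <;> interval_cases c <;> decide

open Equiv Equiv.Perm

/-- The property of the even permutations of degree seven. -/
def Q7 (σ : Perm (Fin 7)) : Prop :=
  ((σ ^ 4 = 1 ∨ σ ^ 7 = 1) ∧ ∃ h : Perm (Fin 7), sign h = 1 ∧ h * σ ^ 5 * h⁻¹ = σ⁻¹) ∨ σ ^ 5 = 1 ∨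
    (σ ^ 6 = 1 ∧ σ ^ 2 ≠ 1 ∧ ∃ h : Perm (Fin 7), sign h = 1 ∧ h * σ ^ 2 * h⁻¹ = (σ ^ 2)⁻¹)

theorem Q7.of_type {ρ σ : Perm (Fin 7)} (h : Q7 ρ) (e : ρ.cycleType = σ.cycleType) : Q7 σ := by
  obtain ⟨c, rfl⟩ := isConj_iff.1 (isConj_iff_cycleType_eq.2 e)
  have hs : ∀ h : Perm (Fin 7), sign h = 1 → sign (c * h * c⁻¹) = 1 := fun h e => by
    rw [map_mul, map_mul, e, mul_one, ← map_mul, mul_inv_cancel, map_one]
  simp only [Q7, conj_pow, conj_eq_one_iff, ne_eq]
  rcases h with ⟨h1, h, h2, h3⟩ | h1 | ⟨h1, h0, h, h2, h3⟩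
  · exact Or.inl ⟨h1, c * h * c⁻¹, hs h h2, by rw [conj_inv, conj_inv, ← h3]; group⟩
  · exact Or.inr (Or.inl h1)
  · exact Or.inr (Or.inr ⟨h1, h0, c * h * c⁻¹, hs h h2, by rw [conj_inv, conj_inv, ← h3]; group⟩)

theorem q7 {σ : Perm (Fin 7)} (h : sign σ = 1) : Q7 σ := by
  rw [sign_of_cycleType, neg_one_pow_eq_one_iff_even (by decide)] at h
  rcases types7 _ (fun _ => two_le_of_mem_cycleType) (by simpa using σ.sum_cycleType_le) h with
    h | h | h | h | h | h | h | h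
  · exact Q7.of_type (ρ := 1) (Or.inr (Or.inl (one_pow _))) (by rw [h, cycleType_one])
  · exact Q7.of_type (ρ := c[0, 1, 2]) (Or.inr (Or.inr ⟨by decide, by decide,
      swap 0 1 * swap 3 4, by simp, by decide⟩)) (by rw [h]; decide +kernel)
  · exact Q7.of_type (ρ := c[0, 1, 2, 3, 4]) (Or.inr (Or.inl (by decide +kernel)))
      (by rw [h]; decide +kernel)
  · exact Q7.of_type (ρ := c[0, 1, 2, 3, 4, 5, 6]) (Or.inl ⟨Or.inr (by decide +kernel),
      c[1, 4, 2] * c[3, 5, 6], by decide +kernel, by decide +kernel⟩) (by rw [h]; decide +kernel)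
  · exact Q7.of_type (ρ := c[0, 1] * c[2, 3]) (Or.inl ⟨Or.inl (by decide +kernel),
      1, by simp, by decide +kernel⟩) (by rw [h]; decide +kernel)
  · exact Q7.of_type (ρ := c[0, 1, 2, 3] * c[4, 5]) (Or.inl ⟨Or.inl (by decide +kernel),
      swap 1 3 * swap 4 5, by simp, by decide +kernel⟩) (by rw [h]; decide +kernel)
  · exact Q7.of_type (ρ := c[0, 1, 2] * c[3, 4, 5]) (Or.inr (Or.inr ⟨by decide +kernel,
      by decide +kernel, swap 0 1 * swap 3 4, by simp, by decide +kernel⟩))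
      (by rw [h]; decide +kernel)
  · exact Q7.of_type (ρ := c[0, 1, 2] * c[3, 4] * c[5, 6]) (Or.inr (Or.inr ⟨by decide +kernel,
      by decide +kernel, swap 0 1 * swap 3 4, by simp, by decide +kernel⟩))
      (by rw [h]; decide +kernel)

end ModB

open ModB L2

theorem psl2_cases (l : ℕ) [Fact l.Prime] [CharP K l] (hl : l ≠ 2) (h5 : 5 ≤ Fintype.card K) :
    Fintype.card K = 5 ∨ Fintype.card K = 7 ∨ Fintype.card K = 9 ∨
      (l ≠ 3 ∧ ∃ x : PSL(2, K), Four l x) ∨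
      ∃ E : Subgroup PSL(2, K), (∀ x ∈ E, ∀ y ∈ E, x * y = y * x) ∧ (∀ x ∈ E, x ^ l = 1) ∧
        l ^ 2 < Nat.card E := by
  have hp : l.Prime := Fact.out
  obtain ⟨⟨n, hn0⟩, -, hn⟩ := FiniteField.card K l
  simp only [PNat.mk_coe] at hn
  have h3 : l = 3 ∨ l = 5 ∨ l = 7 ∨ 11 ≤ l := by
    by_contra h
    have h2 := hp.two_le
    have : l ≤ 10 := by omega
    interval_cases l <;> first | omega | exact absurd hp (by norm_num)
  obtain rfl | rfl | h : n = 1 ∨ n = 2 ∨ 3 ≤ n := by omega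
  · rw [pow_one] at hn
    rcases h3 with h | h | h | h
    · omega
    · omega
    · omega
    refine Or.inr (Or.inr (Or.inr (Or.inl ⟨by omega, four_of_squares l (S := {1, 4, 9, 16 % l})
      ?_ ?_⟩)))
    · have : 16 % l ≠ 1 ∧ 16 % l ≠ 4 ∧ 16 % l ≠ 9 := by
        by_cases h16 : 16 < l
        · rw [Nat.mod_eq_of_lt h16]; omega
        · have : l ≤ 16 := by omega
          interval_cases l <;> first | omega | exact absurd hp (by norm_num)
      rw [Finset.card_insert_of_notMem, Finset.card_insert_of_notMem, Finset.card_pair] <;>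
        simp <;> omega
    · intro k hk
      simp only [Finset.mem_insert, Finset.mem_singleton] at hk
      rcases hk with rfl | rfl | rfl | rfl
      · exact ⟨by omega, by omega, 1, by norm_num⟩
      · exact ⟨by omega, by omega, 2, by norm_num⟩
      · exact ⟨by omega, by omega, 3, by norm_num⟩
      · refine ⟨Nat.pos_of_ne_zero fun e => hl ?_, Nat.mod_lt _ hp.pos, 4, ?_⟩
        · exact (Nat.prime_dvd_prime_iff_eq hp Nat.prime_two).1
            (hp.dvd_of_dvd_pow (n := 4) (Nat.dvd_of_mod_eq_zero e))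
        · rw [← CharP.cast_eq_mod]; norm_num
  · by_cases h : l = 3
    · subst h; omega
    refine Or.inr (Or.inr (Or.inr (Or.inl ⟨h, four_of_squares l (S := {1, 2, 3, 4})
      (by decide) fun k hk => ?_⟩)))
    have hk' : 0 < k ∧ k < l := by
      simp only [Finset.mem_insert, Finset.mem_singleton] at hk
      omega
    have hk0 : (k : K) ≠ 0 := by
      rw [Ne, CharP.cast_eq_zero_iff K l]
      exact Nat.not_dvd_of_pos_of_lt hk'.1 hk'.2
    refine ⟨hk'.1, hk'.2, (FiniteField.isSquare_iff (by rw [ringChar.eq K l]; exact hl) hk0).2 ?_⟩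
    obtain ⟨m, rfl⟩ := hp.odd_of_ne_two hl
    have h1 : (k : K) ^ (2 * m) = 1 := mul_right_cancel₀ hk0 (by
      rw [← pow_succ, one_mul, ← frobenius_def, map_natCast])
    rw [hn, show (2 * m + 1) ^ 2 = 2 * m * (m + 1) * 2 + 1 by ring,
      show (2 * m * (m + 1) * 2 + 1) / 2 = 2 * m * (m + 1) by omega, pow_mul, h1, one_pow]
  · refine Or.inr (Or.inr (Or.inr (Or.inr ⟨uniS inf, fun x hx y hy => uniS_comm hx hy,
      fun x hx => pow_char_of_tau l (mem_uniS.1 hx).2, ?_⟩)))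
    rw [card_uniS, Nat.card_eq_fintype_card, hn]
    exact Nat.pow_lt_pow_right hp.one_lt (by omega)

theorem psl2_real (l : ℕ) [Fact l.Prime] [CharP K l] (g : PSL(2, K)) :
    g ^ l = 1 ∨ IsConj g g⁻¹ := by
  by_cases h : tau (emb g) = 4
  · exact Or.inl (pow_char_of_tau l h)
  · exact Or.inr (real_of_tau h)

theorem psl2_real_of_mod_four (hK : Fintype.card K % 4 = 1) (g : PSL(2, K)) : IsConj g g⁻¹ := by
  by_cases h : tau (emb g) = 4
  · obtain ⟨c, b, e⟩ := exists_aff_of_tau h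
    refine conj_uni (a := -1) e ?_ (neg_ne_zero.2 one_ne_zero)
      (FiniteField.isSquare_neg_one_iff.2 (by omega))
    rw [map_inv, e, conj_inv, aff_inv one_ne_zero]
    simp
  · exact real_of_tau h

theorem psl2_isCyclic (h3 : (3 : K) ≠ 0) (Q : Subgroup PSL(2, K)) (hQ : IsPGroup 3 Q) :
    IsCyclic Q := by
  have := Fact.mk Nat.prime_three
  rcases subsingleton_or_nontrivial Q with h | h
  · exact isCyclic_of_subsingleton
  have := hQ.center_nontrivial
  obtain ⟨⟨z, hz⟩, h1⟩ := exists_ne (1 : Subgroup.center Q)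
  have hz1 : (z : PSL(2, K)) ≠ 1 := fun e => h1 (Subtype.ext (Subtype.ext e))
  obtain ⟨k, hk⟩ := IsPGroup.iff_orderOf.1 hQ z
  rw [← Subgroup.orderOf_coe] at hk
  have hk0 : k ≠ 0 := by
    rintro rfl
    exact hz1 (orderOf_eq_one_iff.1 hk)
  have ht : tau (emb (z : PSL(2, K))) ≠ 4 := fun e => by
    obtain ⟨l, hl, m, hl', -⟩ := FiniteField.card' K
    have h4 := orderOf_dvd_of_pow_eq_one (pow_char_of_tau l e)
    rw [hk] at h4
    exact h3 (by simpa using (CharP.cast_eq_zero_iff K l 3).2 (by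
      rw [← (Nat.prime_dvd_prime_iff_eq Nat.prime_three hl').1 ((dvd_pow_self 3 hk0).trans h4)]))
  refine isCyclic_of_le_torS ht fun x hx => ?_
  rw [← centralizer_eq_torS_of_orderOf hz1 (fun e => by
    rw [e] at hk
    exact absurd (hk ▸ dvd_pow_self 3 hk0 : 3 ∣ 2) (by norm_num)),
    Subgroup.mem_centralizer_singleton_iff]
  exact congrArg Subtype.val (Subgroup.mem_center_iff.1 hz ⟨x, hx⟩)

theorem psl2_five (hK : Fintype.card K = 5) (g : PSL(2, K)) :
    g ^ 2 = 1 ∨ g ^ 3 = 1 ∨ g ^ 5 = 1 := by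
  have := charP_of_card (n := 1) Nat.prime_five hK
  have := Fact.mk Nat.prime_five
  obtain ⟨h1, h2⟩ := gcd_two hK rfl
  have h := orderOf_cases 5 g
  rw [h2, h1] at h
  simp only [← orderOf_dvd_iff_pow_eq_one]
  rcases h with h | h | h
  · exact Or.inr (Or.inr h)
  · exact Or.inl (Nat.dvd_of_mul_dvd_mul_right two_pos h)
  · exact Or.inr (Or.inl (Nat.dvd_of_mul_dvd_mul_right two_pos h))

theorem psl2_seven (hK : Fintype.card K = 7) (g : PSL(2, K)) :
    ((g ^ 4 = 1 ∨ g ^ 3 = 1) ∧ IsConj g g⁻¹) ∨ (g ^ 7 = 1 ∧ IsConj g (g ^ 2)) := by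
  have := charP_of_card (n := 1) Nat.prime_seven hK
  by_cases h : tau (emb g) = 4
  · have h7 : (7 : K) = 0 := by simpa using CharP.cast_eq_zero K 7
    refine Or.inr ⟨pow_char_of_tau 7 h, conj_pow_uni h ?_ ⟨3, by
      push_cast; linear_combination -h7⟩⟩
    rw [Ne, CharP.cast_eq_zero_iff K 7]
    norm_num
  · obtain ⟨h1, h2⟩ := gcd_two hK rfl
    have h3 := card_torS_mul_or h
    have h4 := Subgroup.orderOf_dvd_natCard _ (self_mem_torS g)
    rw [h2, h1] at h3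
    refine Or.inl ⟨?_, real_of_tau h⟩
    simp only [← orderOf_dvd_iff_pow_eq_one]
    rcases h3 with h3 | h3
    · exact Or.inr (by rwa [show Nat.card (torS g) = 3 by omega] at h4)
    · exact Or.inl (by rwa [show Nat.card (torS g) = 4 by omega] at h4)

theorem psl2_nine (hK : Fintype.card K = 9) (g : PSL(2, K)) :
    g ^ 4 = 1 ∨ g ^ 3 = 1 ∨ g ^ 5 = 1 := by
  have := charP_of_card (n := 2) Nat.prime_three hK
  have := Fact.mk Nat.prime_three
  obtain ⟨h1, h2⟩ := gcd_two hK rfl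
  have h := orderOf_cases 3 g
  rw [h2, h1] at h
  simp only [← orderOf_dvd_iff_pow_eq_one]
  rcases h with h | h | h
  · exact Or.inr (Or.inl h)
  · exact Or.inl (Nat.dvd_of_mul_dvd_mul_right two_pos h)
  · exact Or.inr (Or.inr (Nat.dvd_of_mul_dvd_mul_right two_pos h))

theorem psl2_sqComm (hK : Odd (Fintype.card K)) (a b : PSL(2, K)) (h : a * a = b * b)
    (h1 : a * a ≠ 1) : a * b = b * a := by
  have h2 : (2 : K) ≠ 0 := two_ne_zero_iff_odd.2 (by
    rw [Nat.card_eq_fintype_card]; exact Nat.odd_iff.1 hK)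
  have key : ∀ x : PSL(2, K), x * x = a * a → x ∈ torS (a * a) := fun x hx => by
    have hc : x ∈ Subgroup.centralizer {a * a} := by
      rw [Subgroup.mem_centralizer_singleton_iff, ← hx, mul_assoc]
    by_cases ho : orderOf (a * a) = 2
    · rw [centralizer_eq_ntorS_of_orderOf h2 ho] at hc
      by_contra hn
      exact h1 (hx ▸ mul_self_of_mem_ntorS (tauS_ne_four_of_orderOf_two h2 ho) hc hn)
    · rwa [centralizer_eq_torS_of_orderOf h1 ho] at hc
  exact torS_comm h1 (key a rfl) (key b h.symm)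

theorem alt7_elts (g : alternatingGroup (Fin 7)) :
    ((g ^ 4 = 1 ∨ g ^ 7 = 1) ∧ IsConj (g ^ 5) g⁻¹) ∨ g ^ 5 = 1 ∨
      (g ^ 6 = 1 ∧ g ^ 2 ≠ 1 ∧ IsConj (g ^ 2) (g ^ 2)⁻¹) := by
  simp only [ne_eq, Subtype.ext_iff, Subgroup.coe_pow, OneMemClass.coe_one]
  rcases q7 (Equiv.Perm.mem_alternatingGroup.1 g.2) with ⟨h1, h, h2, h3⟩ | h1 | ⟨h1, h0, h, h2, h3⟩
  · exact Or.inl ⟨h1, isConj_iff.2 ⟨⟨h, Equiv.Perm.mem_alternatingGroup.2 h2⟩, Subtype.ext h3⟩⟩
  · exact Or.inr (Or.inl h1)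
  · exact Or.inr (Or.inr ⟨h1, h0,
      isConj_iff.2 ⟨⟨h, Equiv.Perm.mem_alternatingGroup.2 h2⟩, Subtype.ext h3⟩⟩)

open Equiv Equiv.Perm in
theorem alt7_four : ∃ x : alternatingGroup (Fin 7), Four 5 x := by
  have := Fact.mk Nat.prime_five
  refine ⟨⟨c[0, 1, 2, 3, 4], mem_alternatingGroup.2 (by decide +kernel)⟩,
    orderOf_eq_prime (Subtype.ext (by decide +kernel)) fun e => absurd (congrArg Subtype.val e)
      (by decide +kernel), {1, 2, 3, 4}, by decide, fun k hk => ?_⟩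
  simp only [Finset.mem_insert, Finset.mem_singleton] at hk
  refine ⟨by omega, alternatingGroup.isConj_of (isConj_iff_cycleType_eq.2 ?_) (by decide +kernel)⟩
  rcases hk with rfl | rfl | rfl | rfl <;> decide +kernel

theorem m11_four {G : Type*} [Group G] [Finite G] (h : IsM11 G) :
    (∃ x : G, Four 11 x) ∧ ∃ x : G, Four 5 x := by
  obtain ⟨hs, hG⟩ := h
  have : Fact (Nat.Prime 11) := ⟨by norm_num⟩
  have := Fact.mk Nat.prime_five
  obtain ⟨x, hx⟩ := exists_prime_orderOf_dvd_card' (G := G) 11 (by rw [hG]; norm_num)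
  obtain ⟨y, hy⟩ := exists_prime_orderOf_dvd_card' (G := G) 5 (by rw [hG]; norm_num)
  obtain ⟨a, χ, θ, θ', h1⟩ := Inv.M11.exists_stage1 hG
  obtain ⟨c1, n1⟩ := Inv.M11.eleven hG hx
  obtain ⟨c2, n2⟩ := Inv.M11.five hG (h1.deg_a 0) hy
  exact ⟨⟨x, four_of_normalizer (e := 5) hx (c1 x (Subgroup.mem_zpowers x)
      (by rintro rfl; simp at hx)) (by norm_num) n1⟩,
    y, four_of_normalizer (e := 4) hy (c2 y (Subgroup.mem_zpowers y)
      (by rintro rfl; simp at hy)) le_rfl n2⟩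

end Cfsg.Agent.Cl.D3
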