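/-
Four symplectic transvections which generate `Sp₄(3)`.
-/
import Mathlib
import Cfsg.Agent.S0764
import Cfsg.Agent.S0765
import Cfsg.Agent.S0246
import Cfsg.Agent.Cl.SpOrder
import Cfsg.Agent.Cl.Transport

set_option autoImplicit false

namespace Cfsg.Agent.Cl.D4.U42

open Matrix Subgroup

/-- Four generators of order three in a braid chain. -/
structure Dat {X : Type*} [Group X] (x : Fin 4 → X) : Prop where
  cube : ∀ i, x i ^ 3 = 1
  b01 : x 0 * x 1 * x 0 = x 1 * x 0 * x 1
  b12 : x 1 * x 2 * x 1 = x 2 * x 1 * x 2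
  b23 : x 2 * x 3 * x 2 = x 3 * x 2 * x 3
  c02 : x 0 * x 2 = x 2 * x 0
  c03 : x 0 * x 3 = x 3 * x 0
  c13 : x 1 * x 3 = x 3 * x 1
  gen : closure (Set.range x) = ⊤

/-- `t` generates the centre of a Heisenberg group. -/
def Heis {X : Type*} [Group X] (t : X) : Prop :=
  ∃ y z, y ^ 3 = 1 ∧ z ^ 3 = 1 ∧ y * z = z * y * t ∧ Commute t y ∧ Commute t z

theorem Heis.map {X Y : Type*} [Group X] [Group Y] {t : X} (h : Heis t) (f : X →* Y) :
    Heis (f t) := by
  obtain ⟨y, z, h1, h2, h3, h4, h5⟩ := h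
  exact ⟨f y, f z, by rw [← map_pow, h1, map_one], by rw [← map_pow, h2, map_one],
    by simp only [← map_mul, h3], h4.map f, h5.map f⟩

theorem Dat.map {X Y : Type*} [Group X] [Group Y] {x : Fin 4 → X} (h : Dat x) (f : X →* Y)
    (hf : Function.Surjective f) : Dat fun i => f (x i) where
  cube i := by rw [← map_pow, h.cube, map_one]
  b01 := by simp only [← map_mul, h.b01]
  b12 := by simp only [← map_mul, h.b12]
  b23 := by simp only [← map_mul, h.b23]
  c02 := by simp only [← map_mul, h.c02]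
  c03 := by simp only [← map_mul, h.c03]
  c13 := by simp only [← map_mul, h.c13]
  gen := by
    have e : (Set.range fun i => f (x i)) = f '' Set.range x := Set.range_comp f x
    rw [e, ← MonoidHom.map_closure, h.gen, ← MonoidHom.range_eq_map, MonoidHom.range_eq_top.2 hf]

theorem Dat.ne_one {X : Type*} [Group X] {x : Fin 4 → X} (h : Dat x) [Nontrivial X] : x 0 ≠ 1 := by
  intro h0
  have br : ∀ a b : X, a * b * a = b * a * b → a = 1 → b = 1 := fun a b e ha => by
    subst ha
    simpa using e.symm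
  have h1 := br _ _ h.b01 h0
  have h2 := br _ _ h.b12 h1
  have h3 := br _ _ h.b23 h2
  have : closure (Set.range x) ≤ ⊥ := (closure_le _).2 (by
    rintro _ ⟨i, rfl⟩
    fin_cases i <;> simpa)
  rw [h.gen] at this
  exact top_ne_bot (le_bot_iff.1 this)

/-- Vectors as quadruples. -/
abbrev T4 := ZMod 3 × ZMod 3 × ZMod 3 × ZMod 3

/-- The vector with given coordinates. -/
def vec (w : T4) : Fin 2 ⊕ Fin 2 → ZMod 3 := Sum.elim ![w.1, w.2.1] ![w.2.2.1, w.2.2.2]

/-- The matrix of a transvection. -/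
def tm (w : T4) : Matrix (Fin 2 ⊕ Fin 2) (Fin 2 ⊕ Fin 2) (ZMod 3) := sympTransvection 2 (vec w) 1

/-- The transvection with centre `w`. -/
def tv (w : T4) : symplecticGroup (Fin 2) (ZMod 3) := ⟨tm w, S0764.result 2 _ _⟩

/-- The centres of the four generators. -/
def u : Fin 4 → T4 := ![(1, 0, 0, 0), (0, 0, 1, 0), (1, 1, 0, 0), (0, 0, 0, 1)]

/-- The image of `w` under the transvection with centre `v`. -/
def st (v w : T4) : T4 :=
  w + (v.1 * w.2.2.1 + v.2.1 * w.2.2.2 - v.2.2.1 * w.1 - v.2.2.2 * w.2.1) • v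

theorem tm_st : ∀ i w, tm (u i) * tm w = tm (st (u i) w) * tm (u i) := by decide +kernel

theorem tv_st (i : Fin 4) (w : T4) : tv (st (u i) w) = tv (u i) * tv w * (tv (u i))⁻¹ :=
  eq_mul_inv_of_mul_eq (Subtype.ext (tm_st i w).symm)

/-- Decoding of a number. -/
def dec (n : ℕ) : T4 := ((n / 27 : ℕ), (n / 9 : ℕ), (n / 3 : ℕ), (n : ℕ))

/-- The orbit of the first vector. -/
def orb : List ℕ := [9, 7, 11, 10, 5, 18, 34, 61, 2, 4, 56, 47, 55, 59, 19, 20, 28, 58, 38, 37, 77,
  40, 62, 16, 50, 46, 32, 64, 29, 31, 23, 13, 8, 43, 41, 36, 74, 1, 76, 53, 17, 49, 45, 35, 70, 65,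
  67, 22, 14, 80, 44, 39, 73, 75, 52, 15, 48, 26, 71, 63, 68, 21, 12, 3, 79, 42, 72, 51, 54, 25, 69,
  66, 57, 78, 60, 24, 30, 6, 33, 27]

/-- Every entry is obtained from a later one. -/
def ok : List ℕ → Bool
  | [] => true
  | n :: l => (decide (dec n = u 0) || l.any fun m => decide (∃ i, dec n = st (u i) (dec m))) && ok l

theorem ok_orb : ok orb = true := by decide +kernel

theorem mem_orb : ∀ w : T4, w = 0 ∨ ∃ n ∈ orb, w = dec n := by decide +kernel

theorem mem_of_ok : ∀ l : List ℕ, ok l = true → ∀ n ∈ l,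
    tv (dec n) ∈ Subgroup.closure (Set.range fun i => tv (u i))
  | [], _, _, hn => absurd hn List.not_mem_nil
  | a :: l, h, n, hn => by
    rw [ok, Bool.and_eq_true, Bool.or_eq_true, decide_eq_true_iff, List.any_eq_true] at h
    have ih := mem_of_ok l h.2
    have g : ∀ i, tv (u i) ∈ Subgroup.closure (Set.range fun i => tv (u i)) :=
      fun i => Subgroup.subset_closure ⟨i, rfl⟩
    rcases List.mem_cons.1 hn with rfl | hn
    · rcases h.1 with e | ⟨m, hm, e⟩
      · rw [e]
        exact g 0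
      · obtain ⟨i, e⟩ := of_decide_eq_true e
        rw [e, tv_st]
        exact mul_mem (mul_mem (g i) (ih m hm)) (inv_mem (g i))
    · exact ih n hn

theorem tm_c : ∀ (w : T4) (c : ZMod 3), sympTransvection 2 (vec w) c = 1 ∨
    sympTransvection 2 (vec w) c = tm w ∨ sympTransvection 2 (vec w) c = tm w * tm w := by
  decide +kernel

theorem tv_mem (w : T4) : tv w ∈ Subgroup.closure (Set.range fun i => tv (u i)) := by
  rcases mem_orb w with rfl | ⟨n, hn, rfl⟩
  · rw [show tv 0 = 1 from Subtype.ext (by decide +kernel)]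
    exact one_mem _
  · exact mem_of_ok orb ok_orb n hn

theorem gen_sp : Subgroup.closure (Set.range fun i => tv (u i)) = ⊤ := by
  rw [eq_top_iff, ← S0765.result 2, closure_le]
  rintro A ⟨w : Fin 2 ⊕ Fin 2 → ZMod 3, c : ZMod 3, hA⟩
  obtain ⟨w, rfl⟩ : ∃ v : T4, w = vec v :=
    ⟨(w (.inl 0), w (.inl 1), w (.inr 0), w (.inr 1)), by
      funext i
      rcases i with i | i <;> fin_cases i <;> rfl⟩
  rcases tm_c w c with e | e | e
  · rw [show A = 1 from Subtype.ext (hA.trans e)]
    exact one_mem _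
  · rw [show A = tv w from Subtype.ext (hA.trans e)]
    exact tv_mem w
  · rw [show A = tv w * tv w from Subtype.ext (hA.trans e)]
    exact mul_mem (tv_mem w) (tv_mem w)

theorem cube_of {X : Type*} [Monoid X] {a : X} (h : a * a * a = 1) : a ^ 3 = 1 := by
  rw [pow_succ, pow_two, h]

theorem dat_sp : Dat fun i => tv (u i) where
  cube i := cube_of (Subtype.ext (by revert i; decide +kernel))
  b01 := Subtype.ext (by decide +kernel)
  b12 := Subtype.ext (by decide +kernel)
  b23 := Subtype.ext (by decide +kernel)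
  c02 := Subtype.ext (by decide +kernel)
  c03 := Subtype.ext (by decide +kernel)
  c13 := Subtype.ext (by decide +kernel)
  gen := gen_sp

theorem heis_sp : Heis (tv (u 0)) :=
  ⟨tv (1, 0, 0, 1) * (tv (u 0) * tv (u 0)) * (tv (u 3) * tv (u 3)),
    tv (u 2) * (tv (u 0) * tv (u 0)) * (tv (0, 1, 0, 0) * tv (0, 1, 0, 0)),
    cube_of (Subtype.ext (by decide +kernel)), cube_of (Subtype.ext (by decide +kernel)),
    Subtype.ext (by decide +kernel), Subtype.ext (by decide +kernel),
    Subtype.ext (by decide +kernel)⟩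

theorem card_psp : Nat.card (PSp 2 (ZMod 3)) = 25920 := by
  have h := card_eq_card_quotient_mul_card_subgroup (center (symplecticGroup (Fin 2) (ZMod 3)))
  rw [S0246.result (F := ZMod 3) (ZMod.card 3) 2 (by norm_num), sp_card_std, Nat.card_zmod] at h
  norm_num [Finset.prod_range_succ] at h
  change _ = Nat.card (PSp 2 (ZMod 3)) * _ at h
  omega

theorem exists_dat {G : Type*} [Group G] {K : Type*} [Field K] [Fintype K]
    (hK : Fintype.card K = 3) (e : G ≃* PSp 2 K) :
    Nat.card G = 25920 ∧ ∃ x : Fin 4 → G, Dat x ∧ Heis (x 0) := by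
  let φ : ZMod 3 ≃+* K := ZMod.ringEquivOfPrime K Nat.prime_three hK
  let ψ : PSp 2 (ZMod 3) ≃* G := (pspMapEquiv 2 φ).trans e.symm
  exact ⟨(Nat.card_congr ψ.toEquiv).symm.trans card_psp, _,
    (dat_sp.map (QuotientGroup.mk' _) (QuotientGroup.mk'_surjective _)).map ψ.toMonoidHom
      ψ.surjective, (heis_sp.map (QuotientGroup.mk' _)).map ψ.toMonoidHom⟩

end Cfsg.Agent.Cl.D4.U42
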