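import Mathlib
import Cfsg.Agent.Cl.OrthSimple
import Cfsg.Agent.Chev.StData
import Cfsg.Agent.Chev.StTrans
import Cfsg.Agent.S1054

/-!
# Root elements of `Ω⁺_{2m}` and the isomorphism `D₄(F) ≅ PΩ₈⁺(F)`
-/

set_option autoImplicit false
set_option maxRecDepth 100000

namespace Cfsg.Agent.Cl

open QuadraticMap Module

section Root

variable {F : Type*} [Field F] {m : ℕ}

variable (F) in
/-- The standard basis vectors. -/
def oB (i : Fin m ⊕ Fin m) : Fin m ⊕ Fin m → F := Pi.single i 1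

theorem polar_oB (x : Fin m ⊕ Fin m → F) (i : Fin m ⊕ Fin m) :
    polar (quad_plus m F) x (oB F i) = x i.swap := by
  rcases i with i | i <;> simp [coe_quad_plus, quad_polar_plus, oB, Pi.single_apply]

theorem polar_oB_oB (i j : Fin m ⊕ Fin m) :
    polar (quad_plus m F) (oB F i) (oB F j) = if j = i.swap then 1 else 0 := by
  rw [polar_oB, oB, Pi.single_apply]
  exact if_congr ⟨fun h => by rw [← h, Sum.swap_swap], fun h => by rw [h, Sum.swap_swap]⟩ rfl rfl

@[simp] theorem q_oB (i : Fin m ⊕ Fin m) : quad_plus m F (oB F i) = 0 := by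
  rcases i with i | i <;> simp [quad_plus_apply, oB, Pi.single_apply]

theorem polar_oB_of_ne {i j : Fin m ⊕ Fin m} (h : j ≠ i.swap) :
    polar (quad_plus m F) (oB F i) (oB F j) = 0 := by rw [polar_oB_oB, if_neg h]

theorem ne_swap_comm {i j : Fin m ⊕ Fin m} (h : j ≠ i.swap) : i ≠ j.swap := fun e =>
  h (by rw [e, Sum.swap_swap])

/-- The root elements of the hyperbolic orthogonal group. -/
noncomputable def oEE (i j : Fin m ⊕ Fin m) (t : F) : OG (quad_plus m F) :=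
  eich (quad_plus m F) (oB F i) (t • oB F j)

variable {i j k l : Fin m ⊕ Fin m}

theorem oEE_add (h : j ≠ i.swap) (t u : F) : oEE i j (t + u) = oEE i j t * oEE i j u := by
  rw [oEE, oEE, oEE, eich_mul (q_oB i) (by simp [polar_oB_of_ne h]) (by simp [polar_oB_of_ne h]),
    add_smul]

theorem oEE_app (h : j ≠ i.swap) (t : F) (x : Fin m ⊕ Fin m → F) :
    (oEE i j t).1 x = x + (t * x i.swap) • oB F j - (t * x j.swap) • oB F i := by
  rw [oEE, eich_app (q_oB i) (by simp [polar_oB_of_ne h])]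
  simp only [oexp, polar_oB, q_oB]
  module

theorem oEE_swap (h : j ≠ i.swap) (t : F) : oEE j i t = oEE i j (-t) := by
  rw [oEE, oEE, ← eich_smul_left (q_oB j) (polar_oB_of_ne (ne_swap_comm h)),
    eich_swap (q_oB i) (by simp [oexp]) (by simp [polar_oB_of_ne h]), neg_smul]

theorem oEE_commute_same (h : j ≠ i.swap) (h' : k ≠ i.swap) (t u : F) :
    Commute (oEE i j t) (oEE i k u) :=
  eich_comm (q_oB i) (by simp [polar_oB_of_ne h]) (by simp [polar_oB_of_ne h'])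

theorem oEE_commute_perp (h1 : i ≠ k.swap) (h2 : j ≠ k.swap) (h3 : i ≠ l.swap) (h4 : j ≠ l.swap)
    (t u : F) : Commute (oEE i j t) (oEE k l u) := by
  rw [Commute, SemiconjBy, ← mul_inv_eq_iff_eq_mul, oEE, oEE, conj_eich,
    eich_app_of_polar (polar_oB_of_ne h1) (by simp [polar_oB_of_ne h2]),
    eich_app_of_polar (by simp [polar_oB_of_ne h3]) (by simp [polar_oB_of_ne h4])]

theorem oEE_comm (h1 : j ≠ i.swap) (h2 : i ≠ k.swap) (h3 : j ≠ k.swap) (h4 : i ≠ j) (h5 : j ≠ k)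
    (t u : F) : (oEE k j.swap u)⁻¹ * (oEE i j t)⁻¹ * oEE k j.swap u * oEE i j t =
      oEE k i (t * u) := by
  have h6 : polar (quad_plus m F) (oB F k) (oB F j.swap) = 0 :=
    polar_oB_of_ne fun e => h5 (Sum.swap_leftInverse.injective e)
  have h7 : polar (quad_plus m F) (oB F j.swap) (oB F i) = 0 := polar_oB_of_ne (by simpa using h4)
  have : (oEE i j t)⁻¹ * oEE k j.swap u * (oEE i j t)⁻¹⁻¹ = oEE k j.swap u * oEE k i (t * u) := by
    rw [oEE, oEE, oEE, conj_eich, eich_inv,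
      eich_app_of_polar (polar_oB_of_ne h2) (by simp [polar_oB_of_ne h3]),
      eich_app_of_polar_left (q_oB i) (by simp [polar_oB_of_ne h1]) (by simp [h7]),
      eich_mul (q_oB k) (by simp [h6]) (by simp [polar_oB_of_ne h2])]
    congr 1
    simp only [oexp, polar_oB_oB, Sum.swap_swap, if_true]
    module
  rw [inv_inv] at this
  rw [mul_assoc, mul_assoc, ← mul_assoc (oEE i j t)⁻¹, this, inv_mul_cancel_left]

theorem EO_le_of_oEE (hm : 1 ≤ m) {H : Subgroup (OG (quad_plus m F))}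
    (h : ∀ i j t, j ≠ i → j ≠ i.swap → oEE i j t ∈ H) : EO (quad_plus m F) ≤ H := by
  have key : ∀ i w, eich (quad_plus m F) (oB F i) w ∈ H := fun i w => by
    by_cases hw : polar (quad_plus m F) (oB F i) w = 0
    swap
    · rw [eich_of_not fun h => hw h.2]; exact one_mem _
    let K : AddSubgroup (Fin m ⊕ Fin m → F) :=
      { carrier := {w | polar (quad_plus m F) (oB F i) w = 0 ∧ eich (quad_plus m F) (oB F i) w ∈ H}
        add_mem' := by
          rintro a b ⟨ha, ha'⟩ ⟨hb, hb'⟩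
          exact ⟨by simp [ha, hb], eich_mul (q_oB i) ha hb ▸ mul_mem ha' hb'⟩
        zero_mem' := ⟨by simp, by simp⟩
        neg_mem' := by
          rintro a ⟨ha, ha'⟩
          exact ⟨by simp [ha], eich_inv (Q := quad_plus m F) _ a ▸ inv_mem ha'⟩ }
    have : w ∈ K := by
      rw [pi_eq_sum_univ' w]
      refine K.sum_mem fun j _ => ?_
      change w j • oB F j ∈ K
      by_cases h1 : j = i.swap
      · rw [polar_comm, polar_oB] at hw
        rw [h1, hw, zero_smul]; exact K.zero_mem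
      refine ⟨by simp [polar_oB_of_ne h1], ?_⟩
      by_cases h2 : j = i
      · rw [h2, eich_smul_self]; exact one_mem _
      · exact h i j _ h2 h1
    exact this.2
  exact EO_le_of_pair quad_plus_nondeg (q_oB (.inl ⟨0, hm⟩)) (q_oB (.inr ⟨0, hm⟩))
    (by simp [polar_oB_oB]) (key _) (key _)

end Root

section D4

open Cfsg.Lie Cfsg.Lie.ChevalleyDatum Cfsg.Agent.Chev

/-- first index of a root -/
def d4A (r : ℕ) : Fin 4 ⊕ Fin 4 := ([.inr 0, .inr 0, .inr 0, .inr 0, .inr 0, .inr 0, .inr 1, .inr 1,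
  .inr 1, .inr 1, .inr 2, .inr 2, .inl 2, .inl 2, .inl 1, .inl 1, .inl 1, .inl 1, .inl 0, .inl 0,
  .inl 0, .inl 0, .inl 0, .inl 0] : List (Fin 4 ⊕ Fin 4)).getD r (.inl 0)

/-- second index of a root -/
def d4C (r : ℕ) : Fin 4 ⊕ Fin 4 := ([.inr 1, .inr 2, .inl 3, .inr 3, .inl 2, .inl 1, .inr 2, .inl 3,
  .inr 3, .inl 2, .inl 3, .inr 3, .inl 3, .inr 3, .inr 2, .inl 3, .inr 3, .inl 2, .inr 1, .inr 2,
  .inl 3, .inr 3, .inl 2, .inl 1] : List (Fin 4 ⊕ Fin 4)).getD r (.inl 1)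

/-- sign of a root -/
def d4E (r : ℕ) : ℤ := ([-1, 1, -1, -1, -1, -1, 1, -1, -1, -1, -1, -1, 1, 1, 1, 1, 1, -1, 1, 1, 1,
  1, -1, 1] : List ℤ).getD r 1

/-- The sign with which the root `r` is the pair `(i, j)`. -/
def d4S (r : ℕ) (i j : Fin 4 ⊕ Fin 4) : ℤ :=
  if d4A r = i ∧ d4C r = j then d4E r else if d4A r = j ∧ d4C r = i then -d4E r else 0

theorem d4_ne : ∀ r < 24, d4C r ≠ (d4A r).swap := by decide +kernel

theorem d4_surj : ∀ i j : Fin 4 ⊕ Fin 4, j ≠ i → j ≠ i.swap →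
    ∃ r < 24, d4S r i j = 1 ∨ d4S r i j = -1 := by decide +kernel

set_option synthInstance.maxSize 4000 in
set_option synthInstance.maxHeartbeats 400000 in
theorem d4_table : ∀ r < 24, ∀ s < 24, s ≠ r → s ≠ chevD4.neg r →
    (chevD4.chainEntry r s = [] ∧ ((d4A r ≠ (d4A s).swap ∧ d4C r ≠ (d4A s).swap ∧
      d4A r ≠ (d4C s).swap ∧ d4C r ≠ (d4C s).swap) ∨
      ∃ p ∈ [(d4A r, d4C r), (d4C r, d4A r)], ∃ k ∈ [d4A s, d4C s], d4S s p.1 k ≠ 0 ∧
        p.2 ≠ p.1.swap ∧ k ≠ p.1.swap ∧ d4S r p.1 p.2 ≠ 0)) ∨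
    ∃ q ∈ chevD4.chainEntry r s, chevD4.chainEntry r s = [q] ∧ q.1 < 24 ∧
      ∃ p ∈ [(d4A r, d4C r), (d4C r, d4A r)], ∃ k ∈ [d4A s, d4C s],
        p.2 ≠ p.1.swap ∧ p.1 ≠ k.swap ∧ p.2 ≠ k.swap ∧ p.1 ≠ p.2 ∧ p.2 ≠ k ∧
        d4S r p.1 p.2 ≠ 0 ∧ d4S s k p.2.swap ≠ 0 ∧ d4S q.1 k p.1 ≠ 0 ∧
        d4S r p.1 p.2 * d4S s k p.2.swap = -(d4S q.1 k p.1 * q.2) := by decide +kernel

variable (F : Type*) [Field F]

/-- The root elements of `Ω₈⁺`. -/
noncomputable def d4Y (r : chevD4.Rt) (t : F) : OG (quad_plus 4 F) :=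
  oEE (d4A r) (d4C r) (d4E r * t)

variable {F}

theorem d4Y_eq (r : chevD4.Rt) {i j : Fin 4 ⊕ Fin 4} (h : d4S r i j ≠ 0) (t : F) :
    d4Y F r t = oEE i j (d4S r i j * t) := by
  unfold d4S at h ⊢
  split_ifs at h ⊢ with h1 h2
  · rw [d4Y, h1.1, h1.2]
  · rw [d4Y, ← h2.1, ← h2.2, oEE_swap (d4_ne r r.2)]; simp
  · exact absurd rfl h

theorem isAB_d4Y : chevD4.stRoot.IsAB (d4Y F) where
  add r t u := by rw [d4Y, mul_add, oEE_add (d4_ne r r.2)]; rfl
  comm r s h1 h2 := by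
    have h0 := chevD4.commTerms_eq_of_sl slD4 h1 h2
    rcases d4_table r r.2 s s.2 (fun e => h1 (Fin.ext e)) (fun e => h2 (Fin.ext e)) with
      ⟨h3, h4⟩ | ⟨q, -, h3, hq, p, -, k, -, a1, a2, a3, a4, a5, b1, b2, b3, b4⟩
    · refine StRoot.isComm_of_nil (chevD4.stRoot_terms_eq (by rw [h0, h3]; rfl)) fun t u => ?_
      rcases h4 with ⟨a1, a2, a3, a4⟩ | ⟨p, -, k, -, a1, a2, a3, a4⟩
      · exact oEE_commute_perp a1 a2 a3 a4 _ _
      · rw [d4Y_eq r a4, d4Y_eq s a1]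
        exact oEE_commute_same a2 a3 _ _
    · refine StRoot.isComm_of_single (γ := ⟨q.1, hq⟩) (C := q.2)
        (chevD4.stRoot_terms_eq (by rw [h0, h3]; rfl)) fun t u => ?_
      rw [d4Y_eq r b1, d4Y_eq s b2, d4Y_eq ⟨q.1, hq⟩ b3, oEE_comm a1 a2 a3 a4 a5]
      congr 1
      have : ((d4S r p.1 p.2 * d4S s k p.2.swap : ℤ) : F) = (-(d4S q.1 k p.1 * q.2) : ℤ) := by
        rw [b4]
      push_cast at this
      linear_combination (t * u) * this

theorem XS_d4Y : XS (d4Y F) Set.univ = EO (quad_plus 4 F) := by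
  refine le_antisymm (XS_le fun r _ t => eich_mem_EO _ _)
    (EO_le_of_oEE (by norm_num) fun i j t h1 h2 => ?_)
  obtain ⟨r, hr, h⟩ := d4_surj i j h1 h2
  have h3 := d4Y_eq (F := F) ⟨r, hr⟩ (i := i) (j := j) (by rcases h with h | h <;> simp [h])
    (d4S r i j * t)
  have h4 : (d4S r i j : F) * (d4S r i j * t) = t := by rcases h with h | h <;> simp [h]
  rw [h4] at h3
  exact h3 ▸ x_mem_XS (d4Y F) (Set.mem_univ _) _

theorem commutator_plus_four : commutator (OG (quad_plus 4 F)) = EO (quad_plus 4 F) :=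
  commutator_eq_EO quad_plus_nondeg (not_oExc_of_finrank (by simp)) (by simp)
    ⟨oB F (.inl 0), by simp [oB], q_oB _⟩

variable (F) in
/-- The root elements of `Ω₈⁺` inside the commutator subgroup. -/
noncomputable def d4Z (r : chevD4.Rt) (t : F) : commutator (OG (quad_plus 4 F)) :=
  ⟨d4Y F r t, commutator_plus_four (F := F) ▸ eich_mem_EO _ _⟩

theorem isAB_d4Z : chevD4.stRoot.IsAB (d4Z F) where
  add r t u := Subtype.ext (isAB_d4Y.add r t u)
  comm r s h1 h2 t u := Subtype.ext ((isAB_d4Y.comm r s h1 h2 t u).trans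
    (map_stWord (x := d4Z F) (commutator (OG (quad_plus 4 F))).subtype _).symm)

theorem XS_d4Z : XS (d4Z F) Set.univ = ⊤ := by
  apply Subgroup.map_injective (commutator (OG (quad_plus 4 F))).subtype_injective
  rw [map_XS, ← MonoidHom.range_eq_map, Subgroup.range_subtype]
  exact XS_d4Y.trans commutator_plus_four.symm

theorem isPerfect_plus_four : Group.IsPerfect (commutator (OG (quad_plus 4 F))) := by
  refine ⟨eq_top_iff.2 (XS_d4Z.ge.trans (XS_le fun r _ t => ?_))⟩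
  obtain ⟨s, hs, h⟩ := (by decide +kernel : ∀ r < 24, ∃ s < 24,
    chevD4.pairing s r = 1 ∧ chevD4.pairing r s = 1) r r.2
  refine isAB_d4Z.mem_commutator_of_A2 chevD4.std slD4.le_two (a := ⟨s, hs⟩) ?_ ?_ t
  · exact (chevD4.pairing_eq_dot _ _).symm.trans h.1
  · exact (chevD4.pairing_eq_dot _ _).symm.trans h.2

/-- **`D₄(F) ≅ PΩ₈⁺(F)`**, matching the root elements. -/
theorem exists_d4_equiv : ∃ e : chevD4.group F ≃*
    commutator (OG (quad_plus 4 F)) ⧸ Subgroup.center (commutator (OG (quad_plus 4 F))),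
    ∀ (r : chevD4.Rt) t, e (chevD4.XG F r t) = QuotientGroup.mk (d4Z F r t) := by
  have := isPerfect_plus_four (F := F)
  let ψ := (QuotientGroup.mk' (Subgroup.center _)).comp (chevD4.scLift (isAB_d4Z (F := F)))
  have hψ : ∀ (r : chevD4.Rt) t, ψ (chevD4.scGen F r t) = QuotientGroup.mk (d4Z F r t) :=
    fun r t => congrArg QuotientGroup.mk (chevD4.scLift_scGen _ r t)
  have hsurj : Function.Surjective ψ := by
    refine (QuotientGroup.mk'_surjective _).comp ?_
    rw [← MonoidHom.range_eq_top, eq_top_iff, ← XS_d4Z]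
    exact XS_le fun r _ t => ⟨_, chevD4.scLift_scGen _ r t⟩
  have hker : (chevD4.scProj F).ker ≤ ψ.ker := by
    rw [ker_scProj]
    intro z hz
    have : ψ z ∈ Subgroup.center _ := Subgroup.mem_center_iff.2 fun g => by
      obtain ⟨g, rfl⟩ := hsurj g
      rw [← map_mul, ← map_mul, Subgroup.mem_center_iff.1 hz]
    rwa [Group.IsPerfect.center_quotient_center_eq_bot] at this
  let α := (chevD4.scProj F).liftOfSurjective (chevD4.scProj_surjective F) ⟨ψ, hker⟩
  have hα : ∀ g, α (chevD4.scProj F g) = ψ g := fun g =>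
    MonoidHom.liftOfRightInverse_comp_apply _ _ _ _ _
  have hs : Function.Surjective α := fun y => (hsurj y).elim fun g hg => ⟨_, (hα g).trans hg⟩
  have := (Cfsg.Agent.S1054.result (F := F) chevD4 (by simp)).1
  refine ⟨MulEquiv.ofBijective α ⟨?_, hs⟩, fun r t => ?_⟩
  · rw [← MonoidHom.ker_eq_bot_iff]
    refine (IsSimpleGroup.eq_bot_or_eq_top_of_normal α.ker inferInstance).resolve_right fun h => ?_
    have h1 : ∀ y : commutator (OG (quad_plus 4 F)), y ∈ Subgroup.center _ := fun y => by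
      obtain ⟨g, hg⟩ := hs (QuotientGroup.mk y)
      rw [← QuotientGroup.eq_one_iff, ← hg]
      exact h.ge (Subgroup.mem_top g)
    have h2 := Subgroup.mem_center_iff.1 (h1 (d4Z F ⟨18, by decide⟩ 1)) (d4Z F ⟨14, by decide⟩ 1)
    have h3 := congrArg (fun g : commutator (OG (quad_plus 4 F)) => g.1.1 (oB F (.inl 2)) (.inl 0)) h2
    simp [d4Z, d4Y, d4A, d4C, d4E, oEE_app (m := 4) (i := .inl 1) (j := .inr 2) (by decide),
      oEE_app (m := 4) (i := .inl 0) (j := .inr 1) (by decide), oB] at h3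
  · have h4 := hα (chevD4.scGen F r t)
    rw [scProj_scGen, hψ] at h4
    exact h4

theorem nonempty_d4_equiv_pomega :
    Nonempty (chevD4.group F ≃* POmega F (quadFormPlus 4 F)) :=
  exists_d4_equiv.elim fun e _ => ⟨e.trans (pomegaEquivOG (quad_plus 4 F)).symm⟩

end D4

end Cfsg.Agent.Cl
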