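/-
Elements of `A₇` and `M₁₁` used for their five-dimensional representations.
-/
import Mathlib
import Cfsg.Agent.Cl.D3ModB
import Cfsg.Agent.S0420
import Cfsg.Agent.S1603
import Cfsg.Agent.Spor.Dodecad

set_option autoImplicit false

namespace Cfsg.Agent.Cl.D5.LB

open Equiv Equiv.Perm

/-- An even permutation of degree seven is real or has order seven. -/
def R7 (σ : Perm (Fin 7)) : Prop :=
  σ ^ 7 = 1 ∨ ∃ h : Perm (Fin 7), sign h = 1 ∧ h * σ * h⁻¹ = σ⁻¹

theorem R7.of_type {ρ σ : Perm (Fin 7)} (h : R7 ρ) (e : ρ.cycleType = σ.cycleType) : R7 σ := by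
  obtain ⟨c, rfl⟩ := isConj_iff.1 (isConj_iff_cycleType_eq.2 e)
  have hs : ∀ h : Perm (Fin 7), sign h = 1 → sign (c * h * c⁻¹) = 1 := fun h e => by
    rw [map_mul, map_mul, e, mul_one, ← map_mul, mul_inv_cancel, map_one]
  simp only [R7, conj_pow, conj_eq_one_iff]
  rcases h with h1 | ⟨h, h2, h3⟩
  · exact Or.inl h1
  · exact Or.inr ⟨c * h * c⁻¹, hs h h2, by rw [conj_inv, conj_inv, ← h3]; group⟩

theorem r7 {σ : Perm (Fin 7)} (h : sign σ = 1) : R7 σ := by
  rw [sign_of_cycleType, neg_one_pow_eq_one_iff_even (by decide)] at h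
  rcases D3.ModB.types7 _ (fun _ => two_le_of_mem_cycleType) (by simpa using σ.sum_cycleType_le)
    h with h | h | h | h | h | h | h | h
  · exact R7.of_type (ρ := 1) (Or.inl (one_pow _)) (by rw [h, cycleType_one])
  · exact R7.of_type (ρ := c[0, 1, 2]) (Or.inr ⟨swap 0 1 * swap 3 4, by simp, by decide⟩)
      (by rw [h]; decide +kernel)
  · exact R7.of_type (ρ := c[0, 1, 2, 3, 4]) (Or.inr ⟨swap 1 4 * swap 2 3, by simp,
      by decide +kernel⟩) (by rw [h]; decide +kernel)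
  · exact R7.of_type (ρ := c[0, 1, 2, 3, 4, 5, 6]) (Or.inl (by decide +kernel))
      (by rw [h]; decide +kernel)
  · exact R7.of_type (ρ := c[0, 1] * c[2, 3]) (Or.inr ⟨1, by simp, by decide +kernel⟩)
      (by rw [h]; decide +kernel)
  · exact R7.of_type (ρ := c[0, 1, 2, 3] * c[4, 5]) (Or.inr ⟨swap 1 3 * swap 4 5, by simp,
      by decide +kernel⟩) (by rw [h]; decide +kernel)
  · exact R7.of_type (ρ := c[0, 1, 2] * c[3, 4, 5]) (Or.inr ⟨swap 0 1 * swap 3 4, by simp,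
      by decide +kernel⟩) (by rw [h]; decide +kernel)
  · exact R7.of_type (ρ := c[0, 1, 2] * c[3, 4] * c[5, 6]) (Or.inr ⟨swap 0 1 * swap 3 4, by simp,
      by decide +kernel⟩) (by rw [h]; decide +kernel)

theorem alt7_real (g : alternatingGroup (Fin 7)) : g ^ 7 = 1 ∨ IsConj g g⁻¹ := by
  rcases r7 (mem_alternatingGroup.1 g.2) with h | ⟨h, h1, h2⟩
  · exact Or.inl (Subtype.ext h)
  · exact Or.inr (isConj_iff.2 ⟨⟨h, mem_alternatingGroup.2 h1⟩, Subtype.ext h2⟩)

/-- `A₇` is a `(2,5,7)`-group. -/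
theorem alt7_gen : ∃ t y a b : alternatingGroup (Fin 7), t * t = 1 ∧ y ^ 5 = 1 ∧
    ((t * y)⁻¹) ^ 7 = 1 ∧ a * y * a⁻¹ = y ^ 2 ∧ b * (t * y)⁻¹ * b⁻¹ = ((t * y)⁻¹) ^ 2 ∧
    Subgroup.closure {t, y} = ⊤ := by
  let t : alternatingGroup (Fin 7) := ⟨swap 0 5 * swap 2 6, mem_alternatingGroup.2 (by simp)⟩
  let y : alternatingGroup (Fin 7) :=
    ⟨c[0, 1, 2, 3, 4], mem_alternatingGroup.2 (by decide +kernel)⟩
  refine ⟨t, y, ⟨c[1, 2, 4, 3] * c[5, 6], mem_alternatingGroup.2 (by decide +kernel)⟩,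
    ⟨c[1, 6, 3] * c[2, 5, 4], mem_alternatingGroup.2 (by decide +kernel)⟩,
    Subtype.ext (by decide +kernel), Subtype.ext (by decide +kernel),
    Subtype.ext (by decide +kernel), Subtype.ext (by decide +kernel),
    Subtype.ext (by decide +kernel), ?_⟩
  set H := Subgroup.closure ({t, y} : Set (alternatingGroup (Fin 7)))
  have ht : t ∈ H := Subgroup.subset_closure (by simp)
  have hy : y ∈ H := Subgroup.subset_closure (by simp)
  let K := H.map (alternatingGroup (Fin 7)).subtype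
  have hx : ((t * y : alternatingGroup (Fin 7)) : Perm (Fin 7)) ∈ K := ⟨_, H.mul_mem ht hy, rfl⟩
  have h1 : MulAction.IsPretransitive K (Fin 7) := by
    have h2 : ∀ i : Fin 7, ∃ n : Fin 7,
        (((t * y : alternatingGroup (Fin 7)) : Perm (Fin 7)) ^ (n : ℕ)) 0 = i := by decide +kernel
    refine ⟨fun i j => ?_⟩
    obtain ⟨m, rfl⟩ := h2 i
    obtain ⟨n, rfl⟩ := h2 j
    refine ⟨⟨_, K.pow_mem hx n⟩ * (⟨_, K.pow_mem hx m⟩)⁻¹, ?_⟩
    rw [mul_smul]
    change (⟨_, K.pow_mem hx n⟩ : K) • (⟨_, K.pow_mem hx m⟩ : K)⁻¹ •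
      (⟨_, K.pow_mem hx m⟩ : K) • (0 : Fin 7) = _
    rw [inv_smul_smul]; rfl
  have h3 : MulAction.IsPreprimitive K (Fin 7) :=
    MulAction.IsPreprimitive.of_prime_card (by simp; norm_num)
  have h4 : alternatingGroup (Fin 7) ≤ K :=
    alternatingGroup_le_of_isPreprimitive_of_isThreeCycle_mem h3
      (g := ((t * y * (t * y) * t * y⁻¹ : alternatingGroup (Fin 7)) : Perm (Fin 7)))
      (card_support_eq_three_iff.1 (by decide +kernel))
      ⟨_, H.mul_mem (H.mul_mem (H.mul_mem (H.mul_mem ht hy) (H.mul_mem ht hy)) ht)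
        (H.inv_mem hy), rfl⟩
  rw [eq_top_iff]
  intro g _
  obtain ⟨h, hh, e⟩ := h4 g.2
  rwa [← show h = g from Subtype.ext e]

open Cfsg.Agent.Spor Cfsg.Spor Pointwise in
theorem mem_m11 {c : ℕ} (h : MB.inM24 c = true ∧ MB.isPerm c = true ∧
    MB.act c 340831 = 340831 ∧ MB.ap c (MB.ix (some 0)) = MB.ix (some 0)) : MB.toPerm c ∈ M11 := by
  refine ⟨⟨MB.toPerm_mem h.1, ?_⟩, ?_⟩
  · change _ ∈ MulAction.stabilizer _ _
    rw [MulAction.mem_stabilizer_iff, Dod.squareDodecad_eq, MB.smul_unmask_eq_iff (by norm_num),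
      MB.code_toPerm h.2.1, h.2.2.1]
  · exact MB.ix_injective (by
      rw [Equiv.Perm.smul_def, ← MB.ap_code_ix, MB.code_toPerm h.2.1]; exact h.2.2.2)

variable {G : Type*} [Group G] [Finite G]

open Cfsg.Agent.Spor in
theorem m11_iso (h : IsM11 G) : Nonempty (G ≃* Cfsg.Spor.M11) :=
  ⟨(S0420.result h _ Dod.squareDodecad_mem _ Dod.zero_mem_squareDodecad).some.trans Dod.M11Equiv⟩

open Cfsg.Agent.Spor in
theorem m11_nine (h : IsM11 G) : ∃ a b g : G, a ^ 3 = 1 ∧ b ^ 3 = 1 ∧ a * b = b * a ∧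
    g * a * g⁻¹ = b ∧ g * b * g⁻¹ = a * b ∧ a ≠ 1 := by
  obtain ⟨e⟩ := m11_iso h
  let a : Cfsg.Spor.M11 :=
    ⟨_, mem_m11 (c := 859796343859408413156261659387798784) (by decide +kernel)⟩
  let b : Cfsg.Spor.M11 :=
    ⟨_, mem_m11 (c := 975326059238986764913914159527178656) (by decide +kernel)⟩
  let g : Cfsg.Spor.M11 :=
    ⟨_, mem_m11 (c := 607804648910782105110174749572767808) (by decide +kernel)⟩
  have ea : MB.code (a : MB.PG) = 859796343859408413156261659387798784 :=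
    MB.code_toPerm (by decide +kernel)
  have eb : MB.code (b : MB.PG) = 975326059238986764913914159527178656 :=
    MB.code_toPerm (by decide +kernel)
  have eg : MB.code (g : MB.PG) = 607804648910782105110174749572767808 :=
    MB.code_toPerm (by decide +kernel)
  refine ⟨e.symm a, e.symm b, e.symm g, ?_, ?_, ?_, ?_, ?_, ?_⟩
  · rw [← map_pow, map_eq_one_iff _ e.symm.injective]
    exact Subtype.ext (MB.eq_one_iff_code.2 (by
      rw [SubgroupClass.coe_pow, MB.code_pow, ea]; decide +kernel))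
  · rw [← map_pow, map_eq_one_iff _ e.symm.injective]
    exact Subtype.ext (MB.eq_one_iff_code.2 (by
      rw [SubgroupClass.coe_pow, MB.code_pow, eb]; decide +kernel))
  · rw [← map_mul, ← map_mul]
    refine congrArg _ (Subtype.ext (MB.code_injective ?_))
    simp only [Subgroup.coe_mul, MB.code_mul, ea, eb]; decide +kernel
  · rw [mul_inv_eq_iff_eq_mul, ← map_mul, ← map_mul]
    refine congrArg _ (Subtype.ext (MB.code_injective ?_))
    simp only [Subgroup.coe_mul, MB.code_mul, ea, eb, eg]; decide +kernel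
  · rw [mul_inv_eq_iff_eq_mul, ← map_mul, ← map_mul, ← map_mul]
    refine congrArg _ (Subtype.ext (MB.code_injective ?_))
    simp only [Subgroup.coe_mul, MB.code_mul, ea, eb, eg]; decide +kernel
  · rw [Ne, map_eq_one_iff _ e.symm.injective]
    intro h1
    have h2 := MB.eq_one_iff_code.1 (congrArg Subtype.val h1)
    rw [ea] at h2
    exact absurd h2 (by decide +kernel)

theorem gl23_aux : ∀ a b c d : ZMod 3, a * d - b * c ≠ 0 → ∃ x y z w : ZMod 3, x * w - y * z ≠ 0 ∧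
    !![x, y; z, w] * !![a, b; c, d] ^ 3 = !![a, b; c, d] ^ 9 * !![x, y; z, w] := by
  decide +kernel

theorem gl23 (g : GL (Fin 2) (ZMod 3)) : IsConj (g ^ 3) (g ^ 9) := by
  have h0 : (g : Matrix (Fin 2) (Fin 2) (ZMod 3)) = !![g 0 0, g 0 1; g 1 0, g 1 1] :=
    Matrix.eta_fin_two _
  obtain ⟨x, y, z, w, h1, h2⟩ := gl23_aux (g 0 0) (g 0 1) (g 1 0) (g 1 1) (by
    rw [← Matrix.det_fin_two]; exact g.det_ne_zero)
  refine isConj_iff.2 ⟨Matrix.GeneralLinearGroup.mkOfDetNeZero !![x, y; z, w]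
    (by rwa [Matrix.det_fin_two_of]), ?_⟩
  rw [mul_inv_eq_iff_eq_mul]
  ext1
  rw [Units.val_mul, Units.val_mul, Units.val_pow_eq_pow_val, Units.val_pow_eq_pow_val, h0]
  exact h2

omit [Finite G] in
theorem isConj_pow_pow {x : G} {k : ℕ} (h : IsConj x (x ^ k)) (j : ℕ) : IsConj x (x ^ k ^ j) := by
  induction j with
  | zero => rw [pow_zero, pow_one]
  | succ j ih =>
    refine ih.trans ?_
    have := h.pow (k ^ j)
    rwa [← pow_mul, ← pow_succ'] at this

omit [Finite G] in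
theorem cube_of_four {l : ℕ} {x : G} (hl : l = 5 ∨ l = 11) (h : D3.Four l x) :
    IsConj x (x ^ 3) := by
  obtain ⟨hx, S, hS, h⟩ := h
  have h1 : ∃ k ∈ S, k ∉ ({0, 1, l - 1} : Finset ℕ) := by
    by_contra h2
    push Not at h2
    have := (Finset.card_le_card h2).trans Finset.card_le_three
    omega
  obtain ⟨k, hk, h2⟩ := h1
  obtain ⟨h3, h4⟩ := h k hk
  have h5 : ∃ j < 10, k ^ j % l = 3 := by
    simp only [Finset.mem_insert, Finset.mem_singleton, not_or] at h2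
    rcases hl with rfl | rfl <;> interval_cases k <;> first | decide | omega
  obtain ⟨j, -, h6⟩ := h5
  rw [← h6, ← hx, pow_mod_orderOf]
  exact isConj_pow_pow h4 j

theorem m11_cube (h : IsM11 G) (g : G) : g ^ 9 = 1 ∨ IsConj (g ^ 3) (g ^ 9) := by
  obtain ⟨hs, hG⟩ := h
  have hpos := orderOf_pos g
  have key : ∀ l : ℕ, l = 5 ∨ l = 11 → l ∣ orderOf g →
      (∀ x : G, orderOf x = l → Inv.Exc.SC (Subgroup.zpowers x) ∧ ∃ e, 4 ≤ e ∧
        Nat.card (Subgroup.normalizer (Subgroup.zpowers x : Set G)) = l * e) →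
      IsConj (g ^ 3) (g ^ 9) := by
    intro l hl hd hx
    have hlp : l.Prime := by rcases hl with rfl | rfl <;> norm_num
    have h1 : orderOf (g ^ (orderOf g / l)) = l := orderOf_pow_orderOf_div hpos.ne' hd
    have h2 : g ^ (orderOf g / l) ≠ 1 := fun e => by
      rw [e, orderOf_one] at h1; exact hlp.one_lt.ne h1
    have h3 : g ∈ Subgroup.zpowers (g ^ (orderOf g / l)) := by
      rw [← (hx _ h1).1 _ (Subgroup.mem_zpowers _) h2, Subgroup.mem_centralizer_singleton_iff]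
      exact (Commute.self_pow g _).eq
    have h4 : orderOf g = l := Nat.dvd_antisymm (h1 ▸ orderOf_dvd_of_mem_zpowers h3) hd
    obtain ⟨c1, e, he, n1⟩ := hx g h4
    have := (cube_of_four hl (D3.ModB.four_of_normalizer h4 (c1 g (Subgroup.mem_zpowers g)
      (by rintro rfl; rw [orderOf_one] at h4; exact hlp.one_lt.ne h4)) he n1)).pow 3
    rwa [← pow_mul] at this
  by_cases h2 : 2 ∣ orderOf g
  · right
    obtain ⟨e⟩ := S0420.result ⟨hs, hG⟩ _ Spor.Dod.squareDodecad_mem _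
      Spor.Dod.zero_mem_squareDodecad
    have h1 : orderOf (e (g ^ (orderOf g / 2))) = 2 := by
      rw [MulEquiv.orderOf_eq]; exact orderOf_pow_orderOf_div hpos.ne' h2
    obtain ⟨f⟩ := S1603.result _ Spor.Dod.squareDodecad_mem _ Spor.Dod.zero_mem_squareDodecad _ h1
    have h3 : e g ∈ Subgroup.centralizer {e (g ^ (orderOf g / 2))} := by
      rw [Subgroup.mem_centralizer_singleton_iff, ← map_mul, ← map_mul, (Commute.self_pow g _).eq]
    have h4 := (e.symm.toMonoidHom.comp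
      ((Subgroup.subtype _).comp f.symm.toMonoidHom)).map_isConj (gl23 (f ⟨_, h3⟩))
    simpa using h4
  by_cases h5 : 5 ∣ orderOf g
  · obtain ⟨a, χ, θ, θ', h1⟩ := Inv.M11.exists_stage1 hG
    exact Or.inr (key 5 (Or.inl rfl) h5 fun x hx =>
      ⟨(Inv.M11.five hG (h1.deg_a 0) hx).1, 4, le_rfl, (Inv.M11.five hG (h1.deg_a 0) hx).2⟩)
  by_cases h11 : 11 ∣ orderOf g
  · exact Or.inr (key 11 (Or.inr rfl) h11 fun x hx =>
      ⟨(Inv.M11.eleven hG hx).1, 5, by norm_num, (Inv.M11.eleven hG hx).2⟩)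
  left
  have h6 : orderOf g ∣ 2 ^ 4 * (5 * (11 * 9)) := by
    have := orderOf_dvd_natCard g
    rwa [hG] at this
  rw [← orderOf_dvd_iff_pow_eq_one]
  exact ((Nat.Prime.coprime_iff_not_dvd (by norm_num)).2 h11).symm.dvd_of_dvd_mul_left
    (((Nat.Prime.coprime_iff_not_dvd (by norm_num)).2 h5).symm.dvd_of_dvd_mul_left
      ((((Nat.Prime.coprime_iff_not_dvd (by norm_num)).2 h2).symm.pow_right 4).dvd_of_dvd_mul_left
        h6))

end Cfsg.Agent.Cl.D5.LB
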