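import Mathlib
import Cfsg.Agent.Cl.EichSL
import Cfsg.Agent.Cl.EichClass
import Cfsg.Agent.S2222

/-!
# Overgroups of Sylow subgroups in the defining characteristic are pronormal
-/

set_option autoImplicit false

namespace Cfsg.Agent.Cl.Pro

open Cfsg.Agent.Chev Cfsg.Agent.Chev.RootBN Cfsg.Agent.FG.PN Cfsg.Agent.GT

/-- Every subgroup of index prime to `p` is pronormal. -/
def AllPro (p : ℕ) (G : Type*) [Group G] : Prop :=
  ∀ H : Subgroup G, ¬ p ∣ H.index → IsPronormal H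

theorem AllPro.map {p : ℕ} {G G' : Type*} [Group G] [Group G'] (h : AllPro p G) (f : G →* G')
    (hf : Function.Surjective f) : AllPro p G' := fun H hH => by
  rw [← Subgroup.map_comap_eq_self_of_surjective hf H]
  exact isPronormal_map (h _ (by rwa [Subgroup.index_comap_of_surjective _ hf])) hf

theorem allPro_of_sylow {p : ℕ} [Fact p.Prime] {G : Type*} [Group G] [Finite G] (P : Sylow p G)
    (h : ∀ H : Subgroup G, P.1 ≤ H → ∀ g ∈ Subgroup.normalizer (P.1 : Set G), ProAt H g) :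
    AllPro p G := fun H hH => by
  obtain ⟨Q, hQ⟩ := S2222.exists_sylow_le hH
  obtain ⟨c, rfl⟩ := MulAction.exists_smul_eq G P Q
  refine isPronormal_of_map_conj (c := c⁻¹) (isPronormal_of_normalizer ?_ (isPronormal_sylow P) ?_)
  · exact map_conj_le_iff.1 hQ
  · exact h _ (map_conj_le_iff.1 hQ)

section BN

variable {Γ : Type*} [Group Γ] {Φ I : Type*} {R : RootBN Γ Φ I} [Finite Φ]

theorem conj_mem_of_U_le (hc : ∀ a ∈ R.H, ∀ b ∈ R.H, a * b = b * a) {M : Subgroup Γ}
    (hU : R.U ≤ M) (hG : M ≤ R.G) {h : Γ} (hh : h ∈ R.H) {m : Γ} (hm : m ∈ M) :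
    h * m * h⁻¹ ∈ M := by
  let K : Subgroup Γ :=
    { carrier := {n | n ∈ R.N ∧ ∀ h ∈ R.H, n * h * n⁻¹ * h⁻¹ ∈ M}
      one_mem' := ⟨R.N.one_mem, fun h _ => by simp⟩
      mul_mem' := by
        rintro a b ⟨ha, ha'⟩ ⟨hb, hb'⟩
        refine ⟨R.N.mul_mem ha hb, fun h hh => ?_⟩
        have := M.mul_mem (ha' _ (conj_H hb hh)) (hb' h hh)
        convert this using 1
        group
      inv_mem' := by
        rintro a ⟨ha, ha'⟩
        refine ⟨R.N.inv_mem ha, fun h hh => ?_⟩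
        have := M.inv_mem (ha' _ (conj_H (R.N.inv_mem ha) hh))
        convert this using 1
        group }
  have hK : R.NS (R.nodes M) ≤ K := by
    refine sup_le ((Subgroup.closure_le _).2 ?_) fun a ha => ⟨R.H_le_N ha, fun b hb => by
      rw [hc a ha b hb]; simp⟩
    rintro _ ⟨i, hi, rfl⟩
    refine ⟨R.s_mem i, fun b hb => ?_⟩
    obtain ⟨x, hx, hx1⟩ := exists_mem_X_ne_one (R := R) (R.simple i)
    obtain ⟨a, ha, h₀, hh₀, c, hc', e⟩ := R.rank_one i hx hx1
    let S : Set Φ := {R.simple i, R.neg (R.simple i)}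
    have hLM : R.XS S ≤ M := by
      refine XS_le (R := R) (S := S) fun r hr => ?_
      rcases hr with hr | hr
      · rw [hr]; exact (X_le_U (R.pos_simple i)).trans hU
      · rw [Set.mem_singleton_iff.1 hr]
        exact X_le_of_supp_subset_nodes hU (by
          rw [R.supp_neg, R.supp_simple]; exact Set.singleton_subset_iff.2 hi)
    have h1 : R.X (R.simple i) ≤ R.XS S := X_le_XS (R := R) (S := S) (.inl rfl)
    have h2 : h₀ * R.s i ∈ R.XS S := by
      have h3 : R.s i * x * (R.s i)⁻¹ ∈ R.XS S :=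
        X_le_XS (R := R) (S := S) (.inr (R.w_s_simple i)) (R.conj_X (R.s_mem i) hx)
      have := mul_mem (mul_mem (inv_mem (h1 ha)) h3) (inv_mem (h1 hc'))
      rw [e] at this
      convert this using 1
      group
    have h4 := hLM (mul_mem h2 (inv_mem (conj_H_XS hb h2)))
    have h5 := hc _ hh₀ _ (conj_H (R.s_mem i) hb)
    have : R.s i * b * (R.s i)⁻¹ * b⁻¹ =
        h₀ * (R.s i * b * (R.s i)⁻¹) * h₀⁻¹ * b⁻¹ := by rw [h5]; group
    rw [this]
    convert h4 using 1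
    group
  obtain ⟨u, hu, n, hn, u', hu', rfl⟩ := bruhat (hG hm)
  have hnM : n ∈ M := by
    simpa [mul_assoc] using mul_mem (mul_mem (inv_mem (hU hu)) hm) (inv_mem (hU hu'))
  have h1 := M.mul_mem (M.inv_mem ((hK (mem_NS_nodes hU hn hnM)).2 h hh)) hnM
  have := M.mul_mem (M.mul_mem (hU (conj_H_U hh hu)) h1) (hU (conj_H_U hh hu'))
  convert this using 1
  group

theorem allPro_of_rootBN [Finite Γ] {p : ℕ} [Fact p.Prime] (hG : R.G = ⊤) (hU : IsPGroup p R.U)
    (hH : ∀ h ∈ R.H, h ^ p = 1 → h = 1) (hc : ∀ a ∈ R.H, ∀ b ∈ R.H, a * b = b * a) :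
    AllPro p Γ := by
  let P : Sylow p Γ := ⟨R.U, hU, fun hY h => eq_U_of_le hH hY h (hG ▸ le_top)⟩
  refine allPro_of_sylow P fun M hM g hg => ProAt.of_mem_normalizer ?_
  obtain ⟨u, hu, h, hh, rfl⟩ := mem_B.1 (mem_B_of_conj_U (R := R) (g := g) (hG ▸ trivial)
    fun u hu => (hg u).1 hu)
  exact Subgroup.mul_mem _ (Subgroup.le_normalizer (hM hu))
    (Subgroup.mem_normalizer_fintype fun m hm => conj_mem_of_U_le hc hM (hG ▸ le_top) hh hm)

end BN

open Cfsg.Agent.Ch Cfsg.Agent.Cl.EB Module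

variable {K : Type*} [Field K] [Finite K] {p : ℕ} [hp : Fact p.Prime] [CharP K p]

theorem allPro_sl (m : ℕ) : AllPro p (Matrix.SpecialLinearGroup (Fin (m + 1)) K) := by
  have h := CT.isStrong_xA (K := K) (m := m)
  exact allPro_of_rootBN (R := h.rootBN) XS_xA_univ (CT.isPGroup_UU h.toIsModel)
    (fun _ => CT.eq_one_of_mem_HH h.toIsSt) fun _ ha _ hb => h.toIsSt.HH_comm hmul_xA ha hb

theorem allPro_su {n : ℕ} (hn : Even n) {q : ℕ} (hq : Nat.card K = q ^ 2) :
    AllPro p (SU n K q) := by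
  obtain ⟨σ, hσ⟩ := u_exists_conj hq
  have h : UField σ q := ⟨hq, hσ⟩
  have hB := h.invol.isHerm_uStd (Fin n)
  obtain ⟨f⟩ := bakU_exists_frame hB
  have := (bakU hB).finite_EG
  have h1 := bakU_finrank_V0 f
  have h2 := f.finrank_eq
  have h0 : f.V0 = ⊥ := by
    rw [← Submodule.finrank_eq_zero]
    simp only [Module.finrank_fin_fun, Fintype.card_fin] at h2
    obtain ⟨k, hk⟩ := hn
    omega
  have hm : IsD f → finrank K (Fin n → K) / 2 ≠ 1 := fun d => absurd d (not_isD_bakU f)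
  let e := (MulEquiv.subgroupCongr (bakU_EG' hB h)).trans (h.suEquiv n).symm
  refine (allPro_of_rootBN (R := rootBN hm) rfl (isPGroup_U hm p)
    (fun _ => eq_one_of_mem_HH_of_le h1) fun a ha b hb => ?_).map e.toMonoidHom e.surjective
  refine Subtype.ext (LinearEquiv.ext fun x => ?_)
  have hx := f.sub_sum_mem_V0 x
  rw [h0, Submodule.mem_bot, sub_eq_zero] at hx
  rw [hx, map_sum, map_sum]
  refine Finset.sum_congr rfl fun i _ => ?_
  obtain ⟨c, hc⟩ := mem_HH.1 ha i
  obtain ⟨d, hd⟩ := mem_HH.1 hb i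
  simp only [map_smul, Subgroup.coe_mul, LinearEquiv.mul_apply, hc, hd]
  rw [smul_comm c d]

end Cfsg.Agent.Cl.Pro
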