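import Mathlib
import Cfsg.Agent.Cl.ProChar
import Cfsg.Agent.Cl.PSL2Solv

/-!
# Subgroups of odd index of `PSL₂(q)`, `q ≡ ±3 (mod 8)`, are pronormal
-/

set_option autoImplicit false

namespace Cfsg.Agent.Cl.Pro

open Cfsg.Agent.FG.PN Cfsg.Agent.GT Cfsg.Agent.Cl.L2 MulAction
open scoped MatrixGroups

theorem mem_sylow_of_pow {G : Type*} [Group G] {p : ℕ} [Fact p.Prime] (P : Sylow p G) {y : G}
    (hy : y ∈ Subgroup.normalizer (P.1 : Set G)) {k : ℕ} (h : y ^ p ^ k = 1) : y ∈ P.1 := by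
  have h1 : IsPGroup p (Subgroup.zpowers y) := by
    rintro ⟨_, i, rfl⟩
    refine ⟨k, Subtype.ext ?_⟩
    change (y ^ i) ^ p ^ k = 1
    rw [← zpow_natCast, ← zpow_mul, mul_comm, zpow_mul, zpow_natCast, h, one_zpow]
  exact ((h1.inf_normalizer_sylow P).le ⟨Subgroup.mem_zpowers y, hy⟩).2

section Klein

variable {G : Type*} [Group G] {P : Subgroup G} (hP : IsKleinFour P)
include hP

theorem klein_sq {a : G} (ha : a ∈ P) : a * a = 1 :=
  congrArg Subtype.val (IsKleinFour.mul_self (⟨a, ha⟩ : P))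

theorem klein_order {a : G} (ha : a ∈ P) (h1 : a ≠ 1) : orderOf a = 2 :=
  orderOf_eq_prime (by rw [pow_two, klein_sq hP ha]) h1

theorem klein_eq {a b c : G} (ha : a ∈ P) (hb : b ∈ P) (hc : c ∈ P) (h1 : a ≠ 1) (h2 : b ≠ 1)
    (h3 : a ≠ b) (h4 : c ≠ 1) (h5 : c ≠ a) (h6 : c ≠ b) : c = a * b :=
  congrArg Subtype.val (IsKleinFour.eq_mul_of_ne_all (x := (⟨a, ha⟩ : P)) (y := ⟨b, hb⟩)
    (z := ⟨c, hc⟩) (by simpa using h1) (by simpa using h2) (by simpa using h3) (by simpa using h4)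
    (by simpa using h5) (by simpa using h6))

theorem klein_comm {a b : G} (ha : a ∈ P) (hb : b ∈ P) : a * b = b * a :=
  congrArg Subtype.val (hP.isMulCommutative.1.1 (⟨a, ha⟩ : P) ⟨b, hb⟩)

theorem klein_exists : ∃ a ∈ P, ∃ b ∈ P, a ≠ 1 ∧ b ≠ 1 ∧ a * b ≠ 1 := by
  have : Finite P := Nat.finite_of_card_ne_zero (by rw [hP.card_four]; norm_num)
  have : Nontrivial P := Finite.one_lt_card_iff_nontrivial.1 (by rw [hP.card_four]; norm_num)
  obtain ⟨a, ha⟩ := exists_ne (1 : P)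
  obtain ⟨b, hb⟩ : ∃ b : P, b ∉ Subgroup.zpowers a := by
    by_contra h
    push Not at h
    exact hP.not_isCyclic ⟨a, h⟩
  refine ⟨a, a.2, b, b.2, by simpa using ha, fun h => hb ?_, fun h => hb ?_⟩
  · rw [show b = 1 from Subtype.ext h]; exact Subgroup.one_mem _
  · rw [show b = a⁻¹ from eq_inv_of_mul_eq_one_right (Subtype.ext h)]
    exact Subgroup.inv_mem _ (Subgroup.mem_zpowers a)

end Klein

variable {F : Type*} [Field F] [Finite F]

theorem mem_of_commute (h2 : (2 : F) ≠ 0) (P : Sylow 2 PSL(2, F)) (hP : IsKleinFour P.1)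
    {a y : PSL(2, F)} (ha : a ∈ P.1) (h1 : a ≠ 1) (hy : y ∈ Subgroup.normalizer (P.1 : Set _))
    (h : y * a * y⁻¹ = a) : y ∈ P.1 := by
  have ho := klein_order hP ha h1
  have ht := tauS_ne_four_of_orderOf_two h2 ho
  have hc : ∀ z, z * a = a * z → z ∈ ntorS a := fun z hz => by
    rw [← centralizer_eq_ntorS_of_orderOf h2 ho, Subgroup.mem_centralizer_singleton_iff]; exact hz
  have hy' := hc y (mul_inv_eq_iff_eq_mul.1 h)
  by_cases hyt : y ∈ torS a
  · obtain ⟨b, hb, hb'⟩ : ∃ b ∈ P.1, b ∉ torS a := by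
      by_contra h
      push Not at h
      exact hP.not_isCyclic (isCyclic_of_le_torS ht h)
    have h3 := conj_eq_inv_of_mem_ntorS ht (hc b (klein_comm hP hb ha)) hb' (Subgroup.inv_mem _ hyt)
    have h4 : y * y ∈ P.1 := by
      have := P.1.mul_mem ((hy b).1 hb) (P.1.inv_mem hb)
      rwa [mul_assoc y, mul_assoc y, h3, inv_inv] at this
    exact mem_sylow_of_pow P hy (k := 2) (by
      rw [show 2 ^ 2 = 2 * 2 from rfl, pow_mul, pow_two, pow_two, klein_sq hP h4])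
  · exact mem_sylow_of_pow P hy (k := 1) (by
      rw [pow_one, pow_two, mul_self_of_mem_ntorS ht hy' hyt])

omit [Finite F] in
theorem not_klein_le_stabilizer (h2 : (2 : F) ≠ 0) {P : Subgroup PSL(2, F)} (hP : IsKleinFour P)
    (x : P1 F) : ¬ P ≤ stabilizer PSL(2, F) x := fun h => by
  obtain ⟨a, ha, b, hb, h1, h3, h4⟩ := klein_exists hP
  obtain ⟨c, rfl⟩ := exists_smul_eq PGL(2, F) (inf : P1 F) x
  have key : ∀ g ∈ P, g ≠ 1 → ∃ t, emb g = c * aff (-1) t * c⁻¹ := fun g hg hg1 => by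
    obtain ⟨s, t, hs, e⟩ := exists_conj_aff (g := emb g) (c := c) ((emb_smul g _).trans (h hg))
    have := tauS_of_orderOf_two (klein_order hP hg hg1)
    rw [e, tau_conj, tau_aff hs, div_eq_zero_iff, pow_eq_zero_iff two_ne_zero] at this
    obtain rfl : s = -1 := eq_neg_of_add_eq_zero_left (this.resolve_right hs)
    exact ⟨t, e⟩
  obtain ⟨s, hs⟩ := key a ha h1
  obtain ⟨t, ht⟩ := key b hb h3
  have := tauS_ne_four_of_orderOf_two h2 (klein_order hP (P.mul_mem ha hb) h4)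
  rw [map_mul, hs, ht, conj_mul, tau_conj, aff_mul (by simp) (by simp),
    Ne, tau_aff_eq_four (by simp)] at this
  simp at this

theorem exists_le_ntorS (h2 : (2 : F) ≠ 0) {P K L : Subgroup PSL(2, F)} (hP : IsKleinFour P)
    (hPL : P ≤ L) (hK : Odd (Nat.card K)) (h1 : K ≠ ⊥)
    (hL : L ≤ Subgroup.normalizer (K : Set PSL(2, F))) :
    ∃ t, tau (emb t) ≠ 4 ∧ L ≤ ntorS t := by
  have hord : ∀ g ∈ K, orderOf g ≠ 2 := fun g hg h => by
    have := K.orderOf_dvd_natCard hg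
    rw [h] at this
    exact Nat.not_even_iff_odd.2 hK (even_iff_two_dvd.2 this)
  have hev : ∀ {X : Type} [Group X], K ≃* X → Even (Nat.card X) → False := fun e h =>
    Nat.not_even_iff_odd.2 hK (by rwa [Nat.card_congr e.toEquiv])
  have hA4 : Even (Nat.card (alternatingGroup (Fin 4))) := by
    rw [nat_card_alternatingGroup]; simp [Nat.factorial]; decide
  have hA5 : Even (Nat.card (alternatingGroup (Fin 5))) := by
    rw [nat_card_alternatingGroup]; simp [Nat.factorial]; decide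
  have hS4 : Even (Nat.card (Equiv.Perm (Fin 4))) := by
    rw [Nat.card_perm]; simp [Nat.factorial]; decide
  obtain ⟨p, hp⟩ := CharP.exists F
  have := Fact.mk (CharP.char_is_prime F p)
  rcases dickson_psl p K with ⟨x, h⟩ | ⟨t, -, ht, h⟩ | ⟨-, ⟨⟨e⟩⟩ | ⟨⟨e⟩⟩ | ⟨⟨e⟩⟩⟩ | ⟨-, ⟨e⟩⟩ |
    ⟨k, c, h⟩
  · have h3 : ∀ g ∈ K, tau (emb g) = 4 → g = 1 := fun g hg ht => by
      by_contra hg1
      refine not_klein_le_stabilizer h2 hP x fun l hl => ?_
      have h4 : l * g * l⁻¹ ∈ uniS (l • x) := by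
        rw [uniS_smul]; exact ⟨g, mem_uniS.2 ⟨h hg, ht⟩, rfl⟩
      exact eq_of_mem_uniS (by simpa using hg1) h4 (h ((hL (hPL hl) g).1 hg))
    obtain ⟨⟨t, htK⟩, ht⟩ := Subgroup.ne_bot_iff_exists_ne_one.1 h1
    have ht1 : t ≠ 1 := by simpa using ht
    have ht' : tau (emb t) ≠ 4 := fun h => ht1 (h3 t htK h)
    refine ⟨t, ht', ?_⟩
    rw [← normalizer_eq_ntorS ht' (A := K) (fun g hg => ?_) h1]
    · exact hL
    rw [← centralizer_eq_torS_of_orderOf ht1 (hord t htK), Subgroup.mem_centralizer_singleton_iff,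
      ← mul_inv_eq_one, mul_inv_rev, ← mul_assoc]
    refine h3 _ (K.mul_mem (K.mul_mem (K.mul_mem hg htK) (K.inv_mem hg)) (K.inv_mem htK)) ?_
    rw [map_mul, map_mul, map_mul, map_inv, map_inv]
    exact (commutator_mem_uni ((emb_smul g x).trans (h hg)) ((emb_smul t x).trans (h htK))).2
  · refine ⟨t, ht, ?_⟩
    rw [← normalizer_eq_ntorS ht (A := K) (fun g hg => mem_torS_of_orderOf ht (h hg) (hord g hg)) h1]
    exact hL
  · exact (hev e hA4).elim
  · exact (hev e hS4).elim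
  · exact (hev e hA5).elim
  · exact (hev e hA5).elim
  · exfalso
    have hk : Nat.card k % 2 = 1 := two_ne_zero_iff_odd.1 fun h => h2 (by
      have := congrArg k.subtype h
      rwa [map_ofNat, map_zero] at this)
    have h8 : 8 ∣ Nat.card k * (Nat.card k - 1) * (Nat.card k + 1) := by
      rw [mul_assoc, mul_comm (Nat.card k - 1), ← Nat.sq_sub_sq _ 1]
      exact Dvd.dvd.mul_left (Nat.eight_dvd_sq_sub_one_of_odd (Nat.odd_iff.2 hk)) _
    rw [← Subgroup.card_map_of_injective (f := emb) emb_injective] at hK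
    obtain ⟨r, hr⟩ := hK
    rcases h with h | h
    · rw [h, ← Nat.card_congr (cjEquiv c _).toEquiv] at hr
      rw [← card_subPSL_mul, Nat.gcd_eq_left (by omega), hr] at h8
      omega
    · rw [h, ← Nat.card_congr (cjEquiv c _).toEquiv, card_subPGL] at hr
      omega

theorem allPro_psl_two (h2 : (2 : F) ≠ 0) (P : Sylow 2 PSL(2, F)) (hP : IsKleinFour P.1) :
    AllPro 2 PSL(2, F) := by
  refine allPro_of_sylow P fun H hH g hg => ?_
  by_cases hgP : g ∈ P.1
  · exact ProAt.of_mem_normalizer (Subgroup.le_normalizer (hH hgP))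
  set L := H ⊔ H.map (MulAut.conj g).toMonoidHom
  have hPL : P.1 ≤ L := hH.trans le_sup_left
  obtain ⟨a, ha, b, hb, ha1, hb1, hab⟩ := klein_exists hP
  have hne : ∀ {y z}, y ∈ Subgroup.normalizer (P.1 : Set PSL(2, F)) → y ∉ P.1 → z ∈ P.1 → z ≠ 1 →
      y * z * y⁻¹ ≠ z := fun hy hy' hz hz1 h => hy' (mem_of_commute h2 P hP hz hz1 hy h)
  by_cases hx : ∃ x ∈ L, x ∈ Subgroup.normalizer (P.1 : Set PSL(2, F)) ∧ x ∉ P.1
  · obtain ⟨x, hxL, hx, hx'⟩ := hx
    have key : ∀ y ∈ L, y ∈ Subgroup.normalizer (P.1 : Set PSL(2, F)) →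
        g * a * g⁻¹ = y * a * y⁻¹ → ProAt H g := fun y hyL hy h =>
      ProAt.of_mul hyL (ProAt.of_mem_normalizer (Subgroup.le_normalizer (hH
        (mem_of_commute h2 P hP ha ha1 (Subgroup.mul_mem _ (Subgroup.inv_mem _ hy) hg) (by
          rw [mul_inv_rev, mul_assoc, mul_assoc, ← mul_assoc a, ← mul_assoc g, ← mul_assoc g, h]
          group)))))
    by_cases h : g * a * g⁻¹ = x * a * x⁻¹
    · exact key x hxL hx h
    have hxx : x * x ∉ P.1 := fun h => hx' (mem_sylow_of_pow P hx (k := 2) (by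
      rw [show 2 ^ 2 = 2 * 2 from rfl, pow_mul, pow_two, pow_two, klein_sq hP h]))
    have h3 := (hx a).1 ha
    have h4 : x * a * x⁻¹ ≠ 1 := by simpa using ha1
    refine key (x * x) (L.mul_mem hxL hxL) (Subgroup.mul_mem _ hx hx) ?_
    rw [klein_eq hP ha h3 ((hg a).1 ha) ha1 h4 (hne hx hx' ha ha1).symm (by simpa using ha1)
      (hne hg hgP ha ha1) h, klein_eq hP ha h3 ((Subgroup.mul_mem _ hx hx a).1 ha) ha1 h4
      (hne hx hx' ha ha1).symm (fun h => ha1 (conj_eq_one_iff.1 h))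
      (hne (Subgroup.mul_mem _ hx hx) hxx ha ha1)]
    have := hne hx hx' h3 h4
    convert this using 1
    group
  push Not at hx
  suffices hHP : H ≤ P.1 from ProAt.of_mem_normalizer (by rwa [le_antisymm hHP hH])
  let Q := P.subtype hPL
  have hQ : Subgroup.normalizer (Q.1 : Set L) ≤ Subgroup.centralizer (Q.1 : Set L) := by
    intro y hy z hz
    refine Subtype.ext (klein_comm hP hz (hx _ y.2 (Subgroup.mem_normalizer_fintype fun w hw => ?_)))
    exact (hy ⟨w, hPL hw⟩).1 hw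
  have hc := MonoidHom.ker_transferSylow_isComplement' Q hQ
  by_cases hK : (MonoidHom.transferSylow Q hQ).ker = ⊥
  · intro y hy
    have := hc.sup_eq_top
    rw [hK, bot_sup_eq] at this
    exact (this.ge (Subgroup.mem_top (⟨y, Subgroup.mem_sup_left hy⟩ : L)) :)
  obtain ⟨t, ht, hLt⟩ := exists_le_ntorS h2 hP hPL (K := (MonoidHom.transferSylow Q hQ).ker.map L.subtype)
    (by
      rw [Subgroup.card_map_of_injective L.subtype_injective, ← hc.index_eq_card,
        ← Nat.not_even_iff_odd, even_iff_two_dvd]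
      exact Q.not_dvd_index)
    (by rwa [Ne, Subgroup.map_eq_bot_iff_of_injective _ L.subtype_injective])
    (fun y hy => Subgroup.mem_normalizer_fintype fun w ⟨v, hv, e⟩ =>
      ⟨_, (MonoidHom.normal_ker _).conj_mem v hv ⟨y, hy⟩, by rw [← e]; rfl⟩)
  obtain ⟨z, hz, hz1, hzt⟩ : ∃ z ∈ P.1, z ≠ 1 ∧ z ∈ torS t := by
    by_cases h1 : a ∈ torS t
    · exact ⟨a, ha, ha1, h1⟩
    by_cases h3 : b ∈ torS t
    · exact ⟨b, hb, hb1, h3⟩
    exact ⟨_, P.1.mul_mem ha hb, hab,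
      mul_mem_torS_of_not_mem ht (hLt (hPL ha)) h1 (hLt (hPL hb)) h3⟩
  rw [← ntorS_eq_of_mem (ne_one_of_tauS ht) hzt hz1,
    ← centralizer_eq_ntorS_of_orderOf h2 (klein_order hP hz hz1)] at hLt
  intro y hy
  have h1 : y * z * y⁻¹ = z := mul_inv_eq_iff_eq_mul.2
    (Subgroup.mem_centralizer_singleton_iff.1 (hLt (Subgroup.mem_sup_left hy)))
  have h3 : y * (g⁻¹ * z * g⁻¹⁻¹) * y⁻¹ = g⁻¹ * z * g⁻¹⁻¹ := by
    have : g * y * g⁻¹ * z = z * (g * y * g⁻¹) :=
      Subgroup.mem_centralizer_singleton_iff.1 (hLt (Subgroup.mem_sup_right ⟨y, hy, rfl⟩))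
    calc _ = g⁻¹ * (g * y * g⁻¹ * z) * (g * y * g⁻¹)⁻¹ * g := by group
      _ = _ := by rw [this]; group
  have h4 := (Subgroup.inv_mem _ hg z).1 hz
  have h5 := hne (Subgroup.inv_mem _ hg) (fun h => hgP (inv_mem_iff.1 h)) hz hz1
  refine mem_of_commute h2 P hP hz hz1 (Subgroup.mem_normalizer_fintype fun w hw => ?_) h1
  by_cases e1 : w = 1
  · simp [e1]
  by_cases e2 : w = z
  · rwa [e2, h1]
  by_cases e3 : w = g⁻¹ * z * g⁻¹⁻¹
  · rwa [e3, h3]
  rw [klein_eq hP hz h4 hw hz1 (fun h => hz1 (conj_eq_one_iff.1 h)) h5.symm e1 e2 e3, ← conj_mul,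
    h1, h3]
  exact P.1.mul_mem hz h4

end Cfsg.Agent.Cl.Pro
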