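import Mathlib

/-!
# Counting tools for the minimal index of classical groups

Relative indices along towers, orbit counting, the point stabiliser `pst G x` of a linear action,
`mx H x = [G_⟨x⟩ : H ∩ G_⟨x⟩]`, and annihilators of additive subgroups under a pairing.
-/

set_option autoImplicit false

namespace Cfsg.Agent.Cl.MI

open MulAction

section Group

variable {G : Type*} [Group G] [Finite G]

theorem relIndex_pos (H K : Subgroup G) : 0 < H.relIndex K :=
  Nat.pos_of_ne_zero Subgroup.index_ne_zero_of_finite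

theorem relIndex_mono (H : Subgroup G) {K L : Subgroup G} (h : K ≤ L) :
    H.relIndex K ≤ H.relIndex L :=
  Subgroup.relIndex_le_of_le_right h (relIndex_pos H L).ne'

theorem relIndex_anti {H K : Subgroup G} (L : Subgroup G) (h : H ≤ K) :
    K.relIndex L ≤ H.relIndex L :=
  Subgroup.relIndex_le_of_le_left h (relIndex_pos H L).ne'

theorem relIndex_le_index (H K : Subgroup G) : H.relIndex K ≤ H.index :=
  H.relIndex_top_right ▸ relIndex_mono H le_top

omit [Finite G] in
theorem relIndex_mul_eq {H K P : Subgroup G} (hK : K ≤ P) (hH : H ⊓ P ≤ K) :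
    H.relIndex K * K.relIndex P = H.relIndex P := by
  rw [← H.inf_relIndex_right P, ← Subgroup.relIndex_mul_relIndex _ _ _ hH hK,
    ← H.inf_relIndex_right K, ← (H ⊓ P).inf_relIndex_right K, inf_assoc, inf_eq_right.2 hK]

/-- Tower inequality. -/
theorem relIndex_mul_le {H Q K P : Subgroup G} (hQ : Q ≤ K) (hK : K ≤ P) (hH : H ⊓ P ≤ K) :
    H.relIndex Q * K.relIndex P ≤ H.relIndex P :=
  relIndex_mul_eq hK hH ▸ Nat.mul_le_mul_right _ (relIndex_mono H hQ)

/-- Tower inequality, `K` arbitrary. -/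
theorem relIndex_mul_le' {H Q K P : Subgroup G} (hQ : Q ≤ K ⊓ P) (hH : H ⊓ P ≤ K) :
    H.relIndex Q * K.relIndex P ≤ H.relIndex P :=
  K.inf_relIndex_right P ▸ relIndex_mul_le hQ inf_le_right (le_inf hH inf_le_right)

/-- If `[P : H ∩ P] < 2 [Q : H ∩ Q]` with `Q ⊴ P` then `P = Q (H ∩ P)`. -/
theorem exists_mul_mem {H Q P : Subgroup G} (hQ : Q ≤ P) (hN : P ≤ Subgroup.normalizer Q)
    (h : H.relIndex P < 2 * H.relIndex Q) {g : G} (hg : g ∈ P) : ∃ r ∈ Q, r * g ∈ H := by
  have h1 := relIndex_mul_le (H := H) (K := Q ⊔ (H ⊓ P)) le_sup_left (sup_le hQ inf_le_right)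
    le_sup_right
  have h2 := relIndex_pos (Q ⊔ (H ⊓ P)) P
  have h3 : (Q ⊔ (H ⊓ P)).relIndex P = 1 := by
    by_contra h4
    nlinarith [show 2 ≤ (Q ⊔ (H ⊓ P)).relIndex P by omega]
  have h4 : g ∈ ((Q ⊔ (H ⊓ P) : Subgroup G) : Set G) := Subgroup.relIndex_eq_one.1 h3 hg
  rw [Subgroup.coe_mul_of_right_le_normalizer_left _ _ (inf_le_right.trans hN)] at h4
  obtain ⟨r, hr, k, hk, rfl⟩ := h4
  exact ⟨r⁻¹, Q.inv_mem hr, by simpa using hk.1⟩

/-- Injective families of coset representatives bound the relative index from below. -/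
theorem card_le_relIndex {H P : Subgroup G} {α : Type*} (f : α → G) (hf : ∀ a, f a ∈ P)
    (h : ∀ a b, (f a)⁻¹ * f b ∈ H → a = b) : Nat.card α ≤ H.relIndex P :=
  Nat.card_le_card_of_injective
    (fun a => (QuotientGroup.mk ⟨f a, hf a⟩ : P ⧸ H.subgroupOf P))
    fun a b e => h a b (QuotientGroup.eq (s := H.subgroupOf P) |>.1 e)

variable {Λ : Type*} [MulAction G Λ]

omit [Finite G] in
theorem relIndex_stabilizer (K : Subgroup G) (x : Λ) :
    (stabilizer G x).relIndex K = (orbit K x).ncard := index_stabilizer K x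

omit [Finite G] in
theorem relIndex_mul_orbit {K P : Subgroup G} (h : K ≤ P) (x : Λ) :
    K.relIndex P * (orbit K x).ncard = (orbit P x).ncard * K.relIndex (stabilizer G x ⊓ P) := by
  rw [← relIndex_stabilizer, ← relIndex_stabilizer, mul_comm, ← Subgroup.inf_relIndex_right _ K,
    Subgroup.relIndex_mul_relIndex _ _ _ inf_le_right h, mul_comm,
    ← Subgroup.inf_relIndex_right (stabilizer G x) P, ← Subgroup.relIndex_mul_relIndex
      (stabilizer G x ⊓ K) (stabilizer G x ⊓ P) P (inf_le_inf_left _ h) inf_le_right,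
    ← Subgroup.inf_relIndex_right K, ← Subgroup.inf_relIndex_right (stabilizer G x ⊓ K)]
  congr 2
  ext g
  simp only [Subgroup.mem_inf]
  tauto

/-- Double counting: `T` is contained in the `P`-orbit of `x`, and `S` contains the orbit under
`K ∩ P`. -/
theorem ncard_mul_le {K P : Subgroup G} {x : Λ} {S T : Set Λ} (hS : S.Finite)
    (h1 : ∀ g ∈ K, g ∈ P → g • x ∈ S) (h2 : ∀ y ∈ T, ∃ g ∈ P, g • x = y) :
    T.ncard * K.relIndex (stabilizer G x ⊓ P) ≤ K.relIndex P * S.ncard := by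
  have h3 := relIndex_mul_orbit (K := K ⊓ P) inf_le_right x
  have h4 : (K ⊓ P).relIndex (stabilizer G x ⊓ P) = K.relIndex (stabilizer G x ⊓ P) := by
    rw [← Subgroup.inf_relIndex_right K, ← Subgroup.inf_relIndex_right (K ⊓ P)]
    congr 1
    ext g
    simp only [Subgroup.mem_inf]
    tauto
  rw [Subgroup.inf_relIndex_right, h4] at h3
  calc _ ≤ (orbit P x).ncard * K.relIndex (stabilizer G x ⊓ P) :=
        Nat.mul_le_mul_right _ (Set.ncard_le_ncard (fun y hy => by
          obtain ⟨g, hg, rfl⟩ := h2 y hy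
          exact ⟨⟨g, hg⟩, rfl⟩) (Set.finite_range _))
    _ ≤ _ := h3 ▸ Nat.mul_le_mul_left _ (Set.ncard_le_ncard (by
          rintro _ ⟨g, rfl⟩
          exact h1 _ g.2.1 g.2.2) hS)

theorem ncard_le {K P : Subgroup G} {x : Λ} {S T : Set Λ} (hS : S.Finite)
    (h1 : ∀ g ∈ K, g ∈ P → g • x ∈ S) (h2 : ∀ y ∈ T, ∃ g ∈ P, g • x = y) :
    T.ncard ≤ K.relIndex P * S.ncard :=
  (Nat.le_mul_of_pos_right _ (relIndex_pos _ _)).trans (ncard_mul_le hS h1 h2)

end Group

section Cone

variable {F V : Type*} [Field F] [AddCommGroup V] [Module F V]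

theorem ncard_cone [Finite F] [Finite V] (O : Set V) (h0 : (0 : V) ∉ O)
    (hs : ∀ v ∈ O, ∀ a : F, a ≠ 0 → a • v ∈ O) :
    O.ncard = ((fun v => F ∙ v) '' O).ncard * (Nat.card F - 1) := by
  classical
  have := Fintype.ofFinite V
  have := Fintype.ofFinite F
  rw [Set.ncard_eq_toFinset_card', Set.ncard_eq_toFinset_card', Set.toFinset_image,
    Finset.card_eq_sum_card_image (fun v => F ∙ v), ← smul_eq_mul, ← Finset.sum_const]
  refine Finset.sum_congr rfl fun S hS => ?_
  obtain ⟨v, hv, rfl⟩ := Finset.mem_image.1 hS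
  rw [Set.mem_toFinset] at hv
  have hv0 : v ≠ 0 := fun e => h0 (e ▸ hv)
  rw [Nat.card_eq_fintype_card, ← Fintype.card_units, ← Finset.card_univ,
    ← Finset.card_image_of_injective (f := fun a : Fˣ => a • v) _ fun a b e =>
      Units.ext (smul_left_injective F hv0 e)]
  congr 1
  ext w
  simp only [Finset.mem_filter, Set.mem_toFinset, Finset.mem_image, Finset.mem_univ, true_and]
  constructor
  · rintro ⟨-, h⟩
    obtain ⟨a, ha⟩ := Submodule.span_singleton_eq_span_singleton.1 h.symm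
    exact ⟨a, ha⟩
  · rintro ⟨a, rfl⟩
    exact ⟨hs v hv a a.ne_zero, Submodule.span_singleton_smul_eq a.isUnit v⟩

variable {G : Type*} [Group G] [DistribMulAction G V] [SMulCommClass G F V]

open Pointwise

variable (F G) in
/-- The stabiliser of the point spanned by `x`. -/
def pst (x : V) : Subgroup G := stabilizer G (F ∙ x)

theorem smul_span (g : G) (x : V) : g • (F ∙ x) = F ∙ (g • x) := by
  rw [Submodule.smul_span, Set.smul_set_singleton]

theorem mem_pst {x : V} {g : G} : g ∈ pst F G x ↔ ∃ a : F, a ≠ 0 ∧ g • x = a • x := by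
  rw [pst, mem_stabilizer_iff, smul_span, eq_comm, Submodule.span_singleton_eq_span_singleton]
  exact ⟨fun ⟨a, h⟩ => ⟨a, a.ne_zero, h.symm⟩, fun ⟨a, h, h'⟩ => ⟨Units.mk0 a h, h'.symm⟩⟩

theorem mem_pst_of_eq {x : V} {g : G} (hx : x ≠ 0) {a : F} (h : g • x = a • x) :
    g ∈ pst F G x :=
  mem_pst.2 ⟨a, by rintro rfl; exact (smul_ne_zero_iff_ne g).2 hx (by simpa using h), h⟩

theorem stabilizer_le_pst (x : V) : stabilizer G x ≤ pst F G x := fun _ h =>
  mem_pst.2 ⟨1, one_ne_zero, by rw [one_smul]; exact h⟩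

variable (F) in
/-- The index of `H` in the point stabiliser. -/
noncomputable def mx (H : Subgroup G) (x : V) : ℕ := H.relIndex (pst F G x)

variable (F) in
/-- The cone over the `H`-orbit of the point spanned by `x`. -/
def corb (H : Subgroup G) (x : V) : Set V := {v | ∃ h ∈ H, ∃ a : F, a ≠ 0 ∧ v = a • h • x}

omit [SMulCommClass G F V] in
theorem self_mem_corb (H : Subgroup G) (x : V) : x ∈ corb F H x :=
  ⟨1, H.one_mem, 1, one_ne_zero, by simp⟩

theorem corb_eq_of_mem {H : Subgroup G} {x y : V} (h : y ∈ corb F H x) :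
    corb F H y = corb F H x := by
  obtain ⟨g, hg, a, ha, rfl⟩ := h
  ext v
  constructor
  · rintro ⟨k, hk, b, hb, rfl⟩
    exact ⟨k * g, H.mul_mem hk hg, b * a, mul_ne_zero hb ha, by
      rw [smul_comm k a, mul_smul, mul_smul]⟩
  · rintro ⟨k, hk, b, hb, rfl⟩
    exact ⟨k * g⁻¹, H.mul_mem hk (H.inv_mem hg), b * a⁻¹, mul_ne_zero hb (inv_ne_zero ha), by
      rw [smul_comm _ a, mul_smul, mul_smul, inv_smul_smul₀ ha, inv_smul_smul]⟩

variable [Finite F] [Finite V]

theorem ncard_corb (H : Subgroup G) {x : V} (hx : x ≠ 0) :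
    (corb F H x).ncard = (orbit H (F ∙ x)).ncard * (Nat.card F - 1) := by
  rw [ncard_cone (F := F)]
  · congr 2
    ext S
    constructor
    · rintro ⟨_, ⟨h, hh, a, ha, rfl⟩, rfl⟩
      exact ⟨⟨h, hh⟩, (smul_span h x).trans
        (Submodule.span_singleton_smul_eq (Ne.isUnit ha) _).symm⟩
    · rintro ⟨h, rfl⟩
      exact ⟨h.1 • x, ⟨h, h.2, 1, one_ne_zero, by simp⟩, (smul_span h.1 x).symm⟩
  · rintro ⟨h, -, a, ha, e⟩
    exact smul_ne_zero ha ((smul_ne_zero_iff_ne h).2 hx) e.symm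
  · rintro _ ⟨h, hh, a, ha, rfl⟩ b hb
    exact ⟨h, hh, b * a, mul_ne_zero hb ha, smul_smul _ _ _⟩

theorem index_mul_corb (H : Subgroup G) {x : V} (hx : x ≠ 0) :
    H.index * (corb F H x).ncard = (corb F (⊤ : Subgroup G) x).ncard * mx F H x := by
  have := relIndex_mul_orbit (K := H) le_top (F ∙ x)
  rw [Subgroup.relIndex_top_right, inf_top_eq] at this
  rw [ncard_corb H hx, ncard_corb ⊤ hx, ← mul_assoc, this, mx, pst]
  ring

variable [Finite G]

omit [Finite F] [Finite V] in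
theorem mx_pos (H : Subgroup G) (x : V) : 0 < mx F H x := relIndex_pos _ _

omit [Finite F] [Finite V] in
theorem mx_le (H : Subgroup G) (x : V) : mx F H x ≤ H.index := relIndex_le_index _ _

omit [Finite F] [Finite V] in
theorem relIndex_le_mx (H : Subgroup G) (x : V) : H.relIndex (stabilizer G x) ≤ mx F H x :=
  relIndex_mono H (stabilizer_le_pst x)

omit [Finite G] in
/-- If the orbit cone of `x` lies in `T`. -/
theorem mul_mx_le {H : Subgroup G} {x : V} (hx : x ≠ 0) {X T : Set V}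
    (hX : X ⊆ corb F (⊤ : Subgroup G) x) (hT : corb F H x ⊆ T) :
    X.ncard * mx F H x ≤ H.index * T.ncard :=
  (Nat.mul_le_mul_right _ (Set.ncard_le_ncard hX)).trans
    (index_mul_corb (F := F) H hx ▸ Nat.mul_le_mul_left _ (Set.ncard_le_ncard hT))

/-- A subgroup fixing a point. -/
theorem le_of_fix {H : Subgroup G} {x : V} (hx : x ≠ 0) {X : Set V}
    (hX : X ⊆ corb F (⊤ : Subgroup G) x) (hH : ∀ h ∈ H, ∃ a : F, h • x = a • x) :
    X.ncard ≤ H.index * (Nat.card F - 1) := by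
  have h1 := ncard_corb (F := F) (⊥ : Subgroup G) hx
  have h2 : orbit (⊥ : Subgroup G) (F ∙ x) = {F ∙ x} := by
    ext S
    exact ⟨fun ⟨g, hg⟩ => by rw [← hg, Subsingleton.elim g 1]; simp,
      fun h => h ▸ mem_orbit_self _⟩
  rw [h2, Set.ncard_singleton, one_mul] at h1
  rw [← h1]
  refine (Nat.le_mul_of_pos_right _ (mx_pos (F := F) H x)).trans (mul_mx_le hx hX ?_)
  rintro _ ⟨h, hh, a, ha, rfl⟩
  obtain ⟨b, hb⟩ := hH h hh
  exact ⟨1, Subgroup.one_mem _, a * b, mul_ne_zero ha (by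
    rintro rfl; exact (smul_ne_zero_iff_ne h).2 hx (by simpa using hb)), by rw [hb, smul_smul, one_smul]⟩

omit [Finite G] in
/-- Two different `H`-orbits. -/
theorem mx_add_le {H : Subgroup G} {x y : V} (hx : x ≠ 0)
    (hy : y ∈ corb F (⊤ : Subgroup G) x) (h : y ∉ corb F H x) :
    mx F H x + mx F H y ≤ H.index := by
  have hy0 : y ≠ 0 := by
    obtain ⟨g, -, a, ha, rfl⟩ := hy
    exact smul_ne_zero ha ((smul_ne_zero_iff_ne g).2 hx)
  have h1 := index_mul_corb (F := F) H hx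
  have h2 := index_mul_corb (F := F) H hy0
  rw [corb_eq_of_mem hy] at h2
  have h3 : ∀ z : V, corb F H z ⊆ corb F (⊤ : Subgroup G) z := fun z _ ⟨g, _, e⟩ =>
    ⟨g, Subgroup.mem_top g, e⟩
  have h4 : Disjoint (corb F H x) (corb F H y) := Set.disjoint_left.2 fun z h5 h6 =>
    h (by rw [← corb_eq_of_mem h5, corb_eq_of_mem h6]; exact self_mem_corb H y)
  have h5 := Set.ncard_le_ncard (Set.union_subset (h3 x) (corb_eq_of_mem hy ▸ h3 y))
  rw [Set.ncard_union_eq h4] at h5
  have h6 : 0 < (corb F (⊤ : Subgroup G) x).ncard :=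
    (Set.ncard_pos (Set.toFinite _)).2 ⟨x, self_mem_corb _ x⟩
  refine Nat.le_of_mul_le_mul_left ?_ h6
  rw [mul_add, ← h1, ← h2, ← mul_add, mul_comm]
  exact Nat.mul_le_mul_right _ h5

end Cone

section Ann

variable {F V U : Type*} [Field F] [AddCommGroup V] [AddCommGroup U]

/-- The annihilator of `S` under `ψ ∘ β`. -/
def ann (ψ : AddChar F ℂ) (β : V →+ U →+ F) (S : AddSubgroup U) : AddSubgroup V where
  carrier := {v | ∀ u ∈ S, ψ (β v u) = 1}
  zero_mem' := by simp
  add_mem' := fun {a b} ha hb u hu => by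
    rw [map_add, AddMonoidHom.add_apply, ψ.map_add_eq_mul, ha u hu, hb u hu, mul_one]
  neg_mem' := fun {a} ha u hu => by
    rw [map_neg, AddMonoidHom.neg_apply, AddChar.map_neg_eq_inv, ha u hu, inv_one]

variable {ψ : AddChar F ℂ} {β : V →+ U →+ F}

theorem mem_ann {S : AddSubgroup U} {v : V} : v ∈ ann ψ β S ↔ ∀ u ∈ S, ψ (β v u) = 1 := Iff.rfl

theorem card_ann [Finite V] [Finite U] (h : ∀ u, (∀ v, ψ (β v u) = 1) → u = 0)
    (S : AddSubgroup U) : Nat.card S * Nat.card (ann ψ β S) = Nat.card V := by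
  classical
  have := Fintype.ofFinite V
  have := Fintype.ofFinite S
  have h1 : ∑ v, ∑ u : S, ψ (β v u) = (Fintype.card V : ℂ) := by
    rw [Finset.sum_comm, Finset.sum_eq_single (0 : S)]
    · simp
    · intro u _ hu
      exact (AddChar.sum_eq_zero_iff_ne_zero (ψ := ψ.compAddMonoidHom (β.flip u))).2 fun e =>
        hu (Subtype.ext (h u fun v => DFunLike.congr_fun e v))
    · simp
  have h2 : ∀ v, ∑ u : S, ψ (β v u) = if v ∈ ann ψ β S then (Fintype.card S : ℂ) else 0 := by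
    intro v
    split_ifs with hv
    · rw [Finset.sum_congr rfl fun (u : S) _ => hv u u.2]
      simp
    · exact (AddChar.sum_eq_zero_iff_ne_zero (ψ := ψ.compAddMonoidHom ((β v).comp S.subtype))).2
        fun e => hv fun u hu => DFunLike.congr_fun e ⟨u, hu⟩
  simp only [h2, Finset.sum_ite, Finset.sum_const, smul_zero, add_zero, nsmul_eq_mul] at h1
  rw [mul_comm, Nat.card_eq_fintype_card, Nat.card_eq_fintype_card, Nat.card_eq_fintype_card,
    Fintype.card_subtype]
  exact_mod_cast h1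

theorem ann_ann [Finite V] [Finite U] (h : ∀ u, (∀ v, ψ (β v u) = 1) → u = 0)
    (h' : ∀ v, (∀ u, ψ (β v u) = 1) → v = 0) (S : AddSubgroup U) :
    ann ψ β.flip (ann ψ β S) = S := by
  have h1 := card_ann h S
  have h2 := card_ann (β := β.flip) h' (ann ψ β S)
  have h3 := card_ann h ⊤
  have h4 := card_ann (β := β.flip) h' ⊤
  rw [AddSubgroup.card_top] at h3 h4
  have h5 : Nat.card V = Nat.card U :=
    Nat.dvd_antisymm ⟨_, h4.symm⟩ ⟨_, h3.symm⟩
  refine (AddSubgroup.eq_of_le_of_card_ge (fun u hu v hv => hv u hu) ?_).symm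
  refine Nat.le_of_mul_le_mul_left ?_ (Nat.card_pos (α := ann ψ β S))
  rw [h2, mul_comm, h1, h5]

/-- An element killed by the annihilator lies in the subgroup. -/
theorem mem_of_ann [Finite V] [Finite U] (h : ∀ u, (∀ v, ψ (β v u) = 1) → u = 0)
    (h' : ∀ v, (∀ u, ψ (β v u) = 1) → v = 0) {S : AddSubgroup U} {u : U}
    (hu : ∀ v ∈ ann ψ β S, β v u = 0) : u ∈ S :=
  ann_ann h h' S ▸ fun v hv => by
    rw [AddMonoidHom.flip_apply, hu v hv, AddChar.map_zero_eq_one]

theorem exists_addChar (F : Type*) [Field F] [Finite F] :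
    ∃ ψ : AddChar F ℂ, ∀ a : F, (∀ c, ψ (c * a) = 1) → a = 0 := by
  obtain ⟨ψ, h⟩ := (AddChar.exists_apply_ne_zero (a := (1 : F))).2 one_ne_zero
  refine ⟨ψ, fun a ha => by_contra fun h0 => h ?_⟩
  rw [← inv_mul_cancel₀ h0, ha]

end Ann

end Cfsg.Agent.Cl.MI
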