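import Mathlib
import Cfsg.Agent.Cl.MinIdx
import Cfsg.Agent.Cl.LinearTransv

/-!
# Minimal index of a proper subgroup of `SL_n(q)`, `n ≥ 3`
-/

set_option autoImplicit false

namespace Cfsg.Agent.Cl.MI

open MulAction Matrix Module Submodule

/-- The elements of a finite group mapping `S` into itself. -/
def keep (G : Type*) [Group G] [Finite G] {Λ : Type*} [MulAction G Λ] (S : Set Λ) : Subgroup G where
  carrier := {g | ∀ u ∈ S, g • u ∈ S}
  one_mem' := by simp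
  mul_mem' := fun ha hb u hu => by rw [mul_smul]; exact ha _ (hb u hu)
  inv_mem' := fun {g} hg u hu => by
    have h1 : ∀ n : ℕ, g ^ n • u ∈ S := fun n => by
      induction n with
      | zero => simpa
      | succ n ih => rw [pow_succ', mul_smul]; exact hg _ ih
    have := h1 (orderOf g - 1)
    rwa [eq_inv_of_mul_eq_one_left (show g ^ (orderOf g - 1) * g = 1 by
      rw [← pow_succ, Nat.sub_add_cancel (orderOf_pos g), pow_orderOf_eq_one])] at this

theorem quot_min_index {G : Type*} [Group G] (N : Subgroup G) [N.Normal] {b : ℕ}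
    (h1 : ∀ H : Subgroup G, N ≤ H → H ≠ ⊤ → b ≤ H.index) (P : Subgroup G) (hP : N ≤ P)
    (h2 : P.index = b) :
    (∀ H : Subgroup (G ⧸ N), H ≠ ⊤ → b ≤ H.index) ∧ ∃ H : Subgroup (G ⧸ N), H.index = b := by
  refine ⟨fun H hH => ?_, P.map (QuotientGroup.mk' N), ?_⟩
  · rw [← H.index_comap_of_surjective (QuotientGroup.mk'_surjective N)]
    refine h1 _ ((QuotientGroup.ker_mk' N).symm.le.trans (Subgroup.ker_le_comap _ _)) fun e =>
      hH (eq_top_iff.2 fun g _ => ?_)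
    obtain ⟨g, rfl⟩ := QuotientGroup.mk'_surjective N g
    exact (e ▸ Subgroup.mem_top g : g ∈ H.comap _)
  · rw [Subgroup.index_map, QuotientGroup.ker_mk', sup_eq_left.2 hP,
      MonoidHom.range_eq_top.2 (QuotientGroup.mk'_surjective N), Subgroup.index_top, mul_one, h2]

open Pointwise in
theorem index_pst {F V G : Type*} [Field F] [AddCommGroup V] [Module F V] [Group G]
    [DistribMulAction G V] [SMulCommClass G F V] [Finite F] [Finite V] {x : V} (hx : x ≠ 0) :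
    (pst F G x).index * (Nat.card F - 1) = (corb F (⊤ : Subgroup G) x).ncard := by
  rw [ncard_corb ⊤ hx, ← relIndex_stabilizer, Subgroup.relIndex_top_right, pst]

theorem exists_notMem_of_finrank_lt {F V : Type*} [Field F] [AddCommGroup V] [Module F V]
    [Module.Finite F V] {U A : Submodule F V} (h : finrank F U < finrank F A) :
    ∃ w ∈ A, w ∉ U := by
  by_contra! hc
  exact absurd (Submodule.finrank_mono hc) (by omega)

theorem finrank_span_insert_le {F V : Type*} [Field F] [AddCommGroup V] [Module F V]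
    [Module.Finite F V] (x : V) (s : Set V) :
    finrank F (span F (insert x s)) ≤ finrank F (span F s) + 1 := by
  rw [span_insert, add_comm]
  refine (finrank_add_le_finrank_add_finrank _ _).trans (Nat.add_le_add_right ?_ _)
  simpa using finrank_span_le_card (R := F) ({x} : Set V)

theorem finrank_span_single_le {F V : Type*} [Field F] [AddCommGroup V] [Module F V]
    (x : V) : finrank F (span F {x}) ≤ 1 := by
  simpa using finrank_span_le_card (R := F) ({x} : Set V)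

variable {ι : Type*} [Fintype ι] [DecidableEq ι] {F : Type*} [Field F]

local notation "SLι" => SpecialLinearGroup ι F

theorem exists_dot {U : Submodule F (ι → F)} {v : ι → F} (hv : v ∉ U) :
    ∃ φ : ι → F, (∀ u ∈ U, φ ⬝ᵥ u = 0) ∧ φ ⬝ᵥ v = 1 := by
  obtain ⟨f, h1, h2⟩ := exists_le_ker_of_notMem hv
  obtain ⟨φ, rfl⟩ := (dotProductEquiv F ι).surjective f
  refine ⟨(φ ⬝ᵥ v)⁻¹ • φ, fun u hu => ?_, ?_⟩
  · rw [smul_dotProduct, show φ ⬝ᵥ u = 0 from h2 hu, smul_zero]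
  · rw [smul_dotProduct, smul_eq_mul, inv_mul_cancel₀ (show φ ⬝ᵥ v ≠ 0 from h1)]

theorem exists_dot₂ {x y v : ι → F} (hv : v ∉ span F {x, y}) :
    ∃ φ : ι → F, φ ⬝ᵥ x = 0 ∧ φ ⬝ᵥ y = 0 ∧ φ ⬝ᵥ v = 1 := by
  obtain ⟨φ, h1, h2⟩ := exists_dot hv
  exact ⟨φ, h1 _ (subset_span (by simp)), h1 _ (subset_span (by simp)), h2⟩

theorem exists_dot₃ {x y z v : ι → F} (hv : v ∉ span F {x, y, z}) :
    ∃ φ : ι → F, φ ⬝ᵥ x = 0 ∧ φ ⬝ᵥ y = 0 ∧ φ ⬝ᵥ z = 0 ∧ φ ⬝ᵥ v = 1 := by
  obtain ⟨φ, h1, h2⟩ := exists_dot hv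
  exact ⟨φ, h1 _ (subset_span (by simp)), h1 _ (subset_span (by simp)),
    h1 _ (subset_span (by simp)), h2⟩

theorem sl_smul (g : SLι) (v : ι → F) : g • v = (g : Matrix ι ι F) *ᵥ v := rfl

theorem tv_smul_eq {a φ : ι → F} (h : φ ⬝ᵥ a = 0) (v : ι → F) :
    tv a φ • v = v + (φ ⬝ᵥ v) • a := tv_mulVec h v

theorem sl_vecMul_vecMul_inv (g : SLι) (v : ι → F) :
    (v ᵥ* (g : Matrix ι ι F)) ᵥ* ((g⁻¹ : SLι) : Matrix ι ι F) = v :=
  by simpa only [inv_inv] using sl_vecMul_inv_vecMul g⁻¹ v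

theorem tv_fix {a φ v : ι → F} (h : φ ⬝ᵥ a = 0) (hv : φ ⬝ᵥ v = 0) : tv a φ • v = v := by
  rw [tv_smul_eq h, hv, zero_smul, add_zero]

theorem exists_fix_smul_eq (h3 : 3 ≤ Fintype.card ι) {x u v : ι → F} (hu : u ∉ F ∙ x)
    (hv : v ∉ F ∙ x) : ∃ g ∈ stabilizer SLι x, g • u = v := by
  have key : ∀ u v : ι → F, u ∉ span F {x, v - u} → ∃ g ∈ stabilizer SLι x, g • u = v := by
    intro u v h
    obtain ⟨φ, h1, h2, h3⟩ := exists_dot₂ h
    exact ⟨tv (v - u) φ, tv_fix h2 h1,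
      by rw [tv_smul_eq h2, h3, one_smul, add_sub_cancel]⟩
  have k1 : ∀ u v : ι → F, u ∉ F ∙ x → v ∉ span F {x, u} →
      ∃ g ∈ stabilizer SLι x, g • u = v := fun u v hu hv => key u v fun h => by
    obtain ⟨a, b, h⟩ := mem_span_pair.1 h
    rcases eq_or_ne b 0 with rfl | hb
    · exact hu (mem_span_singleton.2 ⟨a, by simpa using h⟩)
    · rw [← inv_smul_smul₀ hb v, show b • v = (-a) • x + (1 + b) • u by
        linear_combination (norm := module) h] at hv
      exact hv (smul_mem _ _ (mem_span_pair.2 ⟨_, _, rfl⟩))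
  by_cases h : v ∈ span F {x, u}
  · obtain ⟨w, -, hw⟩ := exists_notMem_of_finrank_lt (U := span F {x, u}) (A := ⊤) (by
      have := finrank_span_insert_le (F := F) x {u}
      have := finrank_span_single_le (F := F) u
      simp only [finrank_top, finrank_fintype_fun_eq_card]
      omega)
    obtain ⟨g, hg, e⟩ := k1 u w hu hw
    obtain ⟨k, hk, e'⟩ := k1 v w hv fun h' => hw (span_le.2 (by
      rintro _ (rfl | rfl)
      exacts [subset_span (by simp), h]) h')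
    exact ⟨k⁻¹ * g, mul_mem (inv_mem hk) hg, by rw [mul_smul, e, ← e', inv_smul_smul]⟩
  · exact k1 u v hu h

theorem exists_smul_eq' (h3 : 3 ≤ Fintype.card ι) {u v : ι → F} (hu : u ≠ 0) (hv : v ≠ 0) :
    ∃ g : SLι, g • u = v := by
  obtain ⟨g, -, h⟩ := exists_fix_smul_eq h3 (x := 0) (u := u) (v := v) (by simpa) (by simpa)
  exact ⟨g, h⟩

/-- The annihilator of `x`. -/
def dperp (x : ι → F) : Submodule F (ι → F) := LinearMap.ker (dotProductEquiv F ι x)

omit [DecidableEq ι] in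
theorem mem_dperp [DecidableEq ι] {x φ : ι → F} : φ ∈ dperp x ↔ φ ⬝ᵥ x = 0 := by
  rw [dotProduct_comm]; rfl

theorem finrank_dperp {x : ι → F} (hx : x ≠ 0) : finrank F (dperp x) + 1 = Fintype.card ι := by
  rw [← finrank_fintype_fun_eq_card F]
  exact Module.Dual.finrank_ker_add_one_of_ne_zero (by simpa)

/-- The transvections with centre `x`. -/
noncomputable def tvHom (x : ι → F) : Multiplicative (dperp x) →* SLι :=
  MonoidHom.mk' (fun φ => tv x φ.toAdd) fun φ ψ =>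
    tv_add_right (mem_dperp.1 φ.toAdd.2) (mem_dperp.1 ψ.toAdd.2)

theorem mem_range_tvHom {x : ι → F} {g : SLι} :
    g ∈ (tvHom x).range ↔ ∃ φ, φ ⬝ᵥ x = 0 ∧ tv x φ = g :=
  ⟨fun ⟨φ, h⟩ => ⟨_, mem_dperp.1 φ.toAdd.2, h⟩,
    fun ⟨φ, h, e⟩ => ⟨Multiplicative.ofAdd ⟨φ, mem_dperp.2 h⟩, e⟩⟩

theorem conj_tv_of_smul {x φ : ι → F} {g : SLι} {a : F} (hg : g • x = a • x) :
    g * tv x φ * g⁻¹ = tv x (a • φ ᵥ* ((g⁻¹ : SLι) : Matrix ι ι F)) := by
  rw [tv_conj, ← sl_smul, hg, tv_smul]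

theorem dot_of_smul {x φ : ι → F} {g : SLι} {a : F} (hg : g • x = a • x) :
    (a • φ ᵥ* ((g⁻¹ : SLι) : Matrix ι ι F)) ⬝ᵥ x = φ ⬝ᵥ x := by
  rw [← sl_dot_conj g φ x, ← sl_smul, hg, smul_dotProduct, dotProduct_smul]

section Types

variable (H : Subgroup (SpecialLinearGroup ι F))

/-- All transvections with centre `x` lie in `H`. -/
def TA (x : ι → F) : Prop := ∀ φ, φ ⬝ᵥ x = 0 → tv x φ ∈ H

/-- All transvections with centre `x` and axis through `u` lie in `H`. -/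
def TB (x u : ι → F) : Prop := u ∉ F ∙ x ∧ ∀ φ, φ ⬝ᵥ x = 0 → φ ⬝ᵥ u = 0 → tv x φ ∈ H

/-- No transvection with centre `x` lies in `H`. -/
def TC (x : ι → F) : Prop := ∀ φ, φ ⬝ᵥ x = 0 → tv x φ ∈ H → φ = 0

/-- The forms of the transvections in `H` with centre `x`. -/
def wS (x : ι → F) : AddSubgroup (ι → F) where
  carrier := {φ | φ ⬝ᵥ x = 0 ∧ tv x φ ∈ H}
  zero_mem' := by simp
  add_mem' := fun ha hb => ⟨by rw [add_dotProduct, ha.1, hb.1, add_zero], by
    rw [tv_add_right ha.1 hb.1]; exact H.mul_mem ha.2 hb.2⟩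
  neg_mem' := fun {a} ha => ⟨by rw [neg_dotProduct, ha.1, neg_zero], by
    rw [← neg_one_smul F a, ← tv_smul, neg_one_smul, ← tv_inv]; exact H.inv_mem ha.2⟩

variable {H}

theorem TA.conj {x : ι → F} (h : TA H x) {g : SLι} (hg : g ∈ H) (a : F) : TA H (a • g • x) := by
  intro φ hφ
  have := H.mul_mem (H.mul_mem hg (h ((a • φ) ᵥ* (g : Matrix ι ι F)) (by
    rwa [← dotProduct_mulVec, smul_dotProduct, ← dotProduct_smul]))) (H.inv_mem hg)
  rwa [tv_conj, sl_vecMul_vecMul_inv, ← tv_smul] at this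

theorem TB.conj {x u : ι → F} (h : TB H x u) {g : SLι} (hg : g ∈ H) {a : F} (ha : a ≠ 0) :
    TB H (a • g • x) (g • u) := by
  refine ⟨fun e => h.1 ?_, fun φ hφ hu => ?_⟩
  · obtain ⟨b, e⟩ := mem_span_singleton.1 e
    rw [smul_smul, ← smul_comm g, smul_left_cancel_iff] at e
    exact mem_span_singleton.2 ⟨_, e⟩
  have := H.mul_mem (H.mul_mem hg (h.2 ((a • φ) ᵥ* (g : Matrix ι ι F)) (by
    rwa [← dotProduct_mulVec, smul_dotProduct, ← dotProduct_smul]) (by
    rw [← dotProduct_mulVec, smul_dotProduct, ← sl_smul, hu, smul_zero]))) (H.inv_mem hg)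
  rwa [tv_conj, sl_vecMul_vecMul_inv, ← tv_smul] at this

theorem TC.conj {x : ι → F} (h : TC H x) {g : SLι} (hg : g ∈ H) {a : F} (ha : a ≠ 0) :
    TC H (a • g • x) := by
  intro φ hφ hH
  have h1 := H.mul_mem (H.mul_mem (H.inv_mem hg) hH) (H.inv_mem (H.inv_mem hg))
  rw [tv_smul, tv_conj, sl_smul, sl_inv_mulVec_mulVec, inv_inv] at h1
  have h2 := h _ (by rwa [← dotProduct_mulVec, smul_dotProduct, ← dotProduct_smul]) h1
  by_contra h0
  exact sl_vecMul_ne_zero g (smul_ne_zero ha h0) h2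

theorem TB.unique {x u v : ι → F} (hA : ¬ TA H x) (h : TB H x u) (h' : TB H x v) :
    v ∈ span F {x, u} := by
  by_contra hc
  obtain ⟨ψ, h1, h2, h3⟩ := exists_dot₂ hc
  refine hA fun φ hφ => ?_
  have h4 : ((φ ⬝ᵥ v) • ψ) ⬝ᵥ x = 0 := by simp [h1]
  have h5 : (φ - (φ ⬝ᵥ v) • ψ) ⬝ᵥ x = 0 := by simp [h1, hφ]
  rw [← add_sub_cancel ((φ ⬝ᵥ v) • ψ) φ, tv_add_right h4 h5]
  exact H.mul_mem (h.2 _ h4 (by simp [h2])) (h'.2 _ h5 (by simp [h3]))

variable [Finite F]

theorem card_wS_mul {x : ι → F} (hx : x ≠ 0) : Nat.card F * (Nat.card (wS H x) *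
    H.relIndex (tvHom x).range) = Nat.card F ^ Fintype.card ι := by
  have h1 : Nat.card (wS H x) = Nat.card (H.comap (tvHom x)) := Nat.card_congr
    ⟨fun φ => ⟨Multiplicative.ofAdd ⟨φ, mem_dperp.2 φ.2.1⟩, φ.2.2⟩,
      fun φ => ⟨φ.1.toAdd, mem_dperp.1 φ.1.toAdd.2, φ.2⟩, fun _ => rfl, fun _ => rfl⟩
  rw [h1, ← Subgroup.index_comap, Subgroup.card_mul_index, ← finrank_dperp hx, pow_succ',
    ← Module.natCard_eq_pow_finrank]
  rfl

theorem types (h3 : 3 ≤ Fintype.card ι) {r z : ℕ} (hr : Nat.card F = r + 1)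
    (hz : Nat.card F ^ Fintype.card ι = (r + 1) * z) (hm : H.index * r + 1 < (r + 1) * z)
    {x : ι → F} (hx : x ≠ 0) (hA : ¬ TA H x) :
    z ≤ mx F H x ∧ ((∃ u, TB H x u) ∨ TC H x) := by
  obtain ⟨ψ, hψ⟩ := exists_addChar F
  let β : (ι → F) →+ (ι → F) →+ F := AddMonoidHom.mk'
    (fun u => AddMonoidHom.mk' (· ⬝ᵥ u) fun _ _ => add_dotProduct _ _ _)
    fun _ _ => AddMonoidHom.ext fun _ => dotProduct_add _ _ _
  have hβ : ∀ u φ, β u φ = φ ⬝ᵥ u := fun _ _ => rfl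
  have hn : ∀ φ, (∀ u, ψ (β u φ) = 1) → φ = 0 := fun φ h => funext fun i => hψ _ fun c => by
    simpa [hβ, mul_comm] using h (Pi.single i c)
  have hn' : ∀ u, (∀ φ, ψ (β u φ) = 1) → u = 0 := fun u h => funext fun i => hψ _ fun c => by
    simpa [hβ] using h (Pi.single i c)
  set A := ann ψ β (wS H x)
  set s := H.relIndex (tvHom x).range
  have hr0 : 0 < r := by have := Finite.one_lt_card (α := F); omega
  have hV : Nat.card (ι → F) = (r + 1) * z := by rw [← hz, Nat.card_fun, Nat.card_eq_fintype_card (α := ι)]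
  have h1 : Nat.card A = (r + 1) * s := by
    have h1 := card_ann hn (wS H x)
    have h2 := card_wS_mul (H := H) hx
    rw [hz, hr, ← hV, ← h1] at h2
    exact Nat.eq_of_mul_eq_mul_left (Nat.card_pos (α := wS H x)) (by rw [← h2]; ring)
  have hxA : ∀ u ∈ F ∙ x, u ∈ A := fun u hu φ hφ => by
    obtain ⟨a, rfl⟩ := mem_span_singleton.1 hu
    rw [hβ, dotProduct_smul, hφ.1, smul_zero, AddChar.map_zero_eq_one]
  have hFx : ((F ∙ x : Submodule F _) : Set (ι → F)).ncard = r + 1 := by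
    rw [← hr, ← Nat.card_coe_set_eq, SetLike.coe_sort_coe,
      Module.natCard_eq_pow_finrank (K := F), finrank_span_singleton hx, pow_one]
  set K := keep SLι (A : Set (ι → F))
  set t := K.relIndex (stabilizer SLι x)
  have h2 : s * t ≤ mx F H x := by
    refine (relIndex_mul_le' ?_ ?_).trans (relIndex_le_mx H x)
    · intro g hg
      obtain ⟨φ, hφ, rfl⟩ := mem_range_tvHom.1 hg
      exact ⟨fun u hu => by
        rw [tv_smul_eq hφ]; exact A.add_mem hu (hxA _ (mem_span_singleton.2 ⟨_, rfl⟩)),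
        tv_fix hφ hφ⟩
    · rintro g ⟨hg, hgx⟩ u hu φ hφ
      have h4 : g⁻¹ • x = (1 : F) • x := by rw [one_smul]; exact (stabilizer SLι x).inv_mem hgx
      have := hu _ ⟨(dot_of_smul h4).trans hφ.1, conj_tv_of_smul h4 ▸
        H.mul_mem (H.mul_mem (H.inv_mem hg) hφ.2) (H.inv_mem (H.inv_mem hg))⟩
      rwa [hβ, one_smul, inv_inv, ← dotProduct_mulVec] at this
  have h4 : ∀ u ∈ A, u ∉ F ∙ x → z ≤ s * t ∧ stabilizer SLι u ⊓ stabilizer SLι x ≤ K := by
    intro u hu hux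
    have h5 := ncard_mul_le (K := K) (P := stabilizer SLι x) (x := u)
      (S := (A : Set (ι → F)) \ (F ∙ x : Submodule F _)) (T := Set.univ \ (F ∙ x : Submodule F _))
      (Set.toFinite _) (fun g hg hgx => ⟨hg u hu, fun h => hux (by
        obtain ⟨a, ha⟩ := mem_span_singleton.1 h
        rw [← mem_stabilizer_iff.1 hgx, ← smul_comm g, smul_left_cancel_iff] at ha
        exact mem_span_singleton.2 ⟨a, ha⟩)⟩) fun y hy => exists_fix_smul_eq h3 hux hy.2
    rw [Set.ncard_sdiff hxA, Set.ncard_sdiff (Set.subset_univ _), Set.ncard_univ, hV, hFx,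
      ← Nat.card_coe_set_eq, SetLike.coe_sort_coe, h1, ← Nat.mul_sub_one, ← Nat.mul_sub_one,
      mul_assoc, mul_left_comm _ (r + 1) (s - 1)] at h5
    replace h5 := Nat.le_of_mul_le_mul_left h5 r.succ_pos
    have h6 := relIndex_pos K (stabilizer SLι u ⊓ stabilizer SLι x)
    have h7 : 0 < t := relIndex_pos _ _
    have h8 : 0 < s := relIndex_pos _ _
    have h9 := h2.trans (mx_le H x)
    rw [← Subgroup.relIndex_eq_one]
    generalize K.relIndex (stabilizer SLι u ⊓ stabilizer SLι x) = k at h5 h6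
    obtain ⟨s, hs⟩ : ∃ s', s = s' + 1 := ⟨s - 1, by omega⟩
    obtain ⟨z, rfl⟩ : ∃ z', z = z' + 1 := ⟨z - 1, by rcases z with _ | z <;> omega⟩
    simp only [hs, Nat.add_sub_cancel] at h5 h9 ⊢
    change z * k ≤ t * s at h5
    refine ⟨by nlinarith, by_contra fun hk => ?_⟩
    have h10 : 2 * z + 1 ≤ H.index := by nlinarith [show 2 ≤ k by omega]
    nlinarith [Nat.mul_le_mul_right r h10]
  obtain ⟨u, hu, hux⟩ : ∃ u ∈ A, u ∉ F ∙ x := by
    by_contra! hc
    refine hA fun φ hφ => (mem_of_ann hn hn' (S := wS H x) fun v hv => ?_).2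
    obtain ⟨a, rfl⟩ := mem_span_singleton.1 (hc v hv)
    rw [hβ, dotProduct_smul, hφ, smul_zero]
  refine ⟨(h4 u hu hux).1.trans h2, or_iff_not_imp_left.2 fun hB φ hφ hH => ?_⟩
  have h5 : ∀ u ∈ A, u ∉ F ∙ x → ∃ v ∈ A, v ∉ span F {x, u} := fun u hu hux => by
    by_contra! hc
    refine hB ⟨u, hux, fun φ h1 h2 => (mem_of_ann hn hn' (S := wS H x) fun v hv => ?_).2⟩
    obtain ⟨a, b, rfl⟩ := mem_span_pair.1 (hc v hv)
    simp [hβ, h1, h2]
  have h6 : ∀ u ∈ A, u ∉ F ∙ x → ∀ v ∈ A, ∀ w, v ∉ span F {x, u, w} → w ∈ A := by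
    intro u hu hux v hv w hw
    obtain ⟨φ, h1, h2, h3, h5⟩ := exists_dot₃ hw
    have := (h4 u hu hux).2 (show tv w φ ∈ _ from ⟨tv_fix h3 h2, tv_fix h3 h1⟩) v hv
    rw [tv_smul_eq h3, h5, one_smul] at this
    simpa using A.sub_mem this hv
  have h7 : ∀ u ∈ A, ∀ a : F, a • u ∈ A := fun u hu a => by
    by_cases hux : u ∈ F ∙ x
    · exact hxA _ (smul_mem _ a hux)
    obtain ⟨v, hv, hv'⟩ := h5 u hu hux
    refine h6 u hu hux v hv _ fun h => hv' (span_le.2 ?_ h)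
    rintro _ (rfl | rfl | rfl)
    exacts [subset_span (by simp), subset_span (by simp), smul_mem _ _ (subset_span (by simp))]
  obtain ⟨v, hv, hv'⟩ := h5 u hu hux
  refine hn φ fun w => (?_ : w ∈ A) φ ⟨hφ, hH⟩
  by_contra hw
  obtain ⟨a, b, c, e⟩ := mem_span_triple.1 (by_contra fun h => hw (h6 u hu hux v hv w h))
  have hc : c ≠ 0 := by
    rintro rfl
    exact hv' (mem_span_pair.2 ⟨a, b, by simpa using e⟩)
  refine hw ?_
  rw [← inv_smul_smul₀ hc w, show c • w = v - a • x - b • u by rw [← e]; abel]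
  exact h7 _ (A.sub_mem (A.sub_mem hv (hxA _ (mem_span_singleton.2 ⟨a, rfl⟩))) (h7 u hu b)) _

theorem TC.exists_mul {r z : ℕ} (hr : Nat.card F = r + 1)
    (hz : Nat.card F ^ Fintype.card ι = (r + 1) * z) (hm : H.index * r + 1 < (r + 1) * z)
    {x : ι → F} (hx : x ≠ 0) (hC : TC H x) {g : SLι} {a : F} (hg : g • x = a • x) :
    ∃ φ, φ ⬝ᵥ x = 0 ∧ tv x φ * g ∈ H := by
  have h1 := card_wS_mul (H := H) hx
  rw [(AddSubgroup.eq_bot_iff_forall _).2 fun φ (h : φ ∈ wS H x) => hC φ h.1 h.2, hz, hr,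
    AddSubgroup.card_bot, one_mul, Nat.mul_right_inj r.succ_ne_zero] at h1
  have hr0 : 0 < r := by have := Finite.one_lt_card (α := F); omega
  obtain ⟨_, h2, h3⟩ := exists_mul_mem (H := H) (Q := (tvHom x).range) (P := pst F SLι x)
    (fun g hg => by
      obtain ⟨φ, hφ, rfl⟩ := mem_range_tvHom.1 hg
      exact stabilizer_le_pst x (tv_fix hφ hφ))
    (fun g hg => Subgroup.mem_normalizer_fintype fun k hk => by
      obtain ⟨φ, hφ, rfl⟩ := mem_range_tvHom.1 hk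
      obtain ⟨a, -, ha⟩ := mem_pst.1 hg
      exact mem_range_tvHom.2 ⟨_, (dot_of_smul ha).trans hφ, (conj_tv_of_smul ha).symm⟩)
    (by have := mx_le (F := F) H x; rw [h1]; change mx F H x < _; nlinarith)
    (mem_pst_of_eq hx hg)
  obtain ⟨φ, hφ, rfl⟩ := mem_range_tvHom.1 h2
  exact ⟨φ, hφ, h3⟩

omit [Finite F] in
theorem not_all_TB (h3 : 3 ≤ Fintype.card ι) (hA : ∀ x ≠ 0, ¬ TA H x)
    (hB : ∀ x ≠ 0, ∃ u, TB H x u) : False := by
  have L0 : ∀ {x u y v}, TB H x u → TB H y v → y ≠ 0 → x ∈ span F {y, v} ∨ v ∈ span F {x, u, y} := by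
    intro x u y v h h' hy
    by_contra! hc
    obtain ⟨φ, h1, h2, h3, h4⟩ := exists_dot₃ hc.2
    have h5 := h'.conj (h.2 φ h1 h2) one_ne_zero
    rw [one_smul, tv_fix h1 h3, tv_smul_eq h1, h4, one_smul] at h5
    exact hc.1 (by
      simpa using sub_mem (TB.unique (hA y hy) h' h5) (subset_span (a := v) (by simp)))
  have L1 : ∀ {x u v w}, x ≠ 0 → TB H x u → v ∈ span F {x, u} → v ≠ 0 → TB H v w →
      w ∈ span F {x, u} := by
    intro x u v w hx h hv hv0 h'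
    by_cases hvx : v ∈ F ∙ x
    · obtain ⟨a, rfl⟩ := mem_span_singleton.1 hvx
      have := h'.conj H.one_mem (inv_ne_zero (left_ne_zero_of_smul hv0))
      rw [one_smul, one_smul, inv_smul_smul₀ (left_ne_zero_of_smul hv0)] at this
      exact TB.unique (hA x hx) h this
    rcases L0 h h' hv0 with h1 | h1
    · obtain ⟨a, b, e⟩ := mem_span_pair.1 h1
      have hb : b ≠ 0 := by
        rintro rfl
        rw [zero_smul, add_zero] at e
        exact hvx (mem_span_singleton.2 ⟨a⁻¹, by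
          rw [← e, inv_smul_smul₀ (left_ne_zero_of_smul (e ▸ hx))]⟩)
      rw [← inv_smul_smul₀ hb w, show b • w = x - a • v by rw [← e]; abel]
      exact smul_mem _ _ (sub_mem (subset_span (by simp)) (smul_mem _ _ hv))
    · refine span_le.2 ?_ h1
      rintro _ (rfl | rfl | rfl)
      exacts [subset_span (by simp), subset_span (by simp), hv]
  have : Nonempty ι := Fintype.card_pos_iff.1 (by omega)
  obtain ⟨x, hx⟩ := exists_ne (0 : ι → F)
  obtain ⟨u, hu⟩ := hB x hx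
  obtain ⟨y, -, hy⟩ := exists_notMem_of_finrank_lt (U := span F {x, u}) (A := ⊤) (by
    have := finrank_span_insert_le (F := F) x {u}
    have := finrank_span_single_le (F := F) u
    simp only [finrank_top, finrank_fintype_fun_eq_card]
    omega)
  have hy0 : y ≠ 0 := fun e => hy (e ▸ zero_mem _)
  obtain ⟨v, hv⟩ := hB y hy0
  obtain ⟨p, hp0, hp1, hp2⟩ : ∃ p, p ≠ 0 ∧ p ∈ span F {x, u} ∧ p ∈ span F {y, v} := by
    rcases L0 hu hv hy0 with h | h
    · exact ⟨x, hx, subset_span (by simp), h⟩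
    · obtain ⟨a, b, c, e⟩ := mem_span_triple.1 h
      exact ⟨v - c • y, fun h0 => hv.1 (mem_span_singleton.2 ⟨c, (sub_eq_zero.1 h0).symm⟩),
        mem_span_pair.2 ⟨a, b, by rw [← e]; abel⟩,
        sub_mem (subset_span (by simp)) (smul_mem _ _ (subset_span (by simp)))⟩
  obtain ⟨w, hw⟩ := hB p hp0
  have h1 := L1 hx hu hp1 hp0 hw
  obtain ⟨a, b, rfl⟩ := mem_span_pair.1 hp2
  obtain ⟨c, d, rfl⟩ := mem_span_pair.1 (L1 hy0 hv hp2 hp0 hw)
  have h2 : a * d - b * c ≠ 0 := fun h => by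
    by_cases hb : b = 0
    · have ha : a ≠ 0 := by rintro rfl; simp [hb] at hp0
      have hd : d = 0 := by simpa [hb, ha] using h
      exact hw.1 (mem_span_singleton.2 ⟨c / a, by rw [hb, hd]; match_scalars <;> simp [ha]⟩)
    · exact hw.1 (mem_span_singleton.2 ⟨d / b, by
        match_scalars <;> field_simp; linear_combination h⟩)
  refine hy ?_
  rw [← inv_smul_smul₀ h2 y, show (a * d - b * c) • y = d • (a • y + b • v) - b • (c • y + d • v)
    by module]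
  exact smul_mem _ _ (sub_mem (smul_mem _ _ hp1) (smul_mem _ _ h1))

theorem not_all_TC (h3 : 3 ≤ Fintype.card ι) (h4 : ¬ (Fintype.card ι = 4 ∧ Nat.card F = 2))
    (hC : ∀ x ≠ 0, TC H x) {x : ι → F} (hx : x ≠ 0)
    (hP : ∀ (g : SLι) (a : F), g • x = a • x → ∃ φ, φ ⬝ᵥ x = 0 ∧ tv x φ * g ∈ H) : False := by
  have hd := finrank_span_single_le (F := F) x
  obtain ⟨e, -, he⟩ := exists_notMem_of_finrank_lt (U := F ∙ x) (A := ⊤) (by
    simp only [finrank_top, finrank_fintype_fun_eq_card]; omega)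
  obtain ⟨θ, hθ', hθe⟩ := exists_dot he
  have hθ : θ ⬝ᵥ x = 0 := hθ' x (mem_span_singleton_self x)
  have hθ0 : θ ≠ 0 := by rintro rfl; simp at hθe
  have hA := finrank_dperp hθ0
  have mem : ∀ {w}, w ∈ dperp θ → θ ⬝ᵥ w = 0 := fun h => by rw [dotProduct_comm]; exact mem_dperp.1 h
  have uniq : ∀ φ ψ g, φ ⬝ᵥ x = 0 → ψ ⬝ᵥ x = 0 → tv x φ * g ∈ H → tv x ψ * g ∈ H → φ = ψ := by
    intro φ ψ g h1 h2 h3 h4
    have h5 := H.mul_mem h3 (H.inv_mem h4)
    have h6 : (-ψ) ⬝ᵥ x = 0 := by simp [h2]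
    rw [_root_.mul_inv_rev, ← mul_assoc, mul_inv_cancel_right, tv_inv, ← neg_one_smul F x, tv_smul,
      neg_one_smul, ← tv_add_right h1 h6] at h5
    exact sub_eq_zero.1 (by simpa [sub_eq_add_neg] using hC x hx _ (by simp [h1, h2]) h5)
  have ex : ∀ w, ∃ φ, θ ⬝ᵥ w = 0 → φ ⬝ᵥ x = 0 ∧ tv x φ * tv w θ ∈ H := fun w => by
    by_cases hw : θ ⬝ᵥ w = 0
    · obtain ⟨φ, h⟩ := hP (tv w θ) 1 (by rw [tv_fix hw hθ, one_smul])
      exact ⟨φ, fun _ => h⟩
    · exact ⟨0, fun h => absurd h hw⟩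
  choose f hf using ex
  have add : ∀ {w w'}, θ ⬝ᵥ w = 0 → θ ⬝ᵥ w' = 0 → f (w + w') = f w + (f w' - (f w' ⬝ᵥ w) • θ) := by
    intro w w' hw hw'
    have h1 := hf (w + w') (by simp [hw, hw'])
    refine uniq _ _ _ h1.1 (by simp [(hf w hw).1, (hf w' hw').1, hθ]) h1.2 ?_
    have h2 := tv_conj_tv hw x (f w')
    rw [hθ, zero_smul, add_zero] at h2
    rw [tv_add_right (hf w hw).1 (by simp [(hf w' hw').1, hθ]), tv_add_left hw hw', ← h2]
    simpa [mul_assoc] using H.mul_mem (hf w hw).2 (hf w' hw').2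
  have sym : ∀ {w w'}, θ ⬝ᵥ w = 0 → θ ⬝ᵥ w' = 0 → f w' ⬝ᵥ w = f w ⬝ᵥ w' := by
    intro w w' hw hw'
    have h1 := add hw hw'
    rw [add_comm w, add hw' hw] at h1
    have h2 := congrArg (· ⬝ᵥ e) h1
    simp only [add_dotProduct, sub_dotProduct, smul_dotProduct, hθe, smul_eq_mul] at h2
    linear_combination h2
  have nd : ∀ w, θ ⬝ᵥ w = 0 → w ∉ F ∙ x → ∃ w', θ ⬝ᵥ w' = 0 ∧ f w ⬝ᵥ w' ≠ 0 := by
    intro w hw hwx
    by_contra! hc
    have h1 : f w = (f w ⬝ᵥ e) • θ := sub_eq_zero.1 (dotProduct_eq_zero _ fun v => by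
      have := hc (v - (θ ⬝ᵥ v) • e) (by simp [hθe])
      simp only [sub_dotProduct, dotProduct_sub, smul_dotProduct, dotProduct_smul,
        smul_eq_mul] at this ⊢
      linear_combination this)
    have h2 := (hf w hw).2
    rw [h1, ← tv_smul, ← tv_add_left (by simp [hθ]) hw] at h2
    refine hθ0 (hC _ (fun h => hwx (mem_span_singleton.2 ⟨-(f w ⬝ᵥ e), ?_⟩)) _ (by simp [hθ, hw]) h2)
    rw [neg_smul, neg_eq_of_add_eq_zero_right h]
  have eqv : ∀ (g : SLι) (c : F), g • x = x → θ ᵥ* ((g⁻¹ : SLι) : Matrix ι ι F) = c • θ →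
      ∀ w w', θ ⬝ᵥ w = 0 → θ ⬝ᵥ w' = 0 → c * (f (g • w) ⬝ᵥ g • w') = f w ⬝ᵥ w' := by
    intro g c hg hc w w' hw hw'
    obtain ⟨ρ, hρ, hk⟩ := hP g 1 (by rw [hg, one_smul])
    set k := tv x ρ * g with hkd
    have h1 : k • x = (1 : F) • x := by rw [hkd, mul_smul, hg, tv_fix hρ hρ, one_smul]
    have h2 : θ ᵥ* ((k⁻¹ : SLι) : Matrix ι ι F) = c • θ := by
      rw [hkd, _root_.mul_inv_rev, Matrix.SpecialLinearGroup.coe_mul, ← vecMul_vecMul, hc, tv_inv,
        vecMul_tv (by simp [hρ])]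
      simp [hθ]
    have hc0 : c ≠ 0 := by
      rintro rfl
      exact sl_vecMul_ne_zero _ hθ0 (by rw [hc, zero_smul])
    have h3 : ∀ {v}, θ ⬝ᵥ v = 0 → θ ⬝ᵥ g • v = 0 := fun {v} hv => by
      have := sl_dot_conj g θ v
      rwa [hc, hv, smul_dotProduct, smul_eq_zero_iff_right hc0] at this
    have h4 : ∀ {v}, θ ⬝ᵥ v = 0 → θ ⬝ᵥ k • v = 0 := fun {v} hv => by
      rw [hkd, mul_smul, tv_smul_eq hρ]
      simp [h3 hv, hθ]
    have h5 := H.mul_mem (H.mul_mem hk (hf w hw).2) (H.inv_mem hk)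
    rw [show k * (tv x (f w) * tv w θ) * k⁻¹ = k * tv x (f w) * k⁻¹ * (k * tv w θ * k⁻¹) by group,
      conj_tv_of_smul h1, tv_conj k w, h2, ← tv_smul c] at h5
    have h6 : θ ⬝ᵥ c • k • w = 0 := by rw [dotProduct_smul, h4 hw, smul_zero]
    have h7 := uniq _ _ _ (hf _ h6).1 ((dot_of_smul h1).trans (hf w hw).1) (hf _ h6).2 h5
    have kk : ∀ {u}, θ ⬝ᵥ u = 0 → ∀ v, f u ⬝ᵥ k • v = f u ⬝ᵥ g • v := fun {u} hu v => by
      rw [hkd, mul_smul, tv_smul_eq hρ, dotProduct_add, dotProduct_smul, (hf _ hu).1, smul_zero,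
        add_zero]
    rw [← kk (h3 hw), sym (h4 hw') (h3 hw), ← kk (h4 hw'), ← smul_eq_mul, ← dotProduct_smul,
      sym h6 (h4 hw'), h7, one_smul, sl_smul k w', sl_dot_conj]
  have dil : ∀ β : F, β ≠ 0 → ∀ z ζ, θ ⬝ᵥ z = 0 → ζ ⬝ᵥ x = 0 → ζ ⬝ᵥ z = 1 → ∀ w, θ ⬝ᵥ w = 0 →
      β * (β * (f z ⬝ᵥ (w + ((β - 1) * ζ ⬝ᵥ w) • z))) = f z ⬝ᵥ w := by
    intro β hβ z ζ hz h1 h2 w hw
    let g : SLι := ⟨(1 + vecMulVec ((β - 1) • z) ζ) * (1 + vecMulVec ((β⁻¹ - 1) • e) θ), by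
      rw [det_mul, det_one_add_vecMulVec, det_one_add_vecMulVec]
      simp [h2, hθe, hβ]⟩
    have h3 : ∀ v, θ ⬝ᵥ v = 0 → g • v = v + ((β - 1) * ζ ⬝ᵥ v) • z := fun v hv => by
      rw [sl_smul, ← mulVec_mulVec]
      simp only [add_mulVec, vecMulVec_mulVec', hv, one_mulVec, zero_smul, add_zero]
      rw [smul_smul, mul_comm]
    have h5 := eqv g β (by simp [h3 x hθ, h1]) (by
      have : θ ᵥ* (g : Matrix ι ι F) = β⁻¹ • θ := by
        simp [g, ← vecMul_vecMul, vecMul_add, vecMul_vecMulVec, hz, hθe, sub_smul]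
      conv_lhs => rw [← smul_inv_smul₀ hβ θ, ← this, smul_vecMul, sl_vecMul_vecMul_inv]) z w hz hw
    have h6 : θ ⬝ᵥ g • w = 0 := by simp [h3 w hw, hw, hz]
    rw [sym h6 (by simp [h3 z hz, hz]), h3 z hz, h2, mul_one, ← one_smul F z, smul_smul, ← add_smul,
      dotProduct_smul, sym hz h6, h3 w hw] at h5
    simpa using h5
  have sing : ∀ {z}, z ∉ F ∙ x → ∃ ζ, ζ ⬝ᵥ x = 0 ∧ ζ ⬝ᵥ z = 1 := fun hz => by
    obtain ⟨ζ, h1, h2⟩ := exists_dot hz
    exact ⟨ζ, h1 x (mem_span_singleton_self x), h2⟩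
  obtain ⟨z, hz, hzx⟩ := exists_notMem_of_finrank_lt (U := F ∙ x) (A := dperp θ) (by omega)
  replace hz := mem hz
  obtain ⟨w', hw', hzw⟩ := nd z hz hzx
  have hd2 := finrank_span_insert_le (F := F) x {z}
  have hd3 := finrank_span_single_le (F := F) z
  by_cases hn : Fintype.card ι = 3
  · have h1 : f z ⬝ᵥ z ≠ 0 := fun h => hzw (by
      have h5 : span F {x, z} = dperp θ := Submodule.eq_of_le_of_finrank_le (span_le.2 (by
        rintro _ (rfl | rfl)
        exacts [mem_dperp.2 (by rwa [dotProduct_comm]), mem_dperp.2 (by rwa [dotProduct_comm])]))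
        (by rw [span_insert, finrank_sup_span_singleton hzx, finrank_span_singleton hx]; omega)
      obtain ⟨a, b, rfl⟩ := mem_span_pair.1 (h5 ▸ mem_dperp.2 (by rwa [dotProduct_comm]) :
        w' ∈ span F {x, z})
      simp [h, (hf z hz).1])
    obtain ⟨ζ, h5, h6⟩ := sing hzx
    have h7 := dil (-1) (by simp) z ζ hz h5 h6 z hz
    have h8 : (2 : F) = 0 := by
      simp only [h6, dotProduct_add, dotProduct_smul, smul_eq_mul] at h7
      exact (mul_eq_zero.1 (show 2 * (f z ⬝ᵥ z) = 0 by linear_combination -h7)).resolve_right h1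
    have h9 := congrArg (· ⬝ᵥ e) (add hz hz)
    rw [← two_smul F z, h8, zero_smul, hC x hx (f 0) (hf 0 (by simp)).1
      (by simpa using (hf 0 (by simp)).2)] at h9
    simp only [add_dotProduct, sub_dotProduct, smul_dotProduct, hθe, smul_eq_mul,
      zero_dotProduct] at h9
    exact h1 (by linear_combination h9 + (f z ⬝ᵥ e) * h8)
  have tr : ∀ {y φ w w'}, θ ⬝ᵥ y = 0 → φ ⬝ᵥ x = 0 → φ ⬝ᵥ y = 0 → θ ⬝ᵥ w = 0 → θ ⬝ᵥ w' = 0 →
      φ ⬝ᵥ w' = 0 → φ ⬝ᵥ w = 1 → f w' ⬝ᵥ y = 0 := by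
    intro y φ w w' hy h1 h2 hw hw' h5 h6
    have h7 := eqv (tv y φ) 1 (tv_fix h2 h1) (by
      rw [tv_inv, vecMul_tv (by simp [h2])]; simp [hy]) w' w hw' hw
    simpa [tv_fix h2 h5, tv_smul_eq h2, h6] using h7
  have alt : ∀ {y}, θ ⬝ᵥ y = 0 → f y ⬝ᵥ y = 0 := fun {y} hy => by
    have := finrank_span_insert_le (F := F) x {y}
    have := finrank_span_single_le (F := F) y
    obtain ⟨w, hw, hwy⟩ := exists_notMem_of_finrank_lt (U := span F {x, y}) (A := dperp θ) (by omega)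
    obtain ⟨φ, h1, h2, h5⟩ := exists_dot₂ hwy
    exact tr hy h1 h2 (mem hw) hy h2 h5
  by_cases hn' : Fintype.card ι = 4
  · have h1 := alt (show θ ⬝ᵥ (z + w') = 0 by simp [hz, hw'])
    rw [add hz hw'] at h1
    simp only [add_dotProduct, sub_dotProduct, dotProduct_add, smul_dotProduct, alt hz, alt hw',
      hz, hw', sym hz hw', smul_zero] at h1
    have h2 : (2 : F) = 0 :=
      (mul_eq_zero.1 (show 2 * (f z ⬝ᵥ w') = 0 by linear_combination h1)).resolve_right hzw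
    obtain ⟨ζ, h5, h6⟩ := sing hzx
    refine h4 ⟨hn', Nat.card_eq_two_iff.2 ⟨0, 1, zero_ne_one, Set.eq_univ_of_forall fun β => ?_⟩⟩
    refine or_iff_not_imp_left.2 fun hβ => ?_
    have h7 := dil β hβ z ζ hz h5 h6 w' hw'
    simp only [dotProduct_add, dotProduct_smul, alt hz, smul_zero, add_zero] at h7
    have h8 : (β - 1) ^ 2 = 0 := (mul_eq_zero.1 (show (β - 1) ^ 2 * (f z ⬝ᵥ w') = 0 by
      linear_combination h7 + (1 - β) * (f z ⬝ᵥ w') * h2)).resolve_right hzw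
    exact sub_eq_zero.1 (pow_eq_zero_iff two_ne_zero |>.1 h8)
  have := finrank_span_insert_le (F := F) x {z, w'}
  have := finrank_span_insert_le (F := F) z {w'}
  have := finrank_span_single_le (F := F) w'
  obtain ⟨w, hw, hwy⟩ := exists_notMem_of_finrank_lt (U := span F {x, z, w'}) (A := dperp θ)
    (by omega)
  obtain ⟨φ, h1, h2, h5, h6⟩ := exists_dot₃ hwy
  exact hzw (tr hw' h1 h5 (mem hw) hz h2 h6)

theorem sl_index (h3 : 3 ≤ Fintype.card ι) (h4 : ¬ (Fintype.card ι = 4 ∧ Nat.card F = 2))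
    (hH : H ≠ ⊤) : Nat.card F ^ Fintype.card ι - 1 ≤ H.index * (Nat.card F - 1) := by
  obtain ⟨r, hr⟩ : ∃ r, Nat.card F = r + 1 := ⟨Nat.card F - 1, by
    have := Finite.one_lt_card (α := F); omega⟩
  have hr0 : 0 < r := by have := Finite.one_lt_card (α := F); omega
  obtain ⟨z, hz⟩ : ∃ z, Nat.card F ^ Fintype.card ι = (r + 1) * z :=
    ⟨_, by rw [← hr, ← pow_succ', Nat.sub_add_cancel (show 1 ≤ Fintype.card ι by omega)]⟩
  by_contra hm
  replace hm : H.index * r + 1 < (r + 1) * z := by rw [hz, hr, Nat.add_sub_cancel] at hm; omega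
  have hV : Nat.card (ι → F) = (r + 1) * z := by
    rw [← hz, Nat.card_fun, Nat.card_eq_fintype_card (α := ι)]
  have hX : ∀ {x : ι → F}, x ≠ 0 → {0}ᶜ ⊆ corb F (⊤ : Subgroup SLι) x := fun hx y hy => by
    obtain ⟨g, hg⟩ := exists_smul_eq' h3 hx hy
    exact ⟨g, trivial, 1, one_ne_zero, by rw [one_smul, hg]⟩
  have hX' : ({0}ᶜ : Set (ι → F)).ncard + 1 = (r + 1) * z := by
    rw [← hV, ← Set.ncard_add_ncard_compl ({0} : Set (ι → F)), Set.ncard_singleton, add_comm]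
  by_cases hA : ∃ x ≠ 0, TA H x
  · obtain ⟨x, hx, hxA⟩ := hA
    let S : Submodule F (ι → F) :=
      { carrier := {v | TA H v}
        zero_mem' := fun φ _ => by simp
        smul_mem' := fun a v hv => by simpa using TA.conj hv H.one_mem a
        add_mem' := fun {u v} hu hv => by
          by_cases h : v ∈ F ∙ u
          · obtain ⟨a, rfl⟩ := mem_span_singleton.1 h
            simpa [add_smul] using TA.conj hu H.one_mem (1 + a)
          · obtain ⟨φ, h1, h2⟩ := exists_dot h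
            have h5 := h1 u (mem_span_singleton_self u)
            simpa [tv_smul_eq h5, h2, add_comm] using TA.conj hv (hu φ h5) 1 }
    have hS : ∀ g ∈ H, ∀ v ∈ S, g • v ∈ S := fun g hg v hv => one_smul F (g • v) ▸ TA.conj hv hg 1
    obtain ⟨y, hy⟩ : ∃ y, y ∉ S := by
      by_contra! hc
      exact hH (eq_top_iff.2 fun g _ => sl_transvection_induction (· ∈ H) H.one_mem
        (fun i j h c => by rw [transvection_eq_tv]; exact hc _ _ (by simp [h.symm]))
        (fun _ _ => H.mul_mem) g)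
    have hy0 : y ≠ 0 := fun e => hy (e ▸ S.zero_mem)
    by_cases h1 : S ≤ F ∙ x
    · have := le_of_fix hx (hX hx) fun g hg => by
        obtain ⟨a, ha⟩ := mem_span_singleton.1 (h1 (hS g hg x hxA))
        exact ⟨a, ha.symm⟩
      rw [hr, Nat.add_sub_cancel] at this
      omega
    have h2 : ∀ φ, φ ⬝ᵥ y = 0 → tv y φ ∈ H → ∀ v ∈ S, φ ⬝ᵥ v = 0 := fun φ h5 h6 v hv => by
      by_contra h7
      have := S.sub_mem (hS _ h6 v hv) hv
      rw [tv_smul_eq h5, add_sub_cancel_left] at this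
      exact hy ((S.smul_mem_iff h7).1 this)
    obtain ⟨h5, ⟨u, hu⟩ | hC⟩ := types h3 hr hz hm hy0 hy
    · have h6 : S ≤ span F {y, u} := fun v hv => by
        by_contra h7
        obtain ⟨φ, h8, h9, h10⟩ := exists_dot₂ h7
        exact zero_ne_one ((h2 φ h8 (hu.2 φ h8 h9) v hv).symm.trans h10)
      obtain ⟨x', hx', hx''⟩ := SetLike.not_le_iff_exists.1 h1
      have h7 : finrank F ↥((F ∙ x) ⊔ F ∙ x') ≤ finrank F S :=
        Submodule.finrank_mono (sup_le ((span_singleton_le_iff_mem _ _).2 hxA)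
          ((span_singleton_le_iff_mem _ _).2 hx'))
      rw [finrank_sup_span_singleton hx'', finrank_span_singleton hx] at h7
      have := finrank_span_insert_le (F := F) y {u}
      have := finrank_span_single_le (F := F) u
      exact hy (Submodule.eq_of_le_of_finrank_le h6 (by omega) ▸ subset_span (by simp))
    have h6 : S ⊔ (F ∙ y) = ⊤ := eq_top_iff.2 fun w _ => by
      by_cases hw : w ∈ F ∙ y
      · exact mem_sup_right hw
      obtain ⟨g, hg, rfl⟩ := exists_fix_smul_eq h3 (u := x) (fun h => by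
        obtain ⟨a, rfl⟩ := mem_span_singleton.1 h
        exact hy ((S.smul_mem_iff (left_ne_zero_of_smul hx)).1 hxA)) hw
      obtain ⟨φ, h7, h8⟩ := hC.exists_mul hr hz hm hy0 (g := g) (a := 1) (by rw [one_smul]; exact hg)
      have h9 := hS _ h8 x hxA
      rw [mul_smul, tv_smul_eq h7] at h9
      simpa using sub_mem (mem_sup_left h9)
        (mem_sup_right (mem_span_singleton (y := y).2 ⟨φ ⬝ᵥ g • x, rfl⟩))
    have h7 := finrank_sup_span_singleton hy
    rw [h6, finrank_top, finrank_fintype_fun_eq_card] at h7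
    have h8 : (S : Set (ι → F)).ncard = z := by
      rw [h7, pow_succ', ← Module.natCard_eq_pow_finrank, hr] at hz
      exact Nat.eq_of_mul_eq_mul_left r.succ_pos hz
    have h9 := mul_mx_le (H := H) hy0 (hX hy0) (T := (S : Set (ι → F))ᶜ) (by
      rintro _ ⟨g, hg, a, ha, rfl⟩ h
      simpa using hy (by simpa using hS _ (H.inv_mem hg) _ ((S.smul_mem_iff ha).1 h)))
    have h10 := Set.ncard_add_ncard_compl (S : Set (ι → F))
    rw [h8, hV] at h10
    have h11 : ((S : Set (ι → F))ᶜ).ncard = r * z := by nlinarith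
    have h12 : 0 < z := by rcases z with _ | z <;> omega
    rw [h11] at h9
    have h13 := (Nat.mul_le_mul_left _ h5).trans h9
    rw [← mul_assoc] at h13
    have := Nat.le_of_mul_le_mul_right h13 h12
    omega
  push Not at hA
  have : Nonempty ι := Fintype.card_pos_iff.1 (by omega)
  obtain ⟨x, hx⟩ := exists_ne (0 : ι → F)
  have h1 : ∀ y ≠ 0, y ∈ corb F H x := fun y hy => by
    by_contra h
    have := mx_add_le hx (hX hx hy) h
    have := (types h3 hr hz hm hx (hA x hx)).1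
    have := (types h3 hr hz hm hy (hA y hy)).1
    nlinarith [Nat.mul_le_mul_right r (show 2 * z ≤ H.index by omega)]
  rcases (types h3 hr hz hm hx (hA x hx)).2 with ⟨u, hu⟩ | hC
  · exact not_all_TB h3 hA fun y hy => by
      obtain ⟨g, hg, a, ha, rfl⟩ := h1 y hy
      exact ⟨_, hu.conj hg ha⟩
  · exact not_all_TC h3 h4 (fun y hy => by
      obtain ⟨g, hg, a, ha, rfl⟩ := h1 y hy
      exact hC.conj hg ha) hx fun g a hg => hC.exists_mul hr hz hm hx hg

end Types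

end Cfsg.Agent.Cl.MI
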