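import Mathlib
import Cfsg.Agent.Cl.ClassOrd

/-!
# Counting Jordan data: recurrences and bounds for the class numbers of `GL_n(q)`, `GU_n(q)`
-/

set_option autoImplicit false

namespace Cfsg.Agent.Cl.Cls

open Finset

section Defs

variable {K : Type*} [Field K]

/-- Stable multisets of nonzero elements of given size. -/
def IsSt (a : ℤ) (k : ℕ) (R : Multiset K) : Prop :=
  R.card = k ∧ (0 : K) ∉ R ∧ R.map (· ^ a) = R

variable (K) in
/-- The number of Jordan data of size `n` with all blocks larger than `j`. -/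
noncomputable def nJD (a : ℤ) (j n : ℕ) : ℕ :=
  Nat.card {J : Multiset (K × ℕ) // IsJD a n J ∧ ∀ x ∈ J, j < x.2}

variable (K) in
/-- The numbers of stable multisets are `1, m, m q, m q ^ 2, …`. -/
structure ECount (a : ℤ) (m q : ℕ) : Prop where
  m_pos : 0 < m
  q_pos : 0 < q
  card : ∀ k, Nat.card {R : Multiset K // IsSt a (k + 1) R} = m * q ^ k

variable {a : ℤ} {m q n j : ℕ} {J : Multiset (K × ℕ)}

theorem isSt_zero_iff {R : Multiset K} : IsSt a 0 R ↔ R = 0 :=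
  ⟨fun h => Multiset.card_eq_zero.1 h.1, by rintro rfl; simp [IsSt]⟩

theorem card_isSt_zero : Nat.card {R : Multiset K // IsSt a 0 R} = 1 := by simp [isSt_zero_iff]

theorem ECount.finite (h : ECount K a m q) (k : ℕ) : Finite {R : Multiset K // IsSt a k R} := by
  refine Nat.finite_of_card_ne_zero ?_
  cases k with
  | zero => rw [card_isSt_zero]; exact one_ne_zero
  | succ k => rw [h.card]; exact (Nat.mul_pos h.m_pos (Nat.pow_pos h.q_pos)).ne'

theorem isJD_pair {k i : ℕ} {R : Multiset K} (h : IsSt a k R) (hi : 0 < i) :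
    IsJD a (i * k) (R.map fun μ => (μ, i)) := by
  refine ⟨Multiset.forall_mem_map_iff.2 fun μ hμ (h0 : μ = 0) => h.2.1 (h0 ▸ hμ),
    Multiset.forall_mem_map_iff.2 fun _ _ => hi, by simp [h.1, mul_comm], ?_⟩
  conv_rhs => rw [← h.2.2]
  simp

theorem IsJD.isSt_slice (hJ : IsJD a n J) (i : ℕ) : IsSt a (slice J i).card (slice J i) :=
  ⟨rfl, fun h => hJ.ne_zero _ (mem_slice.1 h) rfl, by rw [← slice_map, hJ.stable]⟩

theorem IsJD.sum_filter (hJ : IsJD a n J) (i : ℕ) :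
    i * (slice J i).card + ((J.filter fun x => x.2 ≠ i).map Prod.snd).sum = n := by
  rw [← hJ.sum]
  conv_rhs => rw [← slice_add_filter J i]
  simp [mul_comm]

theorem IsJD.filter (hJ : IsJD a n J) (i : ℕ) :
    IsJD a (n - i * (slice J i).card) (J.filter fun x => x.2 ≠ i) :=
  ⟨fun x hx => hJ.ne_zero x (Multiset.mem_of_mem_filter hx),
    fun x hx => hJ.pos x (Multiset.mem_of_mem_filter hx),
    Nat.eq_sub_of_add_eq' (hJ.sum_filter i),
    by rw [← filter_map_prodMap _ _ (· ≠ i), hJ.stable]⟩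

/-- Removing the smallest blocks. -/
def sliceEquiv (a : ℤ) (j n k : ℕ) (hk : (j + 1) * k ≤ n) :
    {J : Multiset (K × ℕ) // (IsJD a n J ∧ ∀ x ∈ J, j < x.2) ∧ (slice J (j + 1)).card = k} ≃
      {R : Multiset K // IsSt a k R} ×
        {J : Multiset (K × ℕ) // IsJD a (n - (j + 1) * k) J ∧ ∀ x ∈ J, j + 1 < x.2} where
  toFun J := (⟨slice J.1 (j + 1), J.2.2, (J.2.1.1.isSt_slice _).2⟩,
    ⟨J.1.filter fun x => x.2 ≠ j + 1, (J.2.1.1.filter _).cast (by rw [J.2.2]), fun x hx =>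
      lt_of_le_of_ne (J.2.1.2 x (Multiset.mem_of_mem_filter hx))
        (Multiset.mem_filter.1 hx).2.symm⟩)
  invFun x := ⟨x.1.1.map (fun μ => (μ, j + 1)) + x.2.1,
    ⟨((isJD_pair x.1.2 j.succ_pos).add x.2.2.1).cast (Nat.add_sub_cancel' hk),
      forall_mem_add.2 ⟨Multiset.forall_mem_map_iff.2 fun _ _ => j.lt_succ_self,
        fun y hy => j.lt_succ_self.trans (x.2.2.2 y hy)⟩⟩, by
      rw [slice_pair_add _ _ fun y hy => (x.2.2.2 y hy).ne', x.1.2.1]⟩
  left_inv J := Subtype.ext (slice_add_filter _ _)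
  right_inv x := Prod.ext (Subtype.ext (slice_pair_add _ _ fun y hy => (x.2.2.2 y hy).ne'))
    (Subtype.ext (filter_pair_add _ _ fun y hy => (x.2.2.2 y hy).ne'))

theorem exists_slice_card (P : Multiset (K × ℕ) → Prop) :
    (IsJD a n J ∧ P J) ↔ ∃ k ∈ range (n / (j + 1) + 1),
      (IsJD a n J ∧ P J) ∧ (slice J (j + 1)).card = k :=
  ⟨fun h => ⟨_, mem_range.2 (Nat.lt_succ_of_le ((Nat.le_div_iff_mul_le j.succ_pos).2 (by
    rw [mul_comm, ← h.1.sum_filter (j + 1)]
    exact Nat.le_add_right _ _))), h, rfl⟩, fun ⟨_, _, h, _⟩ => h⟩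

theorem mul_le_of_mem_range {k : ℕ} (h : k ∈ range (n / (j + 1) + 1)) : (j + 1) * k ≤ n :=
  mul_comm k _ ▸ (Nat.le_div_iff_mul_le j.succ_pos).1 (Nat.lt_succ_iff.1 (mem_range.1 h))

theorem isJD_iff_of_le (h : n ≤ j) : (IsJD a n J ∧ ∀ x ∈ J, j < x.2) ↔ n = 0 ∧ J = 0 := by
  refine ⟨fun ⟨h1, h2⟩ => ?_, by
    rintro ⟨rfl, rfl⟩
    exact ⟨⟨by simp, by simp, rfl, rfl⟩, by simp⟩⟩
  obtain rfl : J = 0 := Multiset.eq_zero_of_forall_notMem fun x hx =>
    ((h2 x hx).trans_le (h1.le hx)).not_ge h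
  exact ⟨h1.sum.symm, rfl⟩

theorem nJD_of_le (h : n ≤ j) : nJD K a j n = if n = 0 then 1 else 0 := by
  simp only [nJD, isJD_iff_of_le h]
  split_ifs with h0 <;> simp [h0]

theorem nJD_zero (j : ℕ) : nJD K a j 0 = 1 := by rw [nJD_of_le j.zero_le, if_pos rfl]

theorem finite_exists {α β : Type*} (T : Finset β) (P : β → α → Prop)
    [∀ b : T, Finite {a // P b a}] : Finite {a // ∃ b ∈ T, P b a} :=
  Finite.of_surjective (fun x : Σ b : T, {a // P b a} => ⟨x.2.1, x.1.1, x.1.2, x.2.2⟩)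
    fun ⟨a, b, hb, ha⟩ => ⟨⟨⟨b, hb⟩, a, ha⟩, rfl⟩

theorem ECount.finite_aux (h : ECount K a m q) (d : ℕ) : ∀ j n, n ≤ j + d →
    Finite {J : Multiset (K × ℕ) // IsJD a n J ∧ ∀ x ∈ J, j < x.2} := by
  induction d with
  | zero =>
    intro j n hn
    exact Set.Finite.subset (Set.finite_singleton 0) fun _ h => ((isJD_iff_of_le hn).1 h).2
  | succ d ih =>
    intro j n hn
    have : ∀ k : range (n / (j + 1) + 1), Finite {J : Multiset (K × ℕ) //
        (IsJD a n J ∧ ∀ x ∈ J, j < x.2) ∧ (slice J (j + 1)).card = k} := fun k => by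
      have := h.finite k
      have := ih (j + 1) (n - (j + 1) * k) (by omega)
      exact Finite.of_equiv _ (sliceEquiv a j n k (mul_le_of_mem_range k.2)).symm
    exact Finite.of_equiv _ (Equiv.subtypeEquivRight fun J =>
      (exists_slice_card (j := j) (fun J => ∀ x ∈ J, j < x.2)).symm) (h := finite_exists _ _)

theorem ECount.finite_JD (h : ECount K a m q) (n : ℕ) (P : Multiset (K × ℕ) → Prop) :
    Finite {J : Multiset (K × ℕ) // IsJD a n J ∧ P J} :=
  Set.Finite.subset (h.finite_aux n 0 n (by omega)) fun _ h => ⟨h.1, h.1.pos⟩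

theorem ECount.nJD_eq_sum (h : ECount K a m q) (j n : ℕ) :
    nJD K a j n = ∑ k ∈ range (n / (j + 1) + 1),
      Nat.card {R : Multiset K // IsSt a k R} * nJD K a (j + 1) (n - (j + 1) * k) := by
  have : ∀ k : range (n / (j + 1) + 1), Finite {J : Multiset (K × ℕ) //
      (IsJD a n J ∧ ∀ x ∈ J, j < x.2) ∧ (slice J (j + 1)).card = k} := fun k =>
    Set.Finite.subset (h.finite_JD n fun _ => True) fun _ h => ⟨h.1.1, trivial⟩
  rw [nJD, Nat.card_congr (Equiv.subtypeEquivRight fun J =>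
    exists_slice_card (j := j) fun J => ∀ x ∈ J, j < x.2), card_exists_eq_sum _ _
      fun J b c hb hc => hb.2.symm.trans hc.2, ← Finset.sum_coe_sort (range _)]
  exact Finset.sum_congr rfl fun k _ => by
    rw [Nat.card_congr (sliceEquiv a j n k (mul_le_of_mem_range k.2)), Nat.card_prod, nJD]

theorem ECount.nJD_rec (h : ECount K a m q) (j n : ℕ) :
    nJD K a j (n + (j + 1)) + q * nJD K a (j + 1) n =
      nJD K a (j + 1) (n + (j + 1)) + m * nJD K a (j + 1) n + q * nJD K a j n := by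
  rw [h.nJD_eq_sum j (n + (j + 1)), h.nJD_eq_sum j n, Nat.add_div_right _ j.succ_pos,
    Finset.sum_range_succ', Finset.sum_range_succ', Finset.sum_range_succ' _ (n / (j + 1))]
  simp only [h.card, card_isSt_zero, mul_add, mul_one, mul_zero, Nat.sub_zero, one_mul, pow_zero,
    Nat.add_sub_add_right, Finset.mul_sum, zero_add, Nat.add_sub_cancel, pow_succ]
  rw [Finset.sum_congr rfl fun k _ => (show ∀ y, m * (q ^ k * q) * y = q * (m * q ^ k * y) from
    fun y => by ring) _]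
  ring

theorem nJD_of_lt (hn : n ≤ j) : nJD K a j n = nJD K a (j + 1) n := by
  rw [nJD_of_le hn, nJD_of_le (hn.trans j.le_succ)]

theorem ECount.nJD_succ (h : ECount K a m q) (j : ℕ) : nJD K a j (j + 1) = m := by
  have h1 := h.nJD_rec j 0
  rw [zero_add, nJD_zero, nJD_zero, nJD_of_le le_rfl, if_neg j.succ_ne_zero] at h1
  omega

theorem ECount.nJD_two (h : ECount K a m q) : nJD K a 0 2 = m + q * m := by
  have h1 := h.nJD_rec 0 1
  have h2 : nJD K a 1 2 = m := h.nJD_succ 1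
  rw [h.nJD_succ 0, nJD_of_le le_rfl, if_neg (by omega)] at h1
  change nJD K a 0 2 + _ = nJD K a 1 2 + _ + _ at h1
  omega

end Defs

section Linear

variable {K : Type*} [Field K] {a : ℤ} {m : ℕ} (h : ECount K a m (m + 1))

include h

theorem ECount.sum_nJD (n : ℕ) : ∑ j ∈ range (n + 1), nJD K a j (n - j) = (m + 1) ^ n := by
  induction n with
  | zero => simp [nJD_zero]
  | succ n ih =>
    have h1 : ∀ j ∈ range (n + 1), nJD K a j (n + 1) + nJD K a (j + 1) (n + 1 - (j + 1)) =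
        nJD K a (j + 1) (n + 1) + (m + 1) * nJD K a j (n - j) := fun j hj => by
      have h1 := h.nJD_rec j (n - j)
      rw [show n - j + (j + 1) = n + 1 by have := mem_range.1 hj; omega] at h1
      rw [Nat.add_sub_add_right]
      linarith
    have h2 := Finset.sum_congr rfl h1
    rw [Finset.sum_add_distrib, Finset.sum_add_distrib, ← Finset.mul_sum, ih,
      Finset.sum_range_succ' (fun j => nJD K a j (n + 1)),
      Finset.sum_range_succ (fun j => nJD K a (j + 1) (n + 1)), nJD_of_le le_rfl,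
      if_neg n.succ_ne_zero] at h2
    rw [Finset.sum_range_succ', pow_succ', Nat.sub_zero]
    omega

theorem ECount.nJD_le_pow (n : ℕ) : nJD K a 0 n ≤ (m + 1) ^ n := by
  rw [← h.sum_nJD, Finset.sum_range_succ']
  exact Nat.le_add_left _ _

theorem ECount.nJD_three : nJD K a 0 3 + (m + 1) ≤ (m + 1) ^ 3 := by
  rw [← h.sum_nJD]
  simp only [Finset.sum_range_succ, Finset.sum_range_zero, Nat.sub_zero]
  rw [h.nJD_succ 1, nJD_zero]
  omega

end Linear

section Unitary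

variable {K : Type*} [Field K] {a : ℤ} {q : ℕ} (h : ECount K a (q + 1) q)

include h

theorem ECount.nJD_rec' (j n : ℕ) : (nJD K a j (n + (j + 1)) : ℚ) =
    nJD K a (j + 1) (n + (j + 1)) + nJD K a (j + 1) n + q * nJD K a j n := by
  have h1 := h.nJD_rec j n
  exact_mod_cast (by linarith)

theorem ECount.sum_le {x : ℚ} (hx : 0 ≤ x) (hq : q * x = 1) (j N : ℕ) :
    (1 - x ^ j) * ∑ n ∈ range N, (nJD K a j n : ℚ) * x ^ n ≤
      (1 + x ^ (j + 1)) * ∑ n ∈ range N, (nJD K a (j + 1) n : ℚ) * x ^ n := by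
  have h1 : ∀ (i : ℕ) {M N : ℕ}, M ≤ N → ∑ n ∈ range M, (nJD K a i n : ℚ) * x ^ n ≤
      ∑ n ∈ range N, (nJD K a i n : ℚ) * x ^ n := fun i _ _ hM =>
    Finset.sum_le_sum_of_subset_of_nonneg (range_mono hM) fun _ _ _ => by positivity
  have h0 : ∀ i N : ℕ, 0 ≤ ∑ n ∈ range N, (nJD K a i n : ℚ) * x ^ n := fun i N =>
    Finset.sum_nonneg fun _ _ => by positivity
  have h2 : ∀ {M}, M ≤ j + 1 → ∑ n ∈ range M, (nJD K a j n : ℚ) * x ^ n =
      ∑ n ∈ range M, (nJD K a (j + 1) n : ℚ) * x ^ n := fun hM =>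
    Finset.sum_congr rfl fun n hn => by rw [nJD_of_lt (by have := mem_range.1 hn; omega)]
  have h3 := pow_nonneg hx j
  have h4 := pow_nonneg hx (j + 1)
  obtain hN | hN := le_total N (j + 1)
  · rw [h2 hN]
    nlinarith [h0 (j + 1) N]
  obtain ⟨M, rfl⟩ := Nat.exists_eq_add_of_le hN
  have h5 : ∑ n ∈ range (j + 1 + M), (nJD K a j n : ℚ) * x ^ n =
      ∑ n ∈ range (j + 1 + M), (nJD K a (j + 1) n : ℚ) * x ^ n +
        x ^ (j + 1) * ∑ n ∈ range M, (nJD K a (j + 1) n : ℚ) * x ^ n +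
        x ^ j * ∑ n ∈ range M, (nJD K a j n : ℚ) * x ^ n := by
    rw [Finset.sum_range_add _ (j + 1), Finset.sum_range_add _ (j + 1), h2 le_rfl,
      Finset.mul_sum, Finset.mul_sum, add_assoc, add_assoc, ← Finset.sum_add_distrib, ← Finset.sum_add_distrib]
    congr 1
    refine Finset.sum_congr rfl fun n _ => ?_
    rw [add_comm (j + 1) n, h.nJD_rec']
    linear_combination (nJD K a j n : ℚ) * x ^ n * x ^ j * hq
  nlinarith [mul_le_mul_of_nonneg_left (h1 (j + 1) (Nat.le_add_left M (j + 1))) h4,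
    mul_le_mul_of_nonneg_left (h1 j (Nat.le_add_left M (j + 1))) h3]

theorem ECount.sum_le_of_le {x : ℚ} (hx : 0 ≤ x) (hq : q * x = 1) (N d : ℕ) : ∀ j, N ≤ j + d →
    (x ≤ 1 / 3 ∧ x ^ j ≤ 1 / 3 ∨ x ≤ 1 / 2 ∧ x ^ j ≤ 1 / 8) →
    ∑ n ∈ range N, (nJD K a j n : ℚ) * x ^ n ≤ 1 + 9 / 2 * x ^ j := by
  induction d with
  | zero =>
    intro j hj _
    refine le_trans ?_ (le_add_of_nonneg_right (by positivity))
    rw [Finset.sum_congr rfl fun n hn => by
      rw [nJD_of_le (by have := mem_range.1 hn; omega), Nat.cast_ite, ite_mul, Nat.cast_zero,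
        zero_mul], Finset.sum_ite_eq']
    split_ifs <;> simp
  | succ d ih =>
    intro j hj h1
    have h2 := pow_nonneg hx j
    have h3 := ih (j + 1) (by omega) (by
      rw [pow_succ]
      exact h1.imp (fun h => ⟨h.1, by nlinarith⟩) fun h => ⟨h.1, by nlinarith⟩)
    have h4 := (h.sum_le hx hq j N).trans (mul_le_mul_of_nonneg_left h3 (by positivity))
    rw [pow_succ] at h4
    generalize x ^ j = y at *
    refine le_of_mul_le_mul_left (h4.trans ?_) (show 0 < 1 - y by rcases h1 with h | h <;> linarith)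
    have h5 : x + 1 + 9 / 2 * (x + x * x * y + y) ≤ 9 / 2 := by
      rcases h1 with ⟨h5, h6⟩ | ⟨h5, h6⟩
      · nlinarith [mul_le_mul (mul_le_mul h5 h5 hx (by norm_num)) h6 h2 (by norm_num)]
      · nlinarith [mul_le_mul (mul_le_mul h5 h5 hx (by norm_num)) h6 h2 (by norm_num)]
    nlinarith [mul_le_mul_of_nonneg_left h5 h2]

theorem ECount.mul_pow_le {x : ℚ} (hx : 0 ≤ x) (hq : q * x = 1) (n : ℕ) :
    (nJD K a 0 n : ℚ) * x ^ n ≤ (1 + x) * ∑ i ∈ range (n + 1), (nJD K a 1 i : ℚ) * x ^ i := by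
  have h1 : (nJD K a 0 n : ℚ) * x ^ n = ∑ i ∈ range (n + 1), (nJD K a 1 i : ℚ) * x ^ i +
      x * ∑ i ∈ range n, (nJD K a 1 i : ℚ) * x ^ i := by
    induction n with
    | zero => simp [nJD_zero]
    | succ n ih =>
      rw [Finset.sum_range_succ _ (n + 1), h.nJD_rec' 0 n]
      rw [Finset.sum_range_succ] at ih ⊢
      linear_combination ih + (nJD K a 0 n : ℚ) * x ^ n * hq
  rw [h1, add_mul, one_mul]
  gcongr
  exact n.le_succ

theorem ECount.nJD_le_four_mul (hq : 3 ≤ q) (n : ℕ) : nJD K a 0 n ≤ 4 * q ^ n := by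
  have h0 : (3 : ℚ) ≤ q := by exact_mod_cast hq
  have h1 : (q : ℚ) * (q : ℚ)⁻¹ = 1 := mul_inv_cancel₀ (by positivity)
  have h2 : (q : ℚ)⁻¹ ≤ 1 / 3 := by rw [one_div]; gcongr
  have h3 : (0 : ℚ) ≤ (q : ℚ)⁻¹ := by positivity
  have h4 := (h.mul_pow_le h3 h1 n).trans (mul_le_mul_of_nonneg_left
    (h.sum_le_of_le h3 h1 (n + 1) n 1 (by omega) (Or.inl ⟨h2, by rwa [pow_one]⟩)) (by positivity))
  rw [inv_pow, ← div_eq_mul_inv, div_le_iff₀ (by positivity), pow_one] at h4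
  exact_mod_cast h4.trans (mul_le_mul_of_nonneg_right (by nlinarith : _ ≤ (4 : ℚ)) (by positivity))

theorem ECount.nJD_le_nine_mul (hq : q = 2) (n : ℕ) : nJD K a 0 n ≤ 9 * 2 ^ n := by
  subst hq
  have h1 : ((2 : ℕ) : ℚ) * (1 / 2) = 1 := by norm_num
  have h3 : (0 : ℚ) ≤ 1 / 2 := by positivity
  have h4 := h.mul_pow_le h3 h1 n
  have h5 := h.sum_le h3 h1 1 (n + 1)
  have h6 := h.sum_le h3 h1 2 (n + 1)
  have h7 := h.sum_le_of_le h3 h1 (n + 1) n 3 (by omega) (Or.inr ⟨le_rfl, by norm_num⟩)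
  have h8 : (nJD K a 0 n : ℚ) * (1 / 2) ^ n ≤ 9 := by
    norm_num at h4 h5 h6 h7 ⊢
    linarith
  rw [one_div, inv_pow, ← div_eq_mul_inv, div_le_iff₀ (by positivity)] at h8
  exact_mod_cast h8

end Unitary

end Cfsg.Agent.Cl.Cls
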