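import Mathlib
import Cfsg.Agent.Cl.ClassNumA

/-!
# Class numbers: double counting in a group with a determinant map
-/

set_option autoImplicit false

namespace Cfsg.Agent.Cl.Cls

open Finset

section Group

variable {G H A : Type*} [Group G] [Group H] [Group A]

/-- The number of conjugacy classes meeting `P`. -/
noncomputable def ccl (P : G → Prop) : ℕ :=
  Nat.card {C : ConjClasses G // ∃ g, ConjClasses.mk g = C ∧ P g}

theorem ccl_true : ccl (fun _ : G => True) = Nat.card (ConjClasses G) :=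
  Nat.card_congr (Equiv.subtypeUnivEquiv fun C =>
    let ⟨g, h⟩ := ConjClasses.mk_surjective C; ⟨g, h, trivial⟩)

theorem ccl_mono [Finite G] {P Q : G → Prop} (h : ∀ g, P g → Q g) : ccl P ≤ ccl Q :=
  Nat.card_le_card_of_injective (Subtype.map id fun _ ⟨g, h1, h2⟩ => ⟨g, h1, h g h2⟩)
    (Subtype.map_injective _ Function.injective_id)

theorem ccl_mul_card [Fintype G] {P : G → Prop} (hP : ∀ a b, IsConj a b → P a → P b) :
    ccl P * Nat.card G = ∑ y : G, Nat.card {x // P x ∧ Commute y x} := by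
  let S : SubMulAction (ConjAct G) G := ⟨{x | P x}, fun c x hx => hP x _ (isConj_iff.2 ⟨_, rfl⟩) hx⟩
  have h := burnside_of_map (Z := ConjAct G) (X := S)
    (Y := {C : ConjClasses G // ∃ g, ConjClasses.mk g = C ∧ P g})
    (fun x => ⟨ConjClasses.mk x.1, x.1, rfl, x.2⟩)
    (by rintro ⟨_, g, rfl, hg⟩; exact ⟨⟨g, hg⟩, rfl⟩) fun x x' => by
      rw [Subtype.ext_iff, ConjClasses.mk_eq_mk_iff_isConj, isConj_comm, isConj_iff]
      exact ⟨fun ⟨c, hc⟩ => ⟨ConjAct.toConjAct c, Subtype.ext hc⟩,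
        fun ⟨c, hc⟩ => ⟨ConjAct.ofConjAct c, congrArg Subtype.val hc⟩⟩
  refine h.trans (Finset.sum_congr rfl fun y _ => Nat.card_congr
    ((Equiv.subtypeEquivRight fun x => ?_).trans (Equiv.subtypeSubtypeEquivSubtypeInter P _)))
  exact Subtype.ext_iff.trans mul_inv_eq_iff_eq_mul

open Classical in
theorem ccl_mul_card' [Fintype G] {P : G → Prop} (hP : ∀ a b, IsConj a b → P a → P b) :
    ccl P * Nat.card G = ∑ x : G, if P x then Nat.card {y // Commute x y} else 0 := by
  rw [ccl_mul_card hP]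
  simp only [Nat.card_eq_fintype_card, Fintype.card_subtype, Finset.card_filter]
  rw [Finset.sum_comm]
  refine Finset.sum_congr rfl fun x _ => ?_
  by_cases h : P x <;> simp [h, commute_iff_eq, eq_comm]

theorem le_mul_card_filter {m u : ℕ} (hu : 0 < u) (B : ℕ → Prop) [DecidablePred B]
    (h : ∀ j, B (u * j)) : m ≤ u * #{i ∈ range m | B i} := by
  have h1 := Finset.card_le_card_of_injOn (s := range m) (t := range u ×ˢ {i ∈ range m | B i})
    (fun t => (t % u, u * (t / u))) (fun t ht => by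
      simp only [coe_product, coe_filter, Set.mem_prod, coe_range, Set.mem_Iio, mem_range,
        Set.mem_ofPred_eq] at ht ⊢
      exact ⟨Nat.mod_lt _ hu, (Nat.mul_div_le _ _).trans_lt ht, h _⟩)
    fun s _ t _ hst => by
      rw [← Nat.mod_add_div s u, ← Nat.mod_add_div t u]
      exact congrArg₂ (· + ·) (Prod.ext_iff.1 hst).1 (Prod.ext_iff.1 hst).2
  rwa [card_product, card_range, card_range] at h1

theorem card_fiber_mul_le [Finite G] (φ : G →* A) (c : A) :
    Nat.card {x // φ x = c} * Nat.card φ.range ≤ Nat.card G := by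
  rw [Subgroup.card_eq_card_quotient_mul_card_subgroup φ.ker,
    Nat.card_congr (QuotientGroup.quotientKerEquivRange φ).toEquiv, mul_comm]
  refine Nat.mul_le_mul_left _ ?_
  obtain h | ⟨⟨x, rfl⟩⟩ := isEmpty_or_nonempty {x // φ x = c}
  · simp
  · exact Nat.card_le_card_of_injective (fun y => ⟨x⁻¹ * y, by simp [y.2]⟩)
      fun y z h => Subtype.ext (mul_left_cancel (congrArg Subtype.val h))

open Classical in
theorem mul_card_fiber_le [Finite G] (φ : G →* A) {ζ : A} {y : G} {B : ℕ → Prop}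
    (h : ∀ k, B k → ∃ c, Commute y c ∧ φ c = ζ ^ k) (c : A) :
    orderOf ζ * Nat.card {x // φ x = c ∧ Commute y x} ≤ Nat.card {x // Commute y x} *
      #{i ∈ range (orderOf ζ) | ∀ k, B k → orderOf ζ ∣ i * k} := by
  have h3 : ∀ x, x ∈ Subgroup.centralizer {y} ↔ Commute y x := fun x =>
    Subgroup.mem_centralizer_singleton_iff.trans eq_comm
  have h1 := card_fiber_mul_le (φ.comp (Subgroup.centralizer {y}).subtype) c
  have : Finite (φ.comp (Subgroup.centralizer {y}).subtype).range := Set.finite_range _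
  have h2 := le_mul_card_filter (m := orderOf ζ)
    (Nat.card_pos (α := (φ.comp (Subgroup.centralizer {y}).subtype).range))
    (fun i => ∀ k, B k → orderOf ζ ∣ i * k) fun j k hk => by
      obtain ⟨c, h1, h2⟩ := h k hk
      have h4 := congrArg Subtype.val (pow_card_eq_one' (x := (⟨ζ ^ k, ⟨c, (h3 c).2 h1⟩, h2⟩ :
        (φ.comp (Subgroup.centralizer {y}).subtype).range)))
      rw [mul_right_comm, mul_comm _ k]
      exact (orderOf_dvd_iff_pow_eq_one.2 ((pow_mul _ _ _).trans h4)).mul_right _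
  rw [show Nat.card {x // φ.comp (Subgroup.centralizer {y}).subtype x = c} = _ from
    Nat.card_congr (Equiv.subtypeSubtypeEquivSubtypeInter _ (φ · = c)),
    Nat.card_congr (Equiv.subtypeEquivRight h3),
    Nat.card_congr (Equiv.subtypeEquivRight fun x => and_comm.trans (and_congr_right' (h3 x)))] at h1
  calc _ ≤ _ := Nat.mul_le_mul_right _ h2
    _ ≤ _ := by
      rw [mul_right_comm, mul_comm _ (Nat.card {x // φ x = c ∧ Commute y x})]
      exact Nat.mul_le_mul_right _ h1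

variable [Finite G] (φ : G →* A) {ζ : A} {B : G → ℕ → Prop}
  (hB : ∀ a b, IsConj a b → ∀ k, B b k → B a k)
  (h : ∀ y k, B y k → ∃ c, Commute y c ∧ φ c = ζ ^ k)

include hB h

theorem mul_ccl_le (c : A) (hc : ∀ a b, IsConj a b → φ a = c → φ b = c) :
    orderOf ζ * ccl (φ · = c) ≤
      ∑ i ∈ range (orderOf ζ), ccl fun y => ∀ k, B y k → orderOf ζ ∣ i * k := by
  classical
  have := Fintype.ofFinite G
  refine Nat.le_of_mul_le_mul_right ?_ (Nat.card_pos (α := G))
  rw [mul_assoc, ccl_mul_card hc, Finset.mul_sum, Finset.sum_mul,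
    Finset.sum_congr rfl fun i _ => ccl_mul_card' (P := fun y => ∀ k, B y k → orderOf ζ ∣ i * k)
      fun a b hab ha k hk => ha k (hB a b hab k hk), Finset.sum_comm]
  refine Finset.sum_le_sum fun y _ => (mul_card_fiber_le φ (h y) c).trans_eq ?_
  rw [← Finset.sum_filter, Finset.sum_const, smul_eq_mul, mul_comm]

theorem ccl_le_sum (ι : H →* G) (hι : Function.Injective ι) (hr : ι.range = φ.ker)
    (hG : φ.range ≤ Subgroup.zpowers ζ) (hζ : 0 < orderOf ζ) {Q : H → Prop} {Q' : G → Prop}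
    (hQ : ∀ a b, IsConj a b → Q a → Q b) (hQ' : ∀ a b, IsConj a b → Q' a → Q' b)
    (hQQ : ∀ x, Q x → Q' (ι x)) :
    ccl Q ≤ ∑ i ∈ range (orderOf ζ), ccl fun y => Q' y ∧ ∀ k, B y k → orderOf ζ ∣ i * k := by
  classical
  have := Fintype.ofFinite G
  have := Finite.of_injective ι hι
  have := Fintype.ofFinite H
  have h1 : Nat.card G ≤ orderOf ζ * Nat.card H := by
    rw [Subgroup.card_eq_card_quotient_mul_card_subgroup φ.ker,
      Nat.card_congr (QuotientGroup.quotientKerEquivRange φ).toEquiv, ← hr,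
      ← Nat.card_congr (MonoidHom.ofInjective hι).toEquiv, ← Nat.card_zpowers]
    have : Finite (Subgroup.zpowers ζ) := Nat.finite_of_card_ne_zero (Nat.card_zpowers ζ ▸ hζ.ne')
    exact Nat.mul_le_mul_right _ (Subgroup.card_le_of_le hG)
  refine Nat.le_of_mul_le_mul_right ((Nat.mul_le_mul_left _ h1).trans ?_) (Nat.card_pos (α := G))
  rw [mul_left_comm, ccl_mul_card' hQ, Finset.mul_sum, Finset.sum_mul,
    Finset.sum_congr rfl fun i _ => ccl_mul_card'
      (P := fun y => Q' y ∧ ∀ k, B y k → orderOf ζ ∣ i * k)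
      fun a b hab ha => ⟨hQ' a b hab ha.1, fun k hk => ha.2 k (hB a b hab k hk)⟩, Finset.sum_comm]
  refine le_trans (Finset.sum_le_sum fun x _ => ?_) ((Finset.sum_map univ ⟨ι, hι⟩ _).ge.trans
    (Finset.sum_le_sum_of_subset (subset_univ _)))
  split_ifs with hx
  · simp only [Function.Embedding.coeFn_mk, hQQ x hx, true_and]
    rw [← Finset.sum_filter, Finset.sum_const, smul_eq_mul, mul_comm #_]
    refine le_trans (Nat.mul_le_mul_left _ ?_) (mul_card_fiber_le φ (h (ι x)) 1)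
    exact Nat.card_le_card_of_injective (fun y => ⟨ι y, (hr.le ⟨y, rfl⟩ :), y.2.map ι⟩)
      fun y z hyz => Subtype.ext (hι (congrArg Subtype.val hyz))
  · exact Nat.zero_le _

end Group

section JD

theorem card_le_of_exists {α β : Type*} (f : β → α) {P : α → Prop} {Q : β → Prop}
    [Finite {y // Q y}] (h : ∀ x, P x → ∃ y, Q y ∧ f y = x) :
    Nat.card {x // P x} ≤ Nat.card {y // Q y} := by
  choose g hg hfg using h
  exact Nat.card_le_card_of_injective (fun x => ⟨g x.1 x.2, hg _ _⟩) fun x y hxy =>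
    Subtype.ext ((hfg x.1 x.2).symm.trans ((congrArg f (congrArg Subtype.val hxy)).trans
      (hfg y.1 y.2)))

theorem sum_ite_dvd_le {m n b : ℕ} (f : ℕ → ℕ) (h : ∀ d, 2 ≤ d → d ∣ n → d ∣ m → f d ≤ b) :
    ∑ i ∈ Ico 1 m, (if m ∣ n * i then f (m / m.gcd i) else 0) ≤ (n.gcd m - 1) * b := by
  obtain rfl | hm := Nat.eq_zero_or_pos m
  · simp
  rw [← Finset.sum_filter]
  refine (Finset.sum_le_card_nsmul _ _ b fun i hi => ?_).trans (Nat.mul_le_mul_right _ ?_)
  · obtain ⟨h1, h2⟩ := mem_filter.1 hi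
    refine h _ ?_ ((div_gcd_dvd_iff hm).2 h2) (Nat.div_dvd_of_dvd (Nat.gcd_dvd_left _ _))
    by_contra h3
    have h4 : m / m.gcd i ∣ 1 := Nat.dvd_one.2 (by
      have := Nat.div_pos (Nat.gcd_le_left i hm) (Nat.gcd_pos_of_pos_left i hm)
      omega)
    have h5 := mem_Ico.1 h1
    exact (Nat.le_of_dvd h5.1 (by simpa using (div_gcd_dvd_iff hm).1 h4)).not_gt h5.2
  · simp only [mul_comm n, ← div_gcd_dvd_iff hm]
    rw [show Ico 1 m = Ioc 0 (m - 1) by ext; simp; omega, Nat.Ioc_filter_dvd_card_eq_div]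
    refine Nat.le_sub_one_of_lt ((Nat.div_lt_iff_lt_mul
      (Nat.div_pos (Nat.gcd_le_left n hm) (Nat.gcd_pos_of_pos_left n hm))).2 ?_)
    rw [Nat.gcd_comm n, Nat.mul_div_cancel' (Nat.gcd_dvd_left _ _)]
    omega

variable {K : Type*} [Field K]

variable (K) in
/-- The number of Jordan data of size `n` with property `P`. -/
noncomputable def cJ (a : ℤ) (n : ℕ) (P : Multiset (K × ℕ) → Prop) : ℕ :=
  Nat.card {J : Multiset (K × ℕ) // IsJD a n J ∧ P J}

/-- All block sizes are multiples of `m / gcd m i`. -/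
def BD (m i : ℕ) (J : Multiset (K × ℕ)) : Prop := ∀ x ∈ J, m ∣ x.2 * i

/-- An upper bound for the number of classes of `SL^ε_n(q)`. -/
noncomputable def sJ (a : ℤ) (m n : ℕ) (c : K) : ℕ :=
  ∑ i ∈ range m, cJ K a n fun J => jdet J = c ∧ BD m i J

variable (K) in
/-- The error term. -/
noncomputable def tJ (a : ℤ) (m n : ℕ) : ℕ :=
  ∑ i ∈ Ico 1 m, if m ∣ n * i then nJD K a 0 (n / (m / m.gcd i)) else 0

variable (K) in
/-- The determinant is nearly equidistributed on Jordan data. -/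
def EDet (a : ℤ) (m : ℕ) : Prop :=
  ∀ n c, m * cJ K a n (jdet · = c) ≤ ∑ i ∈ range m, cJ K a n (BD m i)

variable {a : ℤ} {m q n : ℕ} {J : Multiset (K × ℕ)} {P Q : Multiset (K × ℕ) → Prop}

theorem cJ_congr (h : ∀ J, IsJD a n J → (P J ↔ Q J)) : cJ K a n P = cJ K a n Q :=
  Nat.card_congr (Equiv.subtypeEquivRight fun J => and_congr_right (h J))

theorem cJ_true : cJ K a n (fun _ => True) = nJD K a 0 n :=
  Nat.card_congr (Equiv.subtypeEquivRight fun _ => and_congr_right fun h => iff_of_true trivial h.pos)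

theorem IsJD.exists_scale (hJ : IsJD a n J) {d : ℕ} (hd : 0 < d) (h : ∀ x ∈ J, d ∣ x.2) :
    d ∣ n ∧ ∃ I, (IsJD a (n / d) I ∧ jdet I ^ d = jdet J) ∧ I.map (Prod.map id (· * d)) = J := by
  obtain ⟨I, rfl⟩ : ∃ I : Multiset (K × ℕ), I.map (Prod.map id (· * d)) = J :=
    ⟨J.map (Prod.map id (· / d)), by
      rw [Multiset.map_map]
      refine Eq.trans (Multiset.map_congr rfl fun x hx => ?_) (Multiset.map_id _)
      exact Prod.ext rfl (Nat.div_mul_cancel (h x hx))⟩
  have h1 : n = (I.map Prod.snd).sum * d := by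
    rw [← hJ.sum, Multiset.map_map, ← Multiset.sum_map_mul_right]
    rfl
  refine ⟨h1 ▸ dvd_mul_left _ _, I, ⟨⟨
    fun x hx => hJ.ne_zero (Prod.map id (· * d) x) (Multiset.mem_map_of_mem _ hx),
    fun x hx => Nat.pos_of_mul_pos_right (hJ.pos _ (Multiset.mem_map_of_mem _ hx)),
    by rw [h1, Nat.mul_div_cancel _ hd], Multiset.map_injective
      (Function.injective_id.prodMap (mul_left_injective₀ hd.ne')) ?_⟩, ?_⟩, rfl⟩
  · rw [← hJ.stable]
    simp only [Multiset.map_map]
    rfl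
  · simp only [jdet, Multiset.map_map, ← Multiset.prod_map_pow, ← pow_mul]
    rfl

theorem ECount.cJ_BD_le (h : ECount K a m q) (n i : ℕ) (R : K → Prop) :
    cJ K a n (fun J => R (jdet J) ∧ BD m i J) ≤ if m ∣ n * i then
      cJ K a (n / (m / m.gcd i)) (fun J => R (jdet J ^ (m / m.gcd i))) else 0 := by
  have h1 : ∀ J : Multiset (K × ℕ), IsJD a n J ∧ R (jdet J) ∧ BD m i J → _ := fun J hJ =>
    hJ.1.exists_scale (Nat.div_pos (Nat.gcd_le_left i h.m_pos) (Nat.gcd_pos_of_pos_left i h.m_pos))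
      fun x hx => (div_gcd_dvd_iff h.m_pos).2 (hJ.2.2 x hx)
  split_ifs with h2
  · have := h.finite_JD (n / (m / m.gcd i)) fun J => R (jdet J ^ (m / m.gcd i))
    exact card_le_of_exists _ fun J hJ =>
      let ⟨I, h3, h4⟩ := (h1 J hJ).2
      ⟨I, ⟨h3.1, (congrArg R h3.2).mpr hJ.2.1⟩, h4⟩
  · exact (Nat.card_eq_zero.2 (Or.inl ⟨fun J =>
      h2 ((div_gcd_dvd_iff h.m_pos).1 (h1 J.1 J.2).1)⟩)).le

theorem ECount.sum_BD_le (h : ECount K a m q) (n : ℕ) (R : K → Prop) :
    ∑ i ∈ range m, cJ K a n (fun J => R (jdet J) ∧ BD m i J) ≤ cJ K a n (fun J => R (jdet J)) +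
      ∑ i ∈ Ico 1 m, if m ∣ n * i then
        cJ K a (n / (m / m.gcd i)) (fun J => R (jdet J ^ (m / m.gcd i))) else 0 := by
  rw [Finset.range_eq_Ico, Finset.sum_eq_sum_Ico_succ_bot h.m_pos]
  exact add_le_add (cJ_congr fun J _ => and_iff_left fun _ _ => dvd_zero _).le
    (Finset.sum_le_sum fun i _ => h.cJ_BD_le n i R)

theorem ECount.cJ_le (h : ECount K a m q) (n : ℕ) (P : Multiset (K × ℕ) → Prop) :
    cJ K a n P ≤ nJD K a 0 n := by
  have := h.finite_JD n fun J => ∀ x ∈ J, 0 < x.2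
  exact card_le_of_exists id fun J hJ => ⟨J, ⟨hJ.1, hJ.1.pos⟩, rfl⟩

theorem ECount.mul_cJ_le (h : ECount K a m q) (hd : EDet K a m) (n : ℕ) (c : K) :
    m * cJ K a n (jdet · = c) ≤ nJD K a 0 n + tJ K a m n := by
  have h1 := h.sum_BD_le n fun _ => True
  simp only [true_and, cJ_true] at h1
  exact (hd n c).trans h1

theorem ECount.mul_sJ_le (h : ECount K a m q) (hd : EDet K a m) (n : ℕ) (c : K) :
    m * sJ a m n c ≤ nJD K a 0 n + (m + 1) * tJ K a m n := by
  have h1 : sJ a m n c ≤ _ + tJ K a m n := (h.sum_BD_le n (· = c)).trans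
    (Nat.add_le_add_left (Finset.sum_le_sum fun i _ => by
      split_ifs
      exacts [h.cJ_le _ _, le_rfl]) _)
  nlinarith [h.mul_cJ_le hd n c, Nat.mul_le_mul_left m h1]

theorem tJ_le {b : ℕ} (h : ∀ d, 2 ≤ d → d ∣ n → d ∣ m → nJD K a 0 (n / d) ≤ b) :
    tJ K a m n ≤ (n.gcd m - 1) * b :=
  sum_ite_dvd_le (fun d => nJD K a 0 (n / d)) h

theorem cJ_one_le {d : ℕ} (hd : 0 < d) (c : K) : cJ K a 1 (jdet · ^ d = c) ≤ d := by
  classical
  refine le_trans (card_le_of_exists (Q := (· ∈ (Polynomial.nthRoots d c).toFinset))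
    (fun ν => {(ν, 1)}) fun J hJ => ?_) ?_
  · have h1 := Multiset.card_nsmul_le_sum (s := J.map Prod.snd) (a := 1)
      (Multiset.forall_mem_map_iff.2 hJ.1.pos)
    have h2 : J ≠ 0 := fun h => by simpa [h] using hJ.1.sum
    rw [hJ.1.sum, Multiset.card_map, smul_eq_mul, mul_one] at h1
    obtain ⟨⟨ν, k⟩, rfl⟩ := Multiset.card_eq_one.1 (h1.antisymm (Multiset.card_pos.2 h2))
    obtain rfl : k = 1 := by simpa using hJ.1.sum
    exact ⟨ν, by simpa [Polynomial.mem_nthRoots hd, jdet] using hJ.2, rfl⟩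
  · rw [Nat.card_eq_fintype_card, Fintype.card_coe]
    exact (Multiset.toFinset_card_le _).trans (Polynomial.card_nthRoots _ _)

theorem ECount.sJ_one_le (h : ECount K a m q) (c : K) : sJ a m 1 c ≤ 1 := by
  have h1 := cJ_one_le (a := a) one_pos c
  simp only [pow_one] at h1
  refine (h.sum_BD_le 1 (· = c)).trans ((add_le_add h1 (sum_ite_dvd_le (b := 0)
    (fun d => cJ K a (1 / d) (jdet · ^ d = c)) fun d h1 h2 => ?_)).trans_eq rfl)
  exact absurd (Nat.le_of_dvd one_pos h2) (by omega)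

theorem ECount.sJ_two_le (h : ECount K a m q) (hd : EDet K a m) (c : K) :
    sJ a m 2 c ≤ q + 1 + 3 * (Nat.gcd 2 m - 1) := by
  have h1 := (h.mul_cJ_le hd 2 c).trans (Nat.add_le_add_left (tJ_le (b := m) fun d h1 h2 _ => by
    rw [(Nat.le_of_dvd two_pos h2).antisymm h1]
    exact (h.nJD_succ 0).le) _)
  have h2 := (h.sum_BD_le 2 (· = c)).trans (Nat.add_le_add_left (sum_ite_dvd_le (b := 2)
    (fun d => cJ K a (2 / d) (jdet · ^ d = c)) fun d h1 h2 _ => by
      rw [(Nat.le_of_dvd two_pos h2).antisymm h1]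
      exact cJ_one_le two_pos c) _)
  rw [h.nJD_two] at h1
  have h3 : cJ K a 2 (jdet · = c) ≤ q + 1 + (Nat.gcd 2 m - 1) :=
    Nat.le_of_mul_le_mul_left (by linarith) h.m_pos
  unfold sJ
  omega

theorem gcd_sub_one_le (hm : 0 < m) (hn : 0 < n) :
    n.gcd m - 1 + 1 ≤ n ∧ n.gcd m - 1 + 1 ≤ m := by
  have := Nat.gcd_le_left m hn
  have := Nat.gcd_le_right n hm
  have := Nat.gcd_pos_of_pos_left m hn
  omega

theorem ECount.sJ_le_linear (h : ECount K a m (m + 1)) (hd : EDet K a m) (hn : 3 ≤ n) (c : K) :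
    sJ a m n c ≤ (m + 1) ^ (n - 1) + 3 * (m + 1) ^ (n - 2) := by
  have hm := h.m_pos
  refine Nat.le_of_mul_le_mul_left ((h.mul_sJ_le hd n c).trans ?_) hm
  have h1 := h.nJD_le_pow n
  obtain ⟨g1, g2⟩ := gcd_sub_one_le hm (show 0 < n by omega)
  obtain rfl | hn := hn.eq_or_lt
  · have h2 := tJ_le (K := K) (a := a) (n := 3) (m := m) (b := m) fun d h1 h2 _ => by
      rw [(Nat.prime_three.eq_one_or_self_of_dvd d h2).resolve_left (by omega)]
      exact (h.nJD_succ 0).le
    have h3 := h.nJD_three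
    have h4 := Nat.mul_le_mul_left (m + 1) (h2.trans (Nat.mul_le_mul_right m (by omega : _ ≤ 2)))
    norm_num
    nlinarith
  obtain rfl | hn := (Nat.succ_le_of_lt hn).eq_or_lt
  · obtain ⟨g3, g4⟩ := gcd_sub_one_le hm two_pos
    have h2 : tJ K a m 4 ≤ (Nat.gcd 2 m - 1) * ((m + 1) * m) + (Nat.gcd 4 m - 1) * m := by
      refine le_trans ?_ (add_le_add (sum_ite_dvd_le (fun _ => (m + 1) * m) fun _ _ _ _ => le_rfl)
        (sum_ite_dvd_le (fun _ => m) fun _ _ _ _ => le_rfl))
      rw [← Finset.sum_add_distrib]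
      refine Finset.sum_le_sum fun i hi => ?_
      have h3 : ¬ m ∣ 1 * i := fun h => by
        have := mem_Ico.1 hi
        have := Nat.le_of_dvd (by omega) h
        omega
      simp only [← div_gcd_dvd_iff hm] at h3 ⊢
      generalize m / m.gcd i = d at *
      by_cases h4 : d ∣ 4
      · have := Nat.le_of_dvd four_pos h4
        interval_cases d <;> simp [h.nJD_two, show nJD K a 0 1 = m from h.nJD_succ 0, add_comm]
          at h3 h4 ⊢
      · simp [h4]
    generalize Nat.gcd 2 m - 1 = x at *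
    generalize Nat.gcd (3 + 1) m - 1 = y at *
    have h4 : x * ((m + 1) * m) + y * m + (m + 1) ≤ (m + 1) * (2 * m) := by
      obtain h4 | h4 := le_or_gt 4 m
      · nlinarith [Nat.mul_le_mul_right ((m + 1) * m) (by omega : x ≤ 1),
          Nat.mul_le_mul_right m (by omega : y ≤ 3)]
      · interval_cases m <;> omega
    have h3 := Nat.mul_le_mul_left (m + 1) ((Nat.add_le_add_right h2 (m + 1)).trans h4)
    norm_num at h1 ⊢
    nlinarith
  · have h2 := tJ_le (K := K) (a := a) (n := n) (m := m) (b := (m + 1) ^ (n - 3))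
      fun d h1 _ _ => (h.nJD_le_pow _).trans (Nat.pow_le_pow_right m.succ_pos
        ((Nat.div_le_div_left h1 two_pos).trans (by omega)))
    obtain ⟨k, rfl⟩ : ∃ k, n = k + 3 := ⟨n - 3, by omega⟩
    have h4 := Nat.mul_le_mul_left (m + 1) (h2.trans (Nat.mul_le_mul_right _ (by omega : _ ≤ m - 1)))
    obtain ⟨m, rfl⟩ : ∃ k, m = k + 1 := ⟨m - 1, by omega⟩
    simp only [Nat.add_sub_cancel, show k + 3 - 1 = k + 2 from rfl, show k + 3 - 2 = k + 1 from rfl,
      pow_succ] at *
    nlinarith [Nat.zero_le ((m + 1 + 1) ^ k * m * m), Nat.zero_le ((m + 1 + 1) ^ k * m)]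

theorem ECount.two_mul_sJ_le (h : ECount K a m (m + 1)) (hd : EDet K a m) (hn : 0 < n) (c : K) :
    2 * sJ a m n c ≤ 5 * (m + 1) ^ (n - 1) := by
  have hm := h.m_pos
  obtain hn | hn := le_or_gt 3 n
  · have h1 := h.sJ_le_linear hd hn c
    obtain ⟨k, rfl⟩ : ∃ k, n = k + 2 := ⟨n - 2, by omega⟩
    simp only [Nat.add_sub_cancel, show k + 2 - 1 = k + 1 from rfl, pow_succ] at *
    nlinarith [Nat.mul_le_mul_left ((m + 1) ^ k) hm]
  interval_cases n
  · have := h.sJ_one_le c
    norm_num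
    omega
  · have := h.sJ_two_le hd c
    have := gcd_sub_one_le hm two_pos
    norm_num
    omega

theorem ECount.sJ_le_unitary (h : ECount K a (q + 1) q) (hd : EDet K a (q + 1)) (hq : 2 ≤ q)
    (hn : 2 ≤ n) (c : K) : 100 * sJ a (q + 1) n c ≤ 826 * q ^ (n - 1) := by
  have h1 := h.mul_sJ_le hd n c
  obtain ⟨g1, g2⟩ := gcd_sub_one_le (m := q + 1) q.succ_pos (show 0 < n by omega)
  obtain rfl | hq := hq.eq_or_lt
  · have h2 := h.nJD_le_nine_mul rfl n
    have h3 : 400 * tJ K a 3 n ≤ 339 * 2 ^ n := by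
      by_cases h3 : 3 ∣ n
      · obtain ⟨k, rfl⟩ := h3
        have h4 := tJ_le (K := K) (a := a) (n := 3 * k) (m := 3) (b := nJD K a 0 k)
          fun d h1 _ h2 => by
            rw [(Nat.prime_three.eq_one_or_self_of_dvd d h2).resolve_left (by omega),
              Nat.mul_div_cancel_left _ three_pos]
        rw [Nat.gcd_mul_right_left] at h4
        obtain h5 | h5 := le_or_gt 3 k
        · have h6 := h.nJD_le_nine_mul rfl k
          have h7 : 2 ^ (k + 6) ≤ 2 ^ (3 * k) := Nat.pow_le_pow_right two_pos (by omega)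
          rw [pow_add] at h7
          omega
        · have h6 : nJD K a 0 1 = 3 := h.nJD_succ 0
          have h7 := h.nJD_two
          interval_cases k <;> omega
      · have h4 := tJ_le (K := K) (a := a) (n := n) (m := 3) (b := 0) fun d h1 h4 h2 =>
          absurd ((Nat.prime_three.eq_one_or_self_of_dvd d h2).resolve_left (by omega) ▸ h4) h3
        omega
    obtain ⟨k, rfl⟩ : ∃ k, n = k + 1 := ⟨n - 1, by omega⟩
    norm_num [pow_succ] at *
    omega
  refine Nat.le_of_mul_le_mul_left (?_ : (q + 1) * _ ≤ (q + 1) * _) q.succ_pos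
  have h2 := h.nJD_le_four_mul hq n
  have h3 : tJ K a (q + 1) n ≤ 4 * q ^ (n - 1) := by
    refine (tJ_le (b := 4 * q ^ (n / 2)) fun d h1 _ _ => (h.nJD_le_four_mul hq _).trans
      (Nat.mul_le_mul_left _ (Nat.pow_le_pow_right (by omega)
        (Nat.div_le_div_left h1 two_pos)))).trans ?_
    obtain rfl | hn := hn.eq_or_lt
    · simpa using Nat.mul_le_mul_right (4 * q) (by omega : _ ≤ 1)
    · refine (Nat.mul_le_mul_right _ (by omega : _ ≤ q)).trans ?_
      rw [mul_left_comm, ← pow_succ']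
      exact Nat.mul_le_mul_left _ (Nat.pow_le_pow_right (by omega) (by omega))
  obtain ⟨k, rfl⟩ : ∃ k, n = k + 1 := ⟨n - 1, by omega⟩
  rw [Nat.add_sub_cancel] at *
  rw [pow_succ] at h2
  nlinarith [Nat.mul_le_mul_left (q + 1 + 1) h3, Nat.zero_le (q ^ k * q), Nat.zero_le (q ^ k)]

theorem exists_root_param {z : K} {e : ℕ} (hz : IsPrimitiveRoot z e) (he : 0 < e)
    (h0 : ∀ x ∈ J, x.1 ≠ 0) (h : J.map (Prod.map (z * ·) id) = J) :
    ∃ I : Multiset (K × ℕ), (I.bind fun x => (Polynomial.nthRoots e x.1).map (·, x.2)) = J ∧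
      J.map (Prod.map (· ^ e) id) = e • I ∧
      jdet J = (∏ j ∈ range e, z ^ j) ^ (I.map Prod.snd).sum * jdet I := by
  classical
  induction J using Multiset.strongInductionOn with
  | ih J ih =>
    obtain rfl | hne := eq_or_ne J 0
    · exact ⟨0, rfl, by simp, by simp [jdet]⟩
    obtain ⟨⟨μ, k⟩, hx⟩ := Multiset.exists_mem_of_ne_zero hne
    have hz0 := hz.ne_zero he.ne'
    have h1 := hz.nthRoots_eq (rfl : μ ^ e = μ ^ e)
    have h2 : ((Polynomial.nthRoots e (μ ^ e)).map (·, k)).Nodup :=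
      (hz.nthRoots_nodup (pow_ne_zero _ (h0 _ hx))).map fun _ _ h => (Prod.ext_iff.1 h).1
    have h3 : ∀ j, (z ^ j * μ, k) ∈ J := fun j => by
      induction j with
      | zero => simpa using hx
      | succ j ih =>
        rw [pow_succ', mul_assoc]
        exact h ▸ Multiset.mem_map_of_mem (Prod.map (z * ·) id) ih
    obtain ⟨J', rfl⟩ := Multiset.le_iff_exists_add.1 ((Multiset.le_iff_subset h2).2
      (show _ ⊆ J from fun x hx => by
        rw [h1, Multiset.map_map] at hx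
        obtain ⟨j, -, rfl⟩ := Multiset.mem_map.1 hx
        exact h3 j))
    have h4 : ((Polynomial.nthRoots e (μ ^ e)).map (·, k)).map (Prod.map (z * ·) id) =
        (Polynomial.nthRoots e (μ ^ e)).map (·, k) := by
      refine Multiset.eq_of_le_of_card_le ((Multiset.le_iff_subset (h2.map
        ((mul_right_injective₀ hz0).prodMap Function.injective_id))).2 fun x hx => ?_) (by simp)
      rw [Multiset.map_map] at hx
      obtain ⟨ν, h5, rfl⟩ := Multiset.mem_map.1 hx
      refine Multiset.mem_map_of_mem (·, k) ?_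
      rw [Polynomial.mem_nthRoots he] at h5 ⊢
      rw [mul_pow, hz.pow_eq_one, one_mul, h5]
    rw [Multiset.map_add, h4, add_right_inj] at h
    obtain ⟨I, h5, h6, h7⟩ := ih J' (lt_add_of_pos_left _ (Multiset.card_pos.1 (by
      simpa [h1] using he)).bot_lt) (fun x hx => h0 x (Multiset.mem_add.2 (Or.inr hx))) h
    refine ⟨(μ ^ e, k) ::ₘ I, by rw [Multiset.cons_bind, h5], ?_, ?_⟩
    · rw [Multiset.map_add, h6, Multiset.nsmul_cons, Multiset.nsmul_singleton, h1]
      simp [mul_pow, pow_right_comm z _ e, hz.pow_eq_one]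
    · rw [jdet_add, h7, h1, ← Multiset.singleton_add, jdet_add, jdet_singleton]
      simp only [jdet, Multiset.map_map, Function.comp_def, Multiset.prod_map_pow,
        Multiset.prod_map_mul, Multiset.map_const', Multiset.prod_replicate, Multiset.card_range,
        Multiset.map_add, Multiset.sum_add, Multiset.map_singleton, Multiset.sum_singleton,
        Finset.prod_eq_multiset_prod, Finset.range_val]
      ring

theorem ECount.cJ_fixed_le (h : ECount K a m q) {z : K} {e : ℕ} (hz : IsPrimitiveRoot z e)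
    (he : 0 < e) (n i : ℕ) :
    cJ K a n (fun J => (jdet J = 1 ∧ J.map (Prod.map (z * ·) id) = J) ∧ BD m i J) ≤
      cJ K a (n / e) fun J => jdet J = ((∏ j ∈ range e, z ^ j) ^ (n / e))⁻¹ ∧ BD m i J := by
  classical
  have := h.finite_JD (n / e) fun J => jdet J = ((∏ j ∈ range e, z ^ j) ^ (n / e))⁻¹ ∧ BD m i J
  refine card_le_of_exists (fun I => I.bind fun x => (Polynomial.nthRoots e x.1).map (·, x.2))
    fun J ⟨hJ, ⟨h1, h2⟩, h3⟩ => ?_
  obtain ⟨I, h4, h5, h6⟩ := exists_root_param hz he hJ.ne_zero h2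
  have h7 : ∀ x ∈ I, ∃ y ∈ J, (y.1 ^ e, y.2) = x := fun x hx =>
    Multiset.mem_map.1 (h5 ▸ (Multiset.mem_nsmul_of_ne_zero he.ne').2 hx)
  have h8 : (I.map Prod.snd).sum = n / e := by
    have h8 := congrArg (fun J => (J.map Prod.snd).sum) h5
    simp only [Multiset.map_map, Multiset.map_nsmul, Multiset.sum_nsmul, smul_eq_mul] at h8
    rw [← hJ.sum]
    exact (Nat.div_eq_of_eq_mul_right he h8).symm
  refine ⟨I, ⟨⟨fun x hx => ?_, fun x hx => ?_, h8, Multiset.ext.2 fun x =>
    Nat.eq_of_mul_eq_mul_left he ?_⟩, ?_, fun x hx => ?_⟩, h4⟩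
  · obtain ⟨y, hy, rfl⟩ := h7 x hx
    exact pow_ne_zero _ (hJ.ne_zero y hy)
  · obtain ⟨y, hy, rfl⟩ := h7 x hx
    exact hJ.pos y hy
  · rw [← Multiset.count_nsmul, ← Multiset.count_nsmul, ← Multiset.map_nsmul, ← h5]
    conv_rhs => rw [← hJ.stable]
    simp only [Multiset.map_map, Function.comp_def, Prod.map, ← zpow_natCast, ← zpow_mul, mul_comm]
  · exact eq_inv_of_mul_eq_one_right (by rw [← h8, ← h6, h1])
  · obtain ⟨y, hy, rfl⟩ := h7 x hx
    exact h3 y hy

end JD

end Cfsg.Agent.Cl.Cls
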