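import Mathlib
import Cfsg.Agent.Cl.ClassNumB

/-!
# Class numbers of `GL_n(q)`, `SL_n(q)`, `PSL_n(q)`, `GU_n(q)`, `SU_n(q)`
-/

set_option autoImplicit false

namespace Cfsg.Agent.Cl.Cls

open Finset Polynomial Matrix

section Abstract

variable {K : Type*} [Field K] {G H : Type*} [Group G] [Group H]

/-- A group whose classes are given by Jordan data, with its determinant. -/
structure EGrp (a : ℤ) (n : ℕ) (ζ : Kˣ) (jd : G → Multiset (K × ℕ)) (φ : G →* Kˣ) : Prop where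
  conj : ∀ g h, IsConj g h ↔ jd g = jd h
  isJD : ∀ g, IsJD a n (jd g)
  ex : ∀ J, IsJD a n J → ∃ g, jd g = J
  det : ∀ g, (φ g : K) = jdet (jd g)
  comm : ∀ g, ∀ x ∈ jd g, ∃ c, Commute g c ∧ φ c = ζ ^ x.2
  range : φ.range ≤ Subgroup.zpowers ζ

variable {a : ℤ} {n : ℕ} {ζ : Kˣ} {jd : G → Multiset (K × ℕ)} {φ : G →* Kˣ}
  (h : EGrp a n ζ jd φ)

include h

theorem EGrp.ccl_eq {P : G → Prop} {Q : Multiset (K × ℕ) → Prop} (hP : ∀ g, P g ↔ Q (jd g)) :
    ccl P = cJ K a n Q :=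
  card_conjClasses_eq_of_range _ jd _ (fun g g' _ _ => h.conj g g') fun J =>
    ⟨fun ⟨h1, h2⟩ => let ⟨g, hg⟩ := h.ex J h1; ⟨g, (hP g).2 (hg ▸ h2), hg⟩,
      by rintro ⟨g, h1, rfl⟩; exact ⟨h.isJD g, (hP g).1 h1⟩⟩

theorem EGrp.card_conjClasses : Nat.card (ConjClasses G) = nJD K a 0 n := by
  rw [← ccl_true, ← cJ_true]
  exact h.ccl_eq fun _ => Iff.rfl

omit h [Field K] in
theorem forall_iff_BD {m i : ℕ} {J : Multiset (K × ℕ)} :
    (∀ k, (∃ μ, (μ, k) ∈ J) → m ∣ i * k) ↔ BD m i J :=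
  ⟨fun h x hx => mul_comm i _ ▸ h x.2 ⟨x.1, hx⟩, fun h _ ⟨_, hx⟩ => mul_comm _ i ▸ h _ hx⟩

variable [Finite G]

theorem EGrp.mul_cJ_le (c : K) : orderOf ζ * cJ K a n (jdet · = c) ≤
    ∑ i ∈ Finset.range (orderOf ζ), cJ K a n (BD (orderOf ζ) i) := by
  obtain rfl | hc := eq_or_ne c 0
  · rw [cJ, Nat.card_eq_zero.2 (Or.inl ⟨fun J => J.2.1.jdet_ne_zero J.2.2⟩)]
    exact Nat.zero_le _
  have h1 := mul_ccl_le φ (B := fun g k => ∃ μ, (μ, k) ∈ jd g)
    (fun g g' hg k => (h.conj g g').1 hg ▸ id) (fun g k ⟨μ, hx⟩ => h.comm g _ hx) (Units.mk0 c hc)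
    fun g g' hg h1 => (isConj_iff_eq.1 (φ.map_isConj hg)).symm.trans h1
  rwa [h.ccl_eq (Q := (jdet · = c)) fun g => by rw [Units.ext_iff, h.det, Units.val_mk0],
    Finset.sum_congr rfl fun i _ => h.ccl_eq (Q := BD (orderOf ζ) i) fun g => forall_iff_BD] at h1

theorem EGrp.ccl_le_sum (ι : H →* G) (hι : Function.Injective ι) (hr : ι.range = φ.ker)
    (hζ : 0 < orderOf ζ) {P : H → Prop} {Q : Multiset (K × ℕ) → Prop}
    (hP : ∀ g g', IsConj g g' → P g → P g') (hQ : ∀ g, P g → Q (jd (ι g))) :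
    ccl P ≤ ∑ i ∈ Finset.range (orderOf ζ),
      cJ K a n fun J => (jdet J = 1 ∧ Q J) ∧ BD (orderOf ζ) i J := by
  have h1 := Cls.ccl_le_sum φ (B := fun g k => ∃ μ, (μ, k) ∈ jd g)
    (fun g g' hg k => (h.conj g g').1 hg ▸ id) (fun g k ⟨μ, hx⟩ => h.comm g _ hx) ι hι hr h.range
    hζ (Q' := fun g => jdet (jd g) = 1 ∧ Q (jd g)) hP (fun g g' hg => (h.conj g g').1 hg ▸ id)
    fun g hg => ⟨by rw [← h.det, MonoidHom.mem_ker.1 (hr.le ⟨g, rfl⟩), Units.val_one], hQ g hg⟩
  rwa [Finset.sum_congr rfl fun i _ => h.ccl_eq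
    (Q := fun J => (jdet J = 1 ∧ Q J) ∧ BD (orderOf ζ) i J)
    fun g => and_congr_right' forall_iff_BD] at h1

theorem EGrp.card_conjClasses_le (ι : H →* G) (hι : Function.Injective ι) (hr : ι.range = φ.ker)
    (hζ : 0 < orderOf ζ) : Nat.card (ConjClasses H) ≤ sJ a (orderOf ζ) n (1 : K) := by
  have h1 := h.ccl_le_sum ι hι hr hζ (P := fun _ => True) (Q := fun _ => True) (fun _ _ _ => id)
    fun _ => id
  simpa only [ccl_true, and_true, sJ] using h1

end Abstract

section Concrete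

variable {F : Type*} [Field F] (K : Type*) [Field K] [Algebra F K] [IsAlgClosed K]

theorem card_multiset_eq_card_monic [Fintype F] (k : ℕ) {P : F[X] → Prop} {Q : Multiset K → Prop}
    (h : ∀ f : F[X], f.Monic → (P f ↔ Q (f.aroots K)))
    (hQ : ∀ R, Q R → R.map (· ^ Fintype.card F) = R) :
    Nat.card {R : Multiset K // R.card = k ∧ Q R} =
      Nat.card {f : F[X] // f.Monic ∧ f.natDegree = k ∧ P f} := by
  have h1 : ∀ f : F[X], f.Monic → f.map (algebraMap F K) = ((f.aroots K).map fun a => X - C a).prod :=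
    fun f hf => (IsAlgClosed.splits _).eq_prod_roots_of_monic (hf.map _)
  refine (Nat.card_congr (Equiv.ofBijective (fun f => ⟨f.1.aroots K,
    IsAlgClosed.card_aroots_eq_natDegree.trans f.2.2.1, (h _ f.2.1).1 f.2.2.2⟩)
    ⟨fun f g hfg => Subtype.ext (Polynomial.map_injective _ (algebraMap F K).injective ?_),
      fun R => ?_⟩)).symm
  · rw [h1 _ f.2.1, h1 _ g.2.1, show f.1.aroots K = g.1.aroots K from Subtype.ext_iff.1 hfg]
  · obtain ⟨f, h2, h3, h4⟩ := spec_exists_poly (F := F) (hQ _ R.2.2)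
    have h5 : f.aroots K = R := by rw [aroots_def, h4, roots_multiset_prod_X_sub_C]
    exact ⟨⟨f, h2, h3.trans R.2.1, (h f h2).2 (h5 ▸ R.2.2)⟩, Subtype.ext h5⟩

omit [IsAlgClosed K] in
theorem zero_notMem_aroots {f : F[X]} (hf : f.Monic) : (0 : K) ∉ f.aroots K ↔ f.coeff 0 ≠ 0 := by
  simp [hf.ne_zero, ← coeff_zero_eq_aeval_zero']

variable (F) in
theorem eCount_GL [Fintype F] : ECount K (Fintype.card F) (Fintype.card F - 1) (Fintype.card F) := by
  refine ⟨Nat.sub_pos_of_lt Fintype.one_lt_card, Fintype.card_pos, fun k => ?_⟩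
  have h := card_monic_coeff_zero_ne (F := F) (k + 1) k.succ_pos
  rw [Nat.card_eq_fintype_card (α := F)] at h
  refine (card_multiset_eq_card_monic K _ (fun f hf => ?_) fun R hR => ?_).trans h
  · have := finiteDimensional_adjoinRoot hf.ne_zero
    rw [zero_notMem_aroots K hf, iff_self_and, ← charpoly_cyc hf]
    simpa only [zpow_natCast, evs] using fun _ => evs_map_frob (K := K) (cyc f)
  · simpa only [zpow_natCast] using hR.2

variable {K} {σ : F →+* F} {q : ℕ}

theorem eCount_GU (h : UField σ q) : ECount K (-q) (q + 1) q := by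
  classical
  have := h.finite
  have := Fintype.ofFinite F
  refine ⟨q.succ_pos, h.two_le.trans_lt' two_pos, fun k => ?_⟩
  refine (card_multiset_eq_card_monic K _ (P := fun f => f.coeff 0 ≠ 0 ∧ uDual σ f = f)
    (fun f hf => ?_) fun R hR => ?_).trans ?_
  · rw [zero_notMem_aroots K hf]
    refine and_congr_right fun h0 => ?_
    simp only [_root_.zpow_neg, zpow_natCast, ← aroots_uDual h hf h0]
    refine ⟨fun h => by rw [h], fun h1 => Polynomial.map_injective _ (algebraMap F K).injective ?_⟩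
    rw [(IsAlgClosed.splits _).eq_prod_roots_of_monic (hf.map _),
      (IsAlgClosed.splits _).eq_prod_roots_of_monic ((monic_uDual h0).map _), ← aroots_def, h1]
  · conv_rhs => rw [← hR.2, ← hR.2]
    rw [Multiset.map_map, ← Nat.card_eq_fintype_card, h.card]
    refine Multiset.map_congr rfl fun ν _ => ?_
    simp [← pow_mul, sq]
  · have : ∀ c : (univ : Finset (uNormOne σ)), Finite {f : F[X] //
        f.Monic ∧ f.natDegree = k + 1 ∧ f.coeff 0 = (c.1 : Fˣ) ∧ uDual σ f = f} := fun c =>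
      Nat.finite_of_card_ne_zero (by
        rw [card_monic_uDual_coeff_zero_eq h _ k.succ_pos c.1.2]
        exact pow_ne_zero _ (h.two_le.trans_lt' two_pos).ne')
    rw [Nat.card_congr (Equiv.subtypeEquivRight (q := fun f => ∃ c ∈ (univ : Finset (uNormOne σ)),
      f.Monic ∧ f.natDegree = k + 1 ∧ f.coeff 0 = ((c : Fˣ) : F) ∧ uDual σ f = f) fun f => ?_),
      card_exists_eq_sum _ _ fun f b c hb hc => Subtype.ext (Units.ext
        (hb.2.2.1.symm.trans hc.2.2.1)), Finset.sum_congr rfl fun (c : (univ : Finset (uNormOne σ))) _ =>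
        card_monic_uDual_coeff_zero_eq h _ k.succ_pos c.1.2, ← h.card_uNormOne]
    · simp
    · refine ⟨fun ⟨h1, h2, h3, h4⟩ => ⟨⟨Units.mk0 _ h3, ((uDual_eq_iff h1 h2 h3).1 h4).1⟩,
        mem_univ _, h1, h2, rfl, h4⟩, fun ⟨c, _, h1, h2, h3, h4⟩ => ⟨h1, h2, ?_, h4⟩⟩
      rw [h3]
      exact Units.ne_zero _

omit [IsAlgClosed K] in
theorem unitsMap_injective : Function.Injective (Units.map (algebraMap F K : F →* K)) :=
  Units.map_injective (algebraMap F K).injective

variable (K) in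
theorem exists_eGrp_GL (F : Type*) [Field F] [Fintype F] [Algebra F K] :
    ∃ ζ : Kˣ, orderOf ζ = Fintype.card F - 1 ∧ ∀ n, EGrp (Fintype.card F) n ζ
      (fun g : GL (Fin n) F => jdM K (g : Matrix (Fin n) (Fin n) F))
      ((Units.map (algebraMap F K : F →* K)).comp GeneralLinearGroup.det) := by
  obtain ⟨ζ, hζ⟩ := IsCyclic.exists_generator (α := Fˣ)
  refine ⟨Units.map (algebraMap F K : F →* K) ζ, ?_, fun n => ⟨fun g h => ?_, fun g => ?_,
    fun J hJ => ?_, fun g => ?_, fun g x hx => ?_, ?_⟩⟩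
  · rw [orderOf_injective _ unitsMap_injective,
      orderOf_eq_card_of_forall_mem_zpowers hζ, Nat.card_units, Nat.card_eq_fintype_card]
  · rw [isConj_units_iff, isConj_iff_jdM (K := K)]
  · exact (isJD_jdM g.isUnit).cast (Fintype.card_fin n)
  · exact exists_GL_jdM_eq (hJ.cast (Fintype.card_fin n).symm)
  · exact (jdet_jdM _).symm
  · obtain ⟨P, h1, h2, h3⟩ := exists_pow_mem_edM_of_mem_jdM hx
    obtain ⟨c, h4, h5⟩ := exists_GL_commute_det_eq h1 h2 h3 ζ
    exact ⟨c, h4, by rw [MonoidHom.comp_apply, h5, map_pow]⟩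
  · rintro _ ⟨g, rfl⟩
    rw [← MonoidHom.map_zpowers]
    exact Subgroup.mem_map_of_mem _ (hζ _)

theorem exists_eGrp_GU (h : UField σ q) :
    ∃ ζ : Kˣ, orderOf ζ = q + 1 ∧ ∀ n, EGrp (-q) n ζ
      (fun g : GU n F q => jdM K ((g : GL (Fin n) F) : Matrix (Fin n) (Fin n) F))
      ((Units.map (algebraMap F K : F →* K)).comp (detGU F n q)) := by
  have := h.finite
  obtain ⟨ζ, hζ⟩ := IsCyclic.exists_generator (α := uNormOne σ)
  refine ⟨Units.map (algebraMap F K : F →* K) ζ, ?_, fun n => ⟨fun g h => ?_, fun g => ?_,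
    fun J hJ => ?_, fun g => ?_, fun g x hx => ?_, ?_⟩⟩
  · rw [orderOf_injective _ unitsMap_injective, Subgroup.orderOf_coe,
      orderOf_eq_card_of_forall_mem_zpowers hζ, h.card_uNormOne]
  · rw [isConj_GU_iff ‹_›, isConj_units_iff, isConj_iff_jdM (K := K)]
  · exact (isJD_jdM_of_unitary h ((mem_GU_iff_uStar h _).1 g.2)).cast (Fintype.card_fin n)
  · exact exists_GU_jdM_eq h hJ
  · exact (jdet_jdM _).symm
  · obtain ⟨P, h1, h2, h3⟩ := exists_pow_mem_edM_of_mem_jdM hx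
    obtain ⟨c, h4, h5⟩ := exists_GU_commute_det_eq h h1 h2 h3 ζ.2
    exact ⟨c, h4, by rw [MonoidHom.comp_apply, h5, map_pow]⟩
  · rintro _ ⟨g, rfl⟩
    obtain ⟨k, hk⟩ := hζ ⟨_, detGU_mem_uNormOne h g⟩
    exact ⟨k, (map_zpow _ _ _).symm.trans (congrArg (fun x : uNormOne σ => Units.map _ x.1) hk)⟩

variable (K F) in
theorem eDet_GL [Fintype F] : EDet K (Fintype.card F) (Fintype.card F - 1) := fun n c =>
  let ⟨_, h1, h2⟩ := exists_eGrp_GL K F
  h1 ▸ (h2 n).mul_cJ_le c

theorem eDet_GU (h : UField σ q) : EDet K (-q) (q + 1) := fun n c =>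
  have := h.finite
  let ⟨_, h1, h2⟩ := exists_eGrp_GU (K := K) h
  h1 ▸ (h2 n).mul_cJ_le c

variable (K F) in
theorem card_conjClasses_GL [Fintype F] (n : ℕ) :
    Nat.card (ConjClasses (GL (Fin n) F)) = nJD K (Fintype.card F) 0 n :=
  let ⟨_, _, h2⟩ := exists_eGrp_GL K F
  (h2 n).card_conjClasses

omit [IsAlgClosed K] in
theorem range_toGL_eq_ker (n : Type*) [Fintype n] [DecidableEq n] :
    (SpecialLinearGroup.toGL : SpecialLinearGroup n F →* GL n F).range =
      ((Units.map (algebraMap F K : F →* K)).comp GeneralLinearGroup.det).ker := by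
  rw [MonoidHom.ker_comp_of_injective _ _ unitsMap_injective]
  ext g
  refine ⟨by rintro ⟨g, rfl⟩; exact Units.ext g.2, fun h => ⟨⟨g, congrArg Units.val h⟩, Units.ext rfl⟩⟩

variable (K F) in
theorem card_conjClasses_SL_le [Fintype F] (n : ℕ) :
    Nat.card (ConjClasses (SpecialLinearGroup (Fin n) F)) ≤
      sJ (Fintype.card F) (Fintype.card F - 1) n (1 : K) :=
  let ⟨_, h1, h2⟩ := exists_eGrp_GL K F
  h1 ▸ (h2 n).card_conjClasses_le _ SpecialLinearGroup.toGL_injective (range_toGL_eq_ker _)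
    (h1 ▸ (eCount_GL F K).m_pos)

theorem card_conjClasses_SU_le (h : UField σ q) (n : ℕ) :
    Nat.card (ConjClasses (SU n F q)) ≤ sJ (-q) (q + 1) n (1 : K) :=
  have := h.finite
  let ⟨_, h1, h2⟩ := exists_eGrp_GU (K := K) h
  h1 ▸ (h2 n).card_conjClasses_le _ suToGU_injective (range_suToGU.trans
    (MonoidHom.ker_comp_of_injective _ _ unitsMap_injective).symm)
    (h1 ▸ q.succ_pos)

variable (K) in
theorem ccl_fixed_SL_le [Fintype F] {n : ℕ} {z : SpecialLinearGroup (Fin n) F} {c : F} {e : ℕ}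
    (hz : (z : Matrix (Fin n) (Fin n) F) = c • 1) (hc : IsPrimitiveRoot c e) (he : 0 < e) :
    ∃ c' : K, ccl (fun g => IsConj (z * g) g) ≤
      sJ (Fintype.card F) (Fintype.card F - 1) (n / e) c' := by
  obtain ⟨_, h1, h2⟩ := exists_eGrp_GL K F
  have h3 := (h2 n).ccl_le_sum _ SpecialLinearGroup.toGL_injective (range_toGL_eq_ker _)
    (h1 ▸ (eCount_GL F K).m_pos) (P := fun g => IsConj (z * g) g)
    (Q := fun J => J.map (Prod.map (algebraMap F K c * ·) id) = J)
    (fun g g' hg h => ((isConj_mul_of_mem_center ((mem_center_SL_iff z).2 ⟨c, hz⟩) hg).symm.trans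
      h).trans hg) fun g hg => by
      have h3 := (isConj_iff_jdM (K := K)).1 (((Units.coeHom (Matrix (Fin n) (Fin n) F)).comp
        SpecialLinearGroup.toGL).map_isConj hg)
      rw [← jdM_smul _ (hc.ne_zero he.ne'), ← smul_one_mul, ← hz]
      exact h3
  rw [h1] at h3
  exact ⟨_, h3.trans (Finset.sum_le_sum fun i _ => (eCount_GL F K).cJ_fixed_le
    (hc.map_of_injective (algebraMap F K).injective) he n i)⟩

variable [Fintype F]

variable (F K) in
theorem eCount_GL' : ECount K (Fintype.card F) (Fintype.card F - 1) (Fintype.card F - 1 + 1) := by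
  rw [Nat.sub_add_cancel Fintype.card_pos]
  exact eCount_GL F K

variable (F) in
theorem pow_lt_card_conjClasses_SL {n : ℕ} (hn : 2 ≤ n) :
    Fintype.card F ^ (n - 1) < Nat.card (ConjClasses (SpecialLinearGroup (Fin n) F)) := by
  classical
  have h1 : Nat.card {C : ConjClasses (SpecialLinearGroup (Fin n) F) //
      ∃ g, ConjClasses.mk g = C ∧ IsSS (g : Matrix (Fin n) (Fin n) F)} =
      Fintype.card F ^ (n - 1) := by
    rw [card_conjClasses_eq_of_range _
      (fun g : SpecialLinearGroup (Fin n) F => (g : Matrix (Fin n) (Fin n) F).charpoly)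
      (fun f => f.Monic ∧ f.natDegree = n ∧ f.coeff 0 = (-1) ^ n),
      card_monic_coeff_zero_eq n (by omega), Nat.card_eq_fintype_card]
    · intro a b ha hb
      rw [← ha.isConj_iff hb]
      exact ⟨((Units.coeHom (Matrix (Fin n) (Fin n) F)).comp
        SpecialLinearGroup.toGL).map_isConj, ha.isConj_SL⟩
    · refine fun f => ⟨fun ⟨h1, h2, h3⟩ => exists_SL_isSS_charpoly h1 (by simpa) (by simpa), ?_⟩
      rintro ⟨g, -, rfl⟩
      exact ⟨Matrix.charpoly_monic _, by simp, by simp [coeff_zero_charpoly]⟩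
  obtain ⟨g, hg⟩ := exists_SL_jdM_eq (F := F) (n := Fin n) (K := AlgebraicClosure F)
    ((isJD_one (by omega)).cast (Fintype.card_fin n).symm) (by simp [jdet])
  rw [← h1]
  refine Finite.card_subtype_lt (x := ConjClasses.mk g) fun ⟨g', h2, h3⟩ => ?_
  have h4 := (isSS_iff_jdM (K := AlgebraicClosure F) _).1 (h3.of_isConj
    (((Units.coeHom (Matrix (Fin n) (Fin n) F)).comp SpecialLinearGroup.toGL).map_isConj
      (ConjClasses.mk_eq_mk_iff_isConj.1 h2))) (1, n) 
    (Multiset.mem_of_le hg.ge (Multiset.mem_singleton_self _))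
  omega

end Concrete

end Cfsg.Agent.Cl.Cls
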