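import Mathlib
import Cfsg.Agent.Cl.FormSum
import Cfsg.Agent.Cl.SpTransv
import Cfsg.Agent.Cl.MaxBasic

/-!
# Sets of vectors closed under their own transvection groups

For a subgroup `M` of a symplectic group, `XS hA M` is the set of vectors `v` such that `M`
contains all transvections with centre `v`.  It is `TClosed`, and `TClosed.exists_comp` (the
symplectic case of McLaughlin's theorem) describes such sets.  Also: the elements `spE u v`
(`x ↦ x + B(x,u) v + B(x,v) u`), `spR`, and the passage `isMaximalIn_sp` to matrix groups.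
-/

set_option autoImplicit false
set_option linter.unusedSectionVars false
set_option linter.unusedVariables false

namespace Cfsg.Agent.Cl.MaxSp

open Module Matrix

section Basic

variable {F : Type*} [Field F] {V : Type*} [AddCommGroup V] [Module F V]
  {B : LinearMap.BilinForm F V}

theorem alt_zero (hA : B.IsAlt) {u v : V} (h : B u v = 0) : B v u = 0 := by
  rw [← hA.neg_eq, h, neg_zero]

theorem alt_ne (hA : B.IsAlt) {u v : V} (h : B u v ≠ 0) : B v u ≠ 0 :=
  fun h' => h (alt_zero hA h')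

theorem ne_zero_left {u v : V} (h : B u v ≠ 0) : u ≠ 0 := by
  rintro rfl; simp at h

theorem ne_zero_right {u v : V} (h : B u v ≠ 0) : v ≠ 0 := by
  rintro rfl; simp at h

/-- Two functionals that are non-zero on a subspace are both non-zero at one vector. -/
theorem exists_two_ne {W : Submodule F V} {u v : V} (hu : ∃ x ∈ W, B x u ≠ 0)
    (hv : ∃ x ∈ W, B x v ≠ 0) : ∃ x ∈ W, B x u ≠ 0 ∧ B x v ≠ 0 := by
  obtain ⟨x, hxW, hx⟩ := hu
  obtain ⟨y, hyW, hy⟩ := hv
  by_cases h1 : B x v = 0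
  · by_cases h2 : B y u = 0
    · exact ⟨x + y, W.add_mem hxW hyW, by simpa [h2] using hx, by simpa [h1] using hy⟩
    · exact ⟨y, hyW, h2, hy⟩
  · exact ⟨x, hxW, hx, h1⟩

/-- A subspace contained in the union of two subspaces lies in one of them. -/
theorem le_or_le {A U U' : Submodule F V} (h : ∀ x ∈ A, x ∈ U ∨ x ∈ U') : A ≤ U ∨ A ≤ U' := by
  by_contra! hc
  obtain ⟨x, hxA, hx⟩ := SetLike.not_le_iff_exists.1 hc.1
  obtain ⟨y, hyA, hy⟩ := SetLike.not_le_iff_exists.1 hc.2
  have hx' := (h x hxA).resolve_left hx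
  have hy' := (h y hyA).resolve_right hy
  rcases h (x + y) (A.add_mem hxA hyA) with h1 | h1
  · exact hx (by simpa using U.sub_mem h1 hy')
  · exact hy (by simpa using U'.sub_mem h1 hx')

/-- The form is non-degenerate on `W`. -/
def NondegOn (B : LinearMap.BilinForm F V) (W : Submodule F V) : Prop :=
  ∀ w ∈ W, w ≠ 0 → ∃ x ∈ W, B x w ≠ 0

theorem NondegOn.eq_zero {W : Submodule F V} (h : NondegOn B W) {w : V} (hw : w ∈ W)
    (h0 : ∀ x ∈ W, B x w = 0) : w = 0 := by
  by_contra hne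
  obtain ⟨x, hx, hx'⟩ := h w hw hne
  exact hx' (h0 x hx)

theorem NondegOn.disjoint {W : Submodule F V} (h : NondegOn B W) :
    Disjoint W (B.orthogonal W) :=
  Submodule.disjoint_def.2 fun w hw hw' => h.eq_zero hw hw'

theorem nondegOn_of_disjoint {W : Submodule F V} (h : Disjoint W (B.orthogonal W)) :
    NondegOn B W := fun w hw hne => by
  by_contra! hc
  exact hne (Submodule.disjoint_def.1 h w hw hc)

theorem NondegOn.restrict (hA : B.IsAlt) {W : Submodule F V} (h : NondegOn B W) :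
    (B.restrict W).Nondegenerate :=
  LinearMap.BilinForm.nondegenerate_restrict_of_disjoint_orthogonal B hA.isRefl h.disjoint

theorem NondegOn.isCompl [FiniteDimensional F V] (hA : B.IsAlt) {W : Submodule F V}
    (h : NondegOn B W) : IsCompl W (B.orthogonal W) :=
  LinearMap.BilinForm.isCompl_orthogonal_of_restrict_nondegenerate hA.isRefl (h.restrict hA)

theorem NondegOn.exists_add [FiniteDimensional F V] (hA : B.IsAlt) {W : Submodule F V}
    (h : NondegOn B W) (x : V) : ∃ w ∈ W, ∃ r ∈ B.orthogonal W, w + r = x :=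
  Submodule.mem_sup.1 (by rw [(h.isCompl hA).sup_eq_top]; trivial)

theorem NondegOn.orthogonal [FiniteDimensional F V] (hB : B.Nondegenerate) (hA : B.IsAlt)
    {W : Submodule F V} (h : NondegOn B W) : NondegOn B (B.orthogonal W) := fun r hr hne => by
  by_contra! hc
  refine hne (hB.2 r fun x => ?_)
  obtain ⟨w, hw, s, hs, rfl⟩ := h.exists_add hA x
  have : B w r = 0 := hr w hw
  simp [this, hc s hs]

theorem nondegOn_span_pair (hA : B.IsAlt) {u v : V} (h : B u v ≠ 0) :
    NondegOn B (Submodule.span F {u, v}) := fun w hw hne => by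
  obtain ⟨a, b, rfl⟩ := Submodule.mem_span_pair.1 hw
  by_cases hb : b = 0
  · have ha : a ≠ 0 := by rintro rfl; simp [hb] at hne
    exact ⟨v, Submodule.subset_span (by simp), by
      simpa [hb, ha, hA.self_eq_zero] using alt_ne hA h⟩
  · exact ⟨u, Submodule.subset_span (by simp), by simpa [hb, hA.self_eq_zero] using h⟩

theorem NondegOn.sup (hA : B.IsAlt) {W U : Submodule F V} (hW : NondegOn B W) (hU : NondegOn B U)
    (h : ∀ w ∈ W, ∀ u ∈ U, B w u = 0) : NondegOn B (W ⊔ U) := fun x hx hne => by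
  obtain ⟨w, hw, u, hu, rfl⟩ := Submodule.mem_sup.1 hx
  by_cases hw0 : w = 0
  · obtain ⟨y, hy, hy'⟩ := hU u hu (by simpa [hw0] using hne)
    exact ⟨y, Submodule.mem_sup_right hy, by simpa [hw0] using hy'⟩
  · obtain ⟨y, hy, hy'⟩ := hW w hw hw0
    exact ⟨y, Submodule.mem_sup_left hy, by simpa [h y hy u hu] using hy'⟩

/-- A vector outside the span of `a` is separated from `a` by the form. -/
theorem exists_perp_ne [FiniteDimensional F V] (hB : B.Nondegenerate) {W : Submodule F V} {y : V}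
    (hy : y ∉ W) : ∃ z, (∀ w ∈ W, B w z = 0) ∧ B y z ≠ 0 := by
  obtain ⟨l, hl, hl'⟩ := Submodule.exists_le_ker_of_notMem hy
  obtain ⟨z, hz⟩ := (LinearMap.BilinForm.toDual B.flip hB.flip).surjective l
  have hz' : ∀ x, B x z = l x := fun x => by rw [← hz]; rfl
  exact ⟨z, fun w hw => by rw [hz']; exact hl' hw, by rwa [hz']⟩

/-- An isometric linear endomorphism as an element of the symplectic group. -/
noncomputable def spOfLin [FiniteDimensional F V] (hB : B.Nondegenerate) (f : V →ₗ[F] V)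
    (hf : ∀ x y, B (f x) (f y) = B x y) : SpG B :=
  ⟨LinearEquiv.ofInjectiveEndo f ((injective_iff_map_eq_zero f).2 fun x hx =>
    hB.1 x fun y => by rw [← hf, hx]; simp), hf⟩

@[simp] theorem spOfLin_apply [FiniteDimensional F V] (hB : B.Nondegenerate) (f : V →ₗ[F] V)
    (hf : ∀ x y, B (f x) (f y) = B x y) (x : V) : (spOfLin hB f hf).1 x = f x := rfl

theorem sp_apply_ne_zero (g : SpG B) {v : V} (hv : v ≠ 0) : g.1 v ≠ 0 := by simpa using hv

theorem sp_inv_apply_apply (g : SpG B) (v : V) : (g⁻¹).1 (g.1 v) = v := g.1.symm_apply_apply v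

theorem sp_apply_inv_apply (g : SpG B) (v : V) : g.1 ((g⁻¹).1 v) = v := g.1.apply_symm_apply v

/-- `x ↦ x + B(x,u) v + B(x,v) u` when `u ⟂ v`. -/
def spE (hA : B.IsAlt) (u v : V) : SpG B := spT hA (u + v) 1 * spT hA u (-1) * spT hA v (-1)

theorem spE_apply (hA : B.IsAlt) {u v : V} (h : B u v = 0) (x : V) :
    (spE hA u v).1 x = x + B x u • v + B x v • u := by
  have h' := alt_zero hA h
  simp only [spE, spG_mul_apply, spT_apply, map_add, map_smul, LinearMap.add_apply,
    LinearMap.smul_apply, h, h', hA.self_eq_zero]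
  module

theorem spE_comm (hA : B.IsAlt) {u v : V} (h : B u v = 0) : spE hA u v = spE hA v u :=
  spG_ext fun x => by rw [spE_apply hA h, spE_apply hA (alt_zero hA h)]; abel

theorem spE_smul (hA : B.IsAlt) {u v : V} (h : B u v = 0) (c : F) :
    spE hA (c • u) v = spE hA u (c • v) :=
  spG_ext fun x => by
    rw [spE_apply hA (by simp [h]), spE_apply hA (by simp [h])]
    simp only [map_smul, smul_eq_mul]; module

theorem spE_conj (hA : B.IsAlt) (g : SpG B) (u v : V) :
    g * spE hA u v * g⁻¹ = spE hA (g.1 u) (g.1 v) := by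
  simp only [spE, ← map_add, ← spT_conj]; group

theorem spE_mul (hA : B.IsAlt) {u u' v : V} (h : B u v = 0) (h' : B u' v = 0) :
    spE hA u v * spE hA u' v = spE hA (u + u') v * spT hA v (B u' u) :=
  spG_ext fun x => by
    have k := alt_zero hA h
    have k' := alt_zero hA h'
    rw [spG_mul_apply, spG_mul_apply, spE_apply hA h, spE_apply hA h', spE_apply hA (by simp [h, h'])]
    simp only [spT_apply, map_add, map_smul, LinearMap.add_apply,
      LinearMap.smul_apply, h, h', k, k', hA.self_eq_zero]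
    module

theorem spE_self (hA : B.IsAlt) (v : V) (c : F) : spE hA v (c • v) = spT hA v (2 * c) :=
  spG_ext fun x => by
    rw [spE_apply hA (by simp [hA.self_eq_zero])]
    simp only [spT_apply, map_smul, smul_eq_mul]; module

@[simp] theorem spE_zero_left (hA : B.IsAlt) (v : V) : spE hA 0 v = 1 :=
  spG_ext fun x => by rw [spE_apply hA (by simp)]; simp [spG_one_apply]

@[simp] theorem spE_zero_right (hA : B.IsAlt) (v : V) : spE hA v 0 = 1 :=
  spG_ext fun x => by rw [spE_apply hA (by simp)]; simp [spG_one_apply]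

theorem spE_inv (hA : B.IsAlt) {u v : V} (h : B u v = 0) : (spE hA u v)⁻¹ = spE hA (-u) v :=
  inv_eq_of_mul_eq_one_right (by
    rw [spE_mul hA h (by simp [h])]; simp [hA.self_eq_zero])

theorem spT_add (hA : B.IsAlt) {u v : V} (h : B u v = 0) (c : F) :
    spT hA (u + v) c = spT hA u c * spT hA v c * spE hA u (c • v) :=
  spG_ext fun x => by
    have k := alt_zero hA h
    rw [spG_mul_apply, spG_mul_apply, spE_apply hA (by simp [h])]
    simp only [spT_apply, map_add, map_smul, LinearMap.add_apply,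
      LinearMap.smul_apply, h, k, hA.self_eq_zero, smul_eq_mul]
    module

theorem spT_commute_spE (hA : B.IsAlt) {u v w : V} (h : B u v = 0) (hu : B w u = 0)
    (hv : B w v = 0) (c : F) : Commute (spT hA w c) (spE hA u v) := by
  have : spE hA u v * spT hA w c * (spE hA u v)⁻¹ = spT hA w c := by
    rw [spT_conj, spE_apply hA h, hu, hv]; simp
  exact (mul_inv_eq_iff_eq_mul.1 this).symm

/-- The commutator relation in the unipotent radical of a point stabiliser. -/
theorem spT_mem_of_spE (hA : B.IsAlt) {M : Subgroup (SpG B)} {u u' v : V} (h : B u v = 0)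
    (h' : B u' v = 0) (hu : spE hA u v ∈ M) (hu' : spE hA u' v ∈ M) :
    spT hA v (2 * B u' u) ∈ M := by
  have e1 := spE_mul hA h h'
  have e2 := spE_mul hA h' h
  have : spT hA v (2 * B u' u) = (spE hA u' v * spE hA u v)⁻¹ * (spE hA u v * spE hA u' v) := by
    rw [e1, e2, add_comm u' u, _root_.mul_inv_rev, mul_assoc, inv_mul_cancel_left, spT_inv, spT_mul,
      ← hA.neg_eq u' u]
    congr 1; ring
  rw [this]
  exact M.mul_mem (M.inv_mem (M.mul_mem hu' hu)) (M.mul_mem hu hu')

/-- `x ↦ x + B(x,ψ) a + κ B(x,a) ψ`. -/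
theorem exists_spR [FiniteDimensional F V] (hB : B.Nondegenerate) (hA : B.IsAlt) (a ψ : V)
    (h : 1 + B a ψ ≠ 0) : ∃ (g : SpG B) (κ : F), ∀ x, g.1 x = x + B x ψ • a + (κ * B x a) • ψ := by
  let κ := (1 + B a ψ)⁻¹
  have hκ : κ * (1 + B a ψ) = 1 := inv_mul_cancel₀ h
  let f : V →ₗ[F] V := LinearMap.id + (B.flip ψ).smulRight a + (κ • B.flip a).smulRight ψ
  have hf : ∀ x, f x = x + B x ψ • a + (κ * B x a) • ψ := fun x => rfl
  refine ⟨spOfLin hB f fun x y => ?_, κ, hf⟩
  simp only [hf, map_add, map_smul, LinearMap.add_apply, LinearMap.smul_apply, smul_eq_mul,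
    hA.self_eq_zero]
  rw [← hA.neg_eq y a, ← hA.neg_eq y ψ, ← hA.neg_eq a ψ]
  linear_combination (B x ψ * B y a - B x a * B y ψ) * hκ

end Basic

section Closed

variable {F : Type*} [Field F] {V : Type*} [AddCommGroup V] [Module F V]
  {B : LinearMap.BilinForm F V}

/-- A set of vectors closed under scalars and under the transvections with centre in the set. -/
structure TClosed (B : LinearMap.BilinForm F V) (X : Set V) : Prop where
  zero_mem : (0 : V) ∈ X
  smul_mem : ∀ (a : F) {v : V}, v ∈ X → a • v ∈ X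
  add_mem : ∀ {u v : V}, u ∈ X → v ∈ X → B u v ≠ 0 → u + v ∈ X

/-- The centres of the full transvection groups contained in `M`. -/
def XS (hA : B.IsAlt) (M : Subgroup (SpG B)) : Set V := {v | ∀ c, spT hA v c ∈ M}

theorem XS_map (hA : B.IsAlt) {M : Subgroup (SpG B)} {g : SpG B} (hg : g ∈ M) {v : V}
    (hv : v ∈ XS hA M) : g.1 v ∈ XS hA M := fun c => by
  rw [← spT_conj]
  exact M.mul_mem (M.mul_mem hg (hv c)) (M.inv_mem hg)

theorem tClosed_XS (hA : B.IsAlt) (M : Subgroup (SpG B)) : TClosed B (XS hA M) where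
  zero_mem c := by simpa using M.one_mem
  smul_mem a v hv c := by rw [spT_smul]; exact hv _
  add_mem {u v} hu hv h := by
    have := XS_map hA (hv (B u v)⁻¹) hu
    rwa [spT_apply, inv_mul_cancel₀ h, one_smul] at this

theorem eq_top_of_XS [FiniteDimensional F V] (hB : B.Nondegenerate) (hA : B.IsAlt)
    {M : Subgroup (SpG B)} (h : ∀ v, v ∈ XS hA M) : M = ⊤ := by
  rw [eq_top_iff, ← sp_closure_spT hB hA, Subgroup.closure_le]
  rintro _ ⟨v, c, rfl⟩
  exact h v c

theorem spE_mem_of_XS (hA : B.IsAlt) {M : Subgroup (SpG B)} {u v : V} (hu : u ∈ XS hA M)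
    (hv : v ∈ XS hA M) (huv : u + v ∈ XS hA M) : spE hA u v ∈ M :=
  M.mul_mem (M.mul_mem (huv _) (hu _)) (hv _)

namespace TClosed

variable {X : Set V}

theorem neg_mem (h : TClosed B X) {v : V} (hv : v ∈ X) : -v ∈ X := by
  simpa using h.smul_mem (-1) hv

theorem add_smul_mem (h : TClosed B X) {u v : V} (hu : u ∈ X) (hv : v ∈ X) (huv : B u v ≠ 0)
    (a : F) : u + a • v ∈ X := by
  by_cases ha : a = 0
  · simpa [ha] using hu
  · exact h.add_mem hu (h.smul_mem a hv) (by simpa [ha] using huv)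

theorem span_pair (h : TClosed B X) {u v : V} (hu : u ∈ X) (hv : v ∈ X) (huv : B u v ≠ 0) :
    ∀ x ∈ Submodule.span F {u, v}, x ∈ X := fun x hx => by
  obtain ⟨a, b, rfl⟩ := Submodule.mem_span_pair.1 hx
  by_cases ha : a = 0
  · simpa [ha] using h.smul_mem b hv
  · exact h.add_smul_mem (h.smul_mem a hu) hv (by simpa [ha] using huv) b

theorem move (h : TClosed B X) (hA : B.IsAlt) {W : Submodule F V} (hWX : ∀ w ∈ W, w ∈ X)
    {w w' r : V} (hw : w ∈ W) (hw' : w' ∈ W) (hr : r ∈ B.orthogonal W) (hx : w + r ∈ X)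
    (hne : B w w' ≠ 0) : w' + r ∈ X := by
  have h1 : B r (w' - w) = 0 := alt_zero hA (hr _ (W.sub_mem hw' hw))
  have := h.add_mem hx (hWX _ (W.sub_mem hw' hw)) (by
    rw [map_add, LinearMap.add_apply, h1]; simpa [hA.self_eq_zero] using hne)
  convert this using 1; abel

/-- A non-degenerate subspace of `X` moves the components of the members of `X`. -/
theorem move' (h : TClosed B X) (hA : B.IsAlt) {W : Submodule F V} (hW : NondegOn B W)
    (hWX : ∀ w ∈ W, w ∈ X) {w w' r : V} (hw : w ∈ W) (hw' : w' ∈ W) (hw0 : w ≠ 0) (hw0' : w' ≠ 0)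
    (hr : r ∈ B.orthogonal W) (hx : w + r ∈ X) : w' + r ∈ X := by
  obtain ⟨y, hy, h1, h2⟩ := exists_two_ne (hW w hw hw0) (hW w' hw' hw0')
  exact h.move hA hWX hy hw' hr (h.move hA hWX hw hy hr hx (alt_ne hA h1)) h2

/-- `X ⊇ P` and `x ∈ X` not orthogonal to the radical vector `w` of `P` give `x + P ⊆ X`. -/
theorem add_mem_of_rad (h : TClosed B X) (hA : B.IsAlt) {P : Submodule F V} (hPX : ∀ y ∈ P, y ∈ X)
    {w x : V} (hw : w ∈ P) (hwP : ∀ y ∈ P, B w y = 0) (hx : x ∈ X) (hxw : B x w ≠ 0) {y : V}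
    (hy : y ∈ P) : x + y ∈ X := by
  by_cases hxy : B x y = 0
  · have := h.add_mem (h.add_mem hx (hPX w hw) hxw) (hPX _ (P.sub_mem hy hw)) (by
      simpa [hxy, hwP y hy, hA.self_eq_zero] using hxw)
    convert this using 1; abel
  · exact h.add_mem hx (hPX y hy) hxy

/-- The subspace `W` is large enough: `|F| > 2` and `W ≠ 0`, or `dim W ≥ 4`. -/
def Big (B : LinearMap.BilinForm F V) (W : Submodule F V) : Prop :=
  ∀ t : F, ∃ w ∈ W, ∃ w' ∈ W, w ≠ 0 ∧ w' ≠ 0 ∧ w + w' ≠ 0 ∧ B w w' ≠ t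

theorem Big.mono {W U : Submodule F V} (h : Big B W) (hWU : W ≤ U) : Big B U := fun t => by
  obtain ⟨w, hw, w', hw', H⟩ := h t
  exact ⟨w, hWU hw, w', hWU hw', H⟩

theorem big_of_ne (hA : B.IsAlt) (hF : ∃ a : F, a ≠ 0 ∧ a ≠ 1) {W : Submodule F V} {u v : V}
    (hu : u ∈ W) (hv : v ∈ W) (huv : B u v ≠ 0) : Big B W := fun t => by
  obtain ⟨a, ha, ha1⟩ := hF
  have key : ∀ b : F, b ≠ 0 → u + b • v ≠ 0 := fun b hb h0 => by
    have := congrArg (fun x => B x v) h0
    simp [hA.self_eq_zero, huv] at this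
  by_cases ht : B u v = t
  · refine ⟨u, hu, a • v, W.smul_mem a hv, ne_zero_left huv,
      smul_ne_zero ha (ne_zero_right huv), key a ha, ?_⟩
    rw [map_smul, smul_eq_mul, ← ht]
    intro h
    exact ha1 (mul_right_cancel₀ huv (by rw [h, one_mul]))
  · exact ⟨u, hu, v, hv, ne_zero_left huv, ne_zero_right huv, by simpa using key 1 one_ne_zero, ht⟩

theorem big_of_three_le [FiniteDimensional F V] (hA : B.IsAlt) {W : Submodule F V}
    (hW : NondegOn B W) (h3 : 3 ≤ finrank F W) : Big B W := fun t => by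
  have hW0 : W ≠ ⊥ := by rintro rfl; simp at h3
  obtain ⟨u, hu, hu0⟩ := Submodule.exists_mem_ne_zero_of_ne_bot hW0
  by_cases ht : t = 0
  · obtain ⟨v, hv, hvu⟩ := hW u hu hu0
    refine ⟨v, hv, u, hu, ne_zero_left hvu, hu0, fun h0 => ?_, ht ▸ hvu⟩
    have := congrArg (fun x => B x u) h0
    simp [hA.self_eq_zero, hvu] at this
  · let l : W →ₗ[F] F := (B u).comp W.subtype
    have h1 := l.finrank_range_add_finrank_ker
    have h2 : finrank F (LinearMap.range l) ≤ 1 := (Submodule.finrank_le _).trans (by simp)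
    have h4 : ¬ LinearMap.ker l ≤ Submodule.span F {(⟨u, hu⟩ : W)} := fun hle => by
      have := (Submodule.finrank_mono hle).trans (finrank_span_le_card _)
      simp only [Set.toFinset_singleton, Finset.card_singleton] at this
      omega
    obtain ⟨y, hy, hy'⟩ := SetLike.not_le_iff_exists.1 h4
    refine ⟨u, hu, y, y.2, hu0, fun h0 => hy' ?_, fun h0 => hy' ?_, ?_⟩
    · rw [show y = 0 from Subtype.ext h0]; exact Submodule.zero_mem _
    · refine Submodule.mem_span_singleton.2 ⟨-1, Subtype.ext ?_⟩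
      simpa using (neg_eq_of_add_eq_zero_right h0)
    · have : B u y = 0 := hy
      rw [this]; exact fun h => ht h.symm

/-- McLaughlin's theorem, symplectic case: the component of a large non-degenerate subspace. -/
theorem exists_comp [FiniteDimensional F V] (h : TClosed B X) (hA : B.IsAlt) {W₀ : Submodule F V}
    (hW₀ : NondegOn B W₀) (hW₀X : ∀ w ∈ W₀, w ∈ X) (hbig : Big B W₀) :
    ∃ U : Submodule F V, W₀ ≤ U ∧ (∀ x ∈ X, x ∈ U ∨ x ∈ B.orthogonal U) ∧
      ∀ x ∈ U, x ∉ B.orthogonal U → x ∈ X := by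
  obtain ⟨W, ⟨hle, hW, hWX⟩, hmax⟩ := exists_maximal_of_wellFoundedGT
    (fun W : Submodule F V => W₀ ≤ W ∧ NondegOn B W ∧ ∀ w ∈ W, w ∈ X) ⟨W₀, le_rfl, hW₀, hW₀X⟩
  have hb := hbig.mono hle
  obtain ⟨w₀, hw₀, -, -, hw₀0, -⟩ := hb 0
  let R : Submodule F V :=
    { carrier := {r | r ∈ B.orthogonal W ∧ ∀ w ∈ W, w ≠ 0 → w + r ∈ X}
      zero_mem' := ⟨Submodule.zero_mem _, fun w hw _ => by simpa using hWX w hw⟩
      smul_mem' := fun a r hr => ⟨Submodule.smul_mem _ a hr.1, fun w hw hw0 => by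
        by_cases ha : a = 0
        · simpa [ha] using hWX w hw
        · have := h.smul_mem a (hr.2 (a⁻¹ • w) (W.smul_mem _ hw) (smul_ne_zero (inv_ne_zero ha) hw0))
          rwa [smul_add, smul_inv_smul₀ ha] at this⟩
      add_mem' := fun {r s} hr hs => ⟨Submodule.add_mem _ hr.1 hs.1, fun w hw hw0 => by
        obtain ⟨a, ha, b, hb', ha0, hb0, hab, hne⟩ := hb (-B r s)
        have h1 : B a s = 0 := hs.1 a ha
        have h2 : B r b = 0 := alt_zero hA (hr.1 b hb')
        have := h.add_mem (hr.2 a ha ha0) (hs.2 b hb' hb0) (by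
          simp only [map_add, LinearMap.add_apply, h1, h2, add_zero, zero_add]
          exact fun h0 => hne (eq_neg_of_add_eq_zero_left h0))
        refine h.move' hA hW hWX (W.add_mem ha hb') hw hab hw0 (Submodule.add_mem _ hr.1 hs.1) ?_
        convert this using 1; abel⟩ }
  have hR : ∀ r, r ∈ R ↔ r ∈ B.orthogonal W ∧ ∀ w ∈ W, w ≠ 0 → w + r ∈ X := fun r => Iff.rfl
  have hR' : ∀ w ∈ W, w ≠ 0 → ∀ r ∈ B.orthogonal W, w + r ∈ X → r ∈ R := fun w hw hw0 r hr hx =>
    ⟨hr, fun w' hw' hw0' => h.move' hA hW hWX hw hw' hw0 hw0' hr hx⟩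
  have hsum : ∀ r ∈ R, ∀ s ∈ R, B r s ≠ 0 → r + s ∈ X := fun r hr s hs hne => by
    have h1 : B w₀ s = 0 := hs.1 w₀ hw₀
    have h2 : B r w₀ = 0 := alt_zero hA (hr.1 w₀ hw₀)
    have := h.add_mem (hr.2 w₀ hw₀ hw₀0) (hs.2 (-w₀) (W.neg_mem hw₀) (neg_ne_zero.2 hw₀0)) (by
      simpa [h1, h2, hA.self_eq_zero] using hne)
    convert this using 1; abel
  have hiso : ∀ r ∈ R, ∀ s ∈ R, B r s = 0 := fun r hr s hs => by
    by_contra hne
    have hP : Submodule.span F {r, s} ≤ R := Submodule.span_le.2 (by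
      rintro _ (rfl | rfl) <;> assumption)
    have hnd := nondegOn_span_pair hA hne
    have h1 : W ⊔ Submodule.span F {r, s} ≤ W := hmax ⟨hle.trans le_sup_left,
      hW.sup hA hnd fun w hw u hu => (hP hu).1 w hw, fun x hx => by
        obtain ⟨w, hw, u, hu, rfl⟩ := Submodule.mem_sup.1 hx
        by_cases hw0 : w = 0
        · by_cases hu0 : u = 0
          · simpa [hw0, hu0] using h.zero_mem
          · obtain ⟨y, hy, hyu⟩ := hnd u hu hu0
            have := hsum y (hP hy) (u - y) (R.sub_mem (hP hu) (hP hy))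
              (by simpa [hA.self_eq_zero] using hyu)
            simpa [hw0] using this
        · exact (hP hu).2 w hw hw0⟩ le_sup_left
    have hrW : r ∈ W := h1 (Submodule.mem_sup_right (Submodule.subset_span (by simp)))
    exact hne (hs.1 r hrW)
  refine ⟨W ⊔ R, hle.trans le_sup_left, fun x hx => ?_, fun x hx hx' => ?_⟩
  · obtain ⟨w, hw, r, hr, rfl⟩ := hW.exists_add hA x
    by_cases hw0 : w = 0
    · right
      rw [hw0, zero_add] at hx ⊢
      intro y hy
      obtain ⟨a, ha, s, hs, rfl⟩ := Submodule.mem_sup.1 hy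
      have h1 : B a r = 0 := hr a ha
      have h2 : B s r = 0 := by
        by_contra hne
        have h3 : B w₀ r = 0 := hr w₀ hw₀
        have := h.add_mem (hs.2 w₀ hw₀ hw₀0) hx (by simpa [h3] using hne)
        have h4 := hR' w₀ hw₀ hw₀0 (s + r) (Submodule.add_mem _ hs.1 hr) (by rwa [← add_assoc])
        exact hne (by simpa [hA.self_eq_zero] using hiso s hs _ h4)
      change B (a + s) r = 0
      simp [h1, h2]
    · exact Or.inl (Submodule.add_mem_sup hw (hR' w hw hw0 r hr hx))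
  · obtain ⟨w, hw, r, hr, rfl⟩ := Submodule.mem_sup.1 hx
    refine hr.2 w hw fun hw0 => hx' fun y hy => ?_
    obtain ⟨a, ha, s, hs, rfl⟩ := Submodule.mem_sup.1 hy
    have h1 : B a r = 0 := hr.1 a ha
    change B (a + s) (w + r) = 0
    simp [hw0, h1, hiso s hs r hr]

/-- McLaughlin's theorem for a field with more than two elements, from an adjacent pair. -/
theorem exists_comp_pair [FiniteDimensional F V] (h : TClosed B X) (hA : B.IsAlt)
    (hF : ∃ a : F, a ≠ 0 ∧ a ≠ 1) {u v : V} (hu : u ∈ X) (hv : v ∈ X) (huv : B u v ≠ 0) :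
    ∃ U : Submodule F V, u ∈ U ∧ v ∈ U ∧ (∀ x ∈ X, x ∈ U ∨ x ∈ B.orthogonal U) ∧
      ∀ x ∈ U, x ∉ B.orthogonal U → x ∈ X := by
  have h1 : u ∈ Submodule.span F {u, v} := Submodule.subset_span (by simp)
  have h2 : v ∈ Submodule.span F {u, v} := Submodule.subset_span (by simp)
  obtain ⟨U, hU, H⟩ := h.exists_comp hA (nondegOn_span_pair hA huv) (h.span_pair hu hv huv)
    (big_of_ne hA hF h1 h2 huv)
  exact ⟨U, hU h1, hU h2, H⟩

theorem of_top (h : TClosed B X) (hB : B.Nondegenerate) {U : Submodule F V}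
    (hU : ∀ x ∈ U, x ∉ B.orthogonal U → x ∈ X) (htop : U = ⊤) (v : V) : v ∈ X := by
  subst htop
  by_cases hv : v = 0
  · rw [hv]; exact h.zero_mem
  · exact hU v trivial fun h' => hv (hB.2 v fun x => h' x trivial)

end TClosed

end Closed

section Bridge

variable {F : Type*} [Field F] {m : ℕ}

/-- The abstract symplectic group of the standard form inside `GL`. -/
def spι (m : ℕ) (F : Type*) [Field F] : SpG (spB m F) →* GL (Fin m ⊕ Fin m) F :=
  (glEquiv (Fin m ⊕ Fin m) F).symm.toMonoidHom.comp (SpG (spB m F)).subtype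

@[simp] theorem spι_mulVec (g : SpG (spB m F)) (v : Fin m ⊕ Fin m → F) :
    (spι m F g : Matrix (Fin m ⊕ Fin m) (Fin m ⊕ Fin m) F) *ᵥ v = g.1 v :=
  glEquiv_symm_mulVec _ _

theorem spι_inv_mulVec (g : SpG (spB m F)) (v : Fin m ⊕ Fin m → F) :
    (((spι m F g)⁻¹ : GL (Fin m ⊕ Fin m) F) : Matrix (Fin m ⊕ Fin m) (Fin m ⊕ Fin m) F) *ᵥ v =
      (g⁻¹).1 v := by
  rw [← map_inv, spι_mulVec]

theorem spι_injective : Function.Injective (spι m F) :=
  (glEquiv (Fin m ⊕ Fin m) F).symm.injective.comp Subtype.val_injective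

theorem range_spι : (spι m F).range = spGL m F := by
  ext g
  constructor
  · rintro ⟨x, rfl⟩ u v
    change sympForm m F ((spι m F x).1 *ᵥ u) ((spι m F x).1 *ᵥ v) = _
    rw [spι_mulVec, spι_mulVec, ← spB_apply, ← spB_apply, spG_form]
  · intro hg
    refine ⟨⟨glEquiv _ F g, fun u v => ?_⟩, (glEquiv _ F).symm_apply_apply g⟩
    simp only [spB_apply, glEquiv_apply]
    exact hg u v

theorem isMaximalIn_sp (H : Subgroup (GL (Fin m ⊕ Fin m) F)) (P : SpG (spB m F) → Prop)
    (hP : ∀ g, spι m F g ∈ H ↔ P g) (hne : ∃ g, ¬ P g)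
    (hmax : ∀ M : Subgroup (SpG (spB m F)), (∀ g, P g → g ∈ M) → ∀ g ∈ M, ¬ P g → M = ⊤) :
    Geo.IsMaximalIn (spGL m F) (H ⊓ spGL m F) := by
  refine Max.isMaximalIn_of inf_le_right (fun h => ?_) fun M h1 h2 h3 => ?_
  · obtain ⟨g, hg⟩ := hne
    have : spι m F g ∈ H ⊓ spGL m F := h (by rw [← range_spι]; exact ⟨g, rfl⟩)
    exact hg ((hP g).1 this.1)
  · obtain ⟨x, hxM, hx⟩ := SetLike.not_le_iff_exists.1 h3
    have hx' := h2 hxM
    rw [← range_spι] at hx'
    obtain ⟨g, rfl⟩ := hx'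
    have := hmax (M.comap (spι m F))
      (fun k hk => h1 ⟨(hP k).2 hk, by rw [← range_spι]; exact ⟨k, rfl⟩⟩) g hxM
      fun hg => hx ⟨(hP g).2 hg, h2 hxM⟩
    rw [← range_spι]
    rintro _ ⟨k, rfl⟩
    have hk : k ∈ M.comap (spι m F) := by rw [this]; trivial
    exact hk

theorem nondegOn_of {W : Submodule F (Fin m ⊕ Fin m → F)}
    (h : Geo.IsNondegenerateOn (sympForm m F) W) : NondegOn (spB m F) W := fun w hw hne => by
  simpa only [spB_apply] using (h w hw hne).1

theorem exists_ne_zero_one [Fintype F] (h : Fintype.card F ≠ 2) : ∃ a : F, a ≠ 0 ∧ a ≠ 1 := by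
  classical
  by_contra! hc
  have h1 : (Finset.univ : Finset F) = {0, 1} := by
    ext a; by_cases ha : a = 0 <;> simp [ha, hc a]
  exact h (by rw [← Finset.card_univ, h1, Finset.card_pair zero_ne_one])

end Bridge

end Cfsg.Agent.Cl.MaxSp
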