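import Mathlib
import Cfsg.Agent.Cl.MaxSpX

/-!
# Maximality in `Sp`: subspace stabilisers, orthogonal decompositions, orthogonal groups
-/

set_option autoImplicit false
set_option linter.unusedSectionVars false
set_option linter.unusedVariables false

namespace Cfsg.Agent.Cl.MaxSp

open Module Matrix

section Abstract

variable {F : Type*} [Field F] {V : Type*} [AddCommGroup V] [Module F V] [FiniteDimensional F V]
  {B : LinearMap.BilinForm F V}

theorem orth_orth (hB : B.Nondegenerate) (hA : B.IsAlt) (W : Submodule F V) :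
    B.orthogonal (B.orthogonal W) = W := LinearMap.BilinForm.orthogonal_orthogonal hB hA.isRefl W

theorem maps_of_maps_orth (hB : B.Nondegenerate) (hA : B.IsAlt) (g : SpG B) {W : Submodule F V}
    (h : ∀ w ∈ B.orthogonal W, g.1 w ∈ B.orthogonal W) : ∀ w ∈ W, g.1 w ∈ W := by
  have := sp_mapsTo_orthogonal g h
  rwa [orth_orth hB hA] at this

theorem exists_not_maps (hB : B.Nondegenerate) (hA : B.IsAlt) {W : Submodule F V} (h0 : W ≠ ⊥)
    (h1 : W ≠ ⊤) : ∃ g : SpG B, ¬ ∀ w ∈ W, g.1 w ∈ W := by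
  obtain ⟨w, hw, hw0⟩ := Submodule.exists_mem_ne_zero_of_ne_bot h0
  have : ∃ y, y ∉ W ∧ B w y ≠ 0 := by
    by_contra! hc
    rcases le_or_le (A := ⊤) (U := W) (U' := LinearMap.ker (B w)) (fun x _ => by
      by_cases hx : x ∈ W
      · exact Or.inl hx
      · exact Or.inr (hc x hx)) with h | h
    · exact h1 (top_le_iff.1 h)
    · exact hw0 (hB.1 w fun y => h (Submodule.mem_top (x := y)))
  obtain ⟨y, hy, hwy⟩ := this
  refine ⟨spT hA y 1, fun h => hy ?_⟩
  have h2 := W.sub_mem (h w hw) hw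
  rw [spT_apply, add_sub_cancel_left, one_mul] at h2
  exact (W.smul_mem_iff hwy).1 h2

theorem top_of_parabolic (hB : B.Nondegenerate) (hA : B.IsAlt) {W : Submodule F V}
    (hW : ∀ u ∈ W, ∀ v ∈ W, B u v = 0) (M : Subgroup (SpG B))
    (hM : ∀ g : SpG B, (∀ w ∈ W, g.1 w ∈ W) → g ∈ M) (g : SpG B) (hg : g ∈ M)
    (hgW : ¬ ∀ w ∈ W, g.1 w ∈ W) : M = ⊤ := by
  have hX := tClosed_XS hA M
  have hP : ∀ v ∈ B.orthogonal W, v ∈ XS hA M := fun v hv c => hM _ fun w hw => by
    have : B w v = 0 := hv w hw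
    simpa [this] using hw
  obtain ⟨y, hy, hx⟩ : ∃ y ∈ B.orthogonal W, g.1 y ∉ B.orthogonal W := by
    by_contra! hc
    exact hgW (maps_of_maps_orth hB hA g hc)
  have hxX := XS_map hA hg (hP y hy)
  set x := g.1 y
  refine eq_top_of_XS hB hA fun x' => ?_
  by_cases hx' : x' ∈ B.orthogonal W
  · exact hP _ hx'
  have e1 : ∃ w ∈ W, B w x ≠ 0 := by by_contra! hc; exact hx hc
  have e2 : ∃ w ∈ W, B w x' ≠ 0 := by by_contra! hc; exact hx' hc
  obtain ⟨w, hw, h1, h2⟩ := exists_two_ne e1 e2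
  replace h1 := alt_ne hA h1
  replace h2 := alt_ne hA h2
  have hu : B ((B x' w)⁻¹ • x' - (B x w)⁻¹ • x) w = 0 := by simp [h1, h2]
  have hE : spE hA ((B x' w)⁻¹ • x' - (B x w)⁻¹ • x) w ∈ M := hM _ fun z hz => by
    rw [spE_apply hA hu, hW z hz w hw, zero_smul, add_zero]
    exact W.add_mem hz (W.smul_mem _ hw)
  have h3 := XS_map hA hE hxX
  rw [spE_apply hA hu] at h3
  have hwP : w ∈ B.orthogonal W := fun z hz => hW z hz w hw
  have h4 := hX.smul_mem (B x' w / B x w) (hX.add_mem_of_rad hA hP hwP (fun z hz => hz w hw) h3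
    (by simpa [hA.self_eq_zero, h1, h2] using h1)
    (Submodule.smul_mem _ (-B x ((B x' w)⁻¹ • x' - (B x w)⁻¹ • x)) hwP))
  convert h4 using 1
  match_scalars <;> field_simp <;> ring

theorem NondegOn.two_le_finrank (hA : B.IsAlt) {W : Submodule F V} (hW : NondegOn B W)
    (h0 : W ≠ ⊥) : 2 ≤ finrank F W := by
  obtain ⟨k, hk⟩ := sp_even_finrank (hW.restrict hA) (sp_restrict_isAlt hA W)
  have : finrank F W ≠ 0 := fun h => h0 (Submodule.finrank_eq_zero.1 h)
  omega

theorem finrank_map_sp (g : SpG B) (W : Submodule F V) :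
    finrank F (W.map g.1.toLinearMap) = finrank F W := LinearEquiv.finrank_map_eq _ _

theorem top_of_nondeg (hB : B.Nondegenerate) (hA : B.IsAlt) {W : Submodule F V} (h0 : W ≠ ⊥)
    (hW : NondegOn B W) (hdim : 2 * finrank F W < finrank F V) (M : Subgroup (SpG B))
    (hM : ∀ g : SpG B, (∀ w ∈ W, g.1 w ∈ W) → g ∈ M) (g : SpG B) (hg : g ∈ M)
    (hgW : ¬ ∀ w ∈ W, g.1 w ∈ W) : M = ⊤ := by
  have hX := tClosed_XS hA M
  have hP : ∀ v ∈ B.orthogonal W, v ∈ XS hA M := fun v hv c => hM _ fun w hw => by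
    have : B w v = 0 := hv w hw
    simpa [this] using hw
  have hWX : ∀ v ∈ W, v ∈ XS hA M := fun v hv c => hM _ fun w hw =>
    W.add_mem hw (W.smul_mem _ hv)
  have hr := LinearMap.BilinForm.finrank_orthogonal hB W
  have h2 := hW.two_le_finrank hA h0
  obtain ⟨U, hPU, hU, hU'⟩ := hX.exists_comp hA (hW.orthogonal hB hA) hP
    (TClosed.big_of_three_le hA (hW.orthogonal hB hA) (by omega))
  refine eq_top_of_XS hB hA (hX.of_top hB hU' ?_)
  have hUW : B.orthogonal U ≤ W := by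
    rw [← orth_orth hB hA W]; exact LinearMap.BilinForm.orthogonal_le hPU
  rcases le_or_le (fun x hx => hU x (hWX x hx)) with h | h
  · rw [eq_top_iff, ← (hW.isCompl hA).sup_eq_top]; exact sup_le h hPU
  · exfalso
    have h3 : U ≤ B.orthogonal W := by
      rw [← orth_orth hB hA U]; exact LinearMap.BilinForm.orthogonal_le h
    rcases le_or_le (A := (B.orthogonal W).map g.1.toLinearMap) (fun x hx => hU x (by
      obtain ⟨y, hy, rfl⟩ := hx
      exact XS_map hA hg (hP y hy))) with h4 | h4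
    · exact hgW (maps_of_maps_orth hB hA g fun w hw => h3 (h4 ⟨w, hw, rfl⟩))
    · have := Submodule.finrank_mono (h4.trans hUW)
      rw [finrank_map_sp] at this
      omega

/-- An isometry interchanging two orthogonal non-degenerate subspaces of the same dimension. -/
theorem exists_swap (hB : B.Nondegenerate) (hA : B.IsAlt) {A C : Submodule F V} (hAn : NondegOn B A)
    (hCn : NondegOn B C) (hAC : ∀ a ∈ A, ∀ c ∈ C, B a c = 0) (hdim : finrank F A = finrank F C) :
    ∃ s : SpG B, (∀ a ∈ A, s.1 a ∈ C) ∧ (∀ c ∈ C, s.1 c ∈ A) ∧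
      ∀ x ∈ B.orthogonal A, x ∈ B.orthogonal C → s.1 x = x := by
  obtain ⟨φ, hφ⟩ := sp_exists_isometry (hAn.restrict hA) (sp_restrict_isAlt hA A)
    (hCn.restrict hA) (sp_restrict_isAlt hA C) hdim
  replace hφ : ∀ u v : A, B (φ u) (φ v) = B u v := hφ
  have hφ' : ∀ u v : C, B (φ.symm u) (φ.symm v) = B u v := fun u v => by
    rw [← hφ]; simp
  let p := A.projectionOnto _ (hAn.isCompl hA)
  let p' := C.projectionOnto _ (hCn.isCompl hA)
  let f : V →ₗ[F] V := LinearMap.id - A.subtype ∘ₗ p - C.subtype ∘ₗ p' +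
    C.subtype ∘ₗ φ.toLinearMap ∘ₗ p + A.subtype ∘ₗ φ.symm.toLinearMap ∘ₗ p'
  have hf : ∀ x, f x = x - p x - p' x + φ (p x) + φ.symm (p' x) := fun x => rfl
  have hCA : ∀ c ∈ C, ∀ a ∈ A, B c a = 0 := fun c hc a ha => alt_zero hA (hAC a ha c hc)
  have f1 : ∀ a : A, f a = φ a := fun a => by
    rw [hf, Submodule.projectionOnto_apply_left,
      Submodule.projectionOnto_apply_of_mem_right _
        (show (a : V) ∈ B.orthogonal C from fun c hc => hCA c hc a a.2)]
    simp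
  have f2 : ∀ c : C, f c = φ.symm c := fun c => by
    rw [hf, Submodule.projectionOnto_apply_left,
      Submodule.projectionOnto_apply_of_mem_right _
        (show (c : V) ∈ B.orthogonal A from fun a ha => hAC a ha c c.2)]
    simp
  have f3 : ∀ x ∈ B.orthogonal A, x ∈ B.orthogonal C → f x = x := fun x hx hx' => by
    rw [hf, Submodule.projectionOnto_apply_of_mem_right _ hx,
      Submodule.projectionOnto_apply_of_mem_right _ hx']
    simp
  have dec : ∀ x, ∃ (a : A) (c : C) (r : V), r ∈ B.orthogonal A ∧ r ∈ B.orthogonal C ∧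
      x = (a : V) + c + r := fun x => by
    obtain ⟨w, hw, r, hr, rfl⟩ := (hAn.sup hA hCn hAC).exists_add hA x
    obtain ⟨a, ha, c, hc, rfl⟩ := Submodule.mem_sup.1 hw
    exact ⟨⟨a, ha⟩, ⟨c, hc⟩, r, fun y hy => hr y (Submodule.mem_sup_left hy),
      fun y hy => hr y (Submodule.mem_sup_right hy), rfl⟩
  refine ⟨spOfLin hB f fun x y => ?_, fun a ha => ?_, fun c hc => ?_, f3⟩
  · obtain ⟨a, c, r, h1, h2, rfl⟩ := dec x
    obtain ⟨a', c', r', h1', h2', rfl⟩ := dec y
    have e1 : ∀ (a : A) (c : C), B a c = 0 := fun a c => hAC a a.2 c c.2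
    have e2 : ∀ (a : A) (c : C), B c a = 0 := fun a c => hCA c c.2 a a.2
    have e3 : ∀ a : A, B a r' = 0 := fun a => h1' a a.2
    have e4 : ∀ a : C, B a r' = 0 := fun a => h2' a a.2
    have e5 : ∀ a : A, B r a = 0 := fun a => alt_zero hA (h1 a a.2)
    have e6 : ∀ a : C, B r a = 0 := fun a => alt_zero hA (h2 a a.2)
    simp only [map_add, f1, f2, f3 r h1 h2, f3 r' h1' h2', LinearMap.add_apply, e1, e2, e3, e4, e5,
      e6, hφ, hφ']
  · exact (f1 ⟨a, ha⟩).symm ▸ (φ ⟨a, ha⟩).2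
  · exact (f2 ⟨c, hc⟩).symm ▸ (φ.symm ⟨c, hc⟩).2

theorem top_of_decomp (hB : B.Nondegenerate) (hA : B.IsAlt) {ι : Type*} {D : ι → Submodule F V}
    (hD : ∀ i, NondegOn B (D i)) (horth : ∀ i j, i ≠ j → ∀ u ∈ D i, ∀ v ∈ D j, B u v = 0)
    (htop : iSup D = ⊤) (hdim : ∀ i j, finrank F (D i) = finrank F (D j))
    (hbig : ∀ i, TClosed.Big B (D i)) (M : Subgroup (SpG B))
    (hM : ∀ g : SpG B, (∀ i, ∃ j, ∀ w ∈ D i, g.1 w ∈ D j) → g ∈ M) (g : SpG B) (hg : g ∈ M)
    (hgD : ¬ ∀ i, ∃ j, ∀ w ∈ D i, g.1 w ∈ D j) : M = ⊤ := by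
  classical
  have hX := tClosed_XS hA M
  have hDX : ∀ i, ∀ v ∈ D i, v ∈ XS hA M := fun i v hv c => hM _ fun j => ⟨j, fun w hw => by
    by_cases hij : j = i
    · subst hij; exact (D j).add_mem hw ((D j).smul_mem _ hv)
    · simpa [horth j i hij w hw v hv] using hw⟩
  have hne : ∀ i, ∃ w ∈ D i, w ≠ 0 := fun i => by
    obtain ⟨w, hw, -, -, h0, -⟩ := hbig i 0
    exact ⟨w, hw, h0⟩
  have hzero : ∀ x, (∀ i, x ∈ B.orthogonal (D i)) → x = 0 := fun x hx => hB.2 x fun y => by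
    have : iSup D ≤ LinearMap.ker (B.flip x) := iSup_le fun i z hz => hx i z hz
    exact this (htop ▸ Submodule.mem_top (x := y))
  choose U hU1 hU2 hU3 using fun i => hX.exists_comp hA (hD i) (hDX i) (hbig i)
  by_cases hc : ∃ i j, i ≠ j ∧ D j ≤ U i
  · obtain ⟨i, j, hij, hj⟩ := hc
    have hnd := (hD i).sup hA (hD j) (horth i j hij)
    have hX2 : ∀ x ∈ D i ⊔ D j, x ∈ XS hA M := fun x hx => by
      by_cases h0 : x = 0
      · rw [h0]; exact hX.zero_mem
      · obtain ⟨y, hy, hyx⟩ := hnd x hx h0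
        exact hU3 i x (sup_le (hU1 i) hj hx) fun h => hyx (h y (sup_le (hU1 i) hj hy))
    refine eq_top_of_XS hB hA (hX.of_top hB (hU3 i) ?_)
    rw [eq_top_iff, ← htop]
    refine iSup_le fun l => ?_
    by_cases hl : l = i
    · rw [hl]; exact hU1 i
    by_cases hl' : l = j
    · rw [hl']; exact hj
    obtain ⟨s, s1, s2, s3⟩ := exists_swap hB hA (hD l) (hD j) (horth l j hl') (hdim l j)
    have s4 : ∀ n, n ≠ l → n ≠ j → ∀ x ∈ D n, s.1 x = x := fun n h1 h2 x hx =>
      s3 x (fun y hy => horth l n h1.symm y hy x hx) fun y hy => horth j n h2.symm y hy x hx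
    have hs : s⁻¹ ∈ M := M.inv_mem (hM s fun n => by
      by_cases h1 : n = l
      · exact ⟨j, h1 ▸ s1⟩
      by_cases h2 : n = j
      · exact ⟨l, h2 ▸ s2⟩
      exact ⟨n, fun w hw => by rwa [s4 n h1 h2 w hw]⟩)
    rcases le_or_le (A := D i ⊔ D l) (fun x hx => hU2 i x (by
      rw [← sp_inv_apply_apply s x]
      refine XS_map hA hs (hX2 _ ?_)
      obtain ⟨a, ha, b, hb, rfl⟩ := Submodule.mem_sup.1 hx
      rw [map_add, s4 i (Ne.symm hl) hij a ha]
      exact Submodule.add_mem_sup ha (s1 b hb))) with h | h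
    · exact le_sup_right.trans h
    · obtain ⟨w, hw, hw0⟩ := hne i
      exact absurd ((hD i).eq_zero hw fun x hx => h (Submodule.mem_sup_left hw) x (hU1 i hx)) hw0
  · exfalso
    push Not at hc
    have hUD : ∀ i, U i ≤ D i := fun i x hx => by
      obtain ⟨w, hw, r, hr, rfl⟩ := (hD i).exists_add hA x
      have hr' : r ∈ U i := by simpa using (U i).sub_mem hx (hU1 i hw)
      have : r = 0 := hzero r fun j => by
        by_cases hj : i = j
        · exact hj ▸ hr
        · have h1 := (le_or_le fun x hx => hU2 i x (hDX j x hx)).resolve_left (hc i j hj)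
          exact fun y hy => alt_zero hA (h1 hy r hr')
      simpa [this] using hw
    refine hgD fun i => ?_
    by_contra! h1
    obtain ⟨w, hw, hw0⟩ := hne i
    refine sp_apply_ne_zero g hw0 (hzero _ fun j => ?_)
    rcases le_or_le (A := (D i).map g.1.toLinearMap) (fun x hx => hU2 j x (by
      obtain ⟨y, hy, rfl⟩ := hx
      exact XS_map hA hg (hDX i y hy))) with h4 | h4
    · obtain ⟨y, hy, hy'⟩ := h1 j
      exact absurd (hUD j (h4 ⟨y, hy, rfl⟩)) hy'
    · exact LinearMap.BilinForm.orthogonal_le (hU1 j) (h4 ⟨w, hw, rfl⟩)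

theorem exists_not_decomp (hB : B.Nondegenerate) (hA : B.IsAlt) {ι : Type*} {D : ι → Submodule F V}
    (hD : ∀ i, NondegOn B (D i)) (horth : ∀ i j, i ≠ j → ∀ u ∈ D i, ∀ v ∈ D j, B u v = 0)
    {i j : ι} (hij : i ≠ j) (hi : D i ≠ ⊥) (hj : D j ≠ ⊥) :
    ∃ g : SpG B, ¬ ∀ i, ∃ j, ∀ w ∈ D i, g.1 w ∈ D j := by
  obtain ⟨u, hu, hu0⟩ := Submodule.exists_mem_ne_zero_of_ne_bot hi
  obtain ⟨v, hv, hv0⟩ := Submodule.exists_mem_ne_zero_of_ne_bot hj
  obtain ⟨x, hx, hxu⟩ := hD i u hu hu0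
  obtain ⟨y, hy, hyv⟩ := hD j v hv hv0
  refine ⟨spT hA (u + v) 1, fun h => ?_⟩
  obtain ⟨l, hl⟩ := h i
  have h1 := hl u hu
  have h2 := hl x hx
  simp only [spT_apply, map_add, hA.self_eq_zero, horth i j hij u hu v hv, horth i j hij x hx v hv,
    add_zero, mul_zero, zero_smul, one_mul] at h1 h2
  by_cases hli : i = l
  · subst hli
    have h3 : v ∈ D i := by
      simpa using (D i).sub_mem (((D i).smul_mem_iff hxu).1 (((D i).add_mem_iff_right hx).1 h2)) hu
    exact hyv (horth j i hij.symm y hy v h3)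
  · exact hxu (horth i l hli x hx u h1)

/-! ### Orthogonal groups in characteristic two -/

theorem exists_nondeg_perp (hB : B.Nondegenerate) (hA : B.IsAlt) (h4 : 3 ≤ finrank F V) {u x : V}
    (hux : B u x ≠ 0) : ∃ y z, B u y = 0 ∧ B x y = 0 ∧ B u z = 0 ∧ B x z = 0 ∧ B y z ≠ 0 := by
  have hP := nondegOn_span_pair hA hux
  have hr := LinearMap.BilinForm.finrank_orthogonal hB (Submodule.span F {u, x})
  have h2 : finrank F (Submodule.span F {u, x}) ≤ 2 := by
    classical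
    refine (finrank_span_le_card _).trans ?_
    rw [Set.toFinset_insert, Set.toFinset_singleton]
    exact Finset.card_le_two
  have h0 : B.orthogonal (Submodule.span F {u, x}) ≠ ⊥ := fun h => by
    rw [h, finrank_bot] at hr; omega
  obtain ⟨z, hz, hz0⟩ := Submodule.exists_mem_ne_zero_of_ne_bot h0
  obtain ⟨y, hy, hyz⟩ := hP.orthogonal hB hA z hz hz0
  have e1 : u ∈ Submodule.span F {u, x} := Submodule.subset_span (by simp)
  have e2 : x ∈ Submodule.span F {u, x} := Submodule.subset_span (by simp)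
  exact ⟨y, z, hy u e1, hy x e2, hz u e1, hz x e2, hyz⟩

variable (Q : QuadraticForm F V)

theorem quad_add (hQ : ∀ u v, QuadraticMap.polar Q u v = B u v) (u v : V) :
    Q (u + v) = Q u + Q v + B u v := by
  rw [← hQ, QuadraticMap.polar]; ring

theorem exists_quad_eq (hB : B.Nondegenerate) (hA : B.IsAlt) (h4 : 3 ≤ finrank F V)
    (hsq : ∀ a : F, ∃ b, b ^ 2 = a) (hQ : ∀ u v, QuadraticMap.polar Q u v = B u v) {u : V}
    (hu : u ≠ 0) (β d : F) : ∃ v, B v u = β ∧ Q v = d := by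
  obtain ⟨x, hx⟩ : ∃ x, B x u = 1 := by
    obtain ⟨x, hx⟩ : ∃ x, B x u ≠ 0 := by by_contra! h; exact hu (hB.2 u h)
    exact ⟨(B x u)⁻¹ • x, by simp [hx]⟩
  obtain ⟨y, z, h1, h2, h3, h5, h6⟩ := exists_nondeg_perp hB hA h4 (u := u) (x := x)
    (alt_ne hA (by rw [hx]; exact one_ne_zero))
  obtain ⟨w, w1, w2, w3⟩ : ∃ w, B u w = 0 ∧ B x w = 0 ∧ Q w ≠ 0 := by
    by_contra! hc
    have := quad_add Q hQ y z
    rw [hc y h1 h2, hc z h3 h5, hc (y + z) (by simp [h1, h3]) (by simp [h2, h5])] at this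
    exact h6 (by simpa using this.symm)
  obtain ⟨t, ht⟩ := hsq ((d - β * β * Q x) / Q w)
  refine ⟨β • x + t • w, by simp [hx, alt_zero hA w1], ?_⟩
  rw [quad_add Q hQ, QuadraticMap.map_smul, QuadraticMap.map_smul, ← sq t, ht]
  simp only [map_smul, LinearMap.smul_apply, w2, smul_eq_mul]
  field_simp
  ring

theorem exists_quad_isometry (hB : B.Nondegenerate)
    (hQ : ∀ u v, QuadraticMap.polar Q u v = B u v) {u v : V} (hu : u ≠ 0) (hv : v ≠ 0)
    (h : Q v = Q u) : ∃ g : SpG B, (∀ x, Q (g.1 x) = Q x) ∧ g.1 u = v := by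
  obtain ⟨g, g1, g2, g3⟩ := (wittData_quadratic Q).extend_family
    (fun x hx => hB.1 x fun y => by rw [← hQ]; exact hx y) (fun _ : Unit => u) (fun _ => v)
    (linearIndependent_unique_iff.2 hu) (linearIndependent_unique_iff.2 hv)
    (fun _ _ => by simp [QuadraticMap.polar_self, h]) fun _ => h
  exact ⟨⟨g, fun x y => (hQ _ _).symm.trans ((g1 x y).trans (hQ _ _))⟩, g2, g3 ()⟩

theorem top_of_quad (hB : B.Nondegenerate) (hA : B.IsAlt) (h4 : 3 ≤ finrank F V) (h2 : (2 : F) = 0)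
    (hsq : ∀ a : F, ∃ b, b ^ 2 = a) (hQ : ∀ u v, QuadraticMap.polar Q u v = B u v)
    (M : Subgroup (SpG B)) (hM : ∀ g : SpG B, (∀ x, Q (g.1 x) = Q x) → g ∈ M) (g : SpG B)
    (hg : g ∈ M) (hgQ : ¬ ∀ x, Q (g.1 x) = Q x) : M = ⊤ := by
  have hT : ∀ u v, Q ((spT hA u 1).1 v) = Q v + B v u ^ 2 * (Q u - 1) := fun u v => by
    rw [spT_apply, quad_add Q hQ, QuadraticMap.map_smul, map_smul]
    simp only [smul_eq_mul]
    linear_combination (B v u ^ 2) * h2
  have hmap : ∀ k ∈ M, ∀ v, spT hA v 1 ∈ M → spT hA (k.1 v) 1 ∈ M := fun k hk v hv => by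
    rw [← spT_conj]; exact M.mul_mem (M.mul_mem hk hv) (M.inv_mem hk)
  have h1 : ∀ v, Q v = 1 → spT hA v 1 ∈ M := fun v hv => hM _ fun x => by rw [hT, hv]; simp
  obtain ⟨y, hy, hy'⟩ : ∃ y, Q y = 1 ∧ Q (g.1 y) ≠ 1 := by
    by_contra! hc
    have e1 : ∀ x, Q x ≠ 0 → Q (g.1 x) = Q x := fun x hx => by
      obtain ⟨t, ht⟩ := hsq (Q x)⁻¹
      have := hc (t • x) (by rw [QuadraticMap.map_smul, ← sq, ht]; simp [hx])
      rw [map_smul, QuadraticMap.map_smul, ← sq, ht, smul_eq_mul, inv_mul_eq_one₀ hx] at this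
      exact this.symm
    refine hgQ fun x => ?_
    by_cases hx : Q x = 0
    · by_cases hx0 : x = 0
      · simp [hx0]
      obtain ⟨v, v1, v2⟩ := exists_quad_eq Q hB hA h4 hsq hQ hx0 0 1
      have e2 := e1 (v + x) (by simp [quad_add Q hQ, v1, v2, hx])
      rw [map_add, quad_add Q hQ, quad_add Q hQ, spG_form, hc v v2, v2] at e2
      linear_combination e2
    · exact e1 x hx
  have hy0 : y ≠ 0 := by rintro rfl; simp at hy
  have hu := hmap g hg y (h1 y hy)
  have hu0 := sp_apply_ne_zero g hy0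
  have hall : ∀ x, spT hA x 1 ∈ M := fun x => by
    by_cases hx0 : x = 0
    · simpa [hx0] using M.one_mem
    obtain ⟨β, hβ⟩ := hsq ((Q x - 1) / (Q (g.1 y) - 1))
    obtain ⟨v, v1, v2⟩ := exists_quad_eq Q hB hA h4 hsq hQ hu0 β 1
    have hv0 : v ≠ 0 := by rintro rfl; simp at v2
    have e1 := hT (g.1 y) v
    rw [v1, v2, hβ, div_mul_cancel₀ _ (sub_ne_zero.2 hy'), add_sub_cancel] at e1
    obtain ⟨k, k1, k2⟩ := exists_quad_isometry Q hB hQ (sp_apply_ne_zero (spT hA (g.1 y) 1) hv0)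
      hx0 e1.symm
    rw [← k2]
    exact hmap k (hM k k1) _ (hmap _ hu v (h1 v v2))
  refine eq_top_of_XS hB hA fun v c => ?_
  obtain ⟨t, rfl⟩ := hsq c
  simpa [spT_smul] using hall (t • v)

theorem exists_not_quad (hB : B.Nondegenerate) (hA : B.IsAlt) (h4 : 3 ≤ finrank F V)
    (hsq : ∀ a : F, ∃ b, b ^ 2 = a) (hQ : ∀ u v, QuadraticMap.polar Q u v = B u v) :
    ∃ g : SpG B, ¬ ∀ x, Q (g.1 x) = Q x := by
  have : Nontrivial V := Module.nontrivial_of_finrank_pos (R := F) (by omega)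
  obtain ⟨y, hy⟩ := exists_ne (0 : V)
  obtain ⟨u, u1, u2⟩ := exists_quad_eq Q hB hA h4 hsq hQ hy 1 0
  have hu : u ≠ 0 := by rintro rfl; simp at u1
  obtain ⟨v, v1, v2⟩ := exists_quad_eq Q hB hA h4 hsq hQ hu 1 0
  refine ⟨spT hA u 1, fun h => ?_⟩
  have := h v
  rw [spT_apply, quad_add Q hQ, QuadraticMap.map_smul, map_smul] at this
  simp [u2, v1] at this

end Abstract

section Mat

variable {F : Type*} [Field F] {m : ℕ}

open Cfsg.Geo

theorem max_parabolic (W : Submodule F (Fin m ⊕ Fin m → F)) (hW0 : W ≠ ⊥)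
    (hW : IsTotallySingularFor (sympForm m F) W) :
    IsMaximalIn (spGL m F) (subspaceStabilizer W ⊓ spGL m F) := by
  have hW' : ∀ u ∈ W, ∀ v ∈ W, spB m F u v = 0 := fun u hu v hv => by
    rw [spB_apply]; exact hW u hu v hv
  refine isMaximalIn_sp _ (fun g => ∀ w ∈ W, g.1 w ∈ W)
    (fun g => by simp only [Max.mem_subspaceStabilizer_iff_maps, spι_mulVec])
    (exists_not_maps spB_nondegenerate spB_isAlt hW0 ?_)
    (top_of_parabolic spB_nondegenerate spB_isAlt hW')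
  rintro rfl
  obtain ⟨w, -, hw⟩ := Submodule.exists_mem_ne_zero_of_ne_bot hW0
  exact hw (spB_separating w fun v => hW' w trivial v trivial)

theorem max_nondeg (W : Submodule F (Fin m ⊕ Fin m → F)) (hW0 : W ≠ ⊥)
    (hW : IsNondegenerateOn (sympForm m F) W) (hdim : finrank F W < m) :
    IsMaximalIn (spGL m F) (subspaceStabilizer W ⊓ spGL m F) := by
  refine isMaximalIn_sp _ (fun g => ∀ w ∈ W, g.1 w ∈ W)
    (fun g => by simp only [Max.mem_subspaceStabilizer_iff_maps, spι_mulVec])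
    (exists_not_maps spB_nondegenerate spB_isAlt hW0 ?_)
    (top_of_nondeg spB_nondegenerate spB_isAlt hW0 (nondegOn_of hW) (by rw [sp_finrank_std]; omega))
  rintro rfl
  rw [finrank_top, sp_finrank_std] at hdim
  omega

theorem max_decomp [Fintype F] {t : ℕ} (k : ℕ) (D : Fin t → Submodule F (Fin m ⊕ Fin m → F))
    (hD : IsNondegenerateMDecomposition (sympForm m F) k D)
    (hex : ¬ (k = 2 ∧ Fintype.card F = 2)) :
    IsMaximalIn (spGL m F) (decompositionStabilizer D ⊓ spGL m F) := by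
  have hn : ∀ i, NondegOn (spB m F) (D i) := fun i => nondegOn_of (hD.nondegenerate i)
  have ho : ∀ i j, i ≠ j → ∀ u ∈ D i, ∀ v ∈ D j, spB m F u v = 0 := fun i j hij u hu v hv => by
    rw [spB_apply]; exact hD.orthogonal i j hij u hu v hv
  have h0 := Max.IsMDecomposition.ne_bot hD.decomp
  have ht := hD.decomp.two_le
  refine isMaximalIn_sp _ (fun g => ∀ i, ∃ j, ∀ w ∈ D i, g.1 w ∈ D j) (fun g => ⟨?_, fun h => ?_⟩)
    (exists_not_decomp spB_nondegenerate spB_isAlt hn ho (i := ⟨0, by omega⟩) (j := ⟨1, by omega⟩)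
      (by simp) (h0 _) (h0 _))
    (top_of_decomp spB_nondegenerate spB_isAlt hn ho hD.decomp.iSup_eq_top
      (fun i j => by rw [hD.decomp.finrank_eq, hD.decomp.finrank_eq]) fun i => ?_)
  · rintro ⟨σ, hσ⟩ i
    refine ⟨σ i, fun w hw => ?_⟩
    rw [← hσ, ← spι_mulVec]
    exact ⟨w, hw, rfl⟩
  · exact Max.mem_decompositionStabilizer_of_maps hD.decomp (by simpa only [spι_mulVec] using h)
  · by_cases hq : Fintype.card F = 2
    · have h2 := (hn i).two_le_finrank spB_isAlt (h0 i)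
      have h3 := hD.decomp.finrank_eq i
      exact TClosed.big_of_three_le spB_isAlt (hn i) (by have := not_and.1 hex; omega)
    · obtain ⟨v, hv, hv0⟩ := Submodule.exists_mem_ne_zero_of_ne_bot (h0 i)
      obtain ⟨u, hu, huv⟩ := hn i v hv hv0
      exact TClosed.big_of_ne spB_isAlt (exists_ne_zero_one hq) hu hv huv

theorem two_eq_zero_of_not_odd [Fintype F] (h : ¬ Odd (Fintype.card F)) : (2 : F) = 0 := by
  have : ringChar F = 2 := by
    rw [FiniteField.even_card_iff_char_two]; exact Nat.not_odd_iff.1 h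
  have h2 := ringChar.spec F 2
  rw [this] at h2
  exact_mod_cast h2.2 dvd_rfl

theorem exists_sq_of_not_odd [Fintype F] (h : ¬ Odd (Fintype.card F)) (a : F) : ∃ b, b ^ 2 = a := by
  have : ringChar F = 2 := by
    rw [FiniteField.even_card_iff_char_two]; exact Nat.not_odd_iff.1 h
  obtain ⟨b, hb⟩ := FiniteField.isSquare_of_char_two this a
  exact ⟨b, by rw [hb, sq]⟩

theorem max_quad [Fintype F] (hm : 2 ≤ m) (heven : ¬ Odd (Fintype.card F))
    (Q : (Fin m ⊕ Fin m → F) → F) (hQ : IsNondegenerateQuadraticForm Q)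
    (hpol : ∀ u v, QuadraticMap.polar Q u v = sympForm m F u v) :
    IsMaximalIn (spGL m F) (quadSimilarityGroup Q ⊓ spGL m F) := by
  let Q' : QuadraticForm F (Fin m ⊕ Fin m → F) :=
    { toFun := Q
      toFun_smul := fun a x => by rw [hQ.smul, sq, smul_eq_mul]
      exists_companion' := ⟨spB m F, fun x y => by
        rw [spB_apply, ← hpol, QuadraticMap.polar]; ring⟩ }
  have hQ' : ∀ u v, QuadraticMap.polar Q' u v = spB m F u v := fun u v => by
    rw [spB_apply]; exact hpol u v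
  have h3 : 3 ≤ finrank F (Fin m ⊕ Fin m → F) := by rw [sp_finrank_std]; omega
  refine isMaximalIn_sp _ (fun g => ∀ x, Q' (g.1 x) = Q' x) (fun g => ⟨?_, fun h => ⟨1, fun v => ?_⟩⟩)
    (exists_not_quad Q' spB_nondegenerate spB_isAlt h3 (exists_sq_of_not_odd heven) hQ')
    (top_of_quad Q' spB_nondegenerate spB_isAlt h3 (two_eq_zero_of_not_odd heven)
      (exists_sq_of_not_odd heven) hQ')
  · rintro ⟨c, hc⟩ x
    replace hc : ∀ v, Q' (g.1 v) = c * Q' v := fun v => by rw [← spι_mulVec]; exact hc v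
    have h1 : ∀ u v, spB m F u v = c * spB m F u v := fun u v => by
      have := hc (u + v)
      rw [map_add, quad_add Q' hQ', quad_add Q' hQ', hc, hc, spG_form] at this
      linear_combination this
    have h2 := h1 (Pi.single (Sum.inr ⟨0, by omega⟩) 1) (Pi.single (Sum.inl ⟨0, by omega⟩) 1)
    rw [spB_single_inr] at h2
    simp only [Pi.single_eq_same, mul_one] at h2
    rw [hc, ← h2, one_mul]
  · rw [spι_mulVec, Units.val_one, one_mul]; exact h v

end Mat

end Cfsg.Agent.Cl.MaxSp
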