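import Mathlib
import Cfsg.Agent.Cl.DerCyc

/-! Totally singular subspaces of non-degenerate subspaces (Witt index), and gluing of
isometries. -/

set_option autoImplicit false
set_option linter.unusedSectionVars false

namespace Cfsg.Agent.Cl.Der

open Polynomial Module Cfsg.Agent.Cl.Cls

variable {F V A : Type*} [Field F] [AddCommGroup V] [Module F V]
  [AddCommGroup A] {σ : F →+* F} {B : V →ₛₗ[σ] V →ₗ[F] F} {Q : V → A} {τ : F →+ A} {f : End F V}
  {U W S Y Z : Submodule F V}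

/-- `W` contains a totally singular subspace of dimension `a`. -/
def HasTS (B : V →ₛₗ[σ] V →ₗ[F] F) (Q : V → A) (W : Submodule F V) (a : ℕ) : Prop :=
  ∃ U, U ≤ W ∧ TS B Q U ∧ finrank F U = a

/-- `W` contains a totally singular subspace of half its dimension. -/
def Plus (B : V →ₛₗ[σ] V →ₗ[F] F) (Q : V → A) (W : Submodule F V) : Prop :=
  ∃ U, U ≤ W ∧ TS B Q U ∧ 2 * finrank F U = finrank F W

theorem plus_iff {a : ℕ} (h : finrank F W = 2 * a) : Plus B Q W ↔ HasTS B Q W a :=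
  ⟨fun ⟨U, h1, h2, h3⟩ => ⟨U, h1, h2, by omega⟩, fun ⟨U, h1, h2, h3⟩ => ⟨U, h1, h2, by omega⟩⟩

theorem Plus.even (h : Plus B Q W) : Even (finrank F W) := by
  obtain ⟨U, -, -, h⟩ := h
  exact ⟨finrank F U, by omega⟩

theorem HasTS.mono {a : ℕ} (h : HasTS B Q W a) (hW : W ≤ S) : HasTS B Q S a := by
  obtain ⟨U, h1, h2⟩ := h
  exact ⟨U, h1.trans hW, h2⟩

theorem exists_le_finrank_eq {k : ℕ} (h : k ≤ finrank F W) : ∃ S, S ≤ W ∧ finrank F S = k := by
  obtain ⟨v, hv⟩ := exists_linearIndependent_of_le_finrank h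
  refine ⟨(Submodule.span F (Set.range v)).map W.subtype, Submodule.map_subtype_le _ _, ?_⟩
  rw [Submodule.finrank_map_subtype_eq, finrank_span_eq_card hv, Fintype.card_fin]

theorem HasTS.of_le {a b : ℕ} (h : HasTS B Q W a) (hb : b ≤ a) : HasTS B Q W b := by
  obtain ⟨U, h1, h2, rfl⟩ := h
  obtain ⟨S, h3, h4⟩ := exists_le_finrank_eq hb
  exact ⟨S, h3.trans h1, h2.mono h3, h4⟩

theorem finrank_comap_subtype (h : W ≤ U) : finrank F (W.comap U.subtype) = finrank F W :=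
  (Submodule.comapSubtypeEquivOfLe h).finrank_eq

theorem map_comap_subtype_of_le (h : W ≤ U) : (W.comap U.subtype).map U.subtype = W := by
  rw [Submodule.map_comap_subtype, inf_eq_right.2 h]

theorem hasTS_map_subtype {S : Submodule F U} {a : ℕ} :
    HasTS B Q (S.map U.subtype) a ↔ HasTS (resB B U) (resQ Q U) S a := by
  constructor
  · rintro ⟨T, h1, h2, rfl⟩
    refine ⟨T.comap U.subtype, fun v hv => ?_, h2.comap_subtype U,
      finrank_comap_subtype (h1.trans (Submodule.map_subtype_le _ _))⟩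
    obtain ⟨w, hw, h3⟩ := h1 hv
    exact Subtype.ext h3 ▸ hw
  · rintro ⟨T, h1, h2, rfl⟩
    exact ⟨T.map U.subtype, Submodule.map_mono h1, h2.map_subtype,
      Submodule.finrank_map_subtype_eq _ _⟩

theorem hasTS_res {a : ℕ} : HasTS (resB B U) (resQ Q U) ⊤ a ↔ HasTS B Q U a := by
  rw [← hasTS_map_subtype, Submodule.map_top, Submodule.range_subtype]

theorem plus_map_subtype {S : Submodule F U} :
    Plus B Q (S.map U.subtype) ↔ Plus (resB B U) (resQ Q U) S := by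
  by_cases h : Even (finrank F S)
  · obtain ⟨a, ha⟩ := h
    rw [plus_iff (a := a) (by rw [Submodule.finrank_map_subtype_eq]; omega),
      plus_iff (a := a) (by omega), hasTS_map_subtype]
  · exact iff_of_false (fun h1 => h (Submodule.finrank_map_subtype_eq U S ▸ h1.even))
      fun h1 => h h1.even

theorem plus_res : Plus (resB B U) (resQ Q U) ⊤ ↔ Plus B Q U := by
  rw [← plus_map_subtype, Submodule.map_top, Submodule.range_subtype]

theorem map_perp_res {S : Submodule F U} :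
    (perp (resB B U) S).map U.subtype = perp B (S.map U.subtype) ⊓ U := by
  ext v
  constructor
  · rintro ⟨w, hw, rfl⟩
    refine ⟨?_, w.2⟩
    rintro _ ⟨x, hx, rfl⟩
    exact hw x hx
  · rintro ⟨h1, h2⟩
    exact ⟨⟨v, h2⟩, fun x hx => h1 _ ⟨x, hx, rfl⟩, rfl⟩

theorem ed_restrict_of_eq_smul [FiniteDimensional F V] (hU : ∀ v ∈ U, f v ∈ U) {c : F}
    (h : ∀ v ∈ U, f v = c • v) :
    ed (f.restrict hU) = Multiset.replicate (finrank F U) (X - C c) := by
  obtain ⟨k, h1, h2⟩ := ed_eq_replicate (f := f.restrict hU) (monic_X_sub_C c)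
    (irreducible_X_sub_C c) (by
      ext v
      simp [h v v.2])
  rw [natDegree_X_sub_C, mul_one] at h2
  rwa [← h2]

theorem ed_restrict_of_eq [FiniteDimensional F V] (hU : ∀ v ∈ U, f v ∈ U)
    (h : ∀ v ∈ U, f v = v) : ed (f.restrict hU) = Multiset.replicate (finrank F U) (X - C 1) :=
  ed_restrict_of_eq_smul hU (by simpa using h)

theorem ed_restrict_eq_of_eqOn [FiniteDimensional F V] {g : End F V} (hU : ∀ v ∈ U, f v ∈ U)
    (hU' : ∀ v ∈ U, g v ∈ U) (h : ∀ v ∈ U, f v = g v) :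
    ed (f.restrict hU) = ed (g.restrict hU') := by
  congr 1
  ext v
  simp [h v v.2]

theorem finrank_sup_of_disjoint [FiniteDimensional F V] (h : Disjoint U W) :
    finrank F ↥(U ⊔ W) = finrank F U + finrank F W := by
  rw [← Submodule.finrank_sup_add_finrank_inf_eq, h.eq_bot, finrank_bot, add_zero]

theorem exists_disjoint_sup_eq (h : U ≤ W) : ∃ Y, Y ≤ W ∧ Disjoint U Y ∧ U ⊔ Y = W := by
  obtain ⟨Y, hY⟩ := U.exists_isCompl
  refine ⟨Y ⊓ W, inf_le_right, hY.disjoint.mono_right inf_le_left, ?_⟩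
  rw [← sup_inf_assoc_of_le _ h, hY.sup_eq_top, top_inf_eq]

theorem exists_between_finrank [FiniteDimensional F V] (h : U ≤ W) {a : ℕ}
    (h1 : finrank F U ≤ a) (h2 : a ≤ finrank F W) :
    ∃ T, U ≤ T ∧ T ≤ W ∧ finrank F T = a := by
  obtain ⟨Y, h3, h4, rfl⟩ := exists_disjoint_sup_eq h
  rw [finrank_sup_of_disjoint h4] at h2
  obtain ⟨T, h5, h6⟩ := exists_le_finrank_eq (W := Y) (k := a - finrank F U) (by omega)
  refine ⟨U ⊔ T, le_sup_left, sup_le_sup_left h5 _, ?_⟩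
  rw [finrank_sup_of_disjoint (h4.mono_right h5)]
  omega

namespace Geom

theorem hasTS_zero (hG : Geom B Q τ) (W : Submodule F V) : HasTS B Q W 0 :=
  ⟨⊥, bot_le, hG.ts_bot, finrank_bot F V⟩

theorem plus_bot (hG : Geom B Q τ) : Plus B Q ⊥ := ⟨⊥, le_rfl, hG.ts_bot, by simp⟩

theorem ts_span (hG : Geom B Q τ) {s : Set V} (h1 : ∀ x ∈ s, ∀ y ∈ s, B x y = 0)
    (h2 : ∀ x ∈ s, Q x = 0) : TS B Q (Submodule.span F s) := by
  have h3 : ∀ u ∈ Submodule.span F s, ∀ v ∈ Submodule.span F s, B u v = 0 := fun u hu v hv =>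
    (Submodule.span_le.2 fun y hy => mem_perp_span.2 fun x hx => h1 x hx y hy :
      Submodule.span F s ≤ perp B _) hv u hu
  refine ⟨h3, fun u hu => ?_⟩
  have := hG.Q_map_of_mem_span 0 s (fun x hx y hy => by simp [h3 x hx y hy])
    (fun x hx => by rw [LinearMap.zero_apply, hG.Q_zero, h2 x hx]) u hu
  rw [← this, LinearMap.zero_apply, hG.Q_zero]

theorem ts_span_singleton (hG : Geom B Q τ) {x : V} (h : Q x = 0) : TS B Q (F ∙ x) :=
  hG.ts_span (by simpa using hG.self_eq_zero h) (by simpa using h)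

theorem nd_span_singleton (hG : Geom B Q τ) {x : V} (h : B x x ≠ 0) : ND B (F ∙ x) := by
  intro u hu hu'
  obtain ⟨c, rfl⟩ := Submodule.mem_span_singleton.1 hu
  have := hG.refl (hu' x (Submodule.mem_span_singleton_self x))
  rw [map_smul, smul_eq_mul, mul_eq_zero] at this
  rw [this.resolve_right h, zero_smul]

variable [FiniteDimensional F V]

theorem finrank_add_perp_inf (hG : Geom B Q τ) (hW : ND B W) (h : U ≤ W) :
    finrank F U + finrank F ↥(perp B U ⊓ W) = finrank F W := by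
  have := (hG.res hW).finrank_add_perp (U.comap W.subtype)
  rwa [finrank_comap_subtype h, ← Submodule.finrank_map_subtype_eq, map_perp_res,
    map_comap_subtype_of_le h] at this

theorem nd_perp_inf (hG : Geom B Q τ) (hW : ND B W) (hU : ND B U) (h : U ≤ W) :
    ND B (perp B U ⊓ W) := by
  have := ((hG.res hW).nd_perp (hU.comap_subtype h)).map_subtype
  rwa [map_perp_res, map_comap_subtype_of_le h] at this

theorem finrank_sup_of_le_perp (hG : Geom B Q τ) (hU : ND B U) (h : W ≤ perp B U) :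
    finrank F ↥(U ⊔ W) = finrank F U + finrank F W :=
  finrank_sup_of_disjoint (hG.disjoint_of_le_perp hU h)

theorem sup_perp_inf (hG : Geom B Q τ) (hW : ND B W) (hU : ND B U) (h : U ≤ W) :
    U ⊔ perp B U ⊓ W = W := by
  refine Submodule.eq_of_le_of_finrank_eq (sup_le h inf_le_right) ?_
  rw [hG.finrank_sup_of_le_perp hU inf_le_left, hG.finrank_add_perp_inf hW h]

theorem two_mul_le_of_hasTS (hG : Geom B Q τ) (hW : ND B W) {a : ℕ} (h : HasTS B Q W a) :
    2 * a ≤ finrank F W := by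
  obtain ⟨U, -, h2, rfl⟩ := hasTS_res.2 h
  exact (hG.res hW).two_mul_le_of_ts h2

theorem hasTS_sup (hG : Geom B Q τ) (hS : ND B S) (h : Y ≤ perp B S) {a b : ℕ}
    (ha : HasTS B Q S a) (hb : HasTS B Q Y b) : HasTS B Q (S ⊔ Y) (a + b) := by
  obtain ⟨U, h1, h2, rfl⟩ := ha
  obtain ⟨W, h3, h4, rfl⟩ := hb
  exact ⟨U ⊔ W, sup_le_sup h1 h3, hG.ts_sup h2 h4 ((h3.trans h).trans (perp_anti h1)),
    finrank_sup_of_disjoint ((hG.disjoint_of_le_perp hS h).mono h1 h3)⟩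

theorem plus_sup (hG : Geom B Q τ) (hS : ND B S) (h : Y ≤ perp B S) (ha : Plus B Q S)
    (hb : Plus B Q Y) : Plus B Q (S ⊔ Y) := by
  obtain ⟨a, h1⟩ := ha.even
  obtain ⟨b, h2⟩ := hb.even
  rw [plus_iff (a := a + b) (by rw [hG.finrank_sup_of_le_perp hS h]; omega)]
  exact hG.hasTS_sup hS h ((plus_iff (by omega)).1 ha) ((plus_iff (by omega)).1 hb)

/-- A non-degenerate complement of a totally singular subspace in its perp. -/
theorem exists_nd_compl (hG : Geom B Q τ) (hW : ND B W) (h : U ≤ W) (hU : U ≤ perp B U) :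
    ∃ Y, Y ≤ W ∧ ND B Y ∧ Y ≤ perp B U ∧ Disjoint U Y ∧ U ⊔ Y = perp B U ⊓ W ∧
      2 * finrank F U + finrank F Y = finrank F W := by
  obtain ⟨Y, -, h1, h2, h3, h4, -⟩ := (hG.res hW).exists_nd_of_le_perp iso_one
    End.isSemisimple_id (U := U.comap W.subtype) (fun _ hv => hv) fun v hv x hx => hU hv x hx
  have h5 := congrArg (Submodule.map W.subtype) h4
  rw [Submodule.map_sup, map_perp_res, map_comap_subtype_of_le h] at h5
  have h6 : Disjoint U (Y.map W.subtype) := by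
    rw [Submodule.disjoint_def]
    rintro _ hv ⟨v, hv', rfl⟩
    rw [Submodule.disjoint_def.1 h3 v hv hv', map_zero]
  refine ⟨Y.map W.subtype, Submodule.map_subtype_le _ _, h1.map_subtype,
    (le_sup_right.trans h5.le).trans inf_le_left, h6, h5, ?_⟩
  have h7 := hG.finrank_add_perp_inf hW h
  rw [← h5, finrank_sup_of_disjoint h6] at h7
  omega

/-- Totally singular subspaces can be moved to contain a given one. -/
theorem exists_ts_ge (hG : Geom B Q τ) (hU : TS B Q U) (hZ : TS B Q Z) :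
    TS B Q (U ⊔ Z ⊓ perp B U) ∧ finrank F Z ≤ finrank F ↥(U ⊔ Z ⊓ perp B U) := by
  refine ⟨hG.ts_sup hU (hZ.mono inf_le_left) inf_le_right, ?_⟩
  have h1 := hG.finrank_add_perp (perp B Z ⊔ U)
  rw [perp_sup, hG.perp_perp] at h1
  have h2 := Submodule.finrank_sup_add_finrank_inf_eq (perp B Z) U
  have h3 := hG.finrank_add_perp Z
  have h4 := Submodule.finrank_sup_add_finrank_inf_eq U (Z ⊓ perp B U)
  have h5 : finrank F ↥(U ⊓ (Z ⊓ perp B U)) ≤ finrank F ↥(perp B Z ⊓ U) :=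
    Submodule.finrank_mono (le_inf ((inf_le_right.trans inf_le_left).trans hZ.le_perp) inf_le_left)
  omega

theorem hasTS_of_compl (hG : Geom B Q τ) (hU : TS B Q U) (hUW : U ≤ W)
    (hY : U ⊔ Y = perp B U ⊓ W) {a : ℕ} (h : HasTS B Q W (finrank F U + a)) :
    HasTS B Q Y a := by
  obtain ⟨Z, h1, h2, h3⟩ := h
  obtain ⟨h4, h5⟩ := hG.exists_ts_ge hU h2
  have h6 : U ⊔ Z ⊓ perp B U ≤ U ⊔ Y := hY ▸ sup_le (le_inf hU.le_perp hUW)
    (le_inf inf_le_right (inf_le_left.trans h1))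
  have h7 : U ⊔ Y ⊓ (U ⊔ Z ⊓ perp B U) = U ⊔ Z ⊓ perp B U := by
    rw [← sup_inf_assoc_of_le _ le_sup_left, inf_eq_right.2 h6]
  have h8 := Submodule.finrank_sup_add_finrank_inf_eq U (Y ⊓ (U ⊔ Z ⊓ perp B U))
  rw [h7] at h8
  exact HasTS.of_le ⟨_, inf_le_left, h4.mono inf_le_right, rfl⟩ (by omega)

/-- Witt cancellation for the Witt index. -/
theorem hasTS_of_sup (hG : Geom B Q τ) (hS : ND B S) (h : Y ≤ perp B S) {a b : ℕ}
    (hb : finrank F S = 2 * b) (hP : Plus B Q S) (ha : HasTS B Q (S ⊔ Y) (b + a)) :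
    HasTS B Q Y a := by
  obtain ⟨U, h1, h2, h3⟩ := hP
  refine hG.hasTS_of_compl h2 (h1.trans le_sup_left) ?_ (by convert ha; omega)
  have h4 : perp B U ⊓ S = U := by
    refine (Submodule.eq_of_le_of_finrank_eq (le_inf h2.le_perp h1) ?_).symm
    have := hG.finrank_add_perp_inf hS h1
    omega
  rw [inf_comm, sup_comm S Y, sup_inf_assoc_of_le _ (h.trans (perp_anti h1)), inf_comm, h4,
    sup_comm]

theorem plus_sup_iff (hG : Geom B Q τ) (hS : ND B S) (hY : ND B Y) (h : Y ≤ perp B S)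
    (hP : Plus B Q S) : Plus B Q (S ⊔ Y) ↔ Plus B Q Y := by
  refine ⟨fun h1 => ?_, hG.plus_sup hS h hP⟩
  obtain ⟨a, h2⟩ := hP.even
  obtain ⟨b, h3⟩ := h1.even
  have h4 := hG.finrank_sup_of_le_perp hS h
  rw [plus_iff (a := b - a) (by omega)]
  refine hG.hasTS_of_sup hS h (b := a) (by omega) hP ?_
  rw [plus_iff (a := b) (by omega)] at h1
  exact h1.of_le (by omega)

theorem plus_sup_iff' (hG : Geom B Q τ) (hS : ND B S) (hY : ND B Y) (h : Y ≤ perp B S)
    (hP : Plus B Q Y) : Plus B Q (S ⊔ Y) ↔ Plus B Q S := by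
  rw [sup_comm, hG.plus_sup_iff hY hS (hG.le_perp_comm.1 h) hP]

/-- A totally singular subspace extends to one of any admissible dimension. -/
theorem exists_ts_extend (hG : Geom B Q τ) (hU : TS B Q U) (hUW : U ≤ W) {a : ℕ}
    (h : HasTS B Q W a) (ha : finrank F U ≤ a) :
    ∃ Z, U ≤ Z ∧ Z ≤ W ∧ TS B Q Z ∧ finrank F Z = a := by
  obtain ⟨Z, h1, h2, h3⟩ := h
  obtain ⟨h4, h5⟩ := hG.exists_ts_ge hU h2
  obtain ⟨T, h6, h7, h8⟩ := exists_between_finrank (le_sup_left :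
    U ≤ U ⊔ Z ⊓ perp B U) ha (h3 ▸ h5)
  exact ⟨T, h6, h7.trans (sup_le hUW (inf_le_left.trans h1)), h4.mono h7, h8⟩

theorem hasTS_of_sing (hG : Geom B Q τ) (hW : ND B W) {e : ℕ}
    (hs : ∀ Y, Y ≤ W → ND B Y → e ≤ finrank F Y → ∃ y ∈ Y, y ≠ 0 ∧ Q y = 0) {a : ℕ}
    (ha : 2 * a + e ≤ finrank F W + 2) : HasTS B Q W a := by
  induction a with
  | zero => exact hG.hasTS_zero W
  | succ a ih =>
    obtain ⟨U, h1, h2, h3⟩ := ih (by omega)
    obtain ⟨Y, h4, h5, h6, h7, -, h8⟩ := hG.exists_nd_compl hW h1 h2.le_perp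
    obtain ⟨y, hy, hy0, hy'⟩ := hs Y h4 h5 (by omega)
    have h9 : (F ∙ y) ≤ Y := (Submodule.span_singleton_le_iff_mem _ _).2 hy
    refine ⟨U ⊔ F ∙ y, sup_le h1 (h9.trans h4), hG.ts_sup h2 (hG.ts_span_singleton hy')
      (h9.trans h6), ?_⟩
    rw [finrank_sup_of_disjoint (h7.mono_right h9), finrank_span_singleton hy0, h3]

/-- A totally singular complement inside a non-degenerate hull. -/
theorem exists_ts_partner (hG : Geom B Q τ) (hW : ND B W) (hU : TS B Q U) (hUW : U ≤ W) :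
    ∃ U', U' ≤ W ∧ TS B Q U' ∧ finrank F U' = finrank F U ∧ Disjoint U U' ∧ ND B (U ⊔ U') := by
  classical
  let b := Module.finBasis F U
  have hG' := hG.res hW
  let e : Fin (finrank F U) → W := fun i => ⟨b i, hUW (b i).2⟩
  have he : LinearIndependent F e :=
    LinearIndependent.of_comp W.subtype (b.linearIndependent.map' U.subtype U.ker_subtype)
  obtain ⟨g, h1, h2, h3⟩ := hG'.exists_hyperbolic hG'.nondeg e he
    (fun i j => hU.1 _ (b i).2 _ (b j).2) fun i => hU.2 _ (b i).2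
  let g' : Fin (finrank F U) → V := fun i => g i
  have h4 : TS B Q (Submodule.span F (Set.range g')) := hG.ts_span
    (by rintro _ ⟨i, rfl⟩ _ ⟨j, rfl⟩; exact h2 i j) (by rintro _ ⟨i, rfl⟩; exact h3 i)
  have h5 : ∀ y ∈ Submodule.span F (Set.range g'), y ∈ perp B U → y = 0 := fun y hy hy' => by
    obtain ⟨c, rfl⟩ := (Submodule.mem_span_range_iff_exists_fun F).1 hy
    refine Finset.sum_eq_zero fun i _ => ?_
    have := hy' (b i) (b i).2
    have h6 : ∀ j, B (b i) (g' j) = if i = j then 1 else 0 := h1 i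
    simp only [map_sum, map_smul, h6, smul_eq_mul, mul_ite, mul_one, mul_zero, Finset.sum_ite_eq,
      Finset.mem_univ, if_true] at this
    rw [this, zero_smul]
  have h6 : finrank F (Submodule.span F (Set.range g')) = finrank F U := by
    rw [finrank_span_eq_card, Fintype.card_fin]
    refine Fintype.linearIndependent_iff.2 fun c hc i => ?_
    have := congrArg (B (b i)) hc
    have h6 : ∀ j, B (b i) (g' j) = if i = j then 1 else 0 := h1 i
    simpa [map_sum, map_smul, h6] using this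
  have h7 : IsCompl (perp B U) (Submodule.span F (Set.range g')) := by
    refine (Submodule.isCompl_iff_disjoint _ _ ?_).2 (Submodule.disjoint_def.2 fun y hy hy' =>
      h5 y hy' hy)
    have := hG.finrank_add_perp U
    omega
  refine ⟨_, Submodule.span_le.2 (by rintro _ ⟨i, rfl⟩; exact (g i).2), h4, h6,
    h7.disjoint.mono_left hU.le_perp, fun v hv hv' => ?_⟩
  obtain ⟨a, ha, c, hc, rfl⟩ := Submodule.mem_sup.1 hv
  have h8 : c = 0 := h5 c hc (hG.mem_perp'.2 fun x hx => by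
    have := hv' x (Submodule.mem_sup_left hx)
    rwa [map_add, LinearMap.add_apply, hU.1 a ha x hx, zero_add] at this)
  subst h8
  rw [add_zero] at hv' ⊢
  refine hG.nondeg a fun y => ?_
  obtain ⟨c, hc', d, hd, rfl⟩ := Submodule.mem_sup.1
    (h7.sup_eq_top ▸ Submodule.mem_top : y ∈ perp B U ⊔ Submodule.span F (Set.range g'))
  rw [map_add, hc' a ha, hv' d (Submodule.mem_sup_right hd), add_zero]

theorem exists_plus (hG : Geom B Q τ) (hW : ND B W) {a : ℕ} (h : HasTS B Q W a) :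
    ∃ Y, Y ≤ W ∧ ND B Y ∧ Plus B Q Y ∧ finrank F Y = 2 * a := by
  obtain ⟨U, h1, h2, rfl⟩ := h
  obtain ⟨U', h3, -, h4, h5, h6⟩ := hG.exists_ts_partner hW h2 h1
  have h7 := finrank_sup_of_disjoint h5
  exact ⟨U ⊔ U', sup_le h1 h3, h6, ⟨U, le_sup_left, h2, by omega⟩, by omega⟩

/-! ### Gluing -/

theorem iso_of_isCompl (hG : Geom B Q τ) (hc : Codisjoint U W)
    (h1 : ∀ u ∈ U, ∀ v ∈ U, B (f u) (f v) = B u v) (h2 : ∀ u ∈ U, ∀ v ∈ W, B (f u) (f v) = B u v)
    (h3 : ∀ u ∈ W, ∀ v ∈ W, B (f u) (f v) = B u v) (h4 : ∀ u ∈ U, Q (f u) = Q u)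
    (h5 : ∀ u ∈ W, Q (f u) = Q u) : Iso B Q f := by
  have h6 : ∀ x, ∃ a ∈ U, ∃ b ∈ W, a + b = x := fun x =>
    Submodule.mem_sup.1 (hc.eq_top ▸ Submodule.mem_top : x ∈ U ⊔ W)
  refine ⟨fun x y => ?_, fun x => ?_⟩
  · obtain ⟨a, ha, b, hb, rfl⟩ := h6 x
    obtain ⟨c, hc, d, hd, rfl⟩ := h6 y
    simp only [map_add, LinearMap.add_apply, h1 a ha c hc, h2 a ha d hd, h3 b hb d hd,
      hG.symm _ _ _ _ (h2 c hc b hb)]
  · obtain ⟨a, ha, b, hb, rfl⟩ := h6 x
    rw [map_add, hG.add, hG.add, h4 a ha, h5 b hb, h2 a ha b hb]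

/-- Extension of an isometry of a non-degenerate subspace by the identity. -/
theorem exists_extend_one (hG : Geom B Q τ) (hU : ND B U) {g : End F U}
    (hg : Iso (resB B U) (resQ Q U) g) :
    ∃ f : End F V, Iso B Q f ∧ (∀ u : U, f u = g u) ∧ ∀ v ∈ perp B U, f v = v := by
  have hc := hG.isCompl_perp hU
  let f := LinearMap.ofIsCompl hc (U.subtype ∘ₗ g) (perp B U).subtype
  have h1 : ∀ u (hu : u ∈ U), f u = g ⟨u, hu⟩ := fun u hu =>
    LinearMap.ofIsCompl_apply_left hc ⟨u, hu⟩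
  have h2 : ∀ u ∈ perp B U, f u = u := fun u hu => LinearMap.ofIsCompl_apply_right hc ⟨u, hu⟩
  refine ⟨f, hG.iso_of_isCompl hc.codisjoint (fun u hu v hv => ?_) (fun u hu v hv => ?_)
    (fun u hu v hv => ?_) (fun u hu => ?_) fun u hu => ?_, fun u => h1 u u.2, h2⟩
  · rw [h1 u hu, h1 v hv]
    exact hg.mapB ⟨u, hu⟩ ⟨v, hv⟩
  · rw [h1 u hu, h2 v hv, hv u hu, hv _ (g _).2]
  · rw [h2 u hu, h2 v hv]
  · rw [h1 u hu]
    exact hg.mapQ ⟨u, hu⟩
  · rw [h2 u hu]

/-- The Levi factor of a pair of complementary totally singular subspaces. -/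
theorem exists_levi (hG : Geom B Q τ) (hU : TS B Q U) (hW : TS B Q W) (hc : IsCompl U W)
    {g : End F U} (hg : Function.Injective g) :
    ∃ f : End F V, Iso B Q f ∧ (∀ u : U, f u = g u) ∧ (∀ v ∈ W, f v ∈ W) ∧
      ed f = ed g + (ed g).map (uDual σ) := by
  obtain ⟨k, k1, -, k3⟩ := hG.extend_map hG.nondeg U (U.subtype ∘ₗ g)
    (U.injective_subtype.comp hg) (fun x y => by
      rw [hU.1 _ x.2 _ y.2]
      exact hU.1 _ (g x).2 _ (g y).2) (fun x => by
      rw [hU.2 _ x.2]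
      exact hU.2 _ (g x).2)
  let π := W.projectionOnto U hc.symm
  have hπ : ∀ u ∈ U, ∀ y, B u (π y) = B u y := fun u hu y => by
    have := hU.1 u hu _ (Submodule.sub_projection_mem hc.symm y)
    rw [map_sub, sub_eq_zero] at this
    exact this.symm
  let f := LinearMap.ofIsCompl hc (U.subtype ∘ₗ g) (W.subtype ∘ₗ π ∘ₗ k ∘ₗ W.subtype)
  have h1 : ∀ u (hu : u ∈ U), f u = g ⟨u, hu⟩ := fun u hu =>
    LinearMap.ofIsCompl_apply_left hc ⟨u, hu⟩
  have h2 : ∀ u ∈ W, f u = π (k u) := fun u hu => LinearMap.ofIsCompl_apply_right hc ⟨u, hu⟩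
  have h3 : ∀ u ∈ U, f u ∈ U := fun u hu => h1 u hu ▸ Subtype.prop _
  have h4 : ∀ u ∈ W, f u ∈ W := fun u hu => h2 u hu ▸ Subtype.prop _
  have h5 : Iso B Q f := by
    refine hG.iso_of_isCompl hc.codisjoint (fun u hu v hv => ?_) (fun u hu v hv => ?_)
      (fun u hu v hv => ?_) (fun u hu => ?_) fun u hu => ?_
    · rw [hU.1 u hu v hv, hU.1 _ (h3 u hu) _ (h3 v hv)]
    · rw [h2 v hv, hπ _ (h3 u hu), h1 u hu, ← k1 u v, k3 ⟨u, hu⟩]
      rfl
    · rw [hW.1 u hu v hv, hW.1 _ (h4 u hu) _ (h4 v hv)]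
    · rw [hU.2 u hu, hU.2 _ (h3 u hu)]
    · rw [hW.2 u hu, hW.2 _ (h4 u hu)]
  have h6 : f.restrict h3 = g := LinearMap.ext fun u => Subtype.ext (h1 u u.2)
  have h7 : perp B U = U := by
    refine (Submodule.eq_of_le_of_finrank_le hU.le_perp ?_).symm
    have := hG.finrank_add_perp U
    have := hG.two_mul_le_of_ts hW
    have := Submodule.finrank_add_eq_of_isCompl hc
    omega
  refine ⟨f, h5, fun u => h1 u u.2, h4, ?_⟩
  rw [ed_eq_add_restrict f hc h3 h4, hG.ed_compl_perp h5 h3 h4 (h7.symm ▸ hc), h6]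

end Geom

/-- `μ` is realised by an isometry supported on `W`. -/
def RealOn (B : V →ₛₗ[σ] V →ₗ[F] F) (Q : V → A) [FiniteDimensional F V] (W : Submodule F V)
    (μ : Multiset F[X]) : Prop :=
  ∃ f : End F V, Iso B Q f ∧ (∀ v ∈ perp B W, f v = v) ∧
    ∃ hW : ∀ v ∈ W, f v ∈ W, ed (f.restrict hW) = μ

variable [FiniteDimensional F V]

theorem realOn_one (W : Submodule F V) :
    RealOn B Q W (Multiset.replicate (finrank F W) (X - C 1)) :=
  ⟨1, iso_one, fun _ _ => rfl, fun _ hv => hv, ed_restrict_of_eq _ fun _ _ => rfl⟩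

theorem RealOn.top {μ : Multiset F[X]} (h : RealOn B Q ⊤ μ) : ∃ f, Iso B Q f ∧ ed f = μ := by
  obtain ⟨f, h1, -, h2, h3⟩ := h
  exact ⟨f, h1, (ed_restrict_top h2).symm.trans h3⟩

namespace Geom

theorem realOn_of_res (hG : Geom B Q τ) (hU : ND B U) {g : End F U}
    (hg : Iso (resB B U) (resQ Q U) g) : RealOn B Q U (ed g) := by
  obtain ⟨f, h1, h2, h3⟩ := hG.exists_extend_one hU hg
  refine ⟨f, h1, h3, fun u hu => h2 ⟨u, hu⟩ ▸ Subtype.prop _, ?_⟩
  congr 1
  exact LinearMap.ext fun u => Subtype.ext (h2 u)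

theorem realOn_sup (hG : Geom B Q τ) (hU : ND B U) (h : W ≤ perp B U) {μ ν : Multiset F[X]}
    (h1 : RealOn B Q U μ) (h2 : RealOn B Q W ν) : RealOn B Q (U ⊔ W) (μ + ν) := by
  obtain ⟨f, f1, f2, f3, rfl⟩ := h1
  obtain ⟨g, g1, g2, g3, rfl⟩ := h2
  have h3 : ∀ v ∈ U, (f * g) v = f v := fun v hv => by
    rw [End.mul_apply, g2 v (hG.le_perp_comm.1 h hv)]
  have h4 : ∀ v ∈ W, (f * g) v = g v := fun v hv => by rw [End.mul_apply, f2 _ (h (g3 v hv))]
  have h5 : ∀ v ∈ U, (f * g) v ∈ U := fun v hv => h3 v hv ▸ f3 v hv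
  have h6 : ∀ v ∈ W, (f * g) v ∈ W := fun v hv => h4 v hv ▸ g3 v hv
  refine ⟨f * g, f1.mul g1, fun v hv => ?_, sup_inv h5 h6, ?_⟩
  · rw [perp_sup] at hv
    rw [End.mul_apply, g2 v hv.2, f2 v hv.1]
  · rw [ed_sup h5 h6 (hG.disjoint_of_le_perp hU h), ed_restrict_eq_of_eqOn h5 f3 h3,
      ed_restrict_eq_of_eqOn h6 g3 h4]

theorem exists_of_realOn (hG : Geom B Q τ) (hW : ND B W) {μ : Multiset F[X]}
    (h : RealOn B Q W μ) : ∃ f, Iso B Q f ∧ (∀ v ∈ perp B W, f v = v) ∧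
      (∃ hW : ∀ v ∈ W, f v ∈ W, ed (f.restrict hW) = μ) ∧
      ed f = μ + Multiset.replicate (finrank F (perp B W)) (X - C 1) := by
  obtain ⟨f, h1, h2, h3, h4⟩ := h
  refine ⟨f, h1, h2, ⟨h3, h4⟩, ?_⟩
  rw [hG.ed_eq_add_perp h1 h3 hW, h4, ed_restrict_of_eq _ h2]

theorem realOn_of_equiv (hG : Geom B Q τ) (hU : ND B U) {V' : Type*} [AddCommGroup V']
    [Module F V'] [FiniteDimensional F V'] {B' : V' →ₛₗ[σ] V' →ₗ[F] F} {Q' : V' → A}
    (e : V' ≃ₗ[F] U) (he : ∀ x y, B (e x) (e y) = B' x y) (he' : ∀ x, Q (e x) = Q' x)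
    {g : End F V'} (hg : Iso B' Q' g) : RealOn B Q U (ed g) := by
  rw [(sim_iff_conj.2 ⟨e, rfl⟩ : Sim g (e.conj g)).ed_eq]
  refine hG.realOn_of_res hU ⟨fun x y => ?_, fun x => ?_⟩
  · obtain ⟨x, rfl⟩ := e.surjective x
    obtain ⟨y, rfl⟩ := e.surjective y
    simp only [LinearEquiv.conj_apply_apply, LinearEquiv.symm_apply_apply, resB_apply, he, hg.mapB]
  · obtain ⟨x, rfl⟩ := e.surjective x
    simp only [LinearEquiv.conj_apply_apply, LinearEquiv.symm_apply_apply, resQ,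
      Submodule.subtype_apply, he', hg.mapQ]

/-- Hyperbolic realisation. -/
theorem realOn_hyp (hG : Geom B Q τ) (hW : ND B W) (hP : Plus B Q W) {s : Multiset F[X]}
    (hs : ∀ e ∈ s, IsPP e) (h0 : ∀ e ∈ s, e.coeff 0 ≠ 0)
    (hd : 2 * (s.map natDegree).sum = finrank F W) : RealOn B Q W (s + s.map (uDual σ)) := by
  have hG' := hG.res hW
  obtain ⟨U, -, h1, h2⟩ := plus_res.2 hP
  rw [finrank_top] at h2
  obtain ⟨U', -, h3, h4, h5, -⟩ := hG'.exists_ts_partner hG'.nd_top h1 le_top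
  obtain ⟨g, rfl⟩ := exists_ed_eq (V := U) hs (by omega)
  obtain ⟨f, f1, -, -, f2⟩ := hG'.exists_levi h1 h3
    ((Submodule.isCompl_iff_disjoint _ _ (by omega)).2 h5)
    ((End.isUnit_iff _).1 ((isUnit_iff_ed g).2 h0)).1
  exact f2 ▸ hG.realOn_of_res hW f1

end Geom

end Cfsg.Agent.Cl.Der
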