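import Mathlib
import Cfsg.Agent.Cl.DerWitt
import Cfsg.Agent.Cl.SpecSymp

/-! The fixed space and the moving part of a semisimple isometry; elements of odd prime order. -/

set_option autoImplicit false
set_option linter.unusedSectionVars false

namespace Cfsg.Agent.Cl.Der

open Polynomial Module Cfsg.Agent.Cl.Cls

variable {F V A : Type*} [Field F] [AddCommGroup V] [Module F V]
  [AddCommGroup A] {σ : F →+* F} {B : V →ₛₗ[σ] V →ₗ[F] F} {Q : V → A} {τ : F →+ A} {f : End F V}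
  {U W S Y Z : Submodule F V}

/-- The fixed space. -/
def fixS (f : End F V) : Submodule F V := LinearMap.ker (f - 1)

theorem mem_fixS {v : V} : v ∈ fixS f ↔ f v = v := by
  rw [fixS, LinearMap.mem_ker, LinearMap.sub_apply, End.one_apply, sub_eq_zero]

theorem inv_of_le_fixS (h : U ≤ fixS f) : ∀ v ∈ U, f v ∈ U := fun v hv => by
  rwa [mem_fixS.1 (h hv)]

theorem fixS_inv (f : End F V) : ∀ v ∈ fixS f, f v ∈ fixS f := inv_of_le_fixS le_rfl

theorem fixS_eq_top : fixS f = ⊤ ↔ f = 1 := by rw [fixS, LinearMap.ker_eq_top, sub_eq_zero]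

theorem Geom.nd_left (hG : Geom B Q τ) (h : ND B (U ⊔ W)) (hW : W ≤ perp B U) : ND B U :=
  fun u hu hu' => h u (Submodule.mem_sup_left hu) fun v hv => by
    obtain ⟨a, ha, b, hb, rfl⟩ := Submodule.mem_sup.1 hv
    rw [map_add, hu' a ha, hW hb u hu, add_zero]

theorem Geom.nd_right (hG : Geom B Q τ) (h : ND B (U ⊔ W)) (hW : W ≤ perp B U) : ND B W :=
  hG.nd_left (sup_comm U W ▸ h) (hG.le_perp_comm.1 hW)

variable [FiniteDimensional F V]

theorem restrict_pow_eq_one {r : ℕ} (hU : ∀ v ∈ U, f v ∈ U) (h : f ^ r = 1) :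
    (f.restrict hU) ^ r = 1 := by
  ext v
  rw [End.pow_restrict, LinearMap.coe_restrict_apply, h]
  rfl

theorem exists_fixed_of_mem_ed (hU : ∀ v ∈ U, f v ∈ U) {c : F} {k : ℕ} (hk : k ≠ 0)
    (h : (X - C c) ^ k ∈ ed (f.restrict hU)) : ∃ v ∈ U, v ≠ 0 ∧ f v = c • v := by
  by_contra h1
  push Not at h1
  have h2 : IsUnit (aeval (f.restrict hU) (X - C c)) := by
    rw [LinearMap.isUnit_iff_ker_eq_bot, LinearMap.ker_eq_bot']
    intro v hv
    by_contra h0
    refine h1 v v.2 (by simpa using h0) ?_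
    simpa [sub_eq_zero, Algebra.algebraMap_eq_smul_one] using congrArg Subtype.val hv
  exact (isPP_of_mem_ed h).not_isUnit (((isUnit_aeval_iff_ed _ _).1 h2 _ h).pow_right
    (n := k) |>.isUnit_of_dvd' dvd_rfl dvd_rfl)

open Classical in
/-- The elementary divisors other than `X - 1`. -/
noncomputable def movE (f : End F V) : Multiset F[X] := (ed f).filter (· ≠ X - C 1)

theorem movE_eq {μ : Multiset F[X]} {k : ℕ} (h : ed f = μ + Multiset.replicate k (X - C 1))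
    (hμ : ∀ e ∈ μ, e ≠ X - C 1) : movE f = μ := by
  classical
  unfold movE
  rw [h, Multiset.filter_add, Multiset.filter_eq_self.2 hμ, Multiset.filter_eq_nil.2 fun e he => by
    simpa using Multiset.eq_of_mem_replicate he, add_zero]

namespace Geom

theorem exists_ts_in [Finite F] (hG : Geom B Q τ) (h : Iso B Q f) (hs : f.IsSemisimple)
    (hY : ∀ v ∈ Y, f v ∈ Y) (hN : ND B Y) {s : Multiset F[X]} (hg : ∀ e ∈ s, Good σ e)
    (hle : s + s.map (uDual σ) ≤ ed (f.restrict hY)) :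
    ∃ (U : Submodule F V) (hU : ∀ v ∈ U, f v ∈ U), U ≤ Y ∧ TS B Q U ∧ ed (f.restrict hU) = s := by
  obtain ⟨W, hW, h1, h2⟩ := (hG.res hN).exists_ts (h.res hY) (hs.restrict (p := Y) hY) hg hle
  exact ⟨_, map_subtype_inv hW, Submodule.map_subtype_le _ _, h1.map_subtype,
    (ed_map_subtype hW).trans h2⟩

theorem exists_nd_in (hG : Geom B Q τ) (h : Iso B Q f) (hs : f.IsSemisimple)
    (hY : ∀ v ∈ Y, f v ∈ Y) (hN : ND B Y) {s : Multiset F[X]} (hg : ∀ e ∈ s, Good σ e)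
    (hd : s.map (uDual σ) = s) (hle : s ≤ ed (f.restrict hY)) :
    ∃ (U : Submodule F V) (hU : ∀ v ∈ U, f v ∈ U), U ≤ Y ∧ ND B U ∧ ed (f.restrict hU) = s := by
  obtain ⟨W, hW, h1, h2⟩ := (hG.res hN).exists_nd (h.res hY) (hs.restrict (p := Y) hY) hg hd hle
  exact ⟨_, map_subtype_inv hW, Submodule.map_subtype_le _ _, h1.map_subtype,
    (ed_map_subtype hW).trans h2⟩

theorem add_map_le_in (hG : Geom B Q τ) (h : Iso B Q f) (hs : f.IsSemisimple)
    (hY : ∀ v ∈ Y, f v ∈ Y) (hN : ND B Y) (hU : ∀ v ∈ U, f v ∈ U) (hUY : U ≤ Y)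
    (hU' : U ≤ perp B U) :
    ed (f.restrict hU) + (ed (f.restrict hU)).map (uDual σ) ≤ ed (f.restrict hY) := by
  rw [← ed_comap_subtype hY hU hUY]
  exact (hG.res hN).add_map_le_of_le_perp (h.res hY) (hs.restrict (p := Y) hY) _
    fun v hv x hx => hU' hv x hx

theorem ed_eq_add_perp_inf (hG : Geom B Q τ) (h : Iso B Q f) (hY : ∀ v ∈ Y, f v ∈ Y) (hN : ND B Y)
    (hU : ∀ v ∈ U, f v ∈ U) (hU' : ND B U) (hUY : U ≤ Y) :
    ed (f.restrict hY) = ed (f.restrict hU) + ed (f.restrict (inf_inv (hG.perp_inv h hU) hY)) := by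
  rw [← ed_sup hU _ (hG.disjoint_of_le_perp hU' inf_le_left)
    (sup_inv hU (inf_inv (hG.perp_inv h hU) hY))]
  exact ed_restrict_congr (hG.sup_perp_inf hN hU' hUY).symm _ _

theorem perp_fixS (hG : Geom B Q τ) (h : Iso B Q f) :
    perp B (fixS f) = LinearMap.range (f - 1) := by
  refine (Submodule.eq_of_le_of_finrank_eq ?_ ?_).symm
  · rintro _ ⟨v, rfl⟩ x hx
    rw [LinearMap.sub_apply, map_sub, End.one_apply, ← h.mapB x v, mem_fixS.1 hx, sub_self]
  · have h1 := hG.finrank_add_perp (fixS f)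
    have h2 := LinearMap.finrank_range_add_finrank_ker (f - 1)
    unfold fixS at h1 ⊢
    omega

theorem nd_fixS (hG : Geom B Q τ) (h : Iso B Q f) (hs : f.IsSemisimple) : ND B (fixS f) := by
  rw [hG.nd_iff, hG.perp_fixS h, Submodule.disjoint_def]
  obtain ⟨W, hW, hc⟩ := exists_isCompl_of_isSemisimple hs (fixS_inv f)
  rintro _ h1 ⟨v, rfl⟩
  obtain ⟨a, ha, b, hb, rfl⟩ := Submodule.mem_sup.1
    (hc.sup_eq_top ▸ Submodule.mem_top : v ∈ fixS f ⊔ W)
  refine Submodule.disjoint_def.1 hc.disjoint _ h1 ?_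
  rw [map_add, (show (f - 1) a = 0 from ha), zero_add]
  exact W.sub_mem (hW b hb) hb

theorem sup_fixS (hG : Geom B Q τ) (h : Iso B Q f) (hs : f.IsSemisimple)
    (hW : ∀ v ∈ W, f v ∈ W) : W ⊓ fixS f ⊔ W ⊓ perp B (fixS f) = W := by
  refine le_antisymm (sup_le inf_le_left inf_le_left) fun w hw => ?_
  have h1 := inf_inv hW (hG.perp_inv h (fixS_inv f))
  have h2 : ∀ v ∈ W ⊓ perp B (fixS f), (f - 1) v ∈ W ⊓ perp B (fixS f) := fun v hv =>
    Submodule.sub_mem _ (h1 v hv) hv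
  have h3 : Function.Injective ((f - 1).restrict h2) := (injective_iff_map_eq_zero _).2
    fun v hv => Subtype.ext (Submodule.disjoint_def.1 (hG.nd_iff.1 (hG.nd_fixS h hs)) _
      (congrArg Subtype.val hv) v.2.2)
  obtain ⟨v, hv⟩ := LinearMap.injective_iff_surjective.1 h3
    ⟨(f - 1) w, W.sub_mem (hW w hw) hw, hG.perp_fixS h ▸ ⟨w, rfl⟩⟩
  refine Submodule.mem_sup.2 ⟨w - v, ⟨W.sub_mem hw v.2.1, ?_⟩, v, v.2, by simp⟩
  change (f - 1) (w - v) = 0
  rw [map_sub, sub_eq_zero]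
  exact (congrArg Subtype.val hv).symm

theorem finrank_eq_fixS (hG : Geom B Q τ) (h : Iso B Q f) (hs : f.IsSemisimple)
    (hW : ∀ v ∈ W, f v ∈ W) :
    finrank F W = finrank F ↥(W ⊓ fixS f) + finrank F ↥(W ⊓ perp B (fixS f)) := by
  rw [← finrank_sup_of_disjoint ((hG.nd_iff.1 (hG.nd_fixS h hs)).mono inf_le_right inf_le_right),
    hG.sup_fixS h hs hW]

theorem inf_perp_le (W : Submodule F V) : W ⊓ perp B (fixS f) ≤ perp B (W ⊓ fixS f) :=
  inf_le_right.trans (perp_anti inf_le_right)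

theorem nd_inf_fixS (hG : Geom B Q τ) (h : Iso B Q f) (hs : f.IsSemisimple)
    (hW : ∀ v ∈ W, f v ∈ W) (hN : ND B W) : ND B (W ⊓ fixS f) :=
  hG.nd_left ((hG.sup_fixS h hs hW).symm ▸ hN) (inf_perp_le W)

theorem nd_inf_perp_fixS (hG : Geom B Q τ) (h : Iso B Q f) (hs : f.IsSemisimple)
    (hW : ∀ v ∈ W, f v ∈ W) (hN : ND B W) : ND B (W ⊓ perp B (fixS f)) :=
  hG.nd_right ((hG.sup_fixS h hs hW).symm ▸ hN) (inf_perp_le W)

theorem ne_of_le_perp_fixS (hG : Geom B Q τ) (h : Iso B Q f) (hs : f.IsSemisimple)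
    (hY : ∀ v ∈ Y, f v ∈ Y) (hle : Y ≤ perp B (fixS f)) {e : F[X]} (he : e ∈ ed (f.restrict hY)) :
    e ≠ X - C 1 := by
  rintro rfl
  obtain ⟨v, hv, h0, h1⟩ := exists_fixed_of_mem_ed hY one_ne_zero (by rwa [pow_one])
  exact h0 (Submodule.disjoint_def.1 (hG.nd_iff.1 (hG.nd_fixS h hs)) v
    (mem_fixS.2 (by simpa using h1)) (hle hv))

theorem ed_perp_fixS (hG : Geom B Q τ) (h : Iso B Q f) (hs : f.IsSemisimple) :
    ed (f.restrict (hG.perp_inv h (fixS_inv f))) = movE f := by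
  refine (movE_eq (k := finrank F (fixS f)) ?_
    fun e he => hG.ne_of_le_perp_fixS h hs _ le_rfl he).symm
  rw [hG.ed_eq_add_perp h (fixS_inv f) (hG.nd_fixS h hs),
    ed_restrict_of_eq _ fun _ => mem_fixS.1, add_comm]

/-- Invariant totally singular subspaces in terms of the fixed space and the moving part. -/
theorem exists_ts_iff [Finite F] (hG : Geom B Q τ) (h : Iso B Q f) (hs : f.IsSemisimple)
    (hg : ∀ e ∈ movE f, Good σ e) (m : ℕ) :
    (∃ W : Submodule F V, finrank F W = m ∧ TS B Q W ∧ ∀ v ∈ W, f v ∈ W) ↔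
      ∃ a t, HasTS B Q (fixS f) a ∧ t + t.map (uDual σ) ≤ movE f ∧
        m = a + (t.map natDegree).sum := by
  have hP := hG.perp_inv h (fixS_inv f)
  have hN := hG.nd_fixS h hs
  constructor
  · rintro ⟨W, rfl, h1, h2⟩
    refine ⟨_, ed (f.restrict (inf_inv h2 hP)), ⟨W ⊓ fixS f, inf_le_right, h1.mono inf_le_left,
      rfl⟩, ?_, by rw [hG.finrank_eq_fixS h hs h2, sum_natDegree_ed]⟩
    rw [← hG.ed_perp_fixS h hs]
    exact hG.add_map_le_in h hs _ (hG.nd_perp hN) _ inf_le_right (h1.mono inf_le_left).le_perp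
  · rintro ⟨_, t, ⟨U, h1, h2, rfl⟩, h3, rfl⟩
    obtain ⟨Y, hY, h4, h5, rfl⟩ := hG.exists_ts_in h hs hP (hG.nd_perp hN) (s := t)
      (fun e he => hg e (Multiset.mem_of_le h3 (Multiset.mem_add.2 (Or.inl he))))
      (by rwa [hG.ed_perp_fixS h hs])
    refine ⟨U ⊔ Y, ?_, hG.ts_sup h2 h5 (h4.trans (perp_anti h1)), sup_inv (inv_of_le_fixS h1) hY⟩
    rw [finrank_sup_of_disjoint ((hG.nd_iff.1 hN).mono h1 h4), sum_natDegree_ed]

theorem fixS_eq_perp (hG : Geom B Q τ) (hW : ND B W)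
    (h1 : ∀ v ∈ perp B W, f v = v) (hW' : ∀ v ∈ W, f v ∈ W)
    (h2 : ∀ v ∈ W, f v = v → v = 0) : fixS f = perp B W := by
  refine le_antisymm (fun v hv => ?_) fun v hv => mem_fixS.2 (h1 v hv)
  obtain ⟨a, ha, b, hb, rfl⟩ := Submodule.mem_sup.1
    ((hG.isCompl_perp hW).sup_eq_top ▸ Submodule.mem_top : v ∈ W ⊔ perp B W)
  rw [mem_fixS, map_add, h1 b hb, add_left_inj] at hv
  rwa [h2 a ha hv, zero_add]

end Geom

theorem eq_zero_of_fixed (hW : ∀ v ∈ W, f v ∈ W) {c : F}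
    (h : ∀ e ∈ ed (f.restrict hW), ¬ X - C c ∣ e) {v : V} (hv : v ∈ W) (h1 : f v = c • v) :
    v = 0 := by
  have h2 := (isUnit_aeval_iff_ed (f.restrict hW) (X - C c)).2 fun e he =>
    ((irreducible_X_sub_C c).coprime_iff_not_dvd.2 (h e he)).symm
  have h3 := (injective_iff_map_eq_zero _).1 ((End.isUnit_iff _).1 h2).1 ⟨v, hv⟩
    (Subtype.ext (by simpa [sub_eq_zero, Algebra.algebraMap_eq_smul_one] using h1))
  exact congrArg Subtype.val h3

/-! ### Elements of odd prime order -/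

section Prime

variable {r : ℕ} [hr : Fact r.Prime] [Fintype F] {p : ℕ} [hp : Fact p.Prime] [CharP F p]

omit [Fintype F] in
theorem isSemisimple_of_pow_eq_one (hrp : r ≠ p) (h : f ^ r = 1) : f.IsSemisimple :=
  isSemisimple_of_pow_eq (natCast_ne_zero_of_ne hrp) one_ne_zero (by rw [h, one_smul])

omit [Fintype F] in
theorem mem_cycF_of_mem_ed (hrp : r ≠ p) (h : f ^ r = 1) {e : F[X]} (he : e ∈ ed f)
    (h1 : e ≠ X - C 1) : e ∈ cycF F r := by
  obtain ⟨h2, h3⟩ := mem_ed_of_pow_eq_one (natCast_ne_zero_of_ne hrp) h he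
  exact mem_cycF.2 ⟨h2, (isPP_of_mem_ed he).monic, h3.resolve_left h1⟩

omit [Fintype F] in
theorem mem_cycF_of_mem_movE (hrp : r ≠ p) (h : f ^ r = 1) {e : F[X]} (he : e ∈ movE f) :
    e ∈ cycF F r := by
  classical
  exact mem_cycF_of_mem_ed hrp h (Multiset.mem_filter.1 he).1 (Multiset.mem_filter.1 he).2

omit [Fintype F] in
theorem pow_eq_one_of_ed {k : ℕ} (h : ∀ e ∈ ed f, e ∣ X ^ k - 1) : f ^ k = 1 := by
  have := (aeval_eq_zero_iff_ed f _).2 h
  rwa [map_sub, map_pow, aeval_X, map_one, sub_eq_zero] at this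

theorem sum_natDegree_of_cycF (hrp : r ≠ p) {μ : Multiset F[X]} (h : ∀ e ∈ μ, e ∈ cycF F r) :
    (μ.map natDegree).sum = Multiset.card μ * orderOf ((Fintype.card F : ℕ) : ZMod r) :=
  sum_map_eq_card_mul fun e he => natDegree_of_mem_cycF hrp (h e he)

omit [Fintype F] in
theorem Geom.mem_cycF_of_le (hG : Geom B Q τ) (h : Iso B Q f) (hrp : r ≠ p) (hf : f ^ r = 1)
    (hY : ∀ v ∈ Y, f v ∈ Y) (hle : Y ≤ perp B (fixS f)) {e : F[X]} (he : e ∈ ed (f.restrict hY)) :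
    e ∈ cycF F r :=
  mem_cycF_of_mem_ed hrp (restrict_pow_eq_one hY hf) he
    (hG.ne_of_le_perp_fixS h (isSemisimple_of_pow_eq_one hrp hf) hY hle he)

theorem Geom.finrank_fixS_add (hG : Geom B Q τ) (h : Iso B Q f) (hrp : r ≠ p) (hf : f ^ r = 1) :
    finrank F (fixS f) + Multiset.card (movE f) * orderOf ((Fintype.card F : ℕ) : ZMod r) =
      finrank F V := by
  rw [← sum_natDegree_of_cycF hrp fun e => mem_cycF_of_mem_movE hrp hf,
    ← hG.ed_perp_fixS h (isSemisimple_of_pow_eq_one hrp hf), sum_natDegree_ed, hG.finrank_add_perp]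

omit [Fintype F] in
theorem Geom.exists_of_realOn_cycF (hG : Geom B Q τ) (hrp : r ≠ p) (hW : ND B W)
    {μ : Multiset F[X]} (hμ : ∀ e ∈ μ, e ∈ cycF F r) (h : RealOn B Q W μ) :
    ∃ f, Iso B Q f ∧ f ^ r = 1 ∧ fixS f = perp B W ∧ movE f = μ := by
  obtain ⟨f, h1, h2, ⟨h3, h4⟩, h5⟩ := hG.exists_of_realOn hW h
  have hF := natCast_ne_zero_of_ne (F := F) hrp
  refine ⟨f, h1, pow_eq_one_of_ed fun e he => ?_, hG.fixS_eq_perp hW h2 h3 fun v hv h6 =>
    eq_zero_of_fixed h3 (c := 1) (fun e he h7 => ?_) hv (by simpa using h6),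
    movE_eq h5 fun e he => ne_of_mem_cycF hF (hμ e he)⟩
  · rcases Multiset.mem_add.1 (h5 ▸ he) with h6 | h6
    · exact dvd_of_mem_cycF (hμ e h6)
    · rw [Multiset.eq_of_mem_replicate h6]
      exact dvd_iff_isRoot.2 (by simp)
  · have h8 := hμ e (h4 ▸ he)
    exact ne_of_mem_cycF hF h8 (eq_of_monic_of_associated (mem_cycF.1 h8).2.1 (monic_X_sub_C 1)
      ((irreducible_X_sub_C 1).associated_of_dvd (mem_cycF.1 h8).1 h7).symm)

variable {B : V →ₛₗ[RingHom.id F] V →ₗ[F] F}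

variable (r) in
/-- The number of unpaired blocks. -/
noncomputable def oInv (f : End F V) : ℕ :=
  if Even (orderOf ((Fintype.card F : ℕ) : ZMod r)) then oddc (movE f) else 0

theorem oInv_le (hrp : r ≠ p) (hf : f ^ r = 1) :
    oInv r f ≤ (r - 1) / orderOf ((Fintype.card F : ℕ) : ZMod r) := by
  unfold oInv
  split_ifs
  · rw [← card_cycF hrp]
    exact oddc_le_card fun e => mem_cycF_of_mem_movE hrp hf
  · exact Nat.zero_le _

theorem oInv_of_odd (h : Odd (orderOf ((Fintype.card F : ℕ) : ZMod r))) : oInv r f = 0 :=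
  if_neg (Nat.not_even_iff_odd.2 h)

theorem exists_eq_add_map_of_cycF (hrp : r ≠ p) (h2 : r ≠ 2)
    (hi : Odd (orderOf ((Fintype.card F : ℕ) : ZMod r))) {μ : Multiset F[X]}
    (h : ∀ e ∈ μ, e ∈ cycF F r) (hd : μ.map (uDual (RingHom.id F)) = μ) :
    ∃ t, μ = t + t.map (uDual (RingHom.id F)) :=
  exists_eq_add_map _ le_rfl (fun e he => uDual_uDual' (fun _ => rfl) (mem_cycF.1 (h e he)).2.1
    (coeff_zero_of_mem_cycF (h e he))) (fun e he h3 => Nat.not_even_iff_odd.2 hi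
      ((uDual_id_eq_self_iff hrp h2 (h e he)).1 h3)) hd

theorem Geom.map_uDual_movE (hG : Geom B Q τ) (h : Iso B Q f) (hs : f.IsSemisimple) :
    (movE f).map (uDual (RingHom.id F)) = movE f := by
  rw [← hG.ed_perp_fixS h hs]
  exact hG.map_uDual_of_nd h _ (hG.nd_perp (hG.nd_fixS h hs))

theorem Geom.exists_card_movE (hG : Geom B Q τ) (h : Iso B Q f) (hrp : r ≠ p) (h2 : r ≠ 2)
    (hf : f ^ r = 1) : ∃ w, Multiset.card (movE f) = 2 * w + oInv r f := by
  unfold oInv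
  split_ifs with hi
  · exact exists_card_eq_oddc _
  · obtain ⟨t, ht⟩ := exists_eq_add_map_of_cycF hrp h2 (Nat.not_even_iff_odd.1 hi)
      (fun e => mem_cycF_of_mem_movE hrp hf)
      (hG.map_uDual_movE h (isSemisimple_of_pow_eq_one hrp hf))
    exact ⟨Multiset.card t, by rw [ht]; simp [two_mul]⟩

theorem Geom.exists_ts_iff_oInv (hG : Geom B Q τ) (h : Iso B Q f) (hrp : r ≠ p) (h2 : r ≠ 2)
    (hf : f ^ r = 1) (m : ℕ) :
    (∃ W : Submodule F V, finrank F W = m ∧ TS B Q W ∧ ∀ v ∈ W, f v ∈ W) ↔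
      ∃ a v, HasTS B Q (fixS f) a ∧ 2 * v + oInv r f ≤ Multiset.card (movE f) ∧
        m = a + v * orderOf ((Fintype.card F : ℕ) : ZMod r) := by
  have hs := isSemisimple_of_pow_eq_one hrp hf
  have h1 : ∀ e ∈ movE f, e ∈ cycF F r := fun e => mem_cycF_of_mem_movE hrp hf
  rw [hG.exists_ts_iff h hs fun e he => good_of_mem_cycF (natCast_ne_zero_of_ne hrp) h2 (h1 e he)]
  have h3 : ∀ v, (∃ t, t + t.map (uDual (RingHom.id F)) ≤ movE f ∧ Multiset.card t = v) ↔
      2 * v + oInv r f ≤ Multiset.card (movE f) := fun v => by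
    unfold oInv
    split_ifs with hi
    · rw [← exists_add_self_le_iff]
      refine exists_congr fun t => and_congr_left fun _ => ⟨fun h4 => ?_, fun h4 => ?_⟩ <;>
      have h5 := map_eq_self_of_forall fun e he => (uDual_id_eq_self_iff hrp h2
        (h1 e (Multiset.mem_of_le h4 (Multiset.mem_add.2 (Or.inl he))))).2 hi
      · rwa [h5] at h4
      · rwa [h5]
    · constructor
      · rintro ⟨t, h4, rfl⟩
        simpa [two_mul] using Multiset.card_le_card h4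
      · intro h4
        obtain ⟨t, ht⟩ := exists_eq_add_map_of_cycF hrp h2 (Nat.not_even_iff_odd.1 hi) h1
          (hG.map_uDual_movE h hs)
        obtain ⟨u, hu, rfl⟩ := exists_le_card_eq (t := t) (v := v) (by
          rw [ht] at h4
          simp only [Multiset.card_add, Multiset.card_map] at h4
          omega)
        exact ⟨u, ht ▸ add_le_add hu (Multiset.map_le_map hu), rfl⟩
  simp only [← h3]
  constructor
  · rintro ⟨a, t, h4, h5, rfl⟩
    exact ⟨a, _, h4, ⟨t, h5, rfl⟩, by rw [sum_natDegree_of_cycF hrp fun e he =>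
      h1 e (Multiset.mem_of_le h5 (Multiset.mem_add.2 (Or.inl he)))]⟩
  · rintro ⟨a, _, h4, ⟨t, h5, rfl⟩, rfl⟩
    exact ⟨a, t, h4, h5, by rw [sum_natDegree_of_cycF hrp fun e he =>
      h1 e (Multiset.mem_of_le h5 (Multiset.mem_add.2 (Or.inl he)))]⟩

/-- The size of a minimal non-degenerate moving block. -/
def cOf (i : ℕ) : ℕ := if Even i then i else 2 * i

theorem Geom.cOf_dvd (hG : Geom B Q τ) (h : Iso B Q f) (hrp : r ≠ p) (h2 : r ≠ 2)
    (hf : f ^ r = 1) (hY : ∀ v ∈ Y, f v ∈ Y) (hN : ND B Y) (hle : Y ≤ perp B (fixS f)) :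
    cOf (orderOf ((Fintype.card F : ℕ) : ZMod r)) ∣ finrank F Y := by
  have h1 := fun e => hG.mem_cycF_of_le h hrp hf hY hle (e := e)
  rw [finrank_eq_sum_ed hY, sum_natDegree_of_cycF hrp h1, cOf]
  split_ifs with hi
  · exact dvd_mul_left _ _
  · obtain ⟨t, ht⟩ := exists_eq_add_map_of_cycF hrp h2 (Nat.not_even_iff_odd.1 hi) h1
      (hG.map_uDual_of_nd h hY hN)
    rw [ht]
    exact ⟨Multiset.card t, by simp; ring⟩

theorem Geom.exists_nd_cOf (hG : Geom B Q τ) (h : Iso B Q f) (hrp : r ≠ p) (h2 : r ≠ 2)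
    (hf : f ^ r = 1) {w : ℕ}
    (hw : w * cOf (orderOf ((Fintype.card F : ℕ) : ZMod r)) ≤ finrank F (perp B (fixS f))) :
    ∃ Y : Submodule F V, (∀ v ∈ Y, f v ∈ Y) ∧ Y ≤ perp B (fixS f) ∧ ND B Y ∧
      finrank F Y = w * cOf (orderOf ((Fintype.card F : ℕ) : ZMod r)) := by
  have hs := isSemisimple_of_pow_eq_one hrp hf
  have h1 : ∀ e ∈ movE f, e ∈ cycF F r := fun e => mem_cycF_of_mem_movE hrp hf
  have hP := hG.perp_inv h (fixS_inv f)
  have hi0 := orderOf_pos_of_ne_zero (natCast_ne_zero_of_card (F := F) hrp)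
  rw [finrank_eq_sum_ed hP, hG.ed_perp_fixS h hs, sum_natDegree_of_cycF hrp h1] at hw
  obtain ⟨t, h3, h4, h5⟩ : ∃ t, t ≤ movE f ∧ t.map (uDual (RingHom.id F)) = t ∧
      Multiset.card t * orderOf ((Fintype.card F : ℕ) : ZMod r) =
        w * cOf (orderOf ((Fintype.card F : ℕ) : ZMod r)) := by
    unfold cOf at hw ⊢
    split_ifs at hw ⊢ with hi
    · obtain ⟨t, ht, rfl⟩ := exists_le_card_eq (Nat.le_of_mul_le_mul_right hw hi0)
      exact ⟨t, ht, map_eq_self_of_forall fun e he => (uDual_id_eq_self_iff hrp h2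
        (h1 e (Multiset.mem_of_le ht he))).2 hi, rfl⟩
    · obtain ⟨t, ht⟩ := exists_eq_add_map_of_cycF hrp h2 (Nat.not_even_iff_odd.1 hi) h1
        (hG.map_uDual_movE h hs)
      obtain ⟨u, hu, rfl⟩ := exists_le_card_eq (t := t) (v := w) (by
        rw [ht, ← mul_assoc] at hw
        have := Nat.le_of_mul_le_mul_right hw hi0
        simp only [Multiset.card_add, Multiset.card_map] at this
        omega)
      refine ⟨u + u.map (uDual (RingHom.id F)), ht ▸ add_le_add hu (Multiset.map_le_map hu), ?_,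
        by simp; ring⟩
      rw [Multiset.map_add, Multiset.map_map, add_comm, map_eq_self_of_forall (μ := u)]
      intro e he
      have h3 := h1 e (ht ▸ Multiset.mem_add.2 (Or.inl (Multiset.mem_of_le hu he)))
      exact uDual_uDual' (fun _ => rfl) (mem_cycF.1 h3).2.1 (coeff_zero_of_mem_cycF h3)
  obtain ⟨Y, hY, h6, h7, rfl⟩ := hG.exists_nd_in h hs hP (hG.nd_perp (hG.nd_fixS h hs)) (s := t)
    (fun e he => good_of_mem_cycF (natCast_ne_zero_of_ne hrp) h2 (h1 e (Multiset.mem_of_le h3 he)))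
    h4 (by rwa [hG.ed_perp_fixS h hs])
  exact ⟨Y, hY, h6, h7, by rw [finrank_eq_sum_ed hY, sum_natDegree_of_cycF hrp
    fun e he => h1 e (Multiset.mem_of_le h3 he), h5]⟩

end Prime

end Cfsg.Agent.Cl.Der
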