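import Mathlib
import Cfsg.Agent.Cl.DerFix
import Cfsg.Agent.Cl.SpOrder

/-! Reduction to elements of order `r`, elements with square `± 1`, and symplectic geometry. -/

set_option autoImplicit false
set_option linter.unusedSectionVars false

namespace Cfsg.Agent.Cl.Der

open Polynomial Module Cfsg.Agent.Cl.Cls

variable {F V A : Type*} [Field F] [AddCommGroup V] [Module F V] [FiniteDimensional F V]
  [AddCommGroup A] {B : V →ₛₗ[RingHom.id F] V →ₗ[F] F} {Q : V → A} {τ : F →+ A} {f : End F V}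
  {U W S Y Z : Submodule F V}

theorem neg_inv_iff : (∀ v ∈ W, (-f) v ∈ W) ↔ ∀ v ∈ W, f v ∈ W := by simp

namespace Geom

theorem iso_neg (hG : Geom B Q τ) (h : Iso B Q f) : Iso B Q (-f) := by
  simpa using hG.iso_smul h (c := -1) (by simp)

theorem eq_or_eq_neg (hG : Geom B Q τ) [Nontrivial V] {z : F} (h : Iso B Q (z • 1)) :
    z = 1 ∨ z = -1 := mul_self_eq_one_iff.1 (hG.norm_eq_one h)

/-- Reduction to elements of odd order. -/
theorem forall_odd_iff (hG : Geom B Q τ) [Nontrivial V] {r : ℕ} (hr : Odd r)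
    {R P : End F V → Prop} (hR : ∀ f, Iso B Q f → f ^ r = 1 → R f) (hP : ∀ f, P (-f) → P f) :
    (∀ f, Iso B Q f → R f → (∃ z : F, f ^ r = z • 1) → (∀ z : F, f ≠ z • 1) → P f) ↔
      ∀ f, Iso B Q f → f ^ r = 1 → f ≠ 1 → P f := by
  constructor
  · intro H f h h1 h2
    refine H f h (hR f h h1) ⟨1, by rw [h1, one_smul]⟩ fun z hz => ?_
    rcases hG.eq_or_eq_neg (hz ▸ h) with rfl | rfl
    · exact h2 (by rw [hz, one_smul])
    · rw [hz, neg_smul, one_smul] at h1 h2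
      exact h2 (by rwa [hr.neg_pow, one_pow] at h1)
  · rintro H f h - ⟨z, hz⟩ h2
    rcases hG.eq_or_eq_neg (hz ▸ h.pow r) with rfl | rfl
    · exact H f h (by rw [hz, one_smul]) (by simpa using h2 1)
    · refine hP f (H _ (hG.iso_neg h) (by rw [hr.neg_pow, hz]; simp) fun h3 => h2 (-1) ?_)
      rw [neg_smul, one_smul, ← h3, neg_neg]

theorem forall_two_iff (hG : Geom B Q τ) [Nontrivial V] (h2 : (2 : F) ≠ 0)
    {R P : End F V → Prop} :
    (∀ f, Iso B Q f → R f → (∃ z : F, f ^ 2 = z • 1) → (∀ z : F, f ≠ z • 1) → P f) ↔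
      (∀ f, Iso B Q f → R f → f ^ 2 = 1 → f ≠ 1 → f ≠ -1 → P f) ∧
        ∀ f, Iso B Q f → R f → f ^ 2 = -1 → P f := by
  constructor
  · intro H
    refine ⟨fun f h hR h1 h3 h4 => H f h hR ⟨1, by rw [h1, one_smul]⟩ fun z hz => ?_,
      fun f h hR h1 => H f h hR ⟨-1, by simp [h1]⟩ fun z hz => h2 ?_⟩
    · rcases hG.eq_or_eq_neg (hz ▸ h) with rfl | rfl
      · exact h3 (by rw [hz, one_smul])
      · exact h4 (by simp [hz])
    · have h3 := hG.norm_eq_one (hz ▸ h)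
      rw [hz, _root_.smul_pow, one_pow, sq, show z * z = 1 from h3, one_smul] at h1
      obtain ⟨v, hv⟩ := exists_ne (0 : V)
      have h4 := LinearMap.congr_fun h1 v
      rw [LinearMap.neg_apply, End.one_apply, eq_neg_iff_add_eq_zero, ← two_smul F] at h4
      exact (smul_eq_zero.1 h4).resolve_right hv
  · rintro ⟨H, H'⟩ f h hR ⟨z, hz⟩ h3
    rcases hG.eq_or_eq_neg (hz ▸ h.pow 2) with rfl | rfl
    · exact H f h hR (by rw [hz, one_smul]) (by simpa using h3 1) (by simpa using h3 (-1))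
    · exact H' f h hR (by simp [hz])

theorem forall_char_two_iff (hG : Geom B Q τ) [Nontrivial V] (h2 : (2 : F) = 0) {r : ℕ}
    {R P : End F V → Prop} :
    (∀ f, Iso B Q f → R f → (∃ z : F, f ^ r = z • 1) → (∀ z : F, f ≠ z • 1) → P f) ↔
      ∀ f, Iso B Q f → R f → f ^ r = 1 → f ≠ 1 → P f := by
  have h3 : ∀ {z : F}, Iso B Q (z • 1) → z = 1 := fun h =>
    (hG.eq_or_eq_neg h).elim id fun h => by rw [h]; linear_combination -h2
  constructor
  · intro H f h hR h1 h4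
    exact H f h hR ⟨1, by rw [h1, one_smul]⟩ fun z hz => h4 (by rw [hz, h3 (z := z) (hz ▸ h), one_smul])
  · rintro H f h hR ⟨z, hz⟩ h4
    exact H f h hR (by rw [hz, h3 (z := z) (hz ▸ h.pow r), one_smul]) (by simpa using h4 1)

end Geom

/-! ### Involutions in odd characteristic -/

theorem isSemisimple_of_sq (h2 : (2 : F) ≠ 0) {z : F} (hz : z ≠ 0) (h : f ^ 2 = z • 1) :
    f.IsSemisimple := isSemisimple_of_pow_eq (by simpa using h2) hz h

theorem isSemisimple_of_sq_eq_one (h2 : (2 : F) ≠ 0) (h : f ^ 2 = 1) : f.IsSemisimple :=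
  isSemisimple_of_sq h2 one_ne_zero (by rw [h, one_smul])

theorem isSemisimple_of_sq_eq_neg_one (h2 : (2 : F) ≠ 0) (h : f ^ 2 = -1) : f.IsSemisimple :=
  isSemisimple_of_sq h2 (neg_ne_zero.2 one_ne_zero) (by simp [h])

theorem apply_apply_of_sq_eq_one (h : f ^ 2 = 1) (v : V) : f (f v) = v := by
  rw [← End.mul_apply, ← sq, h, End.one_apply]

theorem apply_apply_of_sq_eq_neg_one (h : f ^ 2 = -1) (v : V) : f (f v) = -v := by
  rw [← End.mul_apply, ← sq, h, LinearMap.neg_apply, End.one_apply]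

theorem Geom.apply_of_mem_perp_fixS (hG : Geom B Q τ) (h : Iso B Q f) (hf : f ^ 2 = 1) {v : V}
    (hv : v ∈ perp B (fixS f)) : f v = -v := by
  obtain ⟨w, rfl⟩ := hG.perp_fixS h ▸ hv
  simp [apply_apply_of_sq_eq_one hf]

theorem Geom.inv_of_le_perp_fixS (hG : Geom B Q τ) (h : Iso B Q f) (hf : f ^ 2 = 1)
    (hU : U ≤ perp B (fixS f)) : ∀ v ∈ U, f v ∈ U := fun v hv => by
  rwa [hG.apply_of_mem_perp_fixS h hf (hU hv), neg_mem_iff]

theorem Geom.exists_ts_iff_sq (hG : Geom B Q τ) (h2 : (2 : F) ≠ 0) (h : Iso B Q f)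
    (hf : f ^ 2 = 1) (m : ℕ) :
    (∃ W : Submodule F V, finrank F W = m ∧ TS B Q W ∧ ∀ v ∈ W, f v ∈ W) ↔
      ∃ a b, HasTS B Q (fixS f) a ∧ HasTS B Q (perp B (fixS f)) b ∧ m = a + b := by
  have hs := isSemisimple_of_sq_eq_one h2 hf
  constructor
  · rintro ⟨W, rfl, h3, h4⟩
    exact ⟨_, _, ⟨W ⊓ fixS f, inf_le_right, h3.mono inf_le_left, rfl⟩,
      ⟨W ⊓ _, inf_le_right, h3.mono inf_le_left, rfl⟩, hG.finrank_eq_fixS h hs h4⟩
  · rintro ⟨_, _, ⟨U, h3, h4, rfl⟩, ⟨Y, h5, h6, rfl⟩, rfl⟩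
    exact ⟨U ⊔ Y, finrank_sup_of_disjoint ((hG.nd_iff.1 (hG.nd_fixS h hs)).mono h3 h5),
      hG.ts_sup h4 h6 (h5.trans (perp_anti h3)),
      sup_inv (inv_of_le_fixS h3) (hG.inv_of_le_perp_fixS h hf h5)⟩

/-- The reflection in a non-degenerate subspace. -/
theorem Geom.exists_neg_on (hG : Geom B Q τ) (h2 : (2 : F) ≠ 0) (hW : ND B W) :
    ∃ f, Iso B Q f ∧ f ^ 2 = 1 ∧ fixS f = perp B W ∧ ∀ v ∈ W, f v = -v := by
  obtain ⟨f, h1, h3, h4⟩ := hG.exists_extend_one hW ((hG.res hW).iso_neg iso_one)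
  have h5 : ∀ v ∈ W, f v = -v := fun v hv => h3 ⟨v, hv⟩
  refine ⟨f, h1, LinearMap.ext fun v => ?_, hG.fixS_eq_perp hW h4
    (fun v hv => h5 v hv ▸ W.neg_mem hv) fun v hv h6 => ?_, h5⟩
  · obtain ⟨a, ha, b, hb, rfl⟩ := Submodule.mem_sup.1
      ((hG.isCompl_perp hW).sup_eq_top ▸ Submodule.mem_top : v ∈ W ⊔ perp B W)
    simp [sq, h5 a ha, h4 b hb]
  · rw [h5 v hv, neg_eq_iff_add_eq_zero, ← two_smul F] at h6
    exact (smul_eq_zero.1 h6).resolve_left h2

theorem good_of_dvd_X_sq_add_one (h2 : (2 : F) ≠ 0) {e : F[X]} (he : ¬ IsUnit e)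
    (h : e ∣ X ^ 2 - C (-1)) : Good (RingHom.id F) e := Or.inr fun h1 => he (by
  have h3 : e ∣ C 2 := by
    convert dvd_sub h h1 using 1
    rw [C_neg, C_1, map_ofNat]
    ring
  exact isUnit_of_dvd_unit h3 (isUnit_C.2 h2.isUnit))

theorem dvd_of_sq_eq_neg_one (hf : f ^ 2 = -1) {e : F[X]} (he : e ∈ ed f) : e ∣ X ^ 2 - C (-1) :=
  dvd_of_mem_ed (aeval_X_pow_sub_C_eq_zero.2 (by simp [hf])) he

theorem irreducible_X_sq_add_one (h : ¬ IsSquare (-1 : F)) :
    Irreducible (X ^ 2 - C (-1) : F[X]) :=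
  X_pow_sub_C_irreducible_of_prime Nat.prime_two fun b hb => h ⟨b, by rw [← hb, sq]⟩

theorem uDual_X_sq_add_one : uDual (RingHom.id F) (X ^ 2 - C (-1)) = X ^ 2 - C (-1) := by
  rw [uDual_X_pow_sub_C two_ne_zero (neg_ne_zero.2 one_ne_zero)]
  simp

theorem ed_of_sq_eq_neg_one (h : ¬ IsSquare (-1 : F)) (hf : f ^ 2 = -1) :
    ∃ k, ed f = Multiset.replicate k (X ^ 2 - C (-1)) ∧ 2 * k = finrank F V := by
  obtain ⟨k, h1, h2⟩ := ed_eq_replicate (monic_X_pow_sub_C _ two_ne_zero)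
    (irreducible_X_sq_add_one h) (aeval_X_pow_sub_C_eq_zero.2 (show f ^ 2 = _ by simp [hf]))
  exact ⟨k, h1, by rw [← h2, natDegree_X_pow_sub_C, mul_comm]⟩

theorem restrict_sq_eq_neg_one (hU : ∀ v ∈ U, f v ∈ U) (h : f ^ 2 = -1) :
    (f.restrict hU) ^ 2 = -1 := by
  ext v
  rw [End.pow_restrict, LinearMap.coe_restrict_apply, h]
  rfl

theorem even_of_sq_eq_neg_one (h : ¬ IsSquare (-1 : F)) (hf : f ^ 2 = -1)
    (hU : ∀ v ∈ U, f v ∈ U) : Even (finrank F U) := by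
  obtain ⟨k, -, h2⟩ := ed_of_sq_eq_neg_one h (restrict_sq_eq_neg_one hU hf)
  exact ⟨k, by omega⟩

theorem Geom.exists_ts_of_not_isSquare [Finite F] (hG : Geom B Q τ) (h2 : (2 : F) ≠ 0)
    (h : Iso B Q f) (h1 : ¬ IsSquare (-1 : F)) (hf : f ^ 2 = -1) {v : ℕ}
    (hv : 4 * v ≤ finrank F V) :
    ∃ W : Submodule F V, finrank F W = 2 * v ∧ TS B Q W ∧ ∀ v ∈ W, f v ∈ W := by
  obtain ⟨k, h3, h4⟩ := ed_of_sq_eq_neg_one h1 hf
  obtain ⟨U, hU, h5, h6⟩ := hG.exists_ts h (isSemisimple_of_sq_eq_neg_one h2 hf)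
    (s := Multiset.replicate v (X ^ 2 - C (-1))) (fun e he => good_of_dvd_X_sq_add_one h2
      (Multiset.eq_of_mem_replicate he ▸ (irreducible_X_sq_add_one h1).not_isUnit)
      (Multiset.eq_of_mem_replicate he ▸ dvd_rfl)) (by
      rw [Multiset.map_replicate, uDual_X_sq_add_one, ← Multiset.replicate_add, h3]
      exact (Multiset.replicate_le_replicate _).2 (by omega))
  refine ⟨U, ?_, h5, hU⟩
  rw [finrank_eq_sum_ed hU, h6, Multiset.map_replicate, Multiset.sum_replicate,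
    natDegree_X_pow_sub_C, smul_eq_mul, mul_comm]

theorem Geom.exists_nd_of_not_isSquare (hG : Geom B Q τ) (h2 : (2 : F) ≠ 0)
    (h : Iso B Q f) (h1 : ¬ IsSquare (-1 : F)) (hf : f ^ 2 = -1) {v : ℕ}
    (hv : 2 * v ≤ finrank F V) :
    ∃ W : Submodule F V, finrank F W = 2 * v ∧ ND B W ∧ ∀ v ∈ W, f v ∈ W := by
  obtain ⟨k, h3, h4⟩ := ed_of_sq_eq_neg_one h1 hf
  obtain ⟨U, hU, h5, h6⟩ := hG.exists_nd h (isSemisimple_of_sq_eq_neg_one h2 hf)
    (s := Multiset.replicate v (X ^ 2 - C (-1))) (fun e he => good_of_dvd_X_sq_add_one h2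
      (Multiset.eq_of_mem_replicate he ▸ (irreducible_X_sq_add_one h1).not_isUnit)
      (Multiset.eq_of_mem_replicate he ▸ dvd_rfl))
      (by rw [Multiset.map_replicate, uDual_X_sq_add_one]) (by
      rw [h3]
      exact (Multiset.replicate_le_replicate _).2 (by omega))
  refine ⟨U, ?_, h5, hU⟩
  rw [finrank_eq_sum_ed hU, h6, Multiset.map_replicate, Multiset.sum_replicate,
    natDegree_X_pow_sub_C, smul_eq_mul, mul_comm]

/-- If `f ^ 2 = -1` and `-1` is a square, the eigenspaces are complementary totally singular. -/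
theorem Geom.exists_eig_of_isSquare (hG : Geom B Q τ) (h2 : (2 : F) ≠ 0) (h : Iso B Q f) {c : F}
    (hc : -1 = c * c) (hf : f ^ 2 = -1) :
    ∃ U W : Submodule F V, TS B Q U ∧ TS B Q W ∧ IsCompl U W ∧ (∀ v ∈ U, f v = c • v) ∧
      ∀ v ∈ W, f v = -c • v := by
  have h1 : ∀ c : F, -1 = c * c → TS B Q (End.eigenspace f c) := fun c hc => by
    have h3 : ∀ v ∈ End.eigenspace f c, f v ∈ End.eigenspace f c := fun v hv => by
      rw [End.mem_eigenspace_iff.1 hv]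
      exact Submodule.smul_mem _ _ hv
    refine hG.ts_of_le_perp h (isSemisimple_of_sq_eq_neg_one h2 hf) h3 (fun e he =>
      good_of_dvd_X_sq_add_one h2 (isPP_of_mem_ed he).not_isUnit
        (dvd_of_sq_eq_neg_one (restrict_sq_eq_neg_one h3 hf) he)) fun v hv u hu => ?_
    have := h.mapB u v
    rw [End.mem_eigenspace_iff.1 hu, End.mem_eigenspace_iff.1 hv] at this
    simp only [map_smul, LinearMap.smul_apply, smul_eq_mul] at this
    refine (mul_eq_zero.1 ?_).resolve_left h2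
    linear_combination -this - B u v * hc
  have hc0 : c ≠ 0 := by
    rintro rfl
    simp at hc
  refine ⟨_, _, h1 c hc, h1 (-c) (by rw [neg_mul_neg, hc]), ⟨End.disjoint_genEigenspace f
    (fun h3 => mul_ne_zero h2 hc0 (by linear_combination h3)) 1 1, ?_⟩,
    fun v => End.mem_eigenspace_iff.1, fun v => End.mem_eigenspace_iff.1⟩
  refine codisjoint_iff.2 (eq_top_iff.2 fun v _ => Submodule.mem_sup.2
    ⟨(2 : F)⁻¹ • (v - c • f v), Submodule.smul_mem _ _ ?_, (2 : F)⁻¹ • (v + c • f v),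
      Submodule.smul_mem _ _ ?_, ?_⟩)
  · rw [End.mem_eigenspace_iff, map_sub, map_smul, apply_apply_of_sq_eq_neg_one hf, smul_sub,
      smul_smul, ← hc]
    simp [add_comm]
  · rw [End.mem_eigenspace_iff, map_add, map_smul, apply_apply_of_sq_eq_neg_one hf, smul_add,
      smul_smul, neg_mul, ← hc]
    simp [add_comm]
  · rw [← smul_add, sub_add_add_cancel, ← two_smul F, smul_smul, inv_mul_cancel₀ h2, one_smul]

theorem inv_of_eq_smul {c : F} (h : ∀ v ∈ U, f v = c • v) (hW : W ≤ U) : ∀ v ∈ W, f v ∈ W :=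
  fun v hv => h v (hW hv) ▸ W.smul_mem c hv

theorem Geom.exists_ts_of_isSquare (hG : Geom B Q τ) (h2 : (2 : F) ≠ 0) (h : Iso B Q f)
    (h1 : IsSquare (-1 : F)) (hf : f ^ 2 = -1) {m : ℕ} (hm : 2 * m ≤ finrank F V) :
    ∃ W : Submodule F V, finrank F W = m ∧ TS B Q W ∧ ∀ v ∈ W, f v ∈ W := by
  obtain ⟨c, hc⟩ := h1
  obtain ⟨U, W, h3, h4, h5, h6, -⟩ := hG.exists_eig_of_isSquare h2 h hc hf
  have := hG.two_mul_le_of_ts h4
  have := Submodule.finrank_add_eq_of_isCompl h5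
  obtain ⟨T, h7, h8⟩ := exists_le_finrank_eq (W := U) (k := m) (by omega)
  exact ⟨T, h8, h3.mono h7, inv_of_eq_smul h6 h7⟩

theorem Geom.exists_nd_of_isSquare (hG : Geom B Q τ) (h2 : (2 : F) ≠ 0) (h : Iso B Q f)
    (h1 : IsSquare (-1 : F)) (hf : f ^ 2 = -1) {m : ℕ} (hm : 2 * m ≤ finrank F V) :
    ∃ W : Submodule F V, finrank F W = 2 * m ∧ ND B W ∧ Plus B Q W ∧ ∀ v ∈ W, f v ∈ W := by
  obtain ⟨U, h3, h4, hU⟩ := hG.exists_ts_of_isSquare h2 h h1 hf hm
  obtain ⟨Z, hZ, h5, h6, h7⟩ := hG.exists_hull h (isSemisimple_of_sq_eq_neg_one h2 hf) hU h4.le_perp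
  have h8 : finrank F Z = 2 * m := by
    rw [finrank_eq_sum_ed hZ, h7, Multiset.map_add, Multiset.sum_add, Multiset.map_map,
      Multiset.map_congr (f := natDegree ∘ uDual _) rfl (g := natDegree) fun e he => natDegree_uDual
        (hG.coeff_zero_ne h (Multiset.mem_of_le (ed_restrict_le
          (isSemisimple_of_sq_eq_neg_one h2 hf) hU) he)), sum_natDegree_ed, h3, two_mul]
  exact ⟨Z, h8, h6, ⟨U, h5, h4, by omega⟩, hZ⟩

/-! ### Symplectic geometry -/

/-- A symplectic geometry. -/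
abbrev GeomA (B : V →ₛₗ[RingHom.id F] V →ₗ[F] F) : Prop := Geom B (fun _ => (0 : F)) 0

/-- Symplectic isometries. -/
abbrev IsoA (B : V →ₛₗ[RingHom.id F] V →ₗ[F] F) (f : End F V) : Prop := Iso B (fun _ => (0 : F)) f

theorem GeomA.isAlt (hG : GeomA B) : LinearMap.IsAlt B := fun _ => hG.self_eq_zero rfl

theorem GeomA.nondegenerate (hG : GeomA B) : LinearMap.BilinForm.Nondegenerate B :=
  ⟨hG.nondeg, hG.nondeg'⟩

theorem GeomA.even (hG : GeomA B) (hW : ND B W) : Even (finrank F W) :=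
  sp_even_finrank (GeomA.nondegenerate (hG.res hW)) (GeomA.isAlt (hG.res hW))

theorem GeomA.hasTS_iff (hG : GeomA B) (hW : ND B W) {a : ℕ} :
    HasTS B (fun _ => (0 : F)) W a ↔ 2 * a ≤ finrank F W := by
  refine ⟨hG.two_mul_le_of_hasTS hW, fun h => hG.hasTS_of_sing hW (e := 2) (fun Y _ _ h1 => ?_)
    (by omega)⟩
  obtain ⟨y, hy, h0⟩ := (Submodule.ne_bot_iff Y).1 fun h2 => by
    rw [h2, finrank_bot] at h1
    omega
  exact ⟨y, hy, h0, rfl⟩

theorem GeomA.plus (hG : GeomA B) (hW : ND B W) : Plus B (fun _ => (0 : F)) W := by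
  obtain ⟨a, ha⟩ := hG.even hW
  rw [plus_iff (a := a) (by omega), hG.hasTS_iff hW]
  omega

theorem GeomA.exists_nd (hG : GeomA B) (hW : ND B W) {a : ℕ} (ha : Even a)
    (h : a ≤ finrank F W) : ∃ Y, Y ≤ W ∧ ND B Y ∧ finrank F Y = a := by
  obtain ⟨b, rfl⟩ := ha
  obtain ⟨Y, h1, h2, -, h3⟩ := hG.exists_plus hW ((hG.hasTS_iff hW (a := b)).2 (by omega))
  exact ⟨Y, h1, h2, by omega⟩

theorem GeomA.realOn_cyc (hG : GeomA B) (hW : ND B W) {e : F[X]} (he : IsPP e)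
    (h1 : e.coeff 0 = 1) (h2 : recip e = e) (hd : e.natDegree = finrank F W) :
    RealOn B (fun _ => (0 : F)) W {e} := by
  obtain ⟨n, hn⟩ := hG.even hW
  have := finiteDimensional_adjoinRoot he.ne_zero
  obtain ⟨B', h3, h4, h5⟩ := spec_exists_alt he.monic h1 h2 (n := n) (by omega)
  obtain ⟨φ, hφ⟩ := sp_exists_isometry h3 h4 (GeomA.nondegenerate (hG.res hW))
    (GeomA.isAlt (hG.res hW)) (by rw [← hd, (AdjoinRoot.powerBasis' he.monic).finrank]; rfl)
  rw [← ed_cyc he]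
  exact hG.realOn_of_equiv hW φ hφ (fun _ => rfl) ⟨h5, fun _ => rfl⟩

theorem GeomA.realOn_sum (hG : GeomA B) {μ : Multiset F[X]}
    (hμ : ∀ e ∈ μ, IsPP e ∧ e.coeff 0 = 1 ∧ recip e = e ∧ Even e.natDegree) :
    ∀ {W : Submodule F V}, ND B W → (μ.map natDegree).sum = finrank F W →
      RealOn B (fun _ => (0 : F)) W μ := by
  induction μ using Multiset.induction_on with
  | empty =>
    intro W _ h
    simpa [← h] using realOn_one (B := B) (Q := fun _ => (0 : F)) W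
  | cons e μ ih =>
    intro W hW h
    obtain ⟨h1, h2, h3, h4⟩ := hμ e (Multiset.mem_cons_self _ _)
    rw [Multiset.map_cons, Multiset.sum_cons] at h
    obtain ⟨Y, h5, h6, h7⟩ := hG.exists_nd hW h4 (by omega)
    have h8 := hG.finrank_add_perp_inf hW h5
    rw [← hG.sup_perp_inf hW h6 h5, ← Multiset.singleton_add]
    exact hG.realOn_sup h6 inf_le_left (hG.realOn_cyc h6 h1 h2 h3 h7.symm)
      (ih (fun e he => hμ e (Multiset.mem_cons_of_mem he)) (hG.nd_perp_inf hW h6 h5) (by omega))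

theorem coeff_zero_eq_one_of_recip {e : F[X]} (hm : e.Monic) (h : recip e = e)
    (h1 : e.eval 1 ≠ 0) : e.coeff 0 = 1 := by
  have h2 := congrArg (eval 1) h
  have h3 : e.reverse.eval 1 = e.eval 1 := by
    have : Invertible (1 : F) := invertibleOne
    have := eval₂_reverse_mul_pow (RingHom.id F) (1 : F) e
    simpa using this
  rw [recip, eval_mul, eval_C, h3] at h2
  exact inv_eq_one.1 (mul_right_cancel₀ h1 (h2.trans (one_mul _).symm))

theorem GeomA.exists_sq_eq_neg_one (hG : GeomA B) (h2 : (2 : F) ≠ 0) :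
    ∃ f, IsoA B f ∧ f ^ 2 = -1 := by
  obtain ⟨n, hn⟩ := hG.even hG.nd_top
  obtain ⟨μ, h1, h3⟩ : ∃ μ : Multiset F[X], (∀ e ∈ μ, e ∣ X ^ 2 - C (-1)) ∧
      RealOn B (fun _ => (0 : F)) ⊤ μ := by
    by_cases h : IsSquare (-1 : F)
    · obtain ⟨c, hc⟩ := h
      have hc0 : c ≠ 0 := by
        rintro rfl
        simp at hc
      refine ⟨_, ?_, hG.realOn_hyp hG.nd_top (hG.plus hG.nd_top)
        (s := Multiset.replicate n (X - C c)) (fun e he => Multiset.eq_of_mem_replicate he ▸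
          isPP_of_irreducible (monic_X_sub_C c) (irreducible_X_sub_C c))
        (fun e he => by simpa [Multiset.eq_of_mem_replicate he] using hc0) (by simp [hn, two_mul])⟩
      have h4 : X - C c ∣ X ^ 2 - C (-1) := dvd_iff_isRoot.2 (by simp [sq, ← hc])
      simp only [Multiset.map_replicate, Multiset.mem_add, Multiset.mem_replicate]
      rintro e (⟨-, rfl⟩ | ⟨-, rfl⟩)
      · exact h4
      · exact uDual_X_sq_add_one (F := F) ▸ uDual_dvd h4
    · refine ⟨Multiset.replicate n (X ^ 2 - C (-1)), fun e he =>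
        Multiset.eq_of_mem_replicate he ▸ dvd_rfl, hG.realOn_sum (fun e he => ?_) hG.nd_top ?_⟩
      · rw [Multiset.eq_of_mem_replicate he, ← uDual_id, uDual_X_sq_add_one, natDegree_X_pow_sub_C]
        exact ⟨isPP_of_irreducible (monic_X_pow_sub_C _ two_ne_zero) (irreducible_X_sq_add_one h),
          by simp, rfl, even_two⟩
      · rw [Multiset.map_replicate, natDegree_X_pow_sub_C, Multiset.sum_replicate, smul_eq_mul]
        omega
  obtain ⟨f, h4, rfl⟩ := h3.top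
  exact ⟨f, h4, by simpa using aeval_X_pow_sub_C_eq_zero.1 ((aeval_eq_zero_iff_ed f _).2 h1)⟩

section Prime

variable {r : ℕ} [hr : Fact r.Prime] [Fintype F] {p : ℕ} [hp : Fact p.Prime] [CharP F p]

theorem cycF_alt (hrp : r ≠ p) (h2 : r ≠ 2)
    (hi : Even (orderOf ((Fintype.card F : ℕ) : ZMod r))) {e : F[X]} (he : e ∈ cycF F r) :
    IsPP e ∧ e.coeff 0 = 1 ∧ recip e = e ∧ Even e.natDegree := by
  have h1 := uDual_id e ▸ (uDual_id_eq_self_iff hrp h2 he).2 hi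
  refine ⟨isPP_of_mem_cycF he, coeff_zero_eq_one_of_recip (mem_cycF.1 he).2.1 h1 fun h => ?_, h1,
    natDegree_of_mem_cycF hrp he ▸ hi⟩
  exact ne_of_mem_cycF (natCast_ne_zero_of_ne hrp) he (eq_of_monic_of_associated
    (mem_cycF.1 he).2.1 (monic_X_sub_C 1) ((irreducible_X_sub_C 1).associated_of_dvd
      (mem_cycF.1 he).1 (dvd_iff_isRoot.2 h)).symm)

theorem Geom.realOn_hyp_cycF (hG : Geom B Q τ) (hrp : r ≠ p) (hW : ND B W) (hP : Plus B Q W)
    {e : F[X]} (he : e ∈ cycF F r) {w : ℕ}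
    (hd : finrank F W = 2 * w * orderOf ((Fintype.card F : ℕ) : ZMod r)) :
    RealOn B Q W (Multiset.replicate w e + Multiset.replicate w (uDual (RingHom.id F) e)) := by
  rw [← Multiset.map_replicate]
  refine hG.realOn_hyp hW hP (fun e' he' => Multiset.eq_of_mem_replicate he' ▸ isPP_of_mem_cycF he)
    (fun e' he' => Multiset.eq_of_mem_replicate he' ▸ coeff_zero_of_mem_cycF he) ?_
  rw [Multiset.map_replicate, Multiset.sum_replicate, natDegree_of_mem_cycF hrp he, hd,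
    smul_eq_mul, mul_assoc]

theorem GeomA.exists_realOn (hG : GeomA B) (hrp : r ≠ p) (h2 : r ≠ 2) (hW : ND B W) {w o : ℕ}
    (hd : finrank F W = (2 * w + o) * orderOf ((Fintype.card F : ℕ) : ZMod r))
    (ho : o ≤ (r - 1) / orderOf ((Fintype.card F : ℕ) : ZMod r))
    (ho' : Odd (orderOf ((Fintype.card F : ℕ) : ZMod r)) → o = 0) :
    ∃ μ : Multiset F[X], (∀ e ∈ μ, e ∈ cycF F r) ∧ Multiset.card μ = 2 * w + o ∧
      (Even (orderOf ((Fintype.card F : ℕ) : ZMod r)) → oddc μ = o) ∧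
      RealOn B (fun _ => (0 : F)) W μ := by
  rcases Nat.even_or_odd (orderOf ((Fintype.card F : ℕ) : ZMod r)) with hi | hi
  · obtain ⟨μ, h3, h4, h5⟩ := exists_oddc_eq (cycF_nonempty (F := F) (r := r))
      ((card_cycF (F := F) hrp).symm ▸ ho) w
    exact ⟨μ, h3, h4, fun _ => h5, hG.realOn_sum (fun e he => cycF_alt hrp h2 hi (h3 e he)) hW
      (by rw [sum_natDegree_of_cycF hrp h3, h4, hd])⟩
  · obtain ⟨e, he⟩ := cycF_nonempty (F := F) (r := r)
    obtain rfl := ho' hi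
    refine ⟨_, fun e' he' => ?_, by simp [two_mul], fun h => absurd hi (Nat.not_odd_iff_even.2 h),
      hG.realOn_hyp_cycF hrp hW (hG.plus hW) he hd⟩
    rcases Multiset.mem_add.1 he' with h | h <;> rw [Multiset.eq_of_mem_replicate h]
    · exact he
    · exact uDual_mem_cycF (fun _ => rfl) (natCast_ne_zero_of_ne hrp) he

theorem Geom.exists_model_of_realOn (hG : Geom B Q τ) (hrp : r ≠ p) (hW : ND B W) {o : ℕ}
    (ho' : Odd (orderOf ((Fintype.card F : ℕ) : ZMod r)) → o = 0) {μ : Multiset F[X]}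
    (h1 : ∀ e ∈ μ, e ∈ cycF F r)
    (h3 : Even (orderOf ((Fintype.card F : ℕ) : ZMod r)) → oddc μ = o) (h4 : RealOn B Q W μ) :
    ∃ f, Iso B Q f ∧ f ^ r = 1 ∧ fixS f = perp B W ∧ movE f = μ ∧ oInv r f = o := by
  obtain ⟨f, h5, h6, h7, rfl⟩ := hG.exists_of_realOn_cycF hrp hW h1 h4
  refine ⟨f, h5, h6, h7, rfl, ?_⟩
  unfold oInv
  split_ifs with hi
  · exact h3 hi
  · exact (ho' (Nat.not_even_iff_odd.1 hi)).symm

theorem GeomA.exists_model (hG : GeomA B) (hrp : r ≠ p) (h2 : r ≠ 2) (hW : ND B W) {w o : ℕ}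
    (hd : finrank F W = (2 * w + o) * orderOf ((Fintype.card F : ℕ) : ZMod r))
    (ho : o ≤ (r - 1) / orderOf ((Fintype.card F : ℕ) : ZMod r))
    (ho' : Odd (orderOf ((Fintype.card F : ℕ) : ZMod r)) → o = 0) :
    ∃ f, IsoA B f ∧ f ^ r = 1 ∧ fixS f = perp B W ∧ Multiset.card (movE f) = 2 * w + o ∧
      oInv r f = o := by
  obtain ⟨μ, h1, h3, h4, h5⟩ := hG.exists_realOn hrp h2 hW hd ho ho'
  obtain ⟨f, h6, h7, h8, rfl, h9⟩ := hG.exists_model_of_realOn hrp hW ho' h1 h4 h5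
  exact ⟨f, h6, h7, h8, h3, h9⟩

end Prime

/-! ### The standard symplectic space -/

section Std

variable {d : ℕ}

theorem geomA_spB : GeomA (spB d F) := geom_alt spB_nondegenerate spB_isAlt

theorem sp_forall_iff {r : ℕ} (P : End F (Fin d ⊕ Fin d → F) → Prop) :
    (∀ x : ↥(Matrix.symplecticGroup (Fin d) F),
      (∃ z : F, ((x ^ r : ↥(Matrix.symplecticGroup (Fin d) F)) :
        Matrix (Fin d ⊕ Fin d) (Fin d ⊕ Fin d) F) = z • 1) →
      (∀ z : F, (x : Matrix (Fin d ⊕ Fin d) (Fin d ⊕ Fin d) F) ≠ z • 1) →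
      P (Matrix.toLin' (x : Matrix (Fin d ⊕ Fin d) (Fin d ⊕ Fin d) F))) ↔
    ∀ f, IsoA (spB d F) f → True → (∃ z : F, f ^ r = z • 1) → (∀ z : F, f ≠ z • 1) → P f := by
  constructor
  · intro H f h _ h1 h2
    obtain ⟨x, rfl⟩ := exists_specSp_eq h.mapB
    exact H x (h1.imp fun z hz => toLin'_pow_eq_smul.1 hz) fun z hz => h2 z (toLin'_eq_smul.2 hz)
  · intro H x h1 h2
    exact H _ ⟨spB_mulVec x, fun _ => rfl⟩ trivial (h1.imp fun z hz => toLin'_pow_eq_smul.2 hz)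
      fun z hz => h2 z (toLin'_eq_smul.1 hz)

theorem ts_spB_iff {W : Submodule F (Fin d ⊕ Fin d → F)} :
    (∀ u ∈ W, ∀ v ∈ W, Cfsg.sympForm d F u v = 0) ↔ TS (spB d F) (fun _ => (0 : F)) W := by
  simp only [TS, ← spB_apply, implies_true, and_true]

theorem nd_spB_iff {W : Submodule F (Fin d ⊕ Fin d → F)} :
    (∀ u ∈ W, u ≠ 0 → ∃ v ∈ W, Cfsg.sympForm d F u v ≠ 0) ↔ ND (spB d F) W := by
  simp only [nd_iff_ne, ← spB_apply]

theorem sp_ts_count [Fintype F] {m : ℕ} (hm : m ≤ d) :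
    Nat.card {W : Submodule F (Fin d ⊕ Fin d → F) // finrank F W = m ∧
      TS (spB d F) (fun _ => (0 : F)) W} * qfac (Fintype.card F) m =
      ∏ j ∈ Finset.range m, (Fintype.card F ^ (2 * (d - j)) - 1) := by
  have h := sp_card_isoSubspaces_mul (spB_nondegenerate (m := d) (R := F)) spB_isAlt m
  rw [sp_finrank_std, sp_prod_isoTuples _ _ _ hm, prod_pow_sub_pow_self, Finset.sum_range_id,
    ← Nat.choose_two_right, mul_left_comm, Nat.card_eq_fintype_card (α := F)] at h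
  simp only [← ts_spB_iff, ← spB_apply]
  exact Nat.eq_of_mul_eq_mul_left (pow_pos Fintype.card_pos _) h

end Std

end Cfsg.Agent.Cl.Der
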