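import Mathlib
import Cfsg.Agent.Cl.DerSp

/-! Arithmetic of block sizes. -/

set_option autoImplicit false

namespace Cfsg.Agent.Cl.Der

theorem cOf_even {i : ℕ} (h : Even i) : cOf i = i := if_pos h

theorem cOf_odd {i : ℕ} (h : Odd i) : cOf i = 2 * i := if_neg (Nat.not_even_iff_odd.2 h)

theorem cOf_pos {i : ℕ} (h : 0 < i) : 0 < cOf i := by
  unfold cOf
  split_ifs <;> omega

theorem dvd_cOf (i : ℕ) : i ∣ cOf i := by
  unfold cOf
  split_ifs
  · exact dvd_rfl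
  · exact dvd_mul_left _ _

theorem even_cOf (i : ℕ) : Even (cOf i) := by
  unfold cOf
  split_ifs with h
  · exact h
  · exact even_two_mul _

theorem two_le_cOf {i : ℕ} (h : 0 < i) : 2 ≤ cOf i := by
  have := cOf_pos h
  obtain ⟨a, ha⟩ := even_cOf i
  omega

theorem cOf_dvd_iff {i n : ℕ} (hn : Even n) : cOf i ∣ n ↔ i ∣ n := by
  refine ⟨(dvd_cOf i).trans, fun h => ?_⟩
  rcases Nat.even_or_odd i with hi | hi
  · rwa [cOf_even hi]
  · rw [cOf_odd hi]
    exact (Nat.coprime_two_left.2 hi).mul_dvd_of_dvd_of_dvd hn.two_dvd h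

theorem cOf_dvd_mul {i w o : ℕ} (h : Odd i → o = 0) : cOf i ∣ (2 * w + o) * i := by
  rcases Nat.even_or_odd i with hi | hi
  · rw [cOf_even hi]
    exact dvd_mul_left _ _
  · rw [cOf_odd hi, h hi]
    exact ⟨w, by ring⟩

/-- Blocks of size `c` in terms of pairs and unpaired blocks. -/
theorem exists_mul_cOf {i T : ℕ} (hT : 1 ≤ T) (s : ℕ) : ∃ w o, s * cOf i = (2 * w + o) * i ∧
    o ≤ T ∧ (Odd i → o = 0) ∧ (Even o ↔ Odd i ∨ Even s) := by
  rcases Nat.even_or_odd i with hi | hi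
  · refine ⟨s / 2, s % 2, by rw [cOf_even hi, Nat.div_add_mod], by omega,
      fun h => absurd h (Nat.not_odd_iff_even.2 hi), ?_⟩
    simp [Nat.not_odd_iff_even.2 hi, Nat.even_iff]
  · exact ⟨s, 0, by rw [cOf_odd hi]; ring, by omega, fun _ => rfl, by simp [hi]⟩

theorem mod_le_of_dvd {k a n c : ℕ} (h : k + a = n) (hc : c ∣ a) : n % c ≤ k := by
  obtain ⟨b, rfl⟩ := hc
  rw [← h, Nat.add_mul_mod_self_left]
  exact Nat.mod_le _ _

theorem mod_eq_of_dvd {k a n c : ℕ} (h : k + a = n) (hc : c ∣ a) : k % c = n % c := by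
  obtain ⟨b, rfl⟩ := hc
  rw [← h, Nat.add_mul_mod_self_left]

theorem not_dvd_sub_of_lt_mod {c n j : ℕ} (hj : j < n % c) : ¬ c ∣ n - j := by
  intro h
  have h1 := Nat.mod_le n c
  have h2 := mod_le_of_dvd (k := j) (n := n) (by omega) h
  omega

variable {r : ℕ} [hr : Fact r.Prime]

theorem one_le_div_orderOf {a : ZMod r} (ha : a ≠ 0) : 1 ≤ (r - 1) / orderOf a :=
  (Nat.one_le_div_iff (orderOf_pos_of_ne_zero ha)).2 (orderOf_le_sub_one ha)

theorem dvd_pow_two_mul_sub_one_iff {q : ℕ} (hq : 0 < q) (j : ℕ) :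
    r ∣ q ^ (2 * j) - 1 ↔ cOf (orderOf (q : ZMod r)) ∣ 2 * j := by
  rw [dvd_pow_sub_one_iff hq, cOf_dvd_iff (even_two_mul j)]

theorem isSquare_neg_one_iff {F : Type*} [Field F] [Fintype F] (h2 : (2 : F) ≠ 0) :
    IsSquare (-1 : F) ↔ Fintype.card F % 4 = 1 := by
  have := FiniteField.odd_card_of_char_ne_two (F := F) fun h => h2 (by
    have := ringChar.charP F
    rw [h] at this
    exact CharP.cast_eq_zero F 2)
  rw [FiniteField.isSquare_neg_one_iff]
  omega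

theorem two_ne_zero_of_ne {F : Type*} [Field F] {p : ℕ} [hp : Fact p.Prime] [CharP F p]
    (h : p ≠ 2) : (2 : F) ≠ 0 := fun h2 =>
  h ((Nat.prime_dvd_prime_iff_eq hp.1 Nat.prime_two).1
    ((CharP.cast_eq_zero_iff F p 2).1 (by simpa using h2)))

theorem two_eq_zero_of_eq {F : Type*} [Field F] {p : ℕ} [CharP F p] (h : p = 2) : (2 : F) = 0 := by
  subst h
  exact CharP.cast_eq_zero F 2

theorem ne_two_of_odd_card {F : Type*} [Field F] [Fintype F] {p : ℕ} [hp : Fact p.Prime]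
    [CharP F p] (h : Odd (Fintype.card F)) : p ≠ 2 := by
  rintro rfl
  exact (Nat.not_even_iff_odd.2 h) (even_iff_two_dvd.2 ((dvd_card_iff (F := F) (r := 2)).2 rfl))

theorem two_lt_of_ne (h : r ≠ 2) : 2 < r := lt_of_le_of_ne hr.1.two_le h.symm

end Cfsg.Agent.Cl.Der
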