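import Mathlib
import Cfsg.Agent.Cl.DerNum

/-! Orthogonal decomposition of unipotent isometries into Jordan blocks. -/

set_option autoImplicit false
set_option linter.unusedSectionVars false

namespace Cfsg.Agent.Cl.Der

open Polynomial Module Cfsg.Agent.Cl.Cls

variable {F V A : Type*} [Field F] [AddCommGroup V] [Module F V]
  [AddCommGroup A] {σ : F →+* F} {B : V →ₛₗ[σ] V →ₗ[F] F} {Q : V → A} {τ : F →+ A} {f : End F V}
  {U W S Y Z : Submodule F V}

theorem aeval_X_sub_one_pow (f : End F V) (k : ℕ) :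
    aeval f ((X - C (1 : F)) ^ k) = (f - 1) ^ k := by simp

theorem sub_one_pow_succ (k : ℕ) (v : V) :
    ((f - 1) ^ (k + 1)) v = f (((f - 1) ^ k) v) - ((f - 1) ^ k) v := by
  rw [pow_succ', End.mul_apply, LinearMap.sub_apply, End.one_apply]

theorem sub_one_pow_apply_comm (k : ℕ) (v : V) : ((f - 1) ^ k) (f v) = f (((f - 1) ^ k) v) := by
  rw [← End.mul_apply, ← End.mul_apply, (((Commute.refl f).sub_left (Commute.one_left f)).pow_left k).eq]

theorem sub_one_pow_mem (hW : ∀ v ∈ W, f v ∈ W) (k : ℕ) {v : V} (hv : v ∈ W) :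
    ((f - 1) ^ k) v ∈ W := aeval_X_sub_one_pow f k ▸ aeval_mem hW _ hv

theorem sub_one_pow_eq_zero_of_le {k j : ℕ} (h : k ≤ j) {v : V} (hv : ((f - 1) ^ k) v = 0) :
    ((f - 1) ^ j) v = 0 := by
  obtain ⟨i, rfl⟩ := Nat.exists_eq_add_of_le' h
  rw [pow_add, End.mul_apply, hv, map_zero]

theorem aeval_of_fixed {w : V} (h : f w = w) (a : F[X]) : aeval f a w = a.eval 1 • w :=
  End.aeval_apply_of_mem_apply_eq_smul (by rw [h, one_smul])

theorem Iso.sub_one_pow (h : Iso B Q f) (k : ℕ) (u v : V) :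
    B (((f - 1) ^ k) u) ((f ^ k) v) = (-1) ^ k * B u (((f - 1) ^ k) v) := by
  induction k generalizing u v with
  | zero => simp
  | succ k ih =>
    rw [sub_one_pow_succ, pow_succ' f, End.mul_apply, map_sub, LinearMap.sub_apply, h.mapB,
      ← End.mul_apply f, ← pow_succ', pow_succ f, End.mul_apply, ih, ih, sub_one_pow_succ,
      sub_one_pow_apply_comm, map_sub]
    ring

theorem Iso.sub_one_pow_of_eq_zero (h : Iso B Q f) {k : ℕ} {u : V}
    (hu : ((f - 1) ^ (k + 1)) u = 0) (v : V) :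
    B (((f - 1) ^ k) u) v = (-1) ^ k * B u (((f - 1) ^ k) v) := by
  rw [sub_one_pow_succ, sub_eq_zero] at hu
  rw [← h.sub_one_pow, ← (h.pow k).mapB, End.pow_apply f k (((f - 1) ^ k) u),
    Function.iterate_fixed hu]

theorem exists_fixed_of_nilpotent (hW : ∀ v ∈ W, f v ∈ W) {k : ℕ} {v : V} (hv : v ∈ W)
    (h0 : v ≠ 0) (h : ((f - 1) ^ k) v = 0) : ∃ w ∈ W, w ≠ 0 ∧ f w = w := by
  induction k with
  | zero => exact absurd h h0
  | succ k ih =>
    by_cases h1 : ((f - 1) ^ k) v = 0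
    · exact ih h1
    · exact ⟨_, sub_one_pow_mem hW k hv, h1, by rwa [sub_one_pow_succ, sub_eq_zero] at h⟩

theorem aeval_eq_zero_iff_of_unip {k : ℕ} {v : V} (h : ((f - 1) ^ (k + 1)) v = 0)
    (h1 : ((f - 1) ^ k) v ≠ 0) (a : F[X]) : aeval f a v = 0 ↔ (X - C 1) ^ (k + 1) ∣ a := by
  constructor
  · intro ha
    by_contra h2
    have h0 : a ≠ 0 := fun h0 => h2 (h0 ▸ dvd_zero _)
    obtain ⟨b, h3, h4⟩ := exists_eq_pow_rootMultiplicity_mul_and_not_dvd a h0 1
    generalize rootMultiplicity 1 a = j at h3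
    have h5 : j ≤ k := by
      by_contra h5
      exact h2 (h3 ▸ (pow_dvd_pow _ (by omega)).mul_right b)
    rw [h3, mul_comm, aeval_mul_apply, aeval_X_sub_one_pow] at ha
    refine h1 (sub_one_pow_eq_zero_of_le h5 (eq_zero_of_isCoprime
      (((irreducible_X_sub_C 1).coprime_iff_not_dvd.2 h4).pow_left (m := k + 1)) ?_ ha))
    rw [aeval_X_sub_one_pow, ← End.mul_apply, ← pow_add]
    exact sub_one_pow_eq_zero_of_le (by omega) h
  · rintro ⟨b, rfl⟩
    rw [mul_comm, aeval_mul_apply, aeval_X_sub_one_pow, h, map_zero]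

theorem exists_smul_of_fixed {k : ℕ} {v w : V} (h : ((f - 1) ^ (k + 1)) v = 0)
    (h1 : ((f - 1) ^ k) v ≠ 0) (hw : w ∈ cycSub f v) (hf : f w = w) :
    ∃ c : F, w = c • ((f - 1) ^ k) v := by
  obtain ⟨a, rfl⟩ := hw
  have h2 : aeval f ((X - C 1) * a) v = 0 := by
    rw [aeval_mul_apply]
    simpa [sub_eq_zero] using hf
  rw [aeval_eq_zero_iff_of_unip h h1, pow_succ',
    mul_dvd_mul_iff_left (X_sub_C_ne_zero (1 : F))] at h2
  obtain ⟨b, rfl⟩ := h2
  refine ⟨b.eval 1, ?_⟩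
  change aeval f _ v = _
  rw [mul_comm, aeval_mul_apply, aeval_X_sub_one_pow, aeval_of_fixed]
  rwa [sub_one_pow_succ, sub_eq_zero] at h

theorem sub_one_pow_of_mem_cycSub {k : ℕ} {v w : V} (h : ((f - 1) ^ k) v = 0)
    (hw : w ∈ cycSub f v) : ((f - 1) ^ k) w = 0 := by
  obtain ⟨a, rfl⟩ := hw
  rw [← aeval_X_sub_one_pow] at h ⊢
  exact aeval_aeval_eq_zero h a

variable [FiniteDimensional F V]

theorem natDegree_X_sub_one_pow (k : ℕ) : ((X - C (1 : F)) ^ k).natDegree = k := by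
  rw [(monic_X_sub_C (1 : F)).natDegree_pow, natDegree_X_sub_C, mul_one]

theorem degs_cycSub {k : ℕ} {v : V} (h : ((f - 1) ^ (k + 1)) v = 0) (h1 : ((f - 1) ^ k) v ≠ 0) :
    degs (f.restrict (cycSub_inv f v)) = {k + 1} := by
  rw [degs, ed_cycSub_of (isPP_pow (monic_X_sub_C 1) (irreducible_X_sub_C 1) k.succ_pos)
    (aeval_eq_zero_iff_of_unip h h1), Multiset.map_singleton, natDegree_X_sub_one_pow]

theorem finrank_eq_sum_degs (hU : ∀ v ∈ U, f v ∈ U) :
    finrank F U = (degs (f.restrict hU)).sum := (sum_degs _).symm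

theorem degs_sup (hU : ∀ v ∈ U, f v ∈ U) (hW : ∀ v ∈ W, f v ∈ W) (h : Disjoint U W) :
    degs (f.restrict (sup_inv hU hW)) = degs (f.restrict hU) + degs (f.restrict hW) := by
  rw [degs, ed_sup hU hW h, Multiset.map_add, degs, degs]

namespace Geom

theorem nd_of_unip (hG : Geom B Q τ) (h : Iso B Q f) (hZ : ∀ v ∈ Z, f v ∈ Z) {k : ℕ}
    (hk : ∀ v ∈ Z, ((f - 1) ^ k) v = 0) (h1 : ∀ w ∈ Z, w ≠ 0 → f w = w → ∃ y ∈ Z, B w y ≠ 0) :
    ND B Z := by
  rw [hG.nd_iff, Submodule.disjoint_def]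
  intro v hv hv'
  by_contra h0
  obtain ⟨w, hw, hw0, hw'⟩ := exists_fixed_of_nilpotent (inf_inv hZ (hG.perp_inv h hZ))
    (v := v) ⟨hv, hv'⟩ h0 (hk v hv)
  obtain ⟨y, hy, hy'⟩ := h1 w hw.1 hw0 hw'
  exact hy' (hG.refl (hw.2 y hy))

theorem nd_cycSub (hG : Geom B Q τ) (h : Iso B Q f) {k : ℕ} {v : V}
    (h1 : ((f - 1) ^ (k + 1)) v = 0) (h2 : B (((f - 1) ^ k) v) v ≠ 0) : ND B (cycSub f v) := by
  refine hG.nd_of_unip h (cycSub_inv f v) (fun w => sub_one_pow_of_mem_cycSub h1)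
    fun w hw h0 hw' => ⟨v, self_mem_cycSub f v, ?_⟩
  obtain ⟨c, rfl⟩ := exists_smul_of_fixed h1 (fun h3 => h2 (by simp [h3])) hw hw'
  rw [LinearMap.map_smulₛₗ, LinearMap.smul_apply, smul_eq_mul]
  exact mul_ne_zero ((map_ne_zero σ).2 fun h3 => h0 (by simp [h3])) h2

theorem nd_pair (hG : Geom B Q τ) (h : Iso B Q f) {k : ℕ} {u v : V}
    (hu : ((f - 1) ^ (k + 1)) u = 0) (hv : ((f - 1) ^ (k + 1)) v = 0)
    (h1 : B (((f - 1) ^ k) u) u = 0) (h2 : B (((f - 1) ^ k) v) v = 0)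
    (h3 : B (((f - 1) ^ k) u) v ≠ 0) :
    ND B (cycSub f u ⊔ cycSub f v) ∧ Disjoint (cycSub f u) (cycSub f v) ∧
      ((f - 1) ^ k) u ≠ 0 ∧ ((f - 1) ^ k) v ≠ 0 := by
  have h4 : B (((f - 1) ^ k) v) u ≠ 0 := fun h4 => h3 (by
    rw [h.sub_one_pow_of_eq_zero hu, hG.refl h4, mul_zero])
  have hu0 : ((f - 1) ^ k) u ≠ 0 := fun h0 => h3 (by simp [h0])
  have hv0 : ((f - 1) ^ k) v ≠ 0 := fun h0 => h4 (by simp [h0])
  have h5 : Disjoint (cycSub f u) (cycSub f v) := by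
    rw [Submodule.disjoint_def]
    intro x hx hx'
    by_contra h0
    obtain ⟨w, hw, hw0, hw'⟩ := exists_fixed_of_nilpotent
      (inf_inv (cycSub_inv f u) (cycSub_inv f v)) (v := x) ⟨hx, hx'⟩ h0
      (sub_one_pow_of_mem_cycSub hu hx)
    obtain ⟨c, rfl⟩ := exists_smul_of_fixed hu hu0 hw.1 hw'
    obtain ⟨d, hd⟩ := exists_smul_of_fixed hv hv0 hw.2 hw'
    have := congrArg (fun x => B x v) hd
    simp only [LinearMap.map_smulₛₗ, LinearMap.smul_apply, smul_eq_mul, h2, mul_zero, mul_eq_zero,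
      h3, or_false, _root_.map_eq_zero] at this
    exact hw0 (by simp [this])
  refine ⟨hG.nd_of_unip h (sup_inv (cycSub_inv f u) (cycSub_inv f v)) (k := k + 1)
    (fun w hw => ?_) fun w hw h0 hw' => ?_, h5, hu0, hv0⟩
  · obtain ⟨a, ha, b, hb, rfl⟩ := Submodule.mem_sup.1 hw
    rw [map_add, sub_one_pow_of_mem_cycSub hu ha, sub_one_pow_of_mem_cycSub hv hb, add_zero]
  · obtain ⟨a, ha, b, hb, rfl⟩ := Submodule.mem_sup.1 hw
    have h6 : f a - a = -(f b - b) := by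
      rw [map_add] at hw'
      rw [eq_neg_iff_add_eq_zero, sub_add_sub_comm, hw', sub_self]
    have h7 : f a - a = 0 := Submodule.disjoint_def.1 h5 _
      (Submodule.sub_mem _ (cycSub_inv f u a ha) ha)
      (h6 ▸ Submodule.neg_mem _ (Submodule.sub_mem _ (cycSub_inv f v b hb) hb))
    obtain ⟨c, rfl⟩ := exists_smul_of_fixed hu hu0 ha (sub_eq_zero.1 h7)
    obtain ⟨d, rfl⟩ := exists_smul_of_fixed hv hv0 hb (sub_eq_zero.1 (neg_eq_zero.1 (h6 ▸ h7)))
    by_cases hc : c = 0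
    · refine ⟨u, Submodule.mem_sup_left (self_mem_cycSub f u), ?_⟩
      simp only [hc, zero_smul, zero_add, LinearMap.map_smulₛₗ, LinearMap.smul_apply, smul_eq_mul]
        at h0 ⊢
      exact mul_ne_zero ((map_ne_zero σ).2 fun h3 => h0 (by simp [h3])) h4
    · refine ⟨v, Submodule.mem_sup_right (self_mem_cycSub f v), ?_⟩
      simp only [map_add, LinearMap.add_apply, LinearMap.map_smulₛₗ, LinearMap.smul_apply,
        smul_eq_mul, h2, mul_zero, add_zero]
      exact mul_ne_zero ((map_ne_zero σ).2 hc) h3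

theorem degs_eq_add_perp_inf (hG : Geom B Q τ) (h : Iso B Q f) (hY : ∀ v ∈ Y, f v ∈ Y)
    (hN : ND B Y) (hU : ∀ v ∈ U, f v ∈ U) (hU' : ND B U) (hUY : U ≤ Y) :
    degs (f.restrict hY) =
      degs (f.restrict hU) + degs (f.restrict (inf_inv (hG.perp_inv h hU) hY)) := by
  rw [degs, hG.ed_eq_add_perp_inf h hY hN hU hU' hUY, Multiset.map_add, degs, degs]

open Classical in
/-- A non-degenerate Jordan block, or pair of Jordan blocks, of maximal size. -/
theorem exists_top_block (hG : Geom B Q τ) (h : Iso B Q f) {K : ℕ} (hK : (f - 1) ^ K = 0)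
    {P : ℕ → Prop}
    (H1 : ∀ k v, P (k + 1) → ((f - 1) ^ (k + 1)) v = 0 → B (((f - 1) ^ k) v) v = 0)
    (H2 : ∀ k (W : Submodule F V), ¬ P (k + 1) → (∀ v ∈ W, ((f - 1) ^ (k + 1)) v = 0) →
      (∀ v ∈ W, B (((f - 1) ^ k) v) v = 0) → ∀ u ∈ W, ∀ v ∈ W, B (((f - 1) ^ k) u) v = 0)
    (hW : ∀ v ∈ W, f v ∈ W) (hN : ND B W) (h0 : W ≠ ⊥) :
    ∃ (Z : Submodule F V) (hZ : ∀ v ∈ Z, f v ∈ Z) (a : ℕ), Z ≤ W ∧ ND B Z ∧ 0 < a ∧
      degs (f.restrict hZ) = if P a then {a, a} else {a} := by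
  have h1 : ∃ k : ℕ, ∀ v ∈ W, ((f - 1) ^ k) v = 0 := ⟨K, fun v _ => by simp [hK]⟩
  have h2 := Nat.find_spec h1
  have h3 := fun j => Nat.find_min h1 (m := j)
  generalize Nat.find h1 = k at h2 h3
  obtain _ | k := k
  · exact absurd (eq_bot_iff.2 h2) h0
  obtain ⟨u, hu, hu'⟩ : ∃ u ∈ W, ((f - 1) ^ k) u ≠ 0 := by simpa using h3 k k.lt_succ_self
  obtain ⟨v, hv, hv'⟩ := nd_iff_ne.1 hN _ (sub_one_pow_mem hW k hu) hu'
  by_cases hP : P (k + 1)
  · obtain ⟨h4, h5, h6, h7⟩ := hG.nd_pair h (h2 u hu) (h2 v hv) (H1 k u hP (h2 u hu))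
      (H1 k v hP (h2 v hv)) hv'
    refine ⟨_, sup_inv (cycSub_inv f u) (cycSub_inv f v), k + 1,
      sup_le (cycSub_le hW hu) (cycSub_le hW hv), h4, k.succ_pos, ?_⟩
    rw [if_pos hP, degs_sup (cycSub_inv f u) (cycSub_inv f v) h5, degs_cycSub (h2 u hu) h6, degs_cycSub (h2 v hv) h7]
    rfl
  · obtain ⟨w, hw, hw'⟩ : ∃ w ∈ W, B (((f - 1) ^ k) w) w ≠ 0 := by
      by_contra h4
      push Not at h4
      exact hv' (H2 k W hP h2 h4 u hu v hv)
    refine ⟨_, cycSub_inv f w, k + 1, cycSub_le hW hw, hG.nd_cycSub h (h2 w hw) hw', k.succ_pos, ?_⟩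
    rw [if_neg hP, degs_cycSub (h2 w hw) fun h4 => hw' (by simp [h4])]

theorem unip_aux (hG : Geom B Q τ) (h : Iso B Q f) {K : ℕ} (hK : (f - 1) ^ K = 0)
    {P : ℕ → Prop}
    (H1 : ∀ k v, P (k + 1) → ((f - 1) ^ (k + 1)) v = 0 → B (((f - 1) ^ k) v) v = 0)
    (H2 : ∀ k (W : Submodule F V), ¬ P (k + 1) → (∀ v ∈ W, ((f - 1) ^ (k + 1)) v = 0) →
      (∀ v ∈ W, B (((f - 1) ^ k) v) v = 0) → ∀ u ∈ W, ∀ v ∈ W, B (((f - 1) ^ k) u) v = 0)
    (n : ℕ) : ∀ (W : Submodule F V) (hW : ∀ v ∈ W, f v ∈ W), ND B W → finrank F W ≤ n →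
      (∀ a, P a → Even ((degs (f.restrict hW)).count a)) ∧
      ∀ ν, ν ≤ degs (f.restrict hW) → (∀ a, P a → Even (ν.count a)) →
        ∃ (Y : Submodule F V) (hY : ∀ v ∈ Y, f v ∈ Y), Y ≤ W ∧ ND B Y ∧
          degs (f.restrict hY) = ν := by
  have base : ∀ (hW : ∀ v ∈ (⊥ : Submodule F V), f v ∈ ⊥),
      (∀ a, P a → Even ((degs (f.restrict hW)).count a)) ∧
      ∀ ν, ν ≤ degs (f.restrict hW) → (∀ a, P a → Even (ν.count a)) →
        ∃ (Y : Submodule F V) (hY : ∀ v ∈ Y, f v ∈ Y), Y ≤ ⊥ ∧ ND B Y ∧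
          degs (f.restrict hY) = ν := fun hW => by
    have h1 : degs (f.restrict hW) = 0 := by rw [degs, ed_restrict_bot, Multiset.map_zero]
    rw [h1]
    exact ⟨by simp, fun ν hν _ => ⟨⊥, hW, le_rfl, nd_bot, h1.trans (Multiset.le_zero.1 hν).symm⟩⟩
  induction n with
  | zero =>
    intro W hW _ hn
    obtain rfl := Submodule.finrank_eq_zero.1 (Nat.le_zero.1 hn)
    exact base hW
  | succ n ih =>
    intro W hW hN hn
    by_cases h0 : W = ⊥
    · subst h0
      exact base hW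
    obtain ⟨Z, hZ, a, h1, h2, h3, h4⟩ := hG.exists_top_block h hK H1 H2 hW hN h0
    have h5 := hG.finrank_add_perp_inf hN h1
    have h6 : 0 < finrank F Z := by
      rw [finrank_eq_sum_degs hZ, h4]
      split_ifs <;> simp [h3]
    obtain ⟨h7, h8⟩ := ih _ (inf_inv (hG.perp_inv h hZ) hW) (hG.nd_perp_inf hN h2 h1) (by omega)
    have h9 : ∀ b, P b → Even ((degs (f.restrict hZ)).count b) := fun b hb => by
      rw [h4]
      split_ifs with h10
      · by_cases h11 : b = a <;> simp [h11]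
      · rw [Multiset.count_singleton, if_neg (by rintro rfl; exact h10 hb)]
        exact Even.zero
    rw [hG.degs_eq_add_perp_inf h hW hN hZ h2 h1]
    refine ⟨fun b hb => by rw [Multiset.count_add]; exact (h9 b hb).add (h7 b hb),
      fun ν hν hν' => ?_⟩
    by_cases h10 : degs (f.restrict hZ) ≤ ν
    · obtain ⟨ν, rfl⟩ := Multiset.le_iff_exists_add.1 h10
      obtain ⟨Y, hY, h11, h12, rfl⟩ := h8 ν (le_of_add_le_add_left hν) fun b hb => by
        have := hν' b hb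
        rw [Multiset.count_add] at this
        exact (Nat.even_add.1 this).1 (h9 b hb)
      exact ⟨Z ⊔ Y, sup_inv hZ hY, sup_le h1 (h11.trans inf_le_right),
        hG.nd_sup h2 h12 (h11.trans inf_le_left),
        degs_sup _ _ (hG.disjoint_of_le_perp h2 (h11.trans inf_le_left))⟩
    · obtain ⟨Y, hY, h11, h12⟩ := h8 ν (by
        have h11 : ν.count a = 0 := by
          rw [h4] at h10
          split_ifs at h10 with h11
          · obtain ⟨c, hc⟩ := hν' a h11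
            by_contra h12
            exact h10 (Multiset.le_count_iff_replicate_le.1 (show 2 ≤ ν.count a by omega))
          · exact Multiset.count_eq_zero.2 fun h12 => h10 (Multiset.singleton_le.2 h12)
        refine Multiset.le_iff_count.2 fun b => ?_
        by_cases h12 : b = a
        · rw [h12, h11]
          exact Nat.zero_le _
        · have := Multiset.le_iff_count.1 hν b
          rw [Multiset.count_add, h4] at this
          split_ifs at this <;> simpa [h12] using this) hν'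
      exact ⟨Y, hY, h11.trans inf_le_right, h12⟩

/-- Hermitian case: all Jordan blocks split off. -/
theorem exists_nd_unip_herm (hG : Geom B Q τ) (hσ : σ ≠ RingHom.id F) (h : Iso B Q f) {K : ℕ}
    (hK : (f - 1) ^ K = 0) {ν : Multiset ℕ} (hν : ν ≤ degs f) :
    ∃ (Y : Submodule F V) (hY : ∀ v ∈ Y, f v ∈ Y), ND B Y ∧ degs (f.restrict hY) = ν := by
  obtain ⟨Y, hY, -, h1⟩ := (hG.unip_aux h hK (P := fun _ => False) (fun _ _ h => h.elim)
    (fun k W _ _ h1 u hu v hv => by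
      obtain ⟨c, hc⟩ : ∃ c, σ c ≠ c := by
        by_contra h2
        push Not at h2
        exact hσ (RingHom.ext h2)
      have h2 := h1 _ (W.add_mem hu hv)
      have h3 := h1 _ (W.add_mem hu (W.smul_mem c hv))
      simp only [map_add, LinearMap.add_apply, h1 u hu, h1 v hv, map_smul, LinearMap.map_smulₛₗ,
        LinearMap.smul_apply, smul_eq_mul, mul_zero] at h2 h3
      refine (mul_eq_zero.1 ?_).resolve_left (sub_ne_zero.2 hc)
      linear_combination σ c * h2 - h3) _ ⊤ (fun _ _ => Submodule.mem_top) hG.nd_top le_rfl).2 ν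
    (by rwa [degs, ed_restrict_top]) fun _ h => h.elim
  exact ⟨Y, hY, h1⟩

variable {B : V →ₛₗ[RingHom.id F] V →ₗ[F] F}

/-- Bilinear case in odd characteristic. -/
theorem unip_eps (hG : Geom B Q τ) (h2 : (2 : F) ≠ 0) {ε : ℕ}
    (hε : ∀ x y, B y x = (-1) ^ ε * B x y) (h : Iso B Q f) {K : ℕ} (hK : (f - 1) ^ K = 0)
    (hW : ∀ v ∈ W, f v ∈ W) (hN : ND B W) :
    (∀ a, Even (a + ε) → Even ((degs (f.restrict hW)).count a)) ∧
      ∀ ν, ν ≤ degs (f.restrict hW) → (∀ a, Even (a + ε) → Even (ν.count a)) →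
        ∃ (Y : Submodule F V) (hY : ∀ v ∈ Y, f v ∈ Y), Y ≤ W ∧ ND B Y ∧
          degs (f.restrict hY) = ν := by
  refine hG.unip_aux h hK (P := fun a => Even (a + ε)) (fun k v h1 h3 => ?_)
    (fun k W h1 h3 h4 u hu v hv => ?_) _ W hW hN le_rfl
  · have h4 := h.sub_one_pow_of_eq_zero h3 v
    rw [hε _ v, ← mul_assoc, ← pow_add, Odd.neg_one_pow (by
      rw [Nat.even_iff] at h1; rw [Nat.odd_iff]; omega)] at h4
    refine (mul_eq_zero.1 ?_).resolve_left h2
    linear_combination h4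
  · have h5 := h.sub_one_pow_of_eq_zero (h3 v hv) u
    rw [hε _ v, ← mul_assoc, ← pow_add, Even.neg_one_pow (by
      rw [Nat.even_iff] at h1 ⊢; omega)] at h5
    have h6 := h4 _ (W.add_mem hu hv)
    simp only [map_add, LinearMap.add_apply, h4 u hu, h4 v hv] at h6
    refine (mul_eq_zero.1 ?_).resolve_left h2
    linear_combination h6 - h5

end Geom

theorem degs_map_pow {μ : Multiset ℕ} :
    (μ.map fun a => (X - C (1 : F)) ^ a).map natDegree = μ := by
  rw [Multiset.map_map]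
  conv_rhs => rw [← Multiset.map_id μ]
  exact Multiset.map_congr rfl fun a _ => natDegree_X_sub_one_pow a

theorem map_uDual_map_pow {μ : Multiset ℕ} :
    (μ.map fun a => (X - C (1 : F)) ^ a).map (uDual σ) = μ.map fun a => (X - C (1 : F)) ^ a := by
  rw [Multiset.map_map]
  exact Multiset.map_congr rfl fun a _ => by rw [Function.comp_apply, uDual_pow, uDual_X_sub_one]

theorem exists_eq_add_add_of_even {P : ℕ → Prop} {μ : Multiset ℕ}
    (h : ∀ a, P a → Even (μ.count a)) : ∃ t ν, μ = t + t + ν ∧ ∀ a ∈ ν, ¬ P a := by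
  classical
  refine ⟨∑ a ∈ μ.toFinset.filter P, Multiset.replicate (μ.count a / 2) a, μ.filter (¬ P ·), ?_,
    fun a ha => (Multiset.mem_filter.1 ha).2⟩
  ext a
  simp only [Multiset.count_add, Multiset.count_sum', Multiset.count_replicate,
    Finset.sum_ite_eq', Multiset.mem_toFinset, Finset.mem_filter, Multiset.count_filter]
  by_cases h1 : P a
  · obtain ⟨c, hc⟩ := h a h1
    by_cases h2 : a ∈ μ
    · simp only [h1, h2, and_self, if_true, not_true, if_false]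
      omega
    · simp [h2]
  · simp [h1]

theorem Geom.realOn_hyp_unip (hG : Geom B Q τ) (hW : ND B W) (hP : Plus B Q W) {t : Multiset ℕ}
    (ht : ∀ a ∈ t, 0 < a) (hd : 2 * t.sum = finrank F W) :
    RealOn B Q W ((t + t).map fun a => (X - C (1 : F)) ^ a) := by
  rw [Multiset.map_add]
  nth_rewrite 2 [← map_uDual_map_pow (σ := σ)]
  refine hG.realOn_hyp hW hP (fun e he => ?_) (fun e he => ?_) (by rwa [degs_map_pow])
  · obtain ⟨a, ha, rfl⟩ := Multiset.mem_map.1 he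
    exact isPP_pow (monic_X_sub_C 1) (irreducible_X_sub_C 1) (ht a ha)
  · obtain ⟨a, -, rfl⟩ := Multiset.mem_map.1 he
    simp [coeff_zero_eq_eval_zero]

theorem GeomA.realOn_unip {B : V →ₛₗ[RingHom.id F] V →ₗ[F] F} (hG : GeomA B) (hW : ND B W)
    {μ : Multiset ℕ} (h0 : ∀ a ∈ μ, 0 < a) (h1 : ∀ a, Odd a → Even (μ.count a))
    (hd : μ.sum = finrank F W) :
    RealOn B (fun _ => (0 : F)) W (μ.map fun a => (X - C (1 : F)) ^ a) := by
  obtain ⟨t, ν, rfl, h2⟩ := exists_eq_add_add_of_even h1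
  simp only [Multiset.sum_add] at hd
  obtain ⟨Y, h3, h4, h5⟩ := hG.exists_nd hW (a := 2 * t.sum) (even_two_mul _) (by omega)
  have h6 := hG.finrank_add_perp_inf hW h3
  rw [← hG.sup_perp_inf hW h4 h3, Multiset.map_add]
  refine hG.realOn_sup h4 inf_le_left (hG.realOn_hyp_unip h4 (hG.plus h4)
    (fun a ha => h0 a (by simp [ha])) h5.symm) (hG.realOn_sum (fun e he => ?_)
      (hG.nd_perp_inf hW h4 h3) (by rw [degs_map_pow]; omega))
  obtain ⟨a, ha, rfl⟩ := Multiset.mem_map.1 he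
  have h7 := Nat.not_odd_iff_even.1 (h2 a ha)
  refine ⟨isPP_pow (monic_X_sub_C 1) (irreducible_X_sub_C 1) (h0 a (by simp [ha])), ?_, ?_,
    by rwa [natDegree_X_sub_one_pow]⟩
  · simp [coeff_zero_eq_eval_zero, h7.neg_one_pow]
  · rw [← uDual_id, uDual_pow, uDual_X_sub_one]

section Char

variable {p : ℕ} [hp : Fact p.Prime] [CharP F p]

theorem pow_char_eq_one_of_ed {μ : Multiset ℕ} (h : ed f = μ.map fun a => (X - C (1 : F)) ^ a)
    (hμ : ∀ a ∈ μ, a ≤ p) : f ^ p = 1 := pow_eq_one_of_ed fun e he => by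
  obtain ⟨a, ha, rfl⟩ := Multiset.mem_map.1 (h ▸ he)
  have h1 : (X - C (1 : F)) ^ p = X ^ p - 1 := by rw [sub_pow_char, C_1, one_pow]
  exact h1 ▸ pow_dvd_pow _ (hμ a ha)

omit [FiniteDimensional F V] in
theorem sub_one_pow_char' (h : f ^ p = 1) : (f - 1) ^ p = 0 := by
  simpa using sub_one_pow_char h

omit [FiniteDimensional F V] in
theorem pow_char_eq_one_of_nilpotent (h : (f - 1) ^ p = 0) : f ^ p = 1 := by
  have h1 : (X - C (1 : F)) ^ p = X ^ p - 1 := by rw [sub_pow_char, C_1, one_pow]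
  rwa [← aeval_X_sub_one_pow, h1, map_sub, map_pow, aeval_X, map_one, sub_eq_zero] at h

end Char

theorem ne_one_of_mem_degs {a : ℕ} (h : a ∈ degs f) (ha : a ≠ 1) : f ≠ 1 := by
  simpa using not_scalar_of_mem_degs h ha 1

theorem exists_le_sum_eq_of_forall_eq_one {μ : Multiset ℕ} (h : ∀ a ∈ μ, a = 1) {m : ℕ}
    (hm : m ≤ μ.sum) : Multiset.replicate m 1 ≤ μ := by
  rw [Multiset.eq_replicate_card.2 h] at hm ⊢
  exact (Multiset.replicate_le_replicate _).2 (by simpa using hm)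

theorem Geom.degs_restrict_le (hG : Geom B Q τ) (h : Iso B Q f) (hW : ∀ v ∈ W, f v ∈ W)
    (hN : ND B W) : degs (f.restrict hW) ≤ degs f := by
  rw [degs, degs, hG.ed_eq_add_perp h hW hN, Multiset.map_add]
  exact Multiset.le_add_right _ _

end Cfsg.Agent.Cl.Der
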