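import Mathlib
import Cfsg.Agent.Cl.DerUni

/-! Involutions in characteristic two, and unipotent elements of type `a`. -/

set_option autoImplicit false
set_option linter.unusedSectionVars false

namespace Cfsg.Agent.Cl.Der

open Polynomial Module Cfsg.Agent.Cl.Cls

variable {F V A : Type*} [Field F] [AddCommGroup V] [Module F V] [FiniteDimensional F V]
  [AddCommGroup A] {τ : F →+ A} {f : End F V} {U W S Y Z : Submodule F V}

section General

variable {σ : F →+* F} {B : V →ₛₗ[σ] V →ₗ[F] F} {Q : V → A}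

theorem Geom.hasTS_one_iff (hG : Geom B Q τ) :
    HasTS B Q W 1 ↔ ∃ u ∈ W, u ≠ 0 ∧ Q u = 0 := by
  constructor
  · rintro ⟨U, h1, h2, h3⟩
    obtain ⟨u, hu, h0⟩ := (Submodule.ne_bot_iff U).1 fun h => by
      rw [h, finrank_bot] at h3
      omega
    exact ⟨u, h1 hu, h0, h2.2 u hu⟩
  · rintro ⟨u, hu, h0, h1⟩
    exact ⟨F ∙ u, (Submodule.span_singleton_le_iff_mem _ _).2 hu, hG.ts_span_singleton h1,
      finrank_span_singleton h0⟩

theorem Geom.exists_partner (hG : Geom B Q τ) (hW : ND B W) {u : V} (hu : u ∈ W) (h0 : u ≠ 0)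
    (h1 : Q u = 0) : ∃ u' ∈ W, Q u' = 0 ∧ B u u' = 1 := by
  obtain ⟨U', h2, h3, -, -, h4⟩ := hG.exists_ts_partner hW (hG.ts_span_singleton h1)
    ((Submodule.span_singleton_le_iff_mem _ _).2 hu)
  obtain ⟨y, hy, hy'⟩ := nd_iff_ne.1 h4 u
    (Submodule.mem_sup_left (Submodule.mem_span_singleton_self u)) h0
  obtain ⟨a, ha, b, hb, rfl⟩ := Submodule.mem_sup.1 hy
  rw [map_add, (hG.ts_span_singleton h1).1 u (Submodule.mem_span_singleton_self u) a ha,
    zero_add] at hy'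
  exact ⟨(B u b)⁻¹ • b, W.smul_mem _ (h2 hb), h3.2 _ (U'.smul_mem _ hb), by
    rw [map_smul, smul_eq_mul, inv_mul_cancel₀ hy']⟩

/-- A hyperbolic plane. -/
theorem Geom.hyp_plane (hG : Geom B Q τ) {u w : V} (hu : Q u = 0) (hw : Q w = 0)
    (h : B u w ≠ 0) : ND B ((F ∙ u) ⊔ F ∙ w) ∧ Plus B Q ((F ∙ u) ⊔ F ∙ w) ∧
      finrank F ↥((F ∙ u) ⊔ F ∙ w) = 2 := by
  have hu0 : u ≠ 0 := fun h0 => h (by simp [h0])
  have hw0 : w ≠ 0 := fun h0 => h (by simp [h0])
  have h1 : finrank F ↥((F ∙ u) ⊔ F ∙ w) = 2 := by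
    rw [finrank_sup_of_disjoint, finrank_span_singleton hu0, finrank_span_singleton hw0]
    rw [Submodule.disjoint_span_singleton' hw0, Submodule.mem_span_singleton]
    rintro ⟨c, rfl⟩
    exact h (by rw [map_smul, hG.self_eq_zero hu, smul_zero])
  refine ⟨fun v hv hv' => ?_, ⟨F ∙ u, le_sup_left, hG.ts_span_singleton hu, by
    rw [h1, finrank_span_singleton hu0]⟩, h1⟩
  obtain ⟨_, ha, _, hb, rfl⟩ := Submodule.mem_sup.1 hv
  obtain ⟨a, rfl⟩ := Submodule.mem_span_singleton.1 ha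
  obtain ⟨b, rfl⟩ := Submodule.mem_span_singleton.1 hb
  have h2 := hG.refl (hv' u (Submodule.mem_sup_left (Submodule.mem_span_singleton_self u)))
  have h3 := hG.refl (hv' w (Submodule.mem_sup_right (Submodule.mem_span_singleton_self w)))
  simp only [map_add, map_smul, hG.self_eq_zero hu, hG.self_eq_zero hw, smul_eq_mul, mul_zero,
    zero_add, add_zero, mul_eq_zero, h, or_false] at h2 h3
  simp [h2, h3.resolve_right fun h4 => h (hG.refl h4)]

/-- An additive function vanishing on the singular vectors vanishes. -/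
theorem Geom.eq_zero_of_sing {M : Type*} [AddCommGroup M] (hG : Geom B Q τ) (hW : ND B W)
    (h : HasTS B Q W 1) {φ : V → M} (h1 : ∀ x ∈ W, ∀ y ∈ W, φ (x + y) = φ x + φ y)
    (h2 : ∀ x ∈ W, Q x = 0 → φ x = 0) : ∀ x ∈ W, φ x = 0 := by
  obtain ⟨u, hu, h0, hu'⟩ := hG.hasTS_one_iff.1 h
  obtain ⟨w, hw, hw', h3⟩ := hG.exists_partner hW hu h0 hu'
  obtain ⟨h4, -, -⟩ := hG.hyp_plane hu' hw' (h3 ▸ one_ne_zero)
  have h5 : (F ∙ u) ⊔ (F ∙ w) ≤ W := sup_le ((Submodule.span_singleton_le_iff_mem _ _).2 hu)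
    ((Submodule.span_singleton_le_iff_mem _ _).2 hw)
  intro x hx
  obtain ⟨_, hy, z, hz, rfl⟩ := Submodule.mem_sup.1 ((hG.sup_perp_inf hW h4 h5).symm ▸ hx)
  obtain ⟨_, ha, _, hb, rfl⟩ := Submodule.mem_sup.1 hy
  obtain ⟨a, rfl⟩ := Submodule.mem_span_singleton.1 ha
  obtain ⟨b, rfl⟩ := Submodule.mem_span_singleton.1 hb
  obtain ⟨t, ht⟩ := hG.trace z
  have h6 : u - t • w ∈ (F ∙ u) ⊔ (F ∙ w) := Submodule.sub_mem _
    (Submodule.mem_sup_left (Submodule.mem_span_singleton_self u))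
    (Submodule.mem_sup_right (Submodule.smul_mem _ _ (Submodule.mem_span_singleton_self w)))
  have h7 : Q (u - t • w + z) = 0 := by
    rw [hG.add, hz.1 _ h6, sub_eq_add_neg, ← neg_smul, hG.add, hu', hG.Q_smul_eq_zero _ hw', ht]
    simp [h3]
  have h8 : a • u + b • w + z = (a - 1) • u + ((b + t) • w + (u - t • w + z)) := by module
  have h9 := W.add_mem (h5 h6) hz.2
  rw [h8, h1 _ (W.smul_mem _ hu) _ (W.add_mem (W.smul_mem _ hw) h9), h1 _ (W.smul_mem _ hw) _ h9,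
    h2 _ h9 h7, h2 _ (W.smul_mem _ hu) (hG.Q_smul_eq_zero _ hu'),
    h2 _ (W.smul_mem _ hw) (hG.Q_smul_eq_zero _ hw'), add_zero, add_zero]

theorem Geom.hasTS_perp_inf_iff (hG : Geom B Q τ) (hW : ND B W) (hZ : ND B Z) (h : Z ≤ W)
    (hP : Plus B Q Z) {k : ℕ} (hk : finrank F Z = 2 * k) {c : ℕ} :
    HasTS B Q (perp B Z ⊓ W) c ↔ HasTS B Q W (k + c) := by
  conv_rhs => rw [← hG.sup_perp_inf hW hZ h]
  exact ⟨hG.hasTS_sup hZ inf_le_left ((plus_iff hk).1 hP), hG.hasTS_of_sup hZ inf_le_left hk hP⟩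

theorem sub_one_sq_of_sq_eq_one (h2 : (2 : F) = 0) (hf : f ^ 2 = 1) : (f - 1) ^ 2 = 0 := by
  ext v
  have : f v + f v = 0 := by rw [← two_smul F, h2, zero_smul]
  have h3 : v + v = 0 := by rw [← two_smul F, h2, zero_smul]
  simp only [sq, End.mul_apply, LinearMap.sub_apply, End.one_apply, map_sub,
    apply_apply_of_sq_eq_one hf, LinearMap.zero_apply]
  linear_combination (norm := abel_nf) h3 - this

end General

variable {B : V →ₛₗ[RingHom.id F] V →ₗ[F] F} {Q : V → A}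

/-- A hyperbolic invariant `4`-space for an element of type `a`. -/
theorem Geom.exists_piece_four (hG : Geom B Q τ) (h : Iso B Q f) (hf : (f - 1) ^ 2 = 0)
    (hW : ∀ v ∈ W, f v ∈ W) (hN : ND B W) (h1 : ∀ v ∈ W, B (f v - v) v = 0)
    (h2 : ∀ v ∈ W, Q (f v - v) = 0) {u : V} (hu : u ∈ W) (hu' : f u ≠ u) :
    ∃ Z : Submodule F V, Z ≤ W ∧ ND B Z ∧ (∀ v ∈ Z, f v ∈ Z) ∧ Plus B Q Z ∧ finrank F Z = 4 := by
  have h0 : ∀ v, ((f - 1) ^ (1 : ℕ)) v = f v - v := fun v => by simp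
  have h3 : ∀ v, ((f - 1) ^ (1 + 1 : ℕ)) v = 0 := fun v => by simp [one_add_one_eq_two, hf]
  obtain ⟨v, hv, hv'⟩ := nd_iff_ne.1 hN _ (W.sub_mem (hW u hu) hu) (sub_ne_zero.2 hu')
  obtain ⟨h4, h5, h6, h7⟩ := hG.nd_pair h (h3 u) (h3 v) (h0 u ▸ h1 u hu) (h0 v ▸ h1 v hv)
    (h0 u ▸ hv')
  have h8 : finrank F ↥(cycSub f u ⊔ cycSub f v) = 4 := by
    rw [finrank_sup_of_disjoint h5, finrank_eq_sum_degs (cycSub_inv f u),
      finrank_eq_sum_degs (cycSub_inv f v), degs_cycSub (h3 u) h6, degs_cycSub (h3 v) h7]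
    rfl
  have h9 : ∀ w, (F ∙ ((f - 1) ^ (1 : ℕ)) w) ≤ cycSub f w := fun w =>
    (Submodule.span_singleton_le_iff_mem _ _).2
      (sub_one_pow_mem (cycSub_inv f w) 1 (self_mem_cycSub f w))
  refine ⟨_, sup_le (cycSub_le hW hu) (cycSub_le hW hv), h4,
    sup_inv (cycSub_inv f u) (cycSub_inv f v), ⟨_, sup_le_sup (h9 u) (h9 v),
      hG.ts_sup (hG.ts_span_singleton (h0 u ▸ h2 u hu)) (hG.ts_span_singleton (h0 v ▸ h2 v hv))
        ((Submodule.span_singleton_le_iff_mem _ _).2 (mem_perp_span.2 ?_)), ?_⟩, h8⟩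
  · rintro _ rfl
    rw [h.sub_one_pow_of_eq_zero (h3 u), ← End.mul_apply, ← pow_add, h3, map_zero, mul_zero]
  · rw [h8, finrank_sup_of_disjoint (h5.mono (h9 u) (h9 v)), finrank_span_singleton h6,
      finrank_span_singleton h7]

theorem Geom.exists_piece (hG : Geom B Q τ) (h2 : (2 : F) = 0) (hsym : ∀ x y, B x y = B y x)
    (halt : ∀ x, B x x = 0) (h : Iso B Q f) (hf : f ^ 2 = 1) (hW : ∀ v ∈ W, f v ∈ W) (hN : ND B W)
    (hT : HasTS B Q W 1) : ∃ Z : Submodule F V, Z ≤ W ∧ ND B Z ∧ (∀ v ∈ Z, f v ∈ Z) ∧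
      Plus B Q Z ∧ (finrank F Z = 2 ∨ finrank F Z = 4) := by
  by_cases h1 : ∃ v ∈ W, Q v = 0 ∧ B v (f v) ≠ 0
  · obtain ⟨v, hv, h1, h3⟩ := h1
    obtain ⟨h4, h5, h6⟩ := hG.hyp_plane h1 ((h.mapQ v).trans h1) h3
    refine ⟨_, sup_le ((Submodule.span_singleton_le_iff_mem _ _).2 hv)
      ((Submodule.span_singleton_le_iff_mem _ _).2 (hW v hv)), h4, fun w hw => ?_, h5, Or.inl h6⟩
    obtain ⟨_, ha, _, hb, rfl⟩ := Submodule.mem_sup.1 hw
    obtain ⟨a, rfl⟩ := Submodule.mem_span_singleton.1 ha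
    obtain ⟨b, rfl⟩ := Submodule.mem_span_singleton.1 hb
    rw [map_add, map_smul, map_smul, apply_apply_of_sq_eq_one hf, add_comm]
    exact Submodule.add_mem_sup (Submodule.smul_mem _ _ (Submodule.mem_span_singleton_self _))
      (Submodule.smul_mem _ _ (Submodule.mem_span_singleton_self _))
  push Not at h1
  have h3 := hG.eq_zero_of_sing hN hT (φ := fun v => B v (f v)) (fun x _ y _ => by
    have := h.mapB (f x) y
    rw [apply_apply_of_sq_eq_one hf, hsym (f x)] at this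
    simp only [map_add, LinearMap.add_apply, this]
    linear_combination B y (f x) * h2) h1
  by_cases h4 : ∃ u ∈ W, f u ≠ u
  · obtain ⟨u, hu, hu'⟩ := h4
    obtain ⟨Z, h5, h6, h7, h8, h9⟩ := hG.exists_piece_four h (sub_one_sq_of_sq_eq_one h2 hf) hW hN
      (fun v hv => by rw [map_sub, LinearMap.sub_apply, hsym, h3 v hv, halt, sub_zero])
      (fun v hv => hG.Q_sub_eq_zero (h.mapQ v) (by rw [hsym, h3 v hv]) (halt v)) hu hu'
    exact ⟨Z, h5, h6, h7, h8, Or.inr h9⟩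
  · push Not at h4
    obtain ⟨Z, h5, h6, h7, h8⟩ := hG.exists_plus hN hT
    exact ⟨Z, h5, h6, fun v hv => (h4 v (h5 hv)).symm ▸ hv, h7, Or.inl h8⟩

/-- Invariant hyperbolic subspaces of an involution in characteristic two. -/
theorem Geom.exists_plus_of_two (hG : Geom B Q τ) (h2 : (2 : F) = 0) (hsym : ∀ x y, B x y = B y x)
    (halt : ∀ x, B x x = 0) (h : Iso B Q f) (hf : f ^ 2 = 1) (a : ℕ) :
    ∀ (W : Submodule F V), (∀ v ∈ W, f v ∈ W) → ND B W → HasTS B Q W a → ¬ HasTS B Q W (a + 1) →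
      ∀ b, b ≤ a → (Even b ∨ Odd a) → ∃ Y : Submodule F V, Y ≤ W ∧ ND B Y ∧ (∀ v ∈ Y, f v ∈ Y) ∧
        Plus B Q Y ∧ finrank F Y = 2 * b := by
  induction a using Nat.strong_induction_on with
  | _ a ih =>
    intro W hW hN h3 h4 b hb hb'
    rcases Nat.eq_zero_or_pos b with rfl | hb0
    · exact ⟨⊥, bot_le, nd_bot, by simp, hG.plus_bot, by simp⟩
    obtain ⟨Z, h5, h6, h7, h8, h9⟩ := hG.exists_piece h2 hsym halt h hf hW hN (h3.of_le (by omega))
    obtain ⟨k, hk, hk'⟩ : ∃ k, finrank F Z = 2 * k ∧ (k = 1 ∨ k = 2) :=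
      h9.elim (fun h => ⟨1, h, Or.inl rfl⟩) fun h => ⟨2, h, Or.inr rfl⟩
    have h10 : k ≤ a := by
      by_contra h10
      exact h4 ((((plus_iff hk).1 h8).mono h5).of_le (by omega))
    have h11 := ih (a - k) (by omega) _ (inf_inv (hG.perp_inv h h7) hW) (hG.nd_perp_inf hN h6 h5)
      ((hG.hasTS_perp_inf_iff hN h6 h5 h8 hk).2 (by convert h3; omega))
      (by rw [hG.hasTS_perp_inf_iff hN h6 h5 h8 hk]; convert h4 using 2; omega)
    simp only [Nat.even_iff, Nat.odd_iff] at hb' h11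
    by_cases h12 : b ≤ a - k ∧ (b % 2 = 0 ∨ (a - k) % 2 = 1)
    · obtain ⟨Y, h13, h14⟩ := h11 b h12.1 h12.2
      exact ⟨Y, h13.trans inf_le_right, h14⟩
    · obtain ⟨Y, h13, h14, h15, h16, h17⟩ := h11 (b - k) (by omega) (by omega)
      have h18 := h13.trans inf_le_left
      exact ⟨Z ⊔ Y, sup_le h5 (h13.trans inf_le_right), hG.nd_sup h6 h14 h18, sup_inv h7 h15,
        hG.plus_sup h6 h18 h8 h16, by rw [hG.finrank_sup_of_le_perp h6 h18]; omega⟩

/-- A unipotent isometry of type `a` with commutator space `U`. -/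
structure AType (B : V →ₛₗ[RingHom.id F] V →ₗ[F] F) (Q : V → A) (U : Submodule F V)
    (f : End F V) : Prop where
  iso : Iso B Q f
  ts : TS B Q U
  alt : ∀ v, B (f v - v) v = 0
  fix : fixS f = perp B U

theorem Geom.exists_aType (hG : Geom B Q τ) (hsym : ∀ x y, B x y = B y x) (hU : TS B Q U)
    (he : Even (finrank F U)) : ∃ f, AType B Q U f := by
  classical
  obtain ⟨j, hj⟩ := he
  let b := Module.finBasisOfFinrankEq F U hj |>.reindex finSumFinEquiv.symm
  let N : End F V := ∑ i : Fin j, ((B (b (.inl i))).smulRight (b (.inr i) : V) -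
    (B (b (.inr i))).smulRight (b (.inl i) : V))
  have hN : ∀ v, N v = ∑ i : Fin j, (B (b (.inl i)) v • (b (.inr i) : V) -
      B (b (.inr i)) v • (b (.inl i) : V)) := fun v => by simp [N]
  have h1 : ∀ v, N v ∈ U := fun v => hN v ▸ U.sum_mem fun i _ =>
    U.sub_mem (U.smul_mem _ (Subtype.prop _)) (U.smul_mem _ (Subtype.prop _))
  have h2 : ∀ v w, B w (N v) = -B v (N w) := fun v w => by
    simp only [hN, map_sum, map_sub, map_smul, smul_eq_mul, ← Finset.sum_neg_distrib]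
    exact Finset.sum_congr rfl fun i _ => by simp only [hsym w, hsym v]; ring
  have h3 : ∀ v, B v (N v) = 0 := fun v => by
    simp only [hN, map_sum, map_sub, map_smul, smul_eq_mul]
    exact Finset.sum_eq_zero fun i _ => by simp only [hsym v]; ring
  refine ⟨1 + N, ⟨fun x y => ?_, fun x => ?_⟩, hU, fun v => by simpa [hsym (N v)] using h3 v, ?_⟩
  · simp only [LinearMap.add_apply, End.one_apply, map_add, hU.1 _ (h1 x) _ (h1 y), hsym (N x) y,
      h2 x y]
    ring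
  · rw [LinearMap.add_apply, End.one_apply, hG.add, hU.2 _ (h1 x), h3, map_zero, add_zero, add_zero]
  · ext v
    rw [mem_fixS, LinearMap.add_apply, End.one_apply, add_eq_left]
    have h4 : U = Submodule.span F (Set.range fun i => (b i : V)) := by
      conv_lhs => rw [← Submodule.range_subtype U, ← Submodule.map_top, ← b.span_eq,
        Submodule.map_span, ← Set.range_comp]
      rfl
    rw [show perp B U = perp B _ from congrArg _ h4, mem_perp_span, Set.forall_mem_range]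
    constructor
    · intro h5
      have h6 := Fintype.linearIndependent_iff.1 (b.linearIndependent.map' U.subtype U.ker_subtype)
        (Sum.elim (fun i => -B (b (.inr i)) v) fun i => B (b (.inl i)) v) (by
          rw [Fintype.sum_sum_type, ← Finset.sum_add_distrib, ← h5, hN]
          exact Finset.sum_congr rfl fun i _ => by simp [sub_eq_add_neg, add_comm])
      rintro (i | i)
      · exact h6 (.inr i)
      · exact neg_eq_zero.1 (h6 (.inl i))
    · intro h5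
      simp [hN, h5]

namespace AType

theorem sub_mem (hG : Geom B Q τ) (h : AType B Q U f) (v : V) : f v - v ∈ U := by
  rw [← hG.perp_perp U, ← h.fix, hG.perp_fixS h.iso]
  exact ⟨v, rfl⟩

theorem range_eq (hG : Geom B Q τ) (h : AType B Q U f) : LinearMap.range (f - 1) = U := by
  rw [← hG.perp_fixS h.iso, h.fix, hG.perp_perp]

theorem sub_one_sq (hG : Geom B Q τ) (h : AType B Q U f) : (f - 1) ^ 2 = 0 := by
  ext v
  exact (h.fix ▸ h.ts.le_perp (h.sub_mem hG v) : f v - v ∈ fixS f)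

theorem pow_char (hG : Geom B Q τ) (h : AType B Q U f) {p : ℕ} [hp : Fact p.Prime] [CharP F p] :
    f ^ p = 1 := pow_char_eq_one_of_nilpotent (pow_eq_zero_of_le hp.1.two_le (h.sub_one_sq hG))

theorem ne_smul (hG : Geom B Q τ) (h : AType B Q U f) (hU : 0 < finrank F U) (z : F) :
    f ≠ z • 1 := by
  rintro rfl
  obtain ⟨u, hu, h0⟩ := (Submodule.ne_bot_iff U).1 fun h => by
    rw [h, finrank_bot] at hU
    omega
  have h1 : (z • (1 : End F V)) u = u := mem_fixS.1 (h.fix ▸ h.ts.le_perp hu)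
  have h2 : z = 1 := by
    by_contra h2
    refine h0 ((smul_eq_zero.1 (show (z - 1) • u = 0 by simpa [sub_smul, sub_eq_zero] using h1)
      ).resolve_left (sub_ne_zero.2 h2))
  have h3 := h.range_eq hG
  rw [h2, one_smul, sub_self, LinearMap.range_zero] at h3
  exact h0 ((Submodule.mem_bot F).1 (h3 ▸ hu))

theorem even_map (hG : Geom B Q τ) (h : AType B Q U f) (hW : ∀ v ∈ W, f v ∈ W) (hN : ND B W) :
    Even (finrank F (W.map (f - 1))) := by
  obtain ⟨Y, h1, h2, h3⟩ := exists_disjoint_sup_eq (inf_le_left : W ⊓ fixS f ≤ W)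
  have h4 : ∀ x y, B ((f - 1) x) y = -B ((f - 1) y) x := fun x y => by
    have := h.alt (x + y)
    have h5 : ∀ v, B ((f - 1) v) v = 0 := h.alt
    change B ((f - 1) (x + y)) _ = 0 at this
    simp only [map_add, LinearMap.add_apply, h5] at this
    linear_combination this
  have h5 : ∀ y ∈ Y, (f - 1) y = 0 → y = 0 := fun y hy hy' =>
    Submodule.disjoint_def.1 h2 y ⟨h1 hy, hy'⟩ hy
  have h6 : finrank F (W.map (f - 1)) = finrank F Y := by
    rw [← h3, Submodule.map_sup, LinearMap.le_ker_iff_map.1 (inf_le_right : W ⊓ fixS f ≤ LinearMap.ker (f - 1)), bot_sup_eq]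
    rw [← LinearMap.range_domRestrict]
    exact LinearMap.finrank_range_of_inj ((injective_iff_map_eq_zero _).2 fun y hy =>
      Subtype.ext (h5 y y.2 hy))
  let β : LinearMap.BilinForm F Y := (B ∘ₗ (f - 1) ∘ₗ Y.subtype).compl₂ Y.subtype
  have h7 : ∀ y : Y, (∀ y', β y y' = 0) → y = 0 := fun y hy => by
    refine Subtype.ext (h5 y y.2 (hN _ (W.sub_mem (hW _ (h1 y.2)) (h1 y.2)) fun w hw => ?_))
    obtain ⟨a, ha, c, hc, rfl⟩ := Submodule.mem_sup.1 (h3.symm ▸ hw : w ∈ W ⊓ fixS f ⊔ Y)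
    rw [map_add, h4, (show (f - 1) a = 0 from ha.2), map_zero, LinearMap.zero_apply, neg_zero,
      zero_add]
    exact hy ⟨c, hc⟩
  rw [h6]
  exact sp_even_finrank (B := β) ⟨h7, fun y hy => h7 y fun y' => by
    have := hy y'
    change B ((f - 1) _) _ = 0 at this ⊢
    rw [h4, this, neg_zero]⟩ fun y => h.alt y

theorem hasTS_map (hG : Geom B Q τ) (h : AType B Q U f) (hW : ∀ v ∈ W, f v ∈ W) :
    HasTS B Q W (finrank F (W.map (f - 1))) :=
  ⟨W.map (f - 1), by rintro _ ⟨v, hv, rfl⟩; exact W.sub_mem (hW v hv) hv,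
    h.ts.mono (by rintro _ ⟨v, -, rfl⟩; exact h.sub_mem hG v), rfl⟩

theorem exists_hasTS (hG : Geom B Q τ) (h : AType B Q U f) (hW : ∀ v ∈ W, f v ∈ W) (hN : ND B W) :
    ∃ a b, HasTS B Q W (2 * a) ∧ HasTS B Q (perp B W) (2 * b) ∧ finrank F U ≤ 2 * a + 2 * b := by
  obtain ⟨a, ha⟩ := h.even_map hG hW hN
  obtain ⟨b, hb⟩ := h.even_map hG (hG.perp_inv h.iso hW) (hG.nd_perp hN)
  refine ⟨a, b, two_mul a ▸ ha ▸ h.hasTS_map hG hW,
    two_mul b ▸ hb ▸ h.hasTS_map hG (hG.perp_inv h.iso hW), ?_⟩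
  rw [← h.range_eq hG, LinearMap.range_eq_map, ← (hG.isCompl_perp hN).sup_eq_top, Submodule.map_sup]
  have := Submodule.finrank_sup_add_finrank_inf_eq (W.map (f - 1)) ((perp B W).map (f - 1))
  omega

end AType

theorem GeomA.symm_of_two (hG : GeomA B) (h2 : (2 : F) = 0) (x y : V) : B x y = B y x := by
  rw [← LinearMap.IsAlt.neg hG.isAlt]
  linear_combination -B y x * h2

end Cfsg.Agent.Cl.Der
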