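import Mathlib
import Cfsg.Agent.Cl.DerTwo

/-! Counting orbits of isometry groups modulo a prime. -/

set_option autoImplicit false
set_option linter.unusedSectionVars false

namespace Cfsg.Agent.Cl.Der

open Polynomial Module Cfsg.Agent.Cl.Cls

theorem card_modEq_fixed {X : Type*} [Finite X] {r : ℕ} [Fact r.Prime] (φ : X → X)
    (hφ : ∀ x, φ^[r] x = x) (P : X → Prop) (hP : ∀ x, P x → P (φ x)) :
    Nat.card {x // P x} ≡ Nat.card {x // P x ∧ φ x = x} [MOD r] := by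
  classical
  have := Fintype.ofFinite {x // P x}
  let ψ : Function.End {x // P x} := fun x => ⟨φ x, hP _ x.2⟩
  have h1 : ∀ (k : ℕ) x, ((ψ ^ k) x : X) = φ^[k] x := fun k => by
    induction k with
    | zero => exact fun _ => rfl
    | succ k ih =>
      intro x
      rw [pow_succ', Function.iterate_succ_apply', ← ih]
      rfl
  have h2 : ψ ^ r ^ 1 = 1 := funext fun x => Subtype.ext (by rw [pow_one, h1, hφ]; rfl)
  have h3 := Equiv.Perm.card_fixedPoints_modEq h2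
  rw [← Nat.card_eq_fintype_card, ← Nat.card_eq_fintype_card] at h3
  refine h3.trans (congrArg (· % r) (Nat.card_congr ?_))
  exact ⟨fun x => ⟨x.1.1, x.1.2, congrArg Subtype.val x.2⟩,
    fun x => ⟨⟨x.1, x.2.1⟩, Subtype.ext x.2.2⟩, fun _ => rfl, fun _ => rfl⟩

variable {F V A : Type*} [Field F] [AddCommGroup V] [Module F V]
  [AddCommGroup A] {σ : F →+* F} {B : V →ₛₗ[σ] V →ₗ[F] F} {Q : V → A} {τ : F →+ A} {f : End F V}
  {U W S Y Z : Submodule F V}

/-- The isometries fixing `S` pointwise. -/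
def isoFix (B : V →ₛₗ[σ] V →ₗ[F] F) (Q : V → A) (S : Submodule F V) : Subgroup (V ≃ₗ[F] V) where
  carrier := {g | Iso B Q (g : End F V) ∧ ∀ v ∈ S, g v = v}
  mul_mem' := fun {a b} ha hb => ⟨ha.1.mul hb.1, fun v hv => by
    rw [LinearEquiv.mul_apply, hb.2 v hv, ha.2 v hv]⟩
  one_mem' := ⟨iso_one, fun _ _ => rfl⟩
  inv_mem' := fun {a} ha => ⟨⟨fun x y => by
      have := ha.1.mapB (a.symm x) (a.symm y)
      simp only [LinearEquiv.coe_coe, LinearEquiv.apply_symm_apply] at this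
      exact this.symm, fun x => by
      have := ha.1.mapQ (a.symm x)
      simp only [LinearEquiv.coe_coe, LinearEquiv.apply_symm_apply] at this
      exact this.symm⟩, fun v hv => a.symm_apply_eq.2 (ha.2 v hv).symm⟩

theorem mem_isoFix {g : V ≃ₗ[F] V} :
    g ∈ isoFix B Q S ↔ Iso B Q (g : End F V) ∧ ∀ v ∈ S, g v = v := Iff.rfl

theorem mem_isoFix_bot {g : V ≃ₗ[F] V} : g ∈ isoFix B Q ⊥ ↔ Iso B Q (g : End F V) :=
  and_iff_left fun v hv => by rw [(Submodule.mem_bot F).1 hv, map_zero]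

/-- The action on the space. -/
def isoRep (B : V →ₛₗ[σ] V →ₗ[F] F) (Q : V → A) (S : Submodule F V) : isoFix B Q S →* End F V :=
  LinearEquiv.automorphismGroup.toLinearMapMonoidHom.comp (isoFix B Q S).subtype

theorem isoRep_apply (g : isoFix B Q S) : isoRep B Q S g = (g.1 : End F V) := rfl

theorem isoRep_injective : Function.Injective (isoRep B Q S) := fun _ _ h =>
  Subtype.ext (LinearEquiv.toLinearMap_injective h)

theorem map_map_end (f g : End F V) (W : Submodule F V) : (W.map g).map f = W.map (f * g) :=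
  (Submodule.map_comp _ _ _).symm

theorem map_pow_iterate (f : End F V) (k : ℕ) (W : Submodule F V) :
    (Submodule.map f)^[k] W = W.map (f ^ k) := by
  induction k with
  | zero => exact (Submodule.map_id W).symm
  | succ k ih => rw [Function.iterate_succ_apply', ih, map_map_end, pow_succ']

variable [FiniteDimensional F V]

theorem Geom.exists_isoRep (hG : Geom B Q τ) (h : Iso B Q f) (hS : ∀ v ∈ S, f v = v) :
    ∃ g, isoRep B Q S g = f :=
  ⟨⟨LinearEquiv.ofInjectiveEndo f (hG.injective h), h, hS⟩, rfl⟩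

theorem Geom.finrank_map (hG : Geom B Q τ) (h : Iso B Q f) (W : Submodule F V) :
    finrank F (W.map f) = finrank F W :=
  (LinearEquiv.finrank_eq (Submodule.equivMapOfInjective f (hG.injective h) W)).symm

theorem Geom.map_eq (hG : Geom B Q τ) (h : Iso B Q f) (hW : ∀ v ∈ W, f v ∈ W) : W.map f = W :=
  Submodule.eq_of_le_of_finrank_eq (map_le_iff.2 hW) (hG.finrank_map h W)

omit [FiniteDimensional F V] in
theorem Iso.ts_map (h : Iso B Q f) (hW : TS B Q W) : TS B Q (W.map f) := by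
  refine ⟨?_, ?_⟩
  · rintro _ ⟨u, hu, rfl⟩ _ ⟨v, hv, rfl⟩
    rw [h.mapB, hW.1 u hu v hv]
  · rintro _ ⟨u, hu, rfl⟩
    rw [h.mapQ, hW.2 u hu]

omit [FiniteDimensional F V] in
theorem Iso.nd_map (h : Iso B Q f) (hW : ND B W) : ND B (W.map f) := by
  rintro _ ⟨u, hu, rfl⟩ H
  rw [hW u hu fun v hv => (h.mapB u v).symm.trans (H _ ⟨v, hv, rfl⟩), map_zero]

omit [FiniteDimensional F V] in
theorem Iso.map_le_perp (h : Iso B Q f) (hW : W ≤ perp B U) : W.map f ≤ perp B (U.map f) := by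
  rintro _ ⟨u, hu, rfl⟩ _ ⟨v, hv, rfl⟩
  rw [h.mapB, hW hu v hv]

theorem Geom.hasTS_map (hG : Geom B Q τ) (h : Iso B Q f) {a : ℕ} (hW : HasTS B Q W a) :
    HasTS B Q (W.map f) a := by
  obtain ⟨U, h1, h2, h3⟩ := hW
  exact ⟨U.map f, Submodule.map_mono h1, h.ts_map h2, (hG.finrank_map h U).trans h3⟩

theorem Geom.exists_inv (hG : Geom B Q τ) (h : Iso B Q f) :
    ∃ g, Iso B Q g ∧ g * f = 1 ∧ f * g = 1 := by
  obtain ⟨g, rfl⟩ := hG.exists_isoRep (S := ⊥) h fun v hv => by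
    rw [(Submodule.mem_bot F).1 hv, map_zero]
  exact ⟨isoRep B Q ⊥ g⁻¹, (g⁻¹).2.1, by rw [← map_mul, inv_mul_cancel, map_one],
    by rw [← map_mul, mul_inv_cancel, map_one]⟩

theorem Geom.hasTS_map_iff (hG : Geom B Q τ) (h : Iso B Q f) {a : ℕ} :
    HasTS B Q (W.map f) a ↔ HasTS B Q W a := by
  refine ⟨fun H => ?_, hG.hasTS_map h⟩
  obtain ⟨g, h1, h2, -⟩ := hG.exists_inv h
  have := hG.hasTS_map h1 H
  rwa [map_map_end, h2, End.one_eq_id, Submodule.map_id] at this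

theorem Geom.plus_map_iff (hG : Geom B Q τ) (h : Iso B Q f) :
    Plus B Q (W.map f) ↔ Plus B Q W := by
  constructor <;> intro H
  · obtain ⟨a, ha⟩ := H.even
    rw [← two_mul] at ha
    rw [plus_iff (hG.finrank_map h W ▸ ha), ← hG.hasTS_map_iff h, ← plus_iff ha]
    exact H
  · obtain ⟨a, ha⟩ := H.even
    rw [← two_mul] at ha
    rw [plus_iff ((hG.finrank_map h W).trans ha), hG.hasTS_map_iff h, ← plus_iff ha]
    exact H

/-- Two subspaces are isometric. -/
def Isom (B : V →ₛₗ[σ] V →ₗ[F] F) (Q : V → A) (U W : Submodule F V) : Prop :=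
  ∃ e : U ≃ₗ[F] W, (∀ x y : U, B (e x) (e y) = B x y) ∧ ∀ x : U, Q (e x) = Q x

omit [FiniteDimensional F V] in
theorem isom_of_ts (hU : TS B Q U) (hW : TS B Q W) [FiniteDimensional F U]
    [FiniteDimensional F W] (h : finrank F U = finrank F W) : Isom B Q U W :=
  ⟨LinearEquiv.ofFinrankEq _ _ h, fun x y => by
    rw [hU.1 _ x.2 _ y.2, hW.1 _ (Subtype.prop _) _ (Subtype.prop _)], fun x => by
    rw [hU.2 _ x.2, hW.2 _ (Subtype.prop _)]⟩

omit [FiniteDimensional F V] in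
theorem Isom.refl (U : Submodule F V) : Isom B Q U U :=
  ⟨LinearEquiv.refl F U, fun _ _ => rfl, fun _ => rfl⟩

omit [FiniteDimensional F V] in
theorem Isom.symm (h : Isom B Q U W) : Isom B Q W U := by
  obtain ⟨e, h1, h2⟩ := h
  exact ⟨e.symm, fun x y => by rw [← h1, e.apply_symm_apply, e.apply_symm_apply],
    fun x => by rw [← h2, e.apply_symm_apply]⟩

omit [FiniteDimensional F V] in
theorem Isom.trans (h : Isom B Q U W) (h' : Isom B Q W Y) : Isom B Q U Y := by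
  obtain ⟨e, h1, h2⟩ := h
  obtain ⟨e', h1', h2'⟩ := h'
  exact ⟨e.trans e', fun x y => (h1' _ _).trans (h1 _ _), fun x => (h2' _).trans (h2 _)⟩

omit [FiniteDimensional F V] in
theorem Isom.finrank_eq (h : Isom B Q U W) : finrank F U = finrank F W :=
  h.choose.finrank_eq

omit [FiniteDimensional F V] in
theorem Geom.isom_map (hG : Geom B Q τ) (h : Iso B Q f) (W : Submodule F V) :
    Isom B Q W (W.map f) :=
  ⟨Submodule.equivMapOfInjective f (hG.injective h) W, fun x y => h.mapB x y, fun x => h.mapQ x⟩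

/-- Witt's lemma. -/
theorem Geom.exists_iso_extend (hG : Geom B Q τ) (e : U →ₗ[F] V) (he : Function.Injective e)
    (h1 : ∀ x y : U, B (e x) (e y) = B x y) (h2 : ∀ x : U, Q (e x) = Q x) :
    ∃ g, Iso B Q g ∧ ∀ x : U, g x = e x := by
  obtain ⟨f, hf⟩ := LinearMap.exists_extend e
  have hf' : ∀ x : U, f x = e x := fun x => LinearMap.congr_fun hf x
  obtain ⟨g, h3, h4, -, h5⟩ := hG.toWittData.exists_extend U f (fun x hx h => by
    rcases h with h | h
    · rw [hG.nondeg x h, map_zero]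
    · have h6 := hG.nondeg _ h
      rw [hf' ⟨x, hx⟩, map_eq_zero_iff _ he] at h6
      rw [show x = 0 from congrArg Subtype.val h6, map_zero])
    (fun x hx y hy => by rw [hf' ⟨x, hx⟩, hf' ⟨y, hy⟩, h1]) fun x hx => by rw [hf' ⟨x, hx⟩, h2]
  exact ⟨g, ⟨h3, h4⟩, fun x => (h5 x x.2).trans (hf' x)⟩

theorem Geom.exists_iso_map (hG : Geom B Q τ) (h : Isom B Q U W) :
    ∃ g, Iso B Q g ∧ U.map g = W := by
  obtain ⟨e, h1, h2⟩ := h
  obtain ⟨g, h3, h4⟩ := hG.exists_iso_extend (W.subtype ∘ₗ (e : U →ₗ[F] W))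
    (W.injective_subtype.comp e.injective) h1 h2
  refine ⟨g, h3, Submodule.eq_of_le_of_finrank_eq ?_ ((hG.finrank_map h3 U).trans e.finrank_eq)⟩
  rintro _ ⟨u, hu, rfl⟩
  exact h4 ⟨u, hu⟩ ▸ (e ⟨u, hu⟩).2

theorem Geom.isom_perp (hG : Geom B Q τ) (h : Isom B Q U W) :
    Isom B Q (perp B U) (perp B W) := by
  obtain ⟨g, h1, rfl⟩ := hG.exists_iso_map h
  have h2 : (perp B U).map g = perp B (U.map g) :=
    Submodule.eq_of_le_of_finrank_eq (h1.map_le_perp le_rfl) (by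
      have := hG.finrank_add_perp U
      have := hG.finrank_add_perp (U.map g)
      have := hG.finrank_map h1 U
      have := hG.finrank_map h1 (perp B U)
      omega)
  exact h2 ▸ hG.isom_map h1 _

theorem Geom.exists_iso_map_in (hG : Geom B Q τ) (hY : ND B Y) (hU : U ≤ Y) (hW : W ≤ Y)
    (h : Isom B Q U W) : ∃ g, Iso B Q g ∧ (∀ v ∈ perp B Y, g v = v) ∧ U.map g = W := by
  have h' : Isom (resB B Y) (resQ Q Y) (U.comap Y.subtype) (W.comap Y.subtype) := by
    obtain ⟨e, h1, h2⟩ := h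
    exact ⟨(Submodule.comapSubtypeEquivOfLe hU).trans
      (e.trans (Submodule.comapSubtypeEquivOfLe hW).symm), fun x y => h1 _ _, fun x => h2 _⟩
  obtain ⟨g, h1, h2⟩ := (hG.res hY).exists_iso_map h'
  obtain ⟨f, h3, h4, h5⟩ := hG.exists_extend_one hY h1
  refine ⟨f, h3, h5, Submodule.eq_of_le_of_finrank_eq ?_
    ((hG.finrank_map h3 U).trans h.finrank_eq)⟩
  rintro _ ⟨u, hu, rfl⟩
  have h6 : g ⟨u, hU hu⟩ ∈ W.comap Y.subtype := h2 ▸ ⟨⟨u, hU hu⟩, hu, rfl⟩
  exact h4 ⟨u, hU hu⟩ ▸ h6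

theorem Isom.hasTS (h : Isom B Q U W) (hG : Geom B Q τ) {a : ℕ} :
    HasTS B Q U a ↔ HasTS B Q W a := by
  obtain ⟨g, h1, rfl⟩ := hG.exists_iso_map h
  exact (hG.hasTS_map_iff h1).symm

theorem Isom.plus (h : Isom B Q U W) (hG : Geom B Q τ) : Plus B Q U ↔ Plus B Q W := by
  obtain ⟨g, h1, rfl⟩ := hG.exists_iso_map h
  exact (hG.plus_map_iff h1).symm

/-- An isometry assembled from isometries of the members of an orthogonal decomposition. -/
theorem Geom.exists_iso_family (hG : Geom B Q τ) {ι : Type*} [Fintype ι]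
    {D E : ι → Submodule F V} (hD : iSupIndep D) (hD' : iSup D = ⊤) (hE : iSupIndep E)
    (hE' : iSup E = ⊤) (h1 : ∀ j j', j ≠ j' → D j' ≤ perp B (D j))
    (h2 : ∀ j j', j ≠ j' → E j' ≤ perp B (E j)) (h : ∀ j, Isom B Q (D j) (E j)) :
    ∃ g, Iso B Q g ∧ ∀ j, (D j).map g = E j := by
  choose e he he' using h
  obtain ⟨g, hg, hg'⟩ := exists_equiv_map_eq hD hD' hE hE' e
  have hm : ∀ v, v ∈ iSup D := fun v => hD' ▸ Submodule.mem_top
  have hB : ∀ x y, B (g x) (g y) = B x y := by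
    intro x y
    induction hm x using Submodule.iSup_induction' with
    | zero => simp
    | add _ _ _ _ ih ih' => simp [ih, ih']
    | mem j x hx =>
      induction hm y using Submodule.iSup_induction' with
      | zero => simp
      | add _ _ _ _ ih ih' => simp [ih, ih']
      | mem j' y hy =>
        rw [hg j ⟨x, hx⟩, hg j' ⟨y, hy⟩]
        by_cases hj : j = j'
        · subst hj
          exact he j _ _
        · rw [h1 j j' hj hy x hx, h2 j j' hj (Subtype.prop _) _ (Subtype.prop _)]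
  refine ⟨g, ⟨hB, fun x => ?_⟩, hg'⟩
  induction hm x using Submodule.iSup_induction' with
  | zero => simp
  | add x y _ _ ih ih' =>
    simp only [LinearEquiv.coe_coe] at ih ih' ⊢
    rw [map_add, hG.add, hG.add, ih, ih', hB]
  | mem j x hx => exact (congrArg Q (hg j ⟨x, hx⟩)).trans (he' j _)

section Count

variable [Finite F] {r : ℕ} [hr : Fact r.Prime]

omit [FiniteDimensional F V] [Finite F] in
theorem exists_of_dvd_card_isoFix [Finite V] (h : r ∣ Nat.card (isoFix B Q S)) :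
    ∃ f, Iso B Q f ∧ (∀ v ∈ S, f v = v) ∧ f ^ r = 1 ∧ f ≠ 1 := by
  have : Finite (V ≃ₗ[F] V) := DFunLike.finite _
  obtain ⟨g, hg⟩ := exists_prime_orderOf_dvd_card' r h
  refine ⟨isoRep B Q S g, g.2.1, g.2.2, by rw [← map_pow, ← hg, pow_orderOf_eq_one, map_one],
    fun h1 => hr.1.one_lt.ne' ?_⟩
  rw [← hg, isoRep_injective (h1.trans (map_one _).symm), orderOf_one]

theorem Geom.exists_of_dvd_family (hG : Geom B Q τ) {ι : Type*}
    (P : (ι → Submodule F V) → Prop) (D : ι → Submodule F V)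
    (hP : ∀ E, P E ↔ ∃ g, Iso B Q g ∧ (∀ v ∈ S, g v = v) ∧ ∀ j, (D j).map g = E j)
    (h : r ∣ Nat.card {E // P E}) : ∃ f, Iso B Q f ∧ (∀ v ∈ S, f v = v) ∧ f ^ r = 1 ∧ f ≠ 1 := by
  have : Finite V := Module.finite_of_finite F
  rw [card_family_eq_index (isoRep B Q S) P D fun E => (hP E).trans ⟨fun ⟨g, h1, h2, h3⟩ => by
    obtain ⟨g, rfl⟩ := hG.exists_isoRep h1 h2
    exact ⟨g, h3⟩, fun ⟨g, h⟩ => ⟨_, g.2.1, g.2.2, h⟩⟩] at h
  exact exists_of_dvd_card_isoFix (h.trans (Subgroup.index_dvd_card _))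

theorem Geom.exists_of_dvd_subspace (hG : Geom B Q τ) (P : Submodule F V → Prop)
    (U : Submodule F V) (hP : ∀ W, P W ↔ ∃ g, Iso B Q g ∧ (∀ v ∈ S, g v = v) ∧ U.map g = W)
    (h : r ∣ Nat.card {W // P W}) : ∃ f, Iso B Q f ∧ (∀ v ∈ S, f v = v) ∧ f ^ r = 1 ∧ f ≠ 1 := by
  have : Finite V := Module.finite_of_finite F
  rw [card_subspace_eq_index (isoRep B Q S) P U fun E => (hP E).trans ⟨fun ⟨g, h1, h2, h3⟩ => by
    obtain ⟨g, rfl⟩ := hG.exists_isoRep h1 h2
    exact ⟨g, h3⟩, fun ⟨g, h⟩ => ⟨_, g.2.1, g.2.2, h⟩⟩] at h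
  exact exists_of_dvd_card_isoFix (h.trans (Subgroup.index_dvd_card _))

/-- If invariant members of an orbit of subspaces are always fixed pointwise and `r` divides the
size of the orbit, then there is a derangement of order `r`. -/
theorem Geom.exists_der_of_small (hG : Geom B Q τ) {p : ℕ} [Fact p.Prime] [CharP F p]
    (hrp : r ≠ p) (P : Submodule F V → Prop) (h1 : ∀ f W, Iso B Q f → P W → P (W.map f))
    (h2 : ∀ W W', P W → P W' → Isom B Q W W')
    (h3 : ∀ f W, Iso B Q f → f ^ r = 1 → P W → (∀ v ∈ W, f v ∈ W) → W ≤ fixS f)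
    (h4 : r ∣ Nat.card {W // P W}) (h5 : ∃ W, P W) :
    ∃ f, Iso B Q f ∧ f ^ r = 1 ∧ f ≠ 1 ∧ ∀ W, P W → ¬ ∀ v ∈ W, f v ∈ W := by
  have : Finite V := Module.finite_of_finite F
  have := finite_submodule (F := F) (V := V)
  obtain ⟨f, ⟨hf, hf'⟩, hmin⟩ := exists_minimalFor_of_wellFoundedLT
    (fun f : End F V => Iso B Q f ∧ f ^ r = 1) (fun f => finrank F (fixS f)) ⟨1, iso_one, one_pow _⟩
  have hN := hG.nd_fixS hf (isSemisimple_of_pow_eq_one hrp hf')
  suffices H : ∀ W, P W → ¬ ∀ v ∈ W, f v ∈ W by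
    refine ⟨f, hf, hf', ?_, H⟩
    rintro rfl
    exact H _ h5.choose_spec fun _ hv => hv
  intro W hW hW'
  have h6 := card_modEq_fixed (r := r) (Submodule.map f)
    (fun W => by rw [map_pow_iterate, hf', End.one_eq_id, Submodule.map_id]) P fun W => h1 f W hf
  obtain ⟨g, g1, g2, g3, g4⟩ := hG.exists_of_dvd_subspace (r := r) (S := perp B (fixS f))
    (fun W => P W ∧ W.map f = W) W (fun W' => ⟨fun ⟨h7, h8⟩ => hG.exists_iso_map_in hN
      (h3 f W hf hf' hW hW') (h3 f W' hf hf' h7 (map_le_iff.1 h8.le)) (h2 _ _ hW h7), by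
      rintro ⟨g, g1, g2, rfl⟩
      refine ⟨h1 g W g1 hW, hG.map_eq hf (inv_of_le_fixS ?_)⟩
      rintro _ ⟨v, hv, rfl⟩
      rw [← hG.perp_perp (fixS f)]
      exact hG.perp_inv g1 (fun v hv => by rwa [g2 v hv]) v
        (hG.le_perp_perp (h3 f W hf hf' hW hW' hv))⟩) ((h6.dvd_iff dvd_rfl).1 h4)
  have g5 : ∀ v ∈ fixS f, g v ∈ fixS f := fun v hv => by
    rw [← hG.perp_perp (fixS f)]
    exact hG.perp_inv g1 (fun v hv => by rwa [g2 v hv]) v (hG.le_perp_perp hv)
  have f5 := hG.perp_inv hf (fixS_inv f)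
  have hc := hG.isCompl_perp hN
  have hfg : ∀ u ∈ fixS f, ∀ w ∈ perp B (fixS f), (f * g) (u + w) = g u + f w := fun u hu w hw => by
    rw [End.mul_apply, map_add, map_add, g2 w hw, mem_fixS.1 (g5 u hu)]
  have hcomm : Commute f g := LinearMap.ext fun v => by
    obtain ⟨u, hu, w, hw, rfl⟩ := Submodule.mem_sup.1 (hc.sup_eq_top ▸ Submodule.mem_top (x := v))
    rw [hfg u hu w hw, End.mul_apply, map_add, map_add, mem_fixS.1 hu, g2 _ (f5 w hw)]
  have hle : fixS (f * g) ≤ fixS f ⊓ fixS g := fun v hv => by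
    obtain ⟨u, hu, w, hw, rfl⟩ := Submodule.mem_sup.1 (hc.sup_eq_top ▸ Submodule.mem_top (x := v))
    rw [mem_fixS, hfg u hu w hw] at hv
    have h7 : g u - u = w - f w := by rw [sub_eq_sub_iff_add_eq_add, hv, add_comm]
    have h8 : g u - u = 0 := Submodule.disjoint_def.1 hc.disjoint _ (sub_mem (g5 u hu) hu)
      (h7 ▸ sub_mem hw (f5 w hw))
    have h9 : w = 0 := Submodule.disjoint_def.1 hc.disjoint _
      (mem_fixS.2 (sub_eq_zero.1 (h7 ▸ h8)).symm) hw
    rw [h9, add_zero]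
    exact ⟨hu, mem_fixS.2 (sub_eq_zero.1 h8)⟩
  have h7 := hmin ⟨hf.mul g1, by rw [hcomm.mul_pow, hf', g3, one_mul]⟩
    (Submodule.finrank_mono (hle.trans inf_le_left))
  have h8 := Submodule.eq_of_le_of_finrank_le (hle.trans inf_le_left) h7
  refine g4 (LinearMap.ext fun v => ?_)
  obtain ⟨u, hu, w, hw, rfl⟩ := Submodule.mem_sup.1 (hc.sup_eq_top ▸ Submodule.mem_top (x := v))
  rw [map_add, g2 w hw, mem_fixS.1 (hle (h8 ▸ hu)).2, End.one_apply]

end Count

/-- The isometry group is transitive on pairs of complementary totally singular subspaces. -/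
theorem Geom.exists_iso_pair (hG : Geom B Q τ) (hU : TS B Q U) (hW : TS B Q W) (hc : IsCompl U W)
    (hY : TS B Q Y) (hZ : TS B Q Z) (hc' : IsCompl Y Z) :
    ∃ g, Iso B Q g ∧ U.map g = Y ∧ W.map g = Z := by
  have h1 := hG.two_mul_le_of_ts hU
  have h2 := hG.two_mul_le_of_ts hW
  have h3 := hG.two_mul_le_of_ts hY
  have h4 := hG.two_mul_le_of_ts hZ
  have h5 := Submodule.finrank_add_eq_of_isCompl hc
  have h6 := Submodule.finrank_add_eq_of_isCompl hc'
  obtain ⟨g, g1, rfl⟩ := hG.exists_iso_map (isom_of_ts hU hY (by omega))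
  obtain ⟨e, rfl⟩ := hG.exists_isoRep (S := ⊥) g1 fun v hv => by
    rw [(Submodule.mem_bot F).1 hv, map_zero]
  have hc1 : IsCompl (U.map (isoRep B Q ⊥ e)) (W.map (isoRep B Q ⊥ e)) :=
    (Submodule.orderIsoMapComap e.1).isCompl hc
  have hW1 := g1.ts_map hW
  have h7 := hG.finrank_map g1 W
  suffices H : ∃ k, Iso B Q k ∧ (U.map (isoRep B Q ⊥ e)).map k = U.map (isoRep B Q ⊥ e) ∧
      (W.map (isoRep B Q ⊥ e)).map k = Z by
    obtain ⟨k, k1, k2, k3⟩ := H
    exact ⟨k * isoRep B Q ⊥ e, k1.mul g1, by rw [← map_map_end, k2], by rw [← map_map_end, k3]⟩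
  generalize U.map (isoRep B Q ⊥ e) = Y at *
  generalize W.map (isoRep B Q ⊥ e) = T at *
  let k : End F V := Y.projection T hc1 + Z.projection Y hc'.symm
  have k1 : ∀ u ∈ Y, k u = u := fun u hu => by
    rw [LinearMap.add_apply, Submodule.projection_apply_left hc1 ⟨u, hu⟩,
      (Submodule.projection_apply_eq_zero_iff hc'.symm).2 hu, add_zero]
  have k2 : ∀ u ∈ T, k u ∈ Z ∧ u - k u ∈ Y := fun u hu => by
    rw [LinearMap.add_apply, (Submodule.projection_apply_eq_zero_iff hc1).2 hu, zero_add]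
    refine ⟨Submodule.projection_apply_mem _ _, ?_⟩
    rw [← Submodule.projection_apply_eq_zero_iff hc'.symm, map_sub,
      Submodule.projection_apply_left hc'.symm
        ⟨_, Submodule.projection_apply_mem _ _⟩, sub_self]
  have k3 : Iso B Q k := hG.iso_of_isCompl hc1.codisjoint
    (fun u hu v hv => by rw [k1 u hu, k1 v hv])
    (fun u hu v hv => by
      have := hY.1 u hu _ (k2 v hv).2
      rw [map_sub, sub_eq_zero] at this
      rw [k1 u hu, this])
    (fun u hu v hv => by rw [hW1.1 u hu v hv, hZ.1 _ (k2 u hu).1 _ (k2 v hv).1])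
    (fun u hu => by rw [k1 u hu]) fun u hu => by rw [hW1.2 u hu, hZ.2 _ (k2 u hu).1]
  refine ⟨k, k3, hG.map_eq k3 fun u hu => by rwa [k1 u hu],
    Submodule.eq_of_le_of_finrank_eq ?_ (by rw [hG.finrank_map k3]; omega)⟩
  rintro _ ⟨u, hu, rfl⟩
  exact (k2 u hu).1

theorem Geom.card_GL_dvd_stab (hG : Geom B Q τ) (hU : TS B Q U) (hW : TS B Q W)
    (hc : IsCompl U W) : Nat.card (End F U)ˣ ∣ Nat.card (famStab (isoRep B Q ⊥) ![U, W]) := by
  have h1 : ∀ g : famStab (isoRep B Q ⊥) ![U, W], ∀ v ∈ U, isoRep B Q ⊥ g.1 v ∈ U :=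
    fun g => map_le_iff.1 (g.2 0).le
  let φ : famStab (isoRep B Q ⊥) ![U, W] →* End F U :=
    { toFun := fun g => (isoRep B Q ⊥ g.1).restrict (h1 g)
      map_one' := LinearMap.ext fun _ => rfl
      map_mul' := fun _ _ => LinearMap.ext fun _ => rfl }
  refine Subgroup.card_dvd_of_surjective φ.toHomUnits fun g => ?_
  obtain ⟨f, f1, f2, f3, -⟩ := hG.exists_levi hU hW hc (g := (g : End F U))
    (LinearMap.ker_eq_bot.1 ((LinearMap.isUnit_iff_ker_eq_bot _).1 g.isUnit))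
  obtain ⟨e, rfl⟩ := hG.exists_isoRep (S := ⊥) f1 fun v hv => by
    rw [(Submodule.mem_bot F).1 hv, map_zero]
  refine ⟨⟨e, fun j => ?_⟩, Units.ext (LinearMap.ext fun u => Subtype.ext (f2 u))⟩
  fin_cases j
  · exact hG.map_eq f1 fun u hu => f2 ⟨u, hu⟩ ▸ Subtype.prop _
  · exact hG.map_eq f1 f3

theorem Geom.card_pairs_eq_index (hG : Geom B Q τ) (hU : TS B Q U) (hW : TS B Q W)
    (hc : IsCompl U W) : Nat.card {P : Submodule F V × Submodule F V //
      IsCompl P.1 P.2 ∧ TS B Q P.1 ∧ TS B Q P.2} = (famStab (isoRep B Q ⊥) ![U, W]).index := by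
  refine card_pair_eq_index _ _ U W fun E => ⟨fun ⟨h1, h2, h3⟩ => ?_, ?_⟩
  · obtain ⟨g, g1, g2⟩ := hG.exists_iso_pair hU hW hc h2 h3 h1
    obtain ⟨e, rfl⟩ := hG.exists_isoRep (S := ⊥) g1 fun v hv => by
      rw [(Submodule.mem_bot F).1 hv, map_zero]
    exact ⟨e, g2⟩
  · rintro ⟨e, h1, h2⟩
    rw [← h1, ← h2]
    exact ⟨(Submodule.orderIsoMapComap e.1).isCompl hc, e.2.1.ts_map hU, e.2.1.ts_map hW⟩

theorem card_units_end [Fintype F] :
    Nat.card (End F V)ˣ = Fintype.card F ^ (∑ i ∈ Finset.range (finrank F V), i) *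
      qfac (Fintype.card F) (finrank F V) := by
  rw [← prod_pow_sub_pow_self, ← Matrix.card_GL_field (𝔽 := F)]
  exact Nat.card_congr (Units.mapEquiv (LinearMap.toMatrixAlgEquiv
    (finBasis F V)).toMulEquiv).toEquiv

theorem Geom.index_mul_qfac_dvd [Fintype F] (hG : Geom B Q τ) (hU : TS B Q U) (hW : TS B Q W)
    (hc : IsCompl U W) : (famStab (isoRep B Q ⊥) ![U, W]).index *
      qfac (Fintype.card F) (finrank F U) ∣ Nat.card (isoFix B Q ⊥) := by
  rw [← Subgroup.index_mul_card (famStab (isoRep B Q ⊥) ![U, W])]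
  exact Nat.mul_dvd_mul_left _ ((card_units_end (F := F) (V := U) ▸ dvd_mul_left _ _).trans
    (hG.card_GL_dvd_stab hU hW hc))

end Cfsg.Agent.Cl.Der
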