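import Mathlib
import Cfsg.Agent.Cl.ClassDet
import Cfsg.Agent.Cl.DerLinCore

/-! Endomorphisms permuting the members of a direct sum decomposition. -/

set_option autoImplicit false

namespace Cfsg.Agent.Cl.Der

open Polynomial Module Cfsg.Agent.Cl.Cls

variable {F : Type*} [Field F] {V : Type*} [AddCommGroup V] [Module F V]

/-- `f` permutes a family of `t` subspaces of dimension at most `a` spanning `U`. -/
def PDon (f : End F V) (U : Submodule F V) (a t : ℕ) : Prop :=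
  ∃ (D : Fin t → Submodule F V) (σ : Equiv.Perm (Fin t)),
    (∀ j, finrank F (D j) ≤ a) ∧ iSup D = U ∧ ∀ j, ∀ v ∈ D j, f v ∈ D (σ j)

theorem PDon.of_fintype {f : End F V} {U : Submodule F V} {a t : ℕ} {ι : Type*} [Fintype ι]
    (h : Fintype.card ι = t) (D : ι → Submodule F V) (σ : Equiv.Perm ι)
    (h1 : ∀ j, finrank F (D j) ≤ a) (h2 : iSup D = U) (h3 : ∀ j, ∀ v ∈ D j, f v ∈ D (σ j)) :
    PDon f U a t := by
  let e : ι ≃ Fin t := Fintype.equivFinOfCardEq h
  refine ⟨D ∘ e.symm, e.permCongr σ, fun j => h1 _, ?_, fun j v hv => ?_⟩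
  · rw [← h2]
    exact e.symm.iSup_comp
  · simpa using h3 _ v hv

theorem PDon.zero (f : End F V) (a : ℕ) : PDon f ⊥ a 0 :=
  ⟨fun j => j.elim0, 1, fun j => j.elim0, iSup_of_empty _, fun j => j.elim0⟩

theorem PDon.single {f : End F V} {U : Submodule F V} {a : ℕ} (hU : ∀ v ∈ U, f v ∈ U)
    (h : finrank F U ≤ a) : PDon f U a 1 :=
  ⟨fun _ => U, 1, fun _ => h, iSup_const, fun _ => hU⟩

theorem PDon.sup {f : End F V} {U W : Submodule F V} {a t t' : ℕ} (h : PDon f U a t)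
    (h' : PDon f W a t') : PDon f (U ⊔ W) a (t + t') := by
  obtain ⟨D, σ, h1, h2, h3⟩ := h
  obtain ⟨E, τ, h4, h5, h6⟩ := h'
  refine PDon.of_fintype (ι := Fin t ⊕ Fin t') (by simp) (Sum.elim D E) (Equiv.sumCongr σ τ)
    ?_ ?_ ?_
  · rintro (j | j)
    exacts [h1 j, h4 j]
  · rw [iSup_sum, ← h2, ← h5]
    rfl
  · rintro (j | j)
    exacts [h3 j, h6 j]

theorem PDon.of_restrict {f : End F V} {U : Submodule F V} (hU : ∀ v ∈ U, f v ∈ U) {a t : ℕ}
    (h : PDon (f.restrict hU) ⊤ a t) : PDon f U a t := by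
  obtain ⟨D, σ, h1, h2, h3⟩ := h
  refine ⟨fun j => (D j).map U.subtype, σ, fun j => ?_, ?_, ?_⟩
  · rw [Submodule.finrank_map_subtype_eq]
    exact h1 j
  · rw [← Submodule.map_iSup, h2, Submodule.map_top, Submodule.range_subtype]
  · rintro j _ ⟨v, hv, rfl⟩
    exact ⟨_, h3 j v hv, rfl⟩

theorem PDon.of_smul {f : End F V} {U : Submodule F V} {c : F} (hc : c ≠ 0) {a t : ℕ}
    (h : PDon (c⁻¹ • f) U a t) : PDon f U a t := by
  obtain ⟨D, σ, h1, h2, h3⟩ := h
  refine ⟨D, σ, h1, h2, fun j v hv => ?_⟩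
  have := (D (σ j)).smul_mem c (h3 j v hv)
  rwa [LinearMap.smul_apply, smul_smul, mul_inv_cancel₀ hc, one_smul] at this

theorem PDon.orbit [FiniteDimensional F V] {f : End F V} {r : ℕ} (hr : 0 < r) {z : F}
    (hf : f ^ r = z • 1) (W : Submodule F V) {a : ℕ} (hW : finrank F W ≤ a) :
    PDon f (⨆ l : Fin r, W.map (f ^ (l : ℕ))) a r := by
  obtain ⟨s, rfl⟩ := Nat.exists_eq_succ_of_ne_zero hr.ne'
  refine ⟨fun l => W.map (f ^ (l : ℕ)), finRotate (s + 1),
    fun l => (Submodule.finrank_map_le _ _).trans hW, rfl, ?_⟩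
  rintro l _ ⟨v, hv, rfl⟩
  rw [← End.mul_apply, ← pow_succ']
  refine Fin.lastCases ?_ (fun l => ?_) l
  · rw [finRotate_last, Fin.val_last, hf]
    exact ⟨z • v, W.smul_mem z hv, by simp⟩
  · rw [finRotate_apply, Fin.coeSucc_eq_succ]
    exact ⟨v, hv, by simp⟩

theorem PDon.of_sim_cycPi [FiniteDimensional F V] {f : End F V} {r : ℕ} (hr : 0 < r) {z : F}
    (hf : f ^ r = z • 1) {ι : Type*} [Fintype ι] {p : ι → F[X]} (h : Sim f (cycPi p)) {a : ℕ}
    (ha : Fintype.card ι ≤ a) : PDon f ⊤ a r := by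
  classical
  obtain ⟨e, he⟩ := h.symm
  let W : Submodule F V := Submodule.span F (Set.range fun i => e (Pi.single i 1))
  have hW : finrank F W ≤ a := (finrank_range_le_card _).trans ha
  have h1 := PDon.orbit hr hf W hW
  suffices h2 : (⨆ l : Fin r, W.map (f ^ (l : ℕ))) = ⊤ from h2 ▸ h1
  have h3 : ∀ (k : ℕ), ∀ w ∈ W, (f ^ k) w ∈ ⨆ l : Fin r, W.map (f ^ (l : ℕ)) := fun k w hw => by
    rw [← Nat.mod_add_div k r, pow_add, pow_mul, hf, _root_.smul_pow, one_pow, End.mul_apply,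
      LinearMap.smul_apply, End.one_apply]
    exact Submodule.mem_iSup_of_mem (⟨k % r, Nat.mod_lt k hr⟩ : Fin r)
      ⟨_, W.smul_mem _ hw, rfl⟩
  have h4 : ∀ (b : F[X]), ∀ w ∈ W, aeval f b w ∈ ⨆ l : Fin r, W.map (f ^ (l : ℕ)) :=
    fun b w hw => by
      rw [aeval_eq_sum_range, LinearMap.sum_apply]
      exact Submodule.sum_mem _ fun k _ => Submodule.smul_mem _ _ (h3 k w hw)
  rw [eq_top_iff]
  intro v _
  obtain ⟨u, rfl⟩ := e.surjective v
  rw [← Finset.univ_sum_single u, map_sum]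
  refine Submodule.sum_mem _ fun i _ => ?_
  obtain ⟨b, hb⟩ := AdjoinRoot.mk_surjective (u i)
  have h5 : (Pi.single i (u i) : ∀ i, AdjoinRoot (p i)) = aeval (cycPi p) b (Pi.single i 1) := by
    funext k
    rw [aeval_cycPi_apply]
    by_cases hk : k = i
    · subst hk
      simp [hb]
    · simp [Pi.single_eq_of_ne hk]
  rw [h5]
  have h6 := intertwine_aeval (f := cycPi p) (g := f) e.toLinearMap he b (Pi.single i 1)
  rw [LinearEquiv.coe_coe] at h6
  rw [h6]
  exact h4 b _ (Submodule.subset_span ⟨i, rfl⟩)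

variable [FiniteDimensional F V]

theorem PDon.of_card_ed {f : End F V} {r : ℕ} (hr : 0 < r) {z : F} (hf : f ^ r = z • 1) {a : ℕ}
    (ha : Multiset.card (ed f) ≤ a) : PDon f ⊤ a r := by
  obtain ⟨t, p, -, h, h'⟩ := exists_ed_family f
  refine PDon.of_sim_cycPi hr hf h ?_
  rwa [← h', Multiset.card_map, Finset.card_val, Finset.card_univ] at ha

theorem PDon.of_ed_pair {f : End F V} {r : ℕ} (hr : 0 < r) {z : F} (hf : f ^ r = z • 1)
    {e e' : F[X]} (h : ed f = {e, e'}) (hco : IsCoprime e e') : PDon f ⊤ 1 r :=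
  PDon.of_sim_cycPi hr hf ((sim_cyc_of_ed_eq_pair h hco).trans
    (sim_cycPi_unique (fun _ : Unit => e * e')).symm) (by simp)

omit [FiniteDimensional F V] in
theorem restrict_pow_eq {f : End F V} {r : ℕ} {z : F} (hf : f ^ r = z • 1) {U : Submodule F V}
    (hU : ∀ v ∈ U, f v ∈ U) : f.restrict hU ^ r = z • 1 := by
  ext v
  rw [End.pow_restrict r hU, LinearMap.coe_restrict_apply, hf]
  rfl

/-- Gluing: a property of elementary divisors forcing a permuted decomposition is additive. -/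
theorem PDon.of_ed_eq_add {f : End F V} {s s' : Multiset F[X]} (h : ed f = s + s') {a t t' : ℕ}
    (h1 : ∀ (U : Submodule F V) (hU : ∀ v ∈ U, f v ∈ U), ed (f.restrict hU) = s → PDon f U a t)
    (h2 : ∀ (U : Submodule F V) (hU : ∀ v ∈ U, f v ∈ U), ed (f.restrict hU) = s' →
      PDon f U a t') : PDon f ⊤ a (t + t') := by
  obtain ⟨p, q, hp, hq, hc, h3, h4⟩ := exists_isCompl_of_ed_eq_add h
  exact hc.sup_eq_top ▸ (h1 p hp h3).sup (h2 q hq h4)

theorem exists_family_of_ed_eq_sum {f : End F V} {t : ℕ} {s : Fin t → Multiset F[X]}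
    (h : ed f = ∑ j, s j) :
    ∃ (D : Fin t → Submodule F V) (hD : ∀ j, ∀ v ∈ D j, f v ∈ D j),
      iSup D = ⊤ ∧ ∀ j, ed (f.restrict (hD j)) = s j := by
  induction t generalizing V with
  | zero =>
    have h0 : finrank F V = 0 := (ed_eq_zero_iff f).1 (by simpa using h)
    have := finrank_zero_iff.1 h0
    exact ⟨fun j => j.elim0, fun j => j.elim0, Subsingleton.elim _ _, fun j => j.elim0⟩
  | succ t ih =>
    rw [Fin.sum_univ_succ] at h
    obtain ⟨p, q, hp, hq, hc, h3, h4⟩ := exists_isCompl_of_ed_eq_add h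
    obtain ⟨D, hD, h5, h6⟩ := ih h4
    have hD' : ∀ j, ∀ v ∈ (D j).map q.subtype, f v ∈ (D j).map q.subtype := by
      rintro j _ ⟨v, hv, rfl⟩
      exact ⟨_, hD j v hv, rfl⟩
    refine ⟨Fin.cons p fun j => (D j).map q.subtype, fun j => Fin.cases hp hD' j, ?_,
      fun j => Fin.cases h3 (fun j => ?_) j⟩
    · rw [eq_top_iff, ← hc.sup_eq_top, sup_le_iff]
      refine ⟨le_iSup_of_le 0 le_rfl, ?_⟩
      conv_lhs => rw [← q.range_subtype, ← Submodule.map_top, ← h5, Submodule.map_iSup]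
      exact iSup_le fun j => le_iSup_of_le j.succ le_rfl
    · rw [← h6 j]
      exact (Sim.ed_eq ⟨Submodule.equivMapOfInjective _ q.injective_subtype (D j),
        fun v => rfl⟩).symm

theorem PDon.of_ed_eq_sum {f : End F V} {t : ℕ} {s : Fin t → Multiset F[X]}
    (h : ed f = ∑ j, s j) {a r : ℕ}
    (h1 : ∀ j (U : Submodule F V) (hU : ∀ v ∈ U, f v ∈ U), ed (f.restrict hU) = s j →
      PDon f U a r) : PDon f ⊤ a (t * r) := by
  obtain ⟨D, hD, h2, h3⟩ := exists_family_of_ed_eq_sum h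
  choose E σ h4 h5 h6 using fun j => h1 j (D j) (hD j) (h3 j)
  refine PDon.of_fintype (ι := Σ _ : Fin t, Fin r) (by simp) (fun x => E x.1 x.2)
    (Equiv.sigmaCongrRight σ) (fun x => h4 _ _) ?_ (fun x => h6 _ _)
  rw [iSup_sigma, ← h2]
  exact iSup_congr h5

theorem PDon.of_degs_eq_sum {f : End F V} {t a : ℕ} {ν : Fin t → Multiset ℕ}
    (h : degs f = ∑ j, ν j) (hν : ∀ j, (ν j).sum ≤ a) : PDon f ⊤ a t := by
  obtain ⟨s, hs, hs'⟩ := exists_sum_of_map_eq_sum natDegree Finset.univ h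
  have := PDon.of_ed_eq_sum hs (a := a) (r := 1) fun j U hU he =>
    PDon.single hU (by rw [← sum_degs (f.restrict hU), degs, he, hs' j (Finset.mem_univ j)]; exact hν j)
  rwa [mul_one] at this

theorem PDon.of_oneA {f : End F V} {k s i a t : ℕ} (hi : 0 < i) (h : degs f = oneA k s i)
    (hn : finrank F V = a * t) (ht : t * (a % i) ≤ k) : PDon f ⊤ a t := by
  obtain ⟨ν, h1, h2⟩ := exists_split_oneA (k := k) (s := s) hi
    (by rw [← hn, ← sum_degs f, h, sum_oneA]) ht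
  exact PDon.of_degs_eq_sum (h.trans h1.symm) fun j => (h2 j).le

/-- `w` groups of `a` elementary divisors each, every group giving an `r`-cycle of blocks. -/
theorem PDon.of_card_ed_mul {f : End F V} {r : ℕ} (hr : 0 < r) {z : F} (hf : f ^ r = z • 1)
    {a w : ℕ} (ha : Multiset.card (ed f) ≤ w * a) : PDon f ⊤ a (w * r) := by
  obtain ⟨v, hv, hs⟩ := exists_parts w a _ ha
  obtain ⟨s, h1, h2⟩ := exists_sum_of_map_eq_sum (fun _ : F[X] => ()) Finset.univ (s := ed f)
    (ν := fun j => Multiset.replicate (v j) ()) (by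
      rw [Multiset.map_const', ← hs]
      exact map_sum (Multiset.replicateAddMonoidHom ()) _ _)
  refine PDon.of_ed_eq_sum h1 fun j U hU he => PDon.of_restrict hU
    (PDon.of_card_ed hr (restrict_pow_eq hf hU) ?_)
  have := congrArg Multiset.card (h2 j (Finset.mem_univ j))
  rw [Multiset.card_map, Multiset.card_replicate] at this
  rw [he, this]
  exact hv j

theorem PDon.exists_decomp {f : End F V} (hf : IsUnit f) {a t : ℕ} (h : PDon f ⊤ a t)
    (hn : finrank F V = a * t) :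
    ∃ D : Fin t → Submodule F V, (∀ j, finrank F (D j) = a) ∧ iSupIndep D ∧ iSup D = ⊤ ∧
      ∃ σ : Equiv.Perm (Fin t), ∀ j, (D j).map f = D (σ j) := by
  obtain ⟨D, σ, h1, h2, h3⟩ := h
  have h4 : ∑ j, finrank F (D j) ≤ ∑ _j : Fin t, a := Finset.sum_le_sum fun j _ => h1 j
  have h5 := finrank_iSup_le D
  have h6 : ∑ _j : Fin t, a = a * t := by simp [mul_comm]
  rw [h2, finrank_top, hn] at h5
  have h7 : ∀ j, finrank F (D j) = a := fun j =>
    (Finset.sum_eq_sum_iff_of_le fun j _ => h1 j).1 (by omega) j (Finset.mem_univ j)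
  refine ⟨D, h7, iSupIndep_of_finrank (by rw [h2, finrank_top, hn]; omega), h2, σ, fun j => ?_⟩
  refine Submodule.eq_of_le_of_finrank_eq (Submodule.map_le_iff_le_comap.2 (h3 j)) ?_
  rw [h7, ← h7 j]
  exact (Submodule.equivMapOfInjective f
    (LinearMap.ker_eq_bot.1 ((LinearMap.isUnit_iff_ker_eq_bot f).1 hf)) (D j)).finrank_eq.symm

section Moved

variable {ι : Type*} {D : ι → Submodule F V} {f : End F V} {σ : Equiv.Perm ι}

omit [FiniteDimensional F V] in
theorem pow_mem_of_perm (h : ∀ j, ∀ v ∈ D j, f v ∈ D (σ j)) (l : ℕ) {j : ι} {v : V}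
    (hv : v ∈ D j) : (f ^ l) v ∈ D ((σ ^ l) j) := by
  induction l with
  | zero => exact hv
  | succ l ih =>
    rw [pow_succ', pow_succ', End.mul_apply, Equiv.Perm.mul_apply]
    exact h _ _ ih

omit [FiniteDimensional F V] in
theorem perm_pow_eq_one (hD : iSupIndep D) (h0 : ∀ j, D j ≠ ⊥)
    (h : ∀ j, ∀ v ∈ D j, f v ∈ D (σ j)) {r : ℕ} {z : F} (hz : z ≠ 0) (hf : f ^ r = z • 1) :
    σ ^ r = 1 := by
  ext j
  by_contra hj
  obtain ⟨v, hv, hv0⟩ := (Submodule.ne_bot_iff _).1 (h0 j)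
  have h1 := pow_mem_of_perm h r hv
  rw [hf, LinearMap.smul_apply, End.one_apply, Submodule.smul_mem_iff _ hz] at h1
  exact hv0 (Submodule.disjoint_def.1 (hD.pairwiseDisjoint hj) v h1 hv)

theorem pow_apply_ne_of_moved {r : ℕ} (hr : r.Prime) (hσ : σ ^ r = 1) {j : ι} (hj : σ j ≠ j)
    {l : ℕ} (hl : 0 < l) (hlr : l < r) : (σ ^ l) j ≠ j := fun h => by
  have := Fact.mk hr
  have h1 : Function.minimalPeriod σ j = r :=
    Function.minimalPeriod_eq_prime (by
      change σ^[r] j = j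
      rw [← Equiv.Perm.coe_pow, hσ, Equiv.Perm.one_apply]) hj
  have h2 : Function.IsPeriodicPt σ l j := by
    change σ^[l] j = j
    rwa [← Equiv.Perm.coe_pow]
  exact absurd (h1 ▸ h2.minimalPeriod_le hl) (not_le.2 hlr)

theorem pow_apply_injective_of_moved {r : ℕ} (hr : r.Prime) (hσ : σ ^ r = 1) {j : ι}
    (hj : σ j ≠ j) {l l' : ℕ} (hl : l < r) (hl' : l' < r) (h : (σ ^ l) j = (σ ^ l') j) :
    l = l' := by
  wlog hle : l ≤ l' generalizing l l'
  · exact (this hl' hl h.symm (le_of_not_ge hle)).symm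
  obtain ⟨d, rfl⟩ := Nat.exists_eq_add_of_le hle
  rw [pow_add, Equiv.Perm.mul_apply, (σ ^ l).apply_eq_iff_eq] at h
  by_contra hd
  exact pow_apply_ne_of_moved hr hσ hj (by omega) (by omega) h.symm

omit [FiniteDimensional F V] in
theorem exists_proj [DecidableEq ι] (hD : iSupIndep D) (hD' : iSup D = ⊤) :
    ∃ π : ι → End F V, ∀ i j, ∀ v ∈ D i, π j v = if i = j then v else 0 := by
  have h := (DirectSum.isInternal_submodule_iff_iSupIndep_and_iSup_eq_top D).2 ⟨hD, hD'⟩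
  refine ⟨fun j => (D j).subtype ∘ₗ DirectSum.component F ι (fun j => D j) j ∘ₗ
    (LinearEquiv.ofBijective (DirectSum.coeLinearMap D) h).symm.toLinearMap, fun i j v hv => ?_⟩
  split_ifs with hij
  · subst hij
    exact congrArg Subtype.val (h.ofBijective_coeLinearMap_of_mem hv)
  · exact congrArg Subtype.val (h.ofBijective_coeLinearMap_of_mem_ne hij hv)

omit [FiniteDimensional F V] in
/-- The orbit sum is injective on the sum of blocks in distinct orbits. -/
theorem orbit_sum_injective (hD : iSupIndep D) (hD' : iSup D = ⊤)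
    (h : ∀ j, ∀ v ∈ D j, f v ∈ D (σ j)) {r : ℕ} (hr : r.Prime) (hσ : σ ^ r = 1) (R : Finset ι)
    (hR : ∀ j ∈ R, ∀ j' ∈ R, ∀ l : ℕ, (σ ^ l) j = j' → j = j')
    (hR' : ∀ j ∈ R, σ j = j → (r : F) ≠ 0 ∧ ∀ v ∈ D j, f v = v) (d : ι → V)
    (hd : ∀ j ∈ R, d j ∈ D j) (h0 : (∑ l ∈ Finset.range r, f ^ l) (∑ j ∈ R, d j) = 0) :
    ∀ j ∈ R, d j = 0 := by
  classical
  obtain ⟨π, hπ⟩ := exists_proj hD hD'
  intro j hj
  have h1 := congrArg (π j) h0
  rw [map_zero, map_sum, map_sum, Finset.sum_eq_single j, LinearMap.sum_apply, map_sum] at h1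
  · by_cases hj' : σ j = j
    · obtain ⟨h2, h3⟩ := hR' j hj hj'
      have h4 : ∀ l : ℕ, (f ^ l) (d j) = d j := fun l => by
        induction l with
        | zero => rfl
        | succ l ih => rw [pow_succ', End.mul_apply, ih, h3 _ (hd j hj)]
      simp only [h4, hπ j j _ (hd j hj), if_true, Finset.sum_const, Finset.card_range] at h1
      rwa [← Nat.cast_smul_eq_nsmul F, smul_eq_zero_iff_right h2] at h1
    · rw [Finset.sum_eq_single 0] at h1
      · simpa [hπ j j _ (hd j hj)] using h1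
      · intro l hl hl0
        rw [hπ _ j _ (pow_mem_of_perm h l (hd j hj)), if_neg (pow_apply_ne_of_moved hr hσ hj'
          (Nat.pos_of_ne_zero hl0) (Finset.mem_range.1 hl))]
      · exact fun h0 => absurd (Finset.mem_range.2 hr.pos) h0
  · intro j' hj' hne
    rw [LinearMap.sum_apply, map_sum]
    exact Finset.sum_eq_zero fun l _ => by
      rw [hπ _ j _ (pow_mem_of_perm h l (hd j' hj')), if_neg fun e => hne (hR j' hj' j hj l e)]
  · exact fun h0 => absurd hj h0

theorem sum_finrank_le_range (hD : iSupIndep D) (hD' : iSup D = ⊤)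
    (h : ∀ j, ∀ v ∈ D j, f v ∈ D (σ j)) {r : ℕ} (hr : r.Prime) (hσ : σ ^ r = 1) (R : Finset ι)
    (hR : ∀ j ∈ R, ∀ j' ∈ R, ∀ l : ℕ, (σ ^ l) j = j' → j = j')
    (hR' : ∀ j ∈ R, σ j = j → (r : F) ≠ 0 ∧ ∀ v ∈ D j, f v = v) :
    ∑ j ∈ R, finrank F (D j) ≤
      finrank F (LinearMap.range (∑ l ∈ Finset.range r, f ^ l : End F V)) := by
  classical
  let Θ : (∀ j : R, D j) →ₗ[F] V := ∑ j : R, (D j).subtype ∘ₗ LinearMap.proj j
  rw [← Finset.sum_coe_sort R, ← finrank_pi_fintype]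
  refine LinearMap.finrank_le_finrank_of_injective
    (f := (∑ l ∈ Finset.range r, f ^ l : End F V).rangeRestrict ∘ₗ Θ) ?_
  rw [injective_iff_map_eq_zero]
  intro d hd
  have h1 := orbit_sum_injective hD hD' h hr hσ R hR hR'
    (fun j => if hj : j ∈ R then d ⟨j, hj⟩ else 0)
    (fun j hj => by rw [dif_pos hj]; exact (d ⟨j, hj⟩).2) (by
      rw [← Finset.sum_coe_sort R]
      have h2 : (∑ l ∈ Finset.range r, f ^ l : End F V) (Θ d) = 0 := congrArg Subtype.val hd
      rw [← h2]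
      congr 1
      simp [Θ])
  funext j
  have h2 := h1 j j.2
  rw [dif_pos j.2] at h2
  exact Subtype.ext h2

omit [FiniteDimensional F V] in
theorem range_geom_sum_le_ker {r : ℕ} (hf : f ^ r = 1) :
    LinearMap.range (∑ l ∈ Finset.range r, f ^ l : End F V) ≤ LinearMap.ker (f - 1) := by
  rintro _ ⟨v, rfl⟩
  rw [LinearMap.mem_ker, ← End.mul_apply, mul_geom_sum, hf, sub_self, LinearMap.zero_apply]

theorem finrank_le_range_of_moved (hD : iSupIndep D) (hD' : iSup D = ⊤)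
    (h : ∀ j, ∀ v ∈ D j, f v ∈ D (σ j)) {r : ℕ} (hr : r.Prime) (hσ : σ ^ r = 1) {j : ι}
    (hj : σ j ≠ j) :
    finrank F (D j) ≤ finrank F (LinearMap.range (∑ l ∈ Finset.range r, f ^ l : End F V)) := by
  simpa using sum_finrank_le_range hD hD' h hr hσ {j} (by simp) (by simpa using fun h => absurd h hj)

theorem finrank_le_ker_of_moved (hD : iSupIndep D) (hD' : iSup D = ⊤)
    (h : ∀ j, ∀ v ∈ D j, f v ∈ D (σ j)) {r : ℕ} (hr : r.Prime) (hσ : σ ^ r = 1) (hf : f ^ r = 1)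
    {j : ι} (hj : σ j ≠ j) : finrank F (D j) ≤ finrank F (LinearMap.ker (f - 1)) :=
  (finrank_le_range_of_moved hD hD' h hr hσ hj).trans
    (Submodule.finrank_mono (range_geom_sum_le_ker hf))

theorem finrank_mul_le_of_moved (hD : iSupIndep D) (hD' : iSup D = ⊤)
    (h : ∀ j, ∀ v ∈ D j, f v ∈ D (σ j)) {r : ℕ} (hr : r.Prime) (hσ : σ ^ r = 1)
    (hf : Function.Injective f) {j : ι} (hj : σ j ≠ j) :
    (r - 1) * finrank F (D j) + finrank F (LinearMap.ker (f - 1)) ≤ finrank F V := by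
  classical
  obtain ⟨π, hπ⟩ := exists_proj hD hD'
  let Λ : (Fin (r - 1) → D j) →ₗ[F] V :=
    ∑ l : Fin (r - 1), (f ^ ((l : ℕ) + 1) - 1) ∘ₗ (D j).subtype ∘ₗ LinearMap.proj l
  have h1 : LinearMap.range Λ ≤ LinearMap.range (f - 1) := by
    rintro _ ⟨d, rfl⟩
    simp only [Λ, LinearMap.sum_apply]
    refine Submodule.sum_mem _ fun l _ => ?_
    rw [← mul_geom_sum]
    exact ⟨_, rfl⟩
  have h2 : Function.Injective Λ := by
    rw [injective_iff_map_eq_zero]
    intro d hd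
    funext l
    have hl : ∀ l : Fin (r - 1), (l : ℕ) + 1 < r := fun l => by have := l.2; omega
    have h3 := congrArg (π ((σ ^ ((l : ℕ) + 1)) j)) hd
    have h4 : ∀ l' : Fin (r - 1), π ((σ ^ ((l : ℕ) + 1)) j) ((f ^ ((l' : ℕ) + 1) - 1) (d l')) =
        if l' = l then (f ^ ((l' : ℕ) + 1)) (d l') else 0 := fun l' => by
      rw [LinearMap.sub_apply, map_sub, hπ _ _ _ (pow_mem_of_perm h _ (d l').2), End.one_apply,
        hπ _ _ _ (d l').2, if_neg (pow_apply_ne_of_moved hr hσ hj (Nat.succ_pos _) (hl l)).symm,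
        sub_zero]
      refine if_congr ⟨fun e => Fin.ext ?_, fun e => by rw [e]⟩ rfl rfl
      exact Nat.succ_injective (pow_apply_injective_of_moved hr hσ hj (hl l') (hl l) e)
    simp only [Λ, LinearMap.sum_apply, map_sum, LinearMap.comp_apply, LinearMap.proj_apply,
      Submodule.subtype_apply, h4, Finset.sum_ite_eq', Finset.mem_univ, if_true, map_zero] at h3
    exact Subtype.ext ((End.iterate_injective hf _) (h3.trans (map_zero _).symm))
  have h3 := Submodule.finrank_mono h1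
  rw [LinearMap.finrank_range_of_inj h2, finrank_pi_fintype, Finset.sum_const, Finset.card_univ,
    Fintype.card_fin, smul_eq_mul] at h3
  have h4 := (f - 1).finrank_range_add_finrank_ker
  omega

theorem exists_orbit_reps {t : ℕ} (σ : Equiv.Perm (Fin t)) {r : ℕ} (hr : 0 < r) (hσ : σ ^ r = 1) :
    ∃ R : Finset (Fin t), (∀ j ∈ R, ∀ j' ∈ R, ∀ l : ℕ, (σ ^ l) j = j' → j = j') ∧
      t ≤ R.card * r := by
  classical
  have key : ∀ (l : ℕ) (j : Fin t), (σ ^ (l * (r - 1))) ((σ ^ l) j) = j := fun l j => by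
    rw [← Equiv.Perm.mul_apply, ← pow_add, ← Nat.mul_succ, Nat.succ_eq_add_one,
      Nat.sub_add_cancel hr, mul_comm, pow_mul, hσ, one_pow, Equiv.Perm.one_apply]
  refine ⟨Finset.univ.filter fun j => ∀ l : ℕ, j ≤ (σ ^ l) j, fun j hj j' hj' l e => ?_, ?_⟩
  · rw [Finset.mem_filter] at hj hj'
    exact le_antisymm (e ▸ hj.2 l) (by have := hj'.2 (l * (r - 1)); rwa [← e, key, e] at this)
  · have h1 : (Finset.univ : Finset (Fin t)) ⊆
        ((Finset.univ.filter fun j => ∀ l : ℕ, j ≤ (σ ^ l) j) ×ˢ Finset.range r).image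
          fun x => (σ ^ x.2) x.1 := fun j _ => by
      obtain ⟨_, ⟨l, rfl⟩, hl⟩ := (wellFounded_lt (α := Fin t)).has_min
        (Set.range fun l : ℕ => (σ ^ l) j) ⟨_, 0, rfl⟩
      refine Finset.mem_image.2 ⟨((σ ^ l) j, l * (r - 1) % r), Finset.mem_product.2
        ⟨Finset.mem_filter.2 ⟨Finset.mem_univ _, fun l' => not_lt.1 (hl _ ⟨l' + l, ?_⟩)⟩,
          Finset.mem_range.2 (Nat.mod_lt _ hr)⟩, ?_⟩
      · simp only [pow_add, Equiv.Perm.mul_apply]
      · rw [← pow_eq_pow_mod _ hσ, key]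
    have h2 := (Finset.card_le_card h1).trans Finset.card_image_le
    rwa [Finset.card_univ, Fintype.card_fin, Finset.card_product, Finset.card_range] at h2

end Moved

section CardGL

variable [Fintype F] {r : ℕ} [hr : Fact r.Prime] {p : ℕ} [hp : Fact p.Prime] [CharP F p]

theorem orderOf_le_of_dvd_card_GL (hrp : r ≠ p) {n : ℕ} (h : r ∣ Nat.card (GL (Fin n) F)) :
    orderOf ((Fintype.card F : ℕ) : ZMod r) ≤ n := by
  rw [Matrix.card_GL_field, prod_pow_sub_pow_self, hr.1.dvd_mul] at h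
  rcases h with h | h
  · exact absurd ((dvd_card_iff (F := F)).1 (hr.1.dvd_of_dvd_pow h)) hrp
  · exact (dvd_qfac_iff Fintype.card_pos (natCast_ne_zero_of_card hrp) n).1 h

theorem orderOf_le_of_dvd_card_SL (hrp : r ≠ p) {n : ℕ}
    (h : r ∣ Nat.card (Matrix.SpecialLinearGroup (Fin n) F)) :
    orderOf ((Fintype.card F : ℕ) : ZMod r) ≤ n :=
  orderOf_le_of_dvd_card_GL hrp (h.trans (Subgroup.card_dvd_of_injective
    Matrix.SpecialLinearGroup.toGL Matrix.SpecialLinearGroup.toGL_injective))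

end CardGL

end Cfsg.Agent.Cl.Der
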