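import Mathlib
import Cfsg.Agent.Cl.DerGCount
import Cfsg.Agent.Cl.DerPerm

/-! Isometries permuting the members of an orthogonal decomposition. -/

set_option autoImplicit false
set_option linter.unusedSectionVars false

namespace Cfsg.Agent.Cl.Der

open Polynomial Module Cfsg.Agent.Cl.Cls

variable {F V A : Type*} [Field F] [AddCommGroup V] [Module F V] [FiniteDimensional F V]
  [AddCommGroup A] {τ : F →+ A} {f : End F V} {U W S Y Z : Submodule F V}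

section General

variable {σ : F →+* F} {B : V →ₛₗ[σ] V →ₗ[F] F} {Q : V → A}

/-- `f` permutes a family of `t` mutually orthogonal subspaces of dimension `a` spanning `U`. -/
def OPD (B : V →ₛₗ[σ] V →ₗ[F] F) (f : End F V) (U : Submodule F V) (a t : ℕ) : Prop :=
  ∃ (D : Fin t → Submodule F V) (π : Equiv.Perm (Fin t)), (∀ j, finrank F (D j) = a) ∧
    (∀ j j', j ≠ j' → D j' ≤ perp B (D j)) ∧ iSup D = U ∧ ∀ j, ∀ v ∈ D j, f v ∈ D (π j)

theorem OPD.of_fintype {a t : ℕ} {ι : Type*} [Fintype ι]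
    (h : Fintype.card ι = t) (D : ι → Submodule F V) (π : Equiv.Perm ι)
    (h1 : ∀ j, finrank F (D j) = a) (h4 : ∀ j j', j ≠ j' → D j' ≤ perp B (D j)) (h2 : iSup D = U)
    (h3 : ∀ j, ∀ v ∈ D j, f v ∈ D (π j)) : OPD B f U a t := by
  let e : ι ≃ Fin t := Fintype.equivFinOfCardEq h
  refine ⟨D ∘ e.symm, e.permCongr π, fun j => h1 _, fun j j' hj => h4 _ _ (e.symm.injective.ne hj),
    ?_, fun j v hv => ?_⟩
  · rw [← h2]
    exact e.symm.iSup_comp
  · simpa using h3 _ v hv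

theorem OPD.zero (f : End F V) (a : ℕ) : OPD B f ⊥ a 0 :=
  ⟨fun j => j.elim0, 1, fun j => j.elim0, fun j => j.elim0, iSup_of_empty _, fun j => j.elim0⟩

theorem OPD.single {a : ℕ} (hU : ∀ v ∈ U, f v ∈ U) (h : finrank F U = a) : OPD B f U a 1 :=
  ⟨fun _ => U, 1, fun _ => h, fun _ _ h => absurd (Subsingleton.elim _ _) h, iSup_const,
    fun _ => hU⟩

theorem Geom.opd_sup (hG : Geom B Q τ) {a t t' : ℕ} (h : OPD B f U a t) (h' : OPD B f W a t')
    (hW : W ≤ perp B U) : OPD B f (U ⊔ W) a (t + t') := by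
  obtain ⟨D, π, h1, h7, h2, h3⟩ := h
  obtain ⟨E, ρ, h4, h8, h5, h6⟩ := h'
  have h9 : ∀ j j', E j' ≤ perp B (D j) := fun j j' =>
    ((le_iSup E j').trans (h5 ▸ hW)).trans (perp_anti (h2 ▸ le_iSup D j))
  refine OPD.of_fintype (ι := Fin t ⊕ Fin t') (by simp) (Sum.elim D E) (Equiv.sumCongr π ρ)
    ?_ ?_ ?_ ?_
  · rintro (j | j)
    exacts [h1 j, h4 j]
  · rintro (j | j) (j' | j') hj
    exacts [h7 j j' fun h => hj (h ▸ rfl), h9 j j', hG.le_perp_comm.1 (h9 j' j),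
      h8 j j' fun h => hj (h ▸ rfl)]
  · rw [iSup_sum, ← h2, ← h5]
    rfl
  · rintro (j | j)
    exacts [h3 j, h6 j]

theorem Geom.opd_swap (hG : Geom B Q τ) (h : Iso B Q f) (h1 : ∀ v ∈ U, f (f v) ∈ U)
    (h2 : U.map f ≤ perp B U) : OPD B f (U ⊔ U.map f) (finrank F U) 2 := by
  refine OPD.of_fintype (ι := Bool) (by simp) (fun b => cond b U (U.map f)) Equiv.boolNot
    ?_ ?_ ?_ ?_
  · rintro (_ | _)
    exacts [hG.finrank_map h U, rfl]
  · rintro (_ | _) (_ | _) hj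
    exacts [absurd rfl hj, hG.le_perp_comm.1 h2, h2, absurd rfl hj]
  · rw [iSup_bool_eq]
    rfl
  · rintro (_ | _)
    · rintro _ ⟨v, hv, rfl⟩
      exact h1 v hv
    · exact fun v hv => ⟨v, hv, rfl⟩

theorem Geom.opd_of_step (hG : Geom B Q τ) (h : Iso B Q f) {a : ℕ} (P : Submodule F V → ℕ → Prop)
    (H : ∀ W t, (∀ v ∈ W, f v ∈ W) → ND B W → finrank F W = t * a → 0 < t → P W t →
      ∃ Y s, Y ≤ W ∧ (∀ v ∈ Y, f v ∈ Y) ∧ ND B Y ∧ 0 < s ∧ s ≤ t ∧ finrank F Y = s * a ∧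
        OPD B f Y a s ∧ P (perp B Y ⊓ W) (t - s)) (t : ℕ) :
    ∀ W, (∀ v ∈ W, f v ∈ W) → ND B W → finrank F W = t * a → P W t → OPD B f W a t := by
  induction t using Nat.strong_induction_on with
  | _ t ih =>
    intro W h1 h2 h3 h4
    rcases Nat.eq_zero_or_pos t with rfl | ht
    · rw [zero_mul, Submodule.finrank_eq_zero] at h3
      exact h3 ▸ OPD.zero f a
    obtain ⟨Y, s, y1, y2, y3, y4, y5, y6, y7, y8⟩ := H W t h1 h2 h3 ht h4
    have h5 := hG.finrank_add_perp_inf h2 y1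
    have h6 := hG.opd_sup y7 (ih (t - s) (by omega) _ (inf_inv (hG.perp_inv h y2) h1)
      (hG.nd_perp_inf h2 y3 y1) (by rw [Nat.sub_mul]; omega) y8) inf_le_left
    rwa [hG.sup_perp_inf h2 y3 y1, Nat.add_sub_cancel' y5] at h6

theorem Geom.opd_of_forall (hG : Geom B Q τ) (h : Iso B Q f) {a t : ℕ}
    (H : ∀ W, (∀ v ∈ W, f v ∈ W) → ND B W → a ≤ finrank F W →
      ∃ Y, Y ≤ W ∧ (∀ v ∈ Y, f v ∈ Y) ∧ ND B Y ∧ finrank F Y = a) (hV : finrank F V = a * t) :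
    OPD B f ⊤ a t :=
  hG.opd_of_step h (fun _ _ => True) (fun W t h1 h2 h3 h4 _ => by
    obtain ⟨Y, y1, y2, y3, y4⟩ := H W h1 h2 (h3 ▸ Nat.le_mul_of_pos_left a h4)
    exact ⟨Y, 1, y1, y2, y3, one_pos, h4, by omega, OPD.single y2 y4, trivial⟩) t ⊤
    (fun _ _ => trivial) hG.nd_top (by rw [finrank_top, hV, mul_comm]) trivial

theorem Geom.nd_of_family (hG : Geom B Q τ) {ι : Type*} {D : ι → Submodule F V}
    (h1 : ∀ j j', j ≠ j' → D j' ≤ perp B (D j)) (h2 : iSup D = ⊤) (j : ι) : ND B (D j) := by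
  intro u hu H
  refine hG.nondeg u fun v => ?_
  induction (h2 ▸ Submodule.mem_top : v ∈ iSup D) using Submodule.iSup_induction' with
  | zero => simp
  | add _ _ _ _ ih ih' => simp [ih, ih']
  | mem j' v hv =>
    by_cases hj : j = j'
    · exact H v (hj ▸ hv)
    · exact h1 j j' hj hv u hu

theorem Geom.exists_of_opd (hG : Geom B Q τ) (h : Iso B Q f) {a t : ℕ} (H : OPD B f ⊤ a t)
    (hV : finrank F V = a * t) : ∃ D : Fin t → Submodule F V, (∀ j, finrank F (D j) = a) ∧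
      iSupIndep D ∧ iSup D = ⊤ ∧ (∀ j, ND B (D j)) ∧ (∀ j j', j ≠ j' → D j' ≤ perp B (D j)) ∧
      ∃ π : Equiv.Perm (Fin t), ∀ j, (D j).map f = D (π j) := by
  obtain ⟨D, π, h1, h2, h3, h4⟩ := H
  refine ⟨D, h1, iSupIndep_of_finrank (by rw [h3]; simp [h1, hV, mul_comm]), h3, hG.nd_of_family h2 h3,
    h2, π, fun j => Submodule.eq_of_le_of_finrank_eq ?_ (by rw [hG.finrank_map h, h1, h1])⟩
  rintro _ ⟨v, hv, rfl⟩
  exact h4 j v hv

theorem sum_finrank_inf_le {ι : Type*} [Fintype ι] {D : ι → Submodule F V} (h : iSupIndep D)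
    (U : Submodule F V) : ∑ j, finrank F ↥(D j ⊓ U) ≤ finrank F U := by
  rw [← finrank_iSup_eq (h.mono fun j => inf_le_left)]
  exact Submodule.finrank_mono (iSup_le fun _ => inf_le_right)

/-- `W` is the sum of two totally singular subspaces, fixed (`b = true`) or interchanged. -/
def TSPair (B : V →ₛₗ[σ] V →ₗ[F] F) (Q : V → A) (f : End F V) (W : Submodule F V) (b : Bool) :
    Prop :=
  ∃ U U', TS B Q U ∧ TS B Q U' ∧ U ⊔ U' = W ∧ (∀ v ∈ U, f v ∈ cond b U U') ∧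
    ∀ v ∈ U', f v ∈ cond b U' U

theorem Geom.tsPair_bot (hG : Geom B Q τ) (f : End F V) (b : Bool) : TSPair B Q f ⊥ b :=
  ⟨⊥, ⊥, hG.ts_bot, hG.ts_bot, sup_idem _, by cases b <;> simp, by cases b <;> simp⟩

theorem Geom.tsPair_sup (hG : Geom B Q τ) {b : Bool} (h : TSPair B Q f U b)
    (h' : TSPair B Q f W b) (hW : W ≤ perp B U) : TSPair B Q f (U ⊔ W) b := by
  obtain ⟨U₁, U₂, h1, h2, rfl, h3, h4⟩ := h
  obtain ⟨W₁, W₂, h5, h6, rfl, h7, h8⟩ := h'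
  refine ⟨U₁ ⊔ W₁, U₂ ⊔ W₂, hG.ts_sup h1 h5 ((le_sup_left.trans hW).trans (perp_anti le_sup_left)),
    hG.ts_sup h2 h6 ((le_sup_right.trans hW).trans (perp_anti le_sup_right)),
    sup_sup_sup_comm _ _ _ _, fun v hv => ?_, fun v hv => ?_⟩
  · obtain ⟨u, hu, w, hw, rfl⟩ := Submodule.mem_sup.1 hv
    cases b
    all_goals exact map_add f u w ▸ Submodule.add_mem_sup (h3 u hu) (h7 w hw)
  · obtain ⟨u, hu, w, hw, rfl⟩ := Submodule.mem_sup.1 hv
    cases b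
    all_goals exact map_add f u w ▸ Submodule.add_mem_sup (h4 u hu) (h8 w hw)

theorem Geom.tsPair_of_plus (hG : Geom B Q τ) (hW : ND B W) (hP : Plus B Q W) {c : F}
    (h : ∀ v ∈ W, f v = c • v) : TSPair B Q f W true := by
  obtain ⟨U, h1, h2, h3⟩ := hP
  obtain ⟨U', h4, h5, h6, h7, -⟩ := hG.exists_ts_partner hW h2 h1
  exact ⟨U, U', h2, h5, Submodule.eq_of_le_of_finrank_eq (sup_le h1 h4)
    (by rw [finrank_sup_of_disjoint h7]; omega),
    fun v hv => h v (h1 hv) ▸ U.smul_mem c hv, fun v hv => h v (h4 hv) ▸ U'.smul_mem c hv⟩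

theorem Geom.isCompl_of_ts (hG : Geom B Q τ) (hU : TS B Q U) (hW : TS B Q W) (h : U ⊔ W = ⊤) :
    IsCompl U W := by
  refine ⟨disjoint_iff.2 (Submodule.finrank_eq_zero.1 ?_), codisjoint_iff.2 h⟩
  have h1 := hG.two_mul_le_of_ts hU
  have h2 := hG.two_mul_le_of_ts hW
  have h3 := Submodule.finrank_sup_add_finrank_inf_eq U W
  rw [h, finrank_top] at h3
  omega

theorem Geom.exists_of_tsPair (hG : Geom B Q τ) (h : Iso B Q f) {b : Bool}
    (H : TSPair B Q f ⊤ b) : ∃ U W : Submodule F V, IsCompl U W ∧ TS B Q U ∧ TS B Q W ∧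
      ((U.map f = U ∧ W.map f = W) ∨ (U.map f = W ∧ W.map f = U)) := by
  obtain ⟨U, W, h1, h2, h3, h4, h5⟩ := H
  refine ⟨U, W, hG.isCompl_of_ts h1 h2 h3, h1, h2, ?_⟩
  cases b
  · have h6 : U.map f ≤ W := Submodule.map_le_iff_le_comap.2 h4
    have h7 : W.map f ≤ U := Submodule.map_le_iff_le_comap.2 h5
    have := Submodule.finrank_mono h6
    have := Submodule.finrank_mono h7
    have := hG.finrank_map h U
    have := hG.finrank_map h W
    exact Or.inr ⟨Submodule.eq_of_le_of_finrank_eq h6 (by omega),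
      Submodule.eq_of_le_of_finrank_eq h7 (by omega)⟩
  · exact Or.inl ⟨hG.map_eq h h4, hG.map_eq h h5⟩

theorem Geom.tsPair_of_step (hG : Geom B Q τ) (h : Iso B Q f) {b : Bool}
    (H : ∀ W, (∀ v ∈ W, f v ∈ W) → ND B W → W ≠ ⊥ →
      ∃ Y, Y ≤ W ∧ (∀ v ∈ Y, f v ∈ Y) ∧ ND B Y ∧ Y ≠ ⊥ ∧ TSPair B Q f Y b) (n : ℕ) :
    ∀ W, (∀ v ∈ W, f v ∈ W) → ND B W → finrank F W ≤ n → TSPair B Q f W b := by
  induction n with
  | zero =>
    intro W _ _ h3
    rw [Nat.le_zero, Submodule.finrank_eq_zero] at h3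
    exact h3 ▸ hG.tsPair_bot f b
  | succ n ih =>
    intro W h1 h2 h3
    by_cases h0 : W = ⊥
    · exact h0 ▸ hG.tsPair_bot f b
    obtain ⟨Y, y1, y2, y3, y4, y5⟩ := H W h1 h2 h0
    have h5 := hG.finrank_add_perp_inf h2 y1
    have h6 := Submodule.finrank_eq_zero.not.2 y4
    have h7 := hG.tsPair_sup y5 (ih _ (inf_inv (hG.perp_inv h y2) h1)
      (hG.nd_perp_inf h2 y3 y1) (by omega)) inf_le_left
    rwa [hG.sup_perp_inf h2 y3 y1] at h7

theorem map_pow_of_swap (h1 : U.map f = W) (h2 : W.map f = U) {k : ℕ} (hk : Odd k) :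
    U.map (f ^ k) = W := by
  obtain ⟨k, rfl⟩ := hk
  induction k with
  | zero => simpa using h1
  | succ k ih =>
    rw [show 2 * (k + 1) + 1 = 1 + 1 + (2 * k + 1) by ring, pow_add, ← map_map_end, ih, pow_add,
      pow_one, ← map_map_end, h2, h1]

variable {r : ℕ} [hr : Fact r.Prime] [Fintype F] {p : ℕ} [hp : Fact p.Prime] [CharP F p]

theorem Geom.le_fixS_of_inf (hG : Geom B Q τ) (h : Iso B Q f) (hs : f.IsSemisimple)
    (hW : ∀ v ∈ W, f v ∈ W) (h0 : finrank F ↥(W ⊓ perp B (fixS f)) = 0) : W ≤ fixS f := by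
  have h1 := hG.sup_fixS h hs hW
  rw [Submodule.finrank_eq_zero.1 h0, sup_bot_eq] at h1
  exact h1 ▸ inf_le_right

theorem Geom.dvd_finrank (hG : Geom B Q τ) (h : Iso B Q f) (hrp : r ≠ p) (hf : f ^ r = 1)
    (hY : ∀ v ∈ Y, f v ∈ Y) (hle : Y ≤ perp B (fixS f)) :
    orderOf ((Fintype.card F : ℕ) : ZMod r) ∣ finrank F Y := by
  rw [finrank_eq_sum_ed hY, sum_natDegree_of_cycF hrp fun e => hG.mem_cycF_of_le h hrp hf hY hle]
  exact dvd_mul_left _ _

theorem Geom.le_fixS_of_lt (hG : Geom B Q τ) (h : Iso B Q f) (hrp : r ≠ p) (hf : f ^ r = 1)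
    (hW : ∀ v ∈ W, f v ∈ W) (hlt : finrank F W < orderOf ((Fintype.card F : ℕ) : ZMod r)) :
    W ≤ fixS f :=
  hG.le_fixS_of_inf h (isSemisimple_of_pow_eq_one hrp hf) hW (Nat.eq_zero_of_dvd_of_lt
    (hG.dvd_finrank h hrp hf (inf_inv hW (hG.perp_inv h (fixS_inv f))) inf_le_right)
    ((Submodule.finrank_mono inf_le_left).trans_lt hlt))

end General

variable {B : V →ₛₗ[RingHom.id F] V →ₗ[F] F} {Q : V → A}

theorem GeomA.isom (hG : GeomA B) (hU : ND B U) (hW : ND B W) (h : finrank F U = finrank F W) :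
    Isom B (fun _ => (0 : F)) U W := by
  obtain ⟨e, he⟩ := sp_exists_isometry (GeomA.nondegenerate (hG.res hU)) (GeomA.isAlt (hG.res hU))
    (GeomA.nondegenerate (hG.res hW)) (GeomA.isAlt (hG.res hW)) h
  exact ⟨e, he, fun _ => rfl⟩

theorem GeomA.tsPair_of_sq_eq_neg_one (hG : GeomA B) (h2 : (2 : F) ≠ 0) (h : IsoA B f)
    (hf : f ^ 2 = -1) : TSPair B (fun _ => (0 : F)) f ⊤ false := by
  refine hG.tsPair_of_step h (fun W h1 h3 h4 => ?_) _ ⊤ (fun _ _ => trivial) hG.nd_top le_rfl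
  obtain ⟨v, hv, h5⟩ : ∃ v ∈ W, B v (f v) ≠ 0 := by
    by_contra! H
    refine h4 (eq_bot_iff.2 fun u hu => h3 u hu fun v hv => ?_)
    obtain ⟨v, hv', rfl⟩ := hG.surj_on h h1 hv
    have h6 := H _ (W.add_mem hu hv')
    have h7 : B v (f u) = B u (f v) := by
      rw [← h.mapB v, apply_apply_of_sq_eq_neg_one hf, map_neg, LinearMap.IsAlt.neg hG.isAlt]
    simp only [map_add, LinearMap.add_apply, H u hu, H v hv', h7, zero_add, add_zero] at h6
    rwa [← two_mul, mul_eq_zero, or_iff_right h2] at h6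
  obtain ⟨h6, -, h7⟩ := hG.hyp_plane (u := v) (w := f v) rfl rfl h5
  have h8 : ∀ u ∈ F ∙ v, f u ∈ F ∙ f v := fun u hu => by
    obtain ⟨c, rfl⟩ := Submodule.mem_span_singleton.1 hu
    exact Submodule.mem_span_singleton.2 ⟨c, (map_smul f c v).symm⟩
  have h9 : ∀ u ∈ F ∙ f v, f u ∈ F ∙ v := fun u hu => by
    obtain ⟨c, rfl⟩ := Submodule.mem_span_singleton.1 hu
    exact Submodule.mem_span_singleton.2 ⟨-c, by
      rw [map_smul, apply_apply_of_sq_eq_neg_one hf, neg_smul, smul_neg]⟩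
  refine ⟨_, sup_le ((Submodule.span_singleton_le_iff_mem _ _).2 hv)
    ((Submodule.span_singleton_le_iff_mem _ _).2 (h1 v hv)), fun u hu => ?_, h6,
    fun h0 => by rw [h0, finrank_bot] at h7; omega,
    _, _, hG.ts_span_singleton rfl, hG.ts_span_singleton rfl, rfl, h8, h9⟩
  obtain ⟨a, ha, b, hb, rfl⟩ := Submodule.mem_sup.1 hu
  rw [map_add, add_comm]
  exact Submodule.add_mem_sup (h9 b hb) (h8 a ha)

theorem GeomA.card_isoFix [Finite F] (hG : GeomA B) {d : ℕ} (hd : finrank F V = 2 * d) :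
    Nat.card (isoFix B (fun _ => (0 : F)) ⊥) =
      Nat.card F ^ (d ^ 2) * ∏ i ∈ Finset.range d, (Nat.card F ^ (2 * (i + 1)) - 1) := by
  rw [← sp_card hG.nondegenerate hG.isAlt hd]
  congr 2
  ext g
  exact mem_isoFix_bot.trans ⟨fun h => h.mapB, fun h => ⟨h, fun _ => rfl⟩⟩

/-- Involutions in characteristic two without invariant planes. -/
theorem GeomA.exists_swap (hG : GeomA B) (h2 : (2 : F) = 0) (h : IsoA B f) (hf : f ^ 2 = 1)
    (hW : ∀ v ∈ W, f v ∈ W) (hN : ND B W)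
    (H : ∀ P, P ≤ W → (∀ v ∈ P, f v ∈ P) → ND B P → finrank F P ≠ 2) (b : ℕ)
    (hb : 4 * b ≤ finrank F W) :
    ∃ Y, Y ≤ W ∧ ND B Y ∧ finrank F Y = 2 * b ∧ Y.map f ≤ perp B Y := by
  have hff := apply_apply_of_sq_eq_one hf
  have hinv : ∀ Y : Submodule F V, ∀ v ∈ Y ⊔ Y.map f, f v ∈ Y ⊔ Y.map f := fun Y v hv => by
    obtain ⟨a, ha, _, ⟨c, hc, rfl⟩, rfl⟩ := Submodule.mem_sup.1 hv
    rw [map_add, hff, add_comm]
    exact Submodule.add_mem_sup hc ⟨a, ha, rfl⟩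
  have hsp : ∀ u w, f u ∈ (F ∙ u) ⊔ (F ∙ w) → f w ∈ (F ∙ u) ⊔ (F ∙ w) →
      ∀ v ∈ (F ∙ u) ⊔ (F ∙ w), f v ∈ (F ∙ u) ⊔ (F ∙ w) := fun u w hu hw v hv => by
    obtain ⟨_, ha, _, hc, rfl⟩ := Submodule.mem_sup.1 hv
    obtain ⟨a, rfl⟩ := Submodule.mem_span_singleton.1 ha
    obtain ⟨c, rfl⟩ := Submodule.mem_span_singleton.1 hc
    rw [map_add, map_smul, map_smul]
    exact add_mem (Submodule.smul_mem _ _ hu) (Submodule.smul_mem _ _ hw)
  have hle : ∀ u ∈ W, ∀ w ∈ W, (F ∙ u) ⊔ (F ∙ w) ≤ W := fun u hu w hw =>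
    sup_le ((Submodule.span_singleton_le_iff_mem _ _).2 hu)
      ((Submodule.span_singleton_le_iff_mem _ _).2 hw)
  have hl : ∀ u w : V, u ∈ (F ∙ u) ⊔ (F ∙ w) := fun u w =>
    Submodule.mem_sup_left (Submodule.mem_span_singleton_self u)
  have hr : ∀ u w : V, w ∈ (F ∙ u) ⊔ (F ∙ w) := fun u w =>
    Submodule.mem_sup_right (Submodule.mem_span_singleton_self w)
  have h1 : ∀ v ∈ W, B v (f v) = 0 := fun v hv => by
    by_contra h0
    obtain ⟨h3, -, h4⟩ := hG.hyp_plane (u := v) (w := f v) rfl rfl h0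
    exact H _ (hle _ hv _ (hW v hv)) (hsp _ _ (hr _ _) ((hff v).symm ▸ hl _ _)) h3 h4
  induction b with
  | zero => exact ⟨⊥, bot_le, nd_bot, by simp, by simp⟩
  | succ b ih =>
    obtain ⟨Y, y1, y2, y3, y4⟩ := ih (by omega)
    have y5 : Y ⊔ Y.map f ≤ W := sup_le y1 (Submodule.map_le_iff_le_comap.2 fun v hv => hW v (y1 hv))
    have y6 := hG.nd_sup y2 (h.nd_map y2) y4
    have y7 := hG.finrank_add_perp_inf hN y5
    rw [hG.finrank_sup_of_le_perp y2 y4, hG.finrank_map h, y3] at y7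
    have t1 := hG.nd_perp_inf hN y6 y5
    have t2 := inf_inv (hG.perp_inv h (hinv Y)) hW
    have t3 : perp B (Y ⊔ Y.map f) ⊓ W ≤ W := inf_le_right
    have t4 : perp B (Y ⊔ Y.map f) ⊓ W ≤ perp B (Y ⊔ Y.map f) := inf_le_left
    generalize perp B (Y ⊔ Y.map f) ⊓ W = T at y7 t1 t2 t3 t4
    obtain ⟨u, hu, hu'⟩ : ∃ u ∈ T, f u ≠ u := by
      by_contra! H1
      obtain ⟨P, p1, p2, p3⟩ := hG.exists_nd t1 even_two (by omega)
      exact H P (p1.trans t3) (fun v hv => (H1 v (p1 hv)).symm ▸ hv) p2 p3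
    obtain ⟨v, hv, hv1, hv2⟩ : ∃ v ∈ T, B u v ≠ 0 ∧ B (f u) v = 0 := by
      by_contra! H1
      obtain ⟨w, hw, hw'⟩ := nd_iff_ne.1 t1 _ (T.sub_mem (t2 u hu) hu) (sub_ne_zero.2 hu')
      have h3 : ∀ v ∈ T, B u v ≠ 0 → B (f u) v = B u v := fun v hv h0 => by
        have h4 : ∀ x ∈ T, B u x = 0 → B (f u) x = 0 := fun x hx h5 => by
          by_contra h6
          refine H1 (v - (B (f u) v / B (f u) x) • x) (T.sub_mem hv (T.smul_mem _ hx)) ?_ ?_
          · simpa [h5] using h0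
          · simp [div_mul_cancel₀ _ h6]
        have h5 := h4 (f v - (B (f u) v / B u v) • v) (T.sub_mem (t2 v hv) (T.smul_mem _ hv)) (by
          rw [map_sub, map_smul, smul_eq_mul, div_mul_cancel₀ _ h0, ← h.mapB u, hff, sub_self])
        rw [map_sub, map_smul, smul_eq_mul, h.mapB, sub_eq_zero, eq_comm, div_mul_eq_mul_div,
          div_eq_iff h0, mul_self_eq_mul_self_iff] at h5
        rcases h5 with h5 | h5
        · exact h5
        · rw [h5, neg_eq_iff_add_eq_zero, ← two_mul, h2, zero_mul]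
      rw [map_sub, LinearMap.sub_apply, sub_ne_zero] at hw'
      by_cases h0 : B u w = 0
      · obtain ⟨x, hx, hx'⟩ := nd_iff_ne.1 t1 u hu (by rintro rfl; exact hu' (map_zero f))
        have h4 := h3 (x + w) (T.add_mem hx hw) (by simpa [h0] using hx')
        rw [map_add, map_add, h3 x hx hx', add_right_inj] at h4
        exact hw' h4
      · exact hw' (h3 w hw h0)
    obtain ⟨p1, -, p2⟩ := hG.hyp_plane (u := u) (w := v) rfl rfl hv1
    have p3 : (F ∙ u) ⊔ (F ∙ v) ≤ T := sup_le ((Submodule.span_singleton_le_iff_mem _ _).2 hu)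
      ((Submodule.span_singleton_le_iff_mem _ _).2 hv)
    have p4 := (p3.trans t4).trans (perp_anti le_sup_left)
    refine ⟨Y ⊔ ((F ∙ u) ⊔ F ∙ v), sup_le y1 (p3.trans t3), hG.nd_sup y2 p1 p4,
      by rw [hG.finrank_sup_of_le_perp y2 p4]; omega, ?_⟩
    rw [Submodule.map_sup, perp_sup]
    refine sup_le (le_inf y4 (hG.le_perp_comm.1 ((p3.trans t4).trans (perp_anti le_sup_right))))
      (le_inf (Submodule.map_le_iff_le_comap.2 fun x hx =>
        perp_anti le_sup_left (t4 (t2 x (p3 hx)))) ?_)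
    rw [← Submodule.span_union, Submodule.map_span, Submodule.span_le]
    rintro _ ⟨x, hx, rfl⟩
    refine mem_perp_span.2 fun y hy => ?_
    rcases hx with rfl | rfl <;> rcases hy with rfl | rfl
    · exact h1 _ (t3 hu)
    · exact hG.refl hv2
    · rw [← h.mapB, hff, hv2]
    · exact h1 _ (t3 hv)

variable {r : ℕ} [hr : Fact r.Prime] [Fintype F] {p : ℕ} [hp : Fact p.Prime] [CharP F p]

theorem Geom.le_fixS_of_nd_lt (hG : Geom B Q τ) (h : Iso B Q f) (hrp : r ≠ p) (h2 : r ≠ 2)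
    (hf : f ^ r = 1) (hW : ∀ v ∈ W, f v ∈ W) (hN : ND B W)
    (hlt : finrank F W < cOf (orderOf ((Fintype.card F : ℕ) : ZMod r))) : W ≤ fixS f :=
  have hs := isSemisimple_of_pow_eq_one hrp hf
  hG.le_fixS_of_inf h hs hW (Nat.eq_zero_of_dvd_of_lt
    (hG.cOf_dvd h hrp h2 hf (inf_inv hW (hG.perp_inv h (fixS_inv f)))
      (hG.nd_inf_perp_fixS h hs hW hN) inf_le_right)
    ((Submodule.finrank_mono inf_le_left).trans_lt hlt))

theorem Geom.cOf_le (hG : Geom B Q τ) (h : Iso B Q f) (hrp : r ≠ p) (h2 : r ≠ 2)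
    (hf : f ^ r = 1) (h1 : f ≠ 1) : cOf (orderOf ((Fintype.card F : ℕ) : ZMod r)) ≤ finrank F V :=
  not_lt.1 fun hlt => h1 (fixS_eq_top.1 (top_le_iff.1 (hG.le_fixS_of_nd_lt h hrp h2 hf
    (fun _ _ => trivial) hG.nd_top (by rwa [finrank_top]))))

theorem Geom.cOf_dvd_inf (hG : Geom B Q τ) (h : Iso B Q f) (hrp : r ≠ p) (h2 : r ≠ 2)
    (hf : f ^ r = 1) (hW : ∀ v ∈ W, f v ∈ W) (hN : ND B W) :
    cOf (orderOf ((Fintype.card F : ℕ) : ZMod r)) ∣ finrank F ↥(W ⊓ perp B (fixS f)) :=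
  hG.cOf_dvd h hrp h2 hf (inf_inv hW (hG.perp_inv h (fixS_inv f)))
    (hG.nd_inf_perp_fixS h (isSemisimple_of_pow_eq_one hrp hf) hW hN) inf_le_right

theorem Geom.mod_le_inf_fixS (hG : Geom B Q τ) (h : Iso B Q f) (hrp : r ≠ p) (h2 : r ≠ 2)
    (hf : f ^ r = 1) (hW : ∀ v ∈ W, f v ∈ W) (hN : ND B W) :
    finrank F W % cOf (orderOf ((Fintype.card F : ℕ) : ZMod r)) ≤ finrank F ↥(W ⊓ fixS f) :=
  mod_le_of_dvd (hG.finrank_eq_fixS h (isSemisimple_of_pow_eq_one hrp hf) hW).symm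
    (hG.cOf_dvd_inf h hrp h2 hf hW hN)

theorem Geom.exists_nd_cOf_in (hG : Geom B Q τ) (h : Iso B Q f) (hrp : r ≠ p) (h2 : r ≠ 2)
    (hf : f ^ r = 1) (hW : ∀ v ∈ W, f v ∈ W) (hN : ND B W) (hle : W ≤ perp B (fixS f)) {w : ℕ}
    (hw : w * cOf (orderOf ((Fintype.card F : ℕ) : ZMod r)) ≤ finrank F W) :
    ∃ Y : Submodule F V, (∀ v ∈ Y, f v ∈ Y) ∧ Y ≤ W ∧ ND B Y ∧
      finrank F Y = w * cOf (orderOf ((Fintype.card F : ℕ) : ZMod r)) := by
  have h0 : fixS (f.restrict hW) = ⊥ := eq_bot_iff.2 fun v hv => Subtype.ext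
    (Submodule.disjoint_def.1 (hG.nd_iff.1 (hG.nd_fixS h (isSemisimple_of_pow_eq_one hrp hf))) _
      (mem_fixS.2 (congrArg Subtype.val (mem_fixS.1 hv))) (hle v.2))
  obtain ⟨Y, h1, -, h3, h4⟩ := (hG.res hN).exists_nd_cOf (h.res hW) hrp h2
    (restrict_pow_eq_one hW hf) (w := w) (by rwa [h0, perp_bot, finrank_top])
  exact ⟨Y.map W.subtype, map_subtype_inv h1, Submodule.map_subtype_le W Y, h3.map_subtype,
    by rwa [Submodule.finrank_map_subtype_eq]⟩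

theorem cOf_le_sub_one (hrp : r ≠ p) (h2 : r ≠ 2) :
    cOf (orderOf ((Fintype.card F : ℕ) : ZMod r)) ≤ r - 1 :=
  Nat.le_of_dvd (by have := hr.1.two_le; omega)
    ((cOf_dvd_iff (hr.1.even_sub_one h2)).2
      (orderOf_dvd_sub_one (natCast_ne_zero_of_card (F := F) hrp)))

/-- A symplectic element of order `r` with `s` blocks. -/
theorem GeomA.exists_blocks (hG : GeomA B) (hrp : r ≠ p) (h2 : r ≠ 2) {s : ℕ}
    (hs : s * cOf (orderOf ((Fintype.card F : ℕ) : ZMod r)) ≤ finrank F V) :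
    ∃ f, IsoA B f ∧ f ^ r = 1 ∧
      finrank F (fixS f) + s * cOf (orderOf ((Fintype.card F : ℕ) : ZMod r)) = finrank F V := by
  obtain ⟨w, o, h1, h3, h4, -⟩ := exists_mul_cOf
    (one_le_div_orderOf (natCast_ne_zero_of_card (F := F) hrp)) s
  obtain ⟨Y, -, h5, h6⟩ := hG.exists_nd hG.nd_top ((even_cOf _).mul_left s)
    (by rwa [finrank_top])
  obtain ⟨f, f1, f2, f3, -⟩ := hG.exists_model hrp h2 h5 (h6.trans h1) h3 h4
  exact ⟨f, f1, f2, by rw [f3, ← h6, add_comm, hG.finrank_add_perp]⟩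

end Cfsg.Agent.Cl.Der
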