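import Mathlib
import Cfsg.Agent.Cl.DerOPerm

/-! More on invariant non-degenerate subspaces. -/

set_option autoImplicit false
set_option linter.unusedSectionVars false

namespace Cfsg.Agent.Cl.Der

open Polynomial Module Cfsg.Agent.Cl.Cls

variable {F V A : Type*} [Field F] [AddCommGroup V] [Module F V] [FiniteDimensional F V]
  [AddCommGroup A] {τ : F →+ A} {f : End F V} {U W S Y Z : Submodule F V}

section General

variable {σ : F →+* F} {B : V →ₛₗ[σ] V →ₗ[F] F} {Q : V → A}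

theorem Geom.sup_of_fix (hG : Geom B Q τ) (hZ : Z ≤ fixS f) (hZ' : ND B Z)
    (hY : Y ≤ perp B (fixS f)) (hY' : ND B Y) (hY'' : ∀ v ∈ Y, f v ∈ Y) :
    (∀ v ∈ Z ⊔ Y, f v ∈ Z ⊔ Y) ∧ ND B (Z ⊔ Y) ∧
      finrank F ↥(Z ⊔ Y) = finrank F Z + finrank F Y :=
  ⟨sup_inv (inv_of_le_fixS hZ) hY'', hG.nd_sup hZ' hY' (hY.trans (perp_anti hZ)),
    hG.finrank_sup_of_le_perp hZ' (hY.trans (perp_anti hZ))⟩

theorem exists_le_of_res (hW : ∀ v ∈ W, f v ∈ W) {m : ℕ}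
    (h : ∃ Y : Submodule F W, finrank F Y = m ∧ ND (resB B W) Y ∧ ∀ v ∈ Y, f.restrict hW v ∈ Y) :
    ∃ Y, Y ≤ W ∧ (∀ v ∈ Y, f v ∈ Y) ∧ ND B Y ∧ finrank F Y = m := by
  obtain ⟨Y, h1, h2, h3⟩ := h
  exact ⟨Y.map W.subtype, Submodule.map_subtype_le W Y, map_subtype_inv h3, h2.map_subtype,
    by rwa [Submodule.finrank_map_subtype_eq]⟩

theorem degs_restrict_top (h : ∀ v ∈ (⊤ : Submodule F V), f v ∈ ⊤) :
    degs (f.restrict h) = degs f := by rw [degs, ed_restrict_top, degs]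

theorem degs_of_ed_eq_map {μ : Multiset ℕ} (h : ed f = μ.map fun a => (X - C (1 : F)) ^ a) :
    degs f = μ := by rw [degs, h, degs_map_pow]

theorem even_count_replicate {m : ℕ} (hm : Even m) (b a : ℕ) :
    Even ((Multiset.replicate m b).count a) := by
  rw [Multiset.count_replicate]
  split_ifs
  exacts [hm, Even.zero]

theorem ne_one_of_finrank_fixS (h : finrank F (fixS f) < finrank F V) : f ≠ 1 := fun h1 => by
  rw [fixS_eq_top.2 h1, finrank_top] at h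
  exact lt_irrefl _ h

end General

variable {B : V →ₛₗ[RingHom.id F] V →ₗ[F] F} {Q : V → A}

theorem GeomA.eps (hG : GeomA B) (x y : V) : B y x = (-1) ^ 1 * B x y := by
  rw [pow_one, neg_one_mul, LinearMap.IsAlt.neg hG.isAlt]

theorem GeomA.exists_nd_of_sq_top (hG : GeomA B) (h2 : (2 : F) ≠ 0) (h : IsoA B f)
    (hf : f ^ 2 = 1 ∨ f ^ 2 = -1) {m : ℕ} (hm : Even m) (hm' : m ≤ finrank F V) :
    ∃ Y : Submodule F V, finrank F Y = m ∧ ND B Y ∧ ∀ v ∈ Y, f v ∈ Y := by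
  obtain ⟨m, rfl⟩ := hm
  rw [← two_mul] at hm' ⊢
  rcases hf with hf | hf
  · have h3 := hG.nd_fixS h (isSemisimple_of_sq_eq_one h2 hf)
    obtain ⟨a, ha⟩ := hG.even h3
    have h4 := hG.finrank_add_perp (fixS f)
    obtain ⟨Z, z1, z2, z3⟩ := hG.exists_nd h3 (a := 2 * min a m) (even_two_mul _) (by omega)
    obtain ⟨Y, y1, y2, y3⟩ := hG.exists_nd (hG.nd_perp h3) (a := 2 * (m - min a m))
      (even_two_mul _) (by omega)
    obtain ⟨h5, h6, h7⟩ := hG.sup_of_fix z1 z2 y1 y2 (hG.inv_of_le_perp_fixS h hf y1)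
    exact ⟨_, by omega, h6, h5⟩
  · by_cases h3 : IsSquare (-1 : F)
    · obtain ⟨W, h4, h5, -, h6⟩ := hG.exists_nd_of_isSquare h2 h h3 hf hm'
      exact ⟨W, h4, h5, h6⟩
    · exact hG.exists_nd_of_not_isSquare h2 h h3 hf hm'

theorem GeomA.exists_nd_of_sq (hG : GeomA B) (h2 : (2 : F) ≠ 0) (h : IsoA B f)
    (hf : f ^ 2 = 1 ∨ f ^ 2 = -1) (hW : ∀ v ∈ W, f v ∈ W) (hN : ND B W) {m : ℕ} (hm : Even m)
    (hm' : m ≤ finrank F W) : ∃ Y, Y ≤ W ∧ (∀ v ∈ Y, f v ∈ Y) ∧ ND B Y ∧ finrank F Y = m :=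
  exists_le_of_res hW (GeomA.exists_nd_of_sq_top (hG.res hN) h2 (h.res hW)
    (hf.imp (restrict_pow_eq_one hW) (restrict_sq_eq_neg_one hW)) hm hm')

theorem Geom.sq_cases (hG : Geom B Q τ) [Nontrivial V] (h : Iso B Q f) {z : F}
    (hz : f ^ 2 = z • 1) : f ^ 2 = 1 ∨ f ^ 2 = -1 := by
  rcases hG.eq_or_eq_neg (hz ▸ h.pow 2) with rfl | rfl
  · exact Or.inl (by rw [hz, one_smul])
  · exact Or.inr (by rw [hz, neg_smul, one_smul])

theorem neg_one_eq_one_end (h2 : (2 : F) = 0) : (-1 : End F V) = 1 := by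
  rw [neg_eq_iff_add_eq_zero, ← two_smul F, h2, zero_smul]

theorem GeomA.exists_nd_of_two (hG : GeomA B) (h2 : (2 : F) = 0) (h : IsoA B f) (hf : f ^ 2 = 1)
    (hW : ∀ v ∈ W, f v ∈ W) (hN : ND B W) {a b : ℕ} (ha : finrank F W = 2 * a) (hb : b ≤ a)
    (hab : Even b ∨ Odd a) : ∃ Y, Y ≤ W ∧ (∀ v ∈ Y, f v ∈ Y) ∧ ND B Y ∧ finrank F Y = 2 * b := by
  obtain ⟨Y, h3, h4, h5, -, h6⟩ := hG.exists_plus_of_two h2 (hG.symm_of_two h2) hG.isAlt h hf a W hW hN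
    ((hG.hasTS_iff hN).2 ha.ge) (by rw [hG.hasTS_iff hN]; omega) b hb hab
  exact ⟨Y, h3, h5, h4, h6⟩

theorem GeomA.opd_of_two (hG : GeomA B) (h2 : (2 : F) = 0) (h : IsoA B f) (hf : f ^ 2 = 1)
    {a t : ℕ} (ha : Even a) (ha0 : 0 < a) (hV : finrank F V = a * t) : OPD B f ⊤ a t := by
  obtain ⟨b, rfl⟩ := ha
  rw [← two_mul] at hV ha0 ⊢
  refine hG.opd_of_step h (fun _ _ => True) (fun W t h1 h3 h4 h5 _ => ?_) t ⊤
    (fun _ _ => trivial) hG.nd_top (by rw [finrank_top, hV, mul_comm]) trivial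
  have h6 : b ≤ t * b := Nat.le_mul_of_pos_left b h5
  have h7 : finrank F W = 2 * (t * b) := by rw [h4]; ring
  suffices H : (∃ Y, Y ≤ W ∧ (∀ v ∈ Y, f v ∈ Y) ∧ ND B Y ∧ finrank F Y = 2 * b) ∨
      (2 ≤ t ∧ ∃ Y, Y ≤ W ∧ ND B Y ∧ finrank F Y = 2 * b ∧ Y.map f ≤ perp B Y) by
    rcases H with ⟨Y, y1, y2, y3, y4⟩ | ⟨ht, Y, y1, y2, y3, y4⟩
    · exact ⟨Y, 1, y1, y2, y3, one_pos, h5, by omega, OPD.single y2 y4, trivial⟩
    · have hff := apply_apply_of_sq_eq_one hf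
      refine ⟨Y ⊔ Y.map f, 2, sup_le y1 (Submodule.map_le_iff_le_comap.2 fun v hv => h1 v (y1 hv)),
        fun v hv => ?_, hG.nd_sup y2 (h.nd_map y2) y4, two_pos, ht,
        by rw [hG.finrank_sup_of_le_perp y2 y4, hG.finrank_map h]; omega,
        y3 ▸ hG.opd_swap h (fun v hv => (hff v).symm ▸ hv) y4, trivial⟩
      obtain ⟨a, ha, _, ⟨c, hc, rfl⟩, rfl⟩ := Submodule.mem_sup.1 hv
      rw [map_add, hff, add_comm]
      exact Submodule.add_mem_sup hc ⟨a, ha, rfl⟩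
  by_cases h8 : Even b ∨ Odd (t * b)
  · exact Or.inl (hG.exists_nd_of_two h2 h hf h1 h3 h7 h6 h8)
  rw [not_or, Nat.not_odd_iff_even, Nat.even_mul, or_iff_left h8.1] at h8
  have ht : 2 ≤ t := by
    obtain ⟨s, rfl⟩ := h8.2
    omega
  by_cases H : ∀ P, P ≤ W → (∀ v ∈ P, f v ∈ P) → ND B P → finrank F P ≠ 2
  · exact Or.inr ⟨ht, hG.exists_swap h2 h hf h1 h3 H b (by nlinarith)⟩
  push Not at H
  obtain ⟨P, p1, p2, p3, p4⟩ := H
  have p5 := hG.finrank_add_perp_inf h3 p1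
  obtain ⟨s, hs⟩ := h8.2.mul_right b
  obtain ⟨Y, y1, y2, y3, y4⟩ := hG.exists_nd_of_two h2 h hf (inf_inv (hG.perp_inv h p2) h1)
    (hG.nd_perp_inf h3 p3 p1) (a := t * b - 1) (b := b - 1) (by omega) (by omega)
    (Or.inr ⟨s - 1, by omega⟩)
  have y5 := y1.trans inf_le_left
  exact Or.inl ⟨P ⊔ Y, sup_le p1 (y1.trans inf_le_right), sup_inv p2 y2, hG.nd_sup p3 y3 y5,
    by rw [hG.finrank_sup_of_le_perp p3 y5]; omega⟩

theorem GeomA.tsPair_of_sq_eq_one (hG : GeomA B) (h2 : (2 : F) ≠ 0) (h : IsoA B f)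
    (hf : f ^ 2 = 1) : TSPair B (fun _ => (0 : F)) f ⊤ true := by
  have h3 := hG.nd_fixS h (isSemisimple_of_sq_eq_one h2 hf)
  rw [← (hG.isCompl_perp h3).sup_eq_top]
  exact hG.tsPair_sup (hG.tsPair_of_plus h3 (hG.plus h3) (c := 1) fun v hv => by
    rw [one_smul, mem_fixS.1 hv]) (hG.tsPair_of_plus (hG.nd_perp h3) (hG.plus (hG.nd_perp h3))
      (c := -1) fun v hv => by rw [neg_one_smul, hG.apply_of_mem_perp_fixS h hf hv]) le_rfl

variable {r : ℕ} [hr : Fact r.Prime] [Fintype F] {p : ℕ} [hp : Fact p.Prime] [CharP F p]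

theorem GeomA.exists_nd_of_mod (hG : GeomA B) (h : IsoA B f) (hrp : r ≠ p) (h2 : r ≠ 2)
    (hf : f ^ r = 1) (hW : ∀ v ∈ W, f v ∈ W) (hN : ND B W) {m k : ℕ} (hm : Even m)
    (h1 : m + k ≤ finrank F W)
    (h3 : m % cOf (orderOf ((Fintype.card F : ℕ) : ZMod r)) + k ≤ finrank F ↥(W ⊓ fixS f)) :
    ∃ Y, Y ≤ W ∧ (∀ v ∈ Y, f v ∈ Y) ∧ ND B Y ∧ finrank F Y = m ∧
      k ≤ finrank F ↥(perp B Y ⊓ W ⊓ fixS f) := by
  have hs := isSemisimple_of_pow_eq_one hrp hf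
  have h4 := hG.finrank_eq_fixS h hs hW
  obtain ⟨w, hw⟩ := hG.cOf_dvd_inf h hrp h2 hf hW hN
  have h5 := hG.nd_inf_fixS h hs hW hN
  have h6 := Nat.div_add_mod' m (cOf (orderOf ((Fintype.card F : ℕ) : ZMod r)))
  obtain ⟨j, h7, h8, h9⟩ : ∃ j, j * cOf (orderOf ((Fintype.card F : ℕ) : ZMod r)) ≤ m ∧
      j * cOf (orderOf ((Fintype.card F : ℕ) : ZMod r)) ≤ finrank F ↥(W ⊓ perp B (fixS f)) ∧
      m - j * cOf (orderOf ((Fintype.card F : ℕ) : ZMod r)) + k ≤ finrank F ↥(W ⊓ fixS f) := by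
    rw [mul_comm] at hw
    rcases le_total (m / cOf (orderOf ((Fintype.card F : ℕ) : ZMod r))) w with h7 | h7
    · exact ⟨_, by omega, hw ▸ Nat.mul_le_mul_right _ h7, by omega⟩
    · have := Nat.mul_le_mul_right (cOf (orderOf ((Fintype.card F : ℕ) : ZMod r))) h7
      exact ⟨w, by omega, hw.ge, by omega⟩
  obtain ⟨M, m1, m2, m3, m4⟩ := hG.exists_nd_cOf_in h hrp h2 hf
    (inf_inv hW (hG.perp_inv h (fixS_inv f))) (hG.nd_inf_perp_fixS h hs hW hN) inf_le_right h8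
  obtain ⟨Z, z1, z2, z3⟩ := hG.exists_nd h5 (a := m - j * cOf _)
    ((Nat.even_sub h7).2 (iff_of_true hm ((even_cOf _).mul_left j))) (by omega)
  obtain ⟨y1, y2, y3⟩ := hG.sup_of_fix (z1.trans inf_le_right) z2 (m2.trans inf_le_right) m3 m1
  refine ⟨_, sup_le (z1.trans inf_le_left) (m2.trans inf_le_left), y1, y2, by omega, ?_⟩
  have h10 := hG.finrank_add_perp_inf h5 z1
  refine le_trans (by omega) (Submodule.finrank_mono (s := perp B Z ⊓ (W ⊓ fixS f)) ?_)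
  rw [perp_sup]
  exact le_inf (le_inf (le_inf inf_le_left ((inf_le_right.trans inf_le_right).trans
    (hG.le_perp_comm.1 (m2.trans inf_le_right)))) (inf_le_right.trans inf_le_left))
    (inf_le_right.trans inf_le_right)

theorem GeomA.opd_of_mod (hG : GeomA B) (h : IsoA B f) (hrp : r ≠ p) (h2 : r ≠ 2)
    (hf : f ^ r = 1) {a t : ℕ} (ha : Even a) (hV : finrank F V = a * t)
    (h1 : t * (a % cOf (orderOf ((Fintype.card F : ℕ) : ZMod r))) ≤ finrank F (fixS f)) :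
    OPD B f ⊤ a t := by
  refine hG.opd_of_step h (fun W t => t * (a % cOf (orderOf ((Fintype.card F : ℕ) : ZMod r))) ≤
    finrank F ↥(W ⊓ fixS f)) (fun W t h1 h3 h4 h5 h6 => ?_) t ⊤
    (fun _ _ => trivial) hG.nd_top (by rw [finrank_top, hV, mul_comm]) (by rwa [top_inf_eq])
  obtain ⟨t, rfl⟩ : ∃ s, t = s + 1 := ⟨t - 1, by omega⟩
  have h7 := Nat.mul_le_mul_left t (Nat.mod_le a (cOf (orderOf ((Fintype.card F : ℕ) : ZMod r))))
  rw [add_mul, one_mul] at h4 h6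
  obtain ⟨Y, y1, y2, y3, y4, y5⟩ := hG.exists_nd_of_mod h hrp h2 hf h1 h3 ha
    (k := t * (a % cOf (orderOf ((Fintype.card F : ℕ) : ZMod r)))) (by omega) (by omega)
  exact ⟨Y, 1, y1, y2, y3, one_pos, h5, by omega, OPD.single y2 y4, y5⟩

theorem prod_pow_two_mul_sub_one (q d : ℕ) : ∏ i ∈ Finset.range d, (q ^ (2 * (i + 1)) - 1) =
    qfac q d * ∏ i ∈ Finset.range d, (q ^ (i + 1) + 1) := by
  rw [qfac, ← Finset.prod_mul_distrib]
  refine Finset.prod_congr rfl fun i _ => ?_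
  rw [mul_comm 2, pow_mul, ← one_pow 2, Nat.sq_sub_sq, mul_comm, one_pow]

variable {d : ℕ}

theorem orth_spB_iff {U W : Submodule F (Fin d ⊕ Fin d → F)} :
    (∀ u ∈ U, ∀ v ∈ W, Cfsg.sympForm d F u v = 0) ↔ W ≤ perp (spB d F) U := by
  simp only [← spB_apply]
  exact ⟨fun h v hv u hu => h u hu v hv, fun h u hu v hv => h hv u hu⟩

theorem isoA_toLin' (x : Matrix.symplecticGroup (Fin d) F) :
    IsoA (spB d F) (Matrix.toLin' (x : Matrix (Fin d ⊕ Fin d) (Fin d ⊕ Fin d) F)) :=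
  ⟨spB_mulVec x, fun _ => rfl⟩

end Cfsg.Agent.Cl.Der
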