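import Mathlib
import Cfsg.Agent.Cl.DerSp2

/-! Semisimple isometries of prime order for an arbitrary companion automorphism, and the number
of totally singular subspaces modulo the characteristic. -/

set_option autoImplicit false
set_option linter.unusedSectionVars false

namespace Cfsg.Agent.Cl.Der

open Polynomial Module Cfsg.Agent.Cl.Cls

variable {F V A : Type*} [Field F] [AddCommGroup V] [Module F V] [FiniteDimensional F V]
  [AddCommGroup A] {τ : F →+ A} {f : End F V} {U W S Y Z : Submodule F V}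
  {σ : F →+* F} {B : V →ₛₗ[σ] V →ₗ[F] F} {Q : V → A}

theorem card_modEq_of_fiber {α β : Type*} [Finite α] [Finite β] (g : α → β) {p : ℕ}
    (h : ∀ b, Nat.card {a // g a = b} ≡ 1 [MOD p]) : Nat.card α ≡ Nat.card β [MOD p] := by
  have := Fintype.ofFinite β
  rw [← Nat.card_congr (Equiv.sigmaFiberEquiv g), Nat.card_sigma, Nat.card_eq_fintype_card,
    ← Finset.card_univ, Finset.card_eq_sum_ones]
  exact Nat.ModEq.sum fun b _ => h b

theorem card_ne_zero_mem [Fintype F] (L : Submodule F V) :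
    Nat.card {y // y ∈ L ∧ y ≠ 0} + 1 = Fintype.card F ^ finrank F L := by
  classical
  have : Finite V := Module.finite_of_finite F
  rw [← Nat.card_eq_fintype_card, ← natCard_eq_pow_finrank, ← Finite.card_option]
  refine Nat.card_congr (Equiv.trans (Equiv.optionCongr ?_) (Equiv.optionSubtypeNe (0 : L)))
  exact ⟨fun y => ⟨⟨y.1, y.2.1⟩, fun h => y.2.2 (congrArg Subtype.val h)⟩,
    fun y => ⟨y.1.1, y.1.2, fun h => y.2 (Subtype.ext h)⟩, fun _ => rfl, fun _ => rfl⟩

theorem modEq_one_of_mul {p q a b : ℕ} (hq : p ∣ q) (hq0 : 0 < q) (h : p ∣ b)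
    (hab : a * (q - 1) + 1 = b) : a ≡ 1 [MOD p] := by
  obtain ⟨q, rfl⟩ : ∃ k, q = k + 1 := ⟨q - 1, by omega⟩
  rw [Nat.add_sub_cancel] at hab
  have h1 : a + b = 1 + a * (q + 1) := by rw [← hab]; ring
  calc a ≡ a + b [MOD p] := (Nat.ModEq.refl a).add h.zero_modEq_nat
    _ = 1 + a * (q + 1) := h1
    _ ≡ 1 [MOD p] := (Nat.ModEq.refl 1).add (hq.mul_left a).modEq_zero_nat

theorem Geom.card_ts_modEq [Fintype F] {p : ℕ} [Fact p.Prime] [CharP F p] (hG : Geom B Q τ)
    (m : ℕ) (hz : ∀ Y : Submodule F V, ND B Y → finrank F V + 2 ≤ finrank F Y + 2 * m →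
      p ∣ Nat.card {y // (y ∈ Y ∧ y ≠ 0) ∧ Q y = 0} + 1) :
    Nat.card {W : Submodule F V // finrank F W = m ∧ TS B Q W} ≡ 1 [MOD p] := by
  have : Finite V := Module.finite_of_finite F
  have := finite_submodule (F := F) (V := V)
  have hq : p ∣ Fintype.card F := dvd_card_iff.2 rfl
  induction m with
  | zero =>
    rw [Nat.card_eq_one_iff_exists.2 ⟨⟨⊥, finrank_bot F V, hG.ts_bot⟩, fun W =>
      Subtype.ext (Submodule.finrank_eq_zero.1 W.2.1)⟩]
  | succ m ih =>
    refine Nat.ModEq.trans ?_ (ih fun Y h1 h2 => hz Y h1 (by omega))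
    refine (card_modEq_of_fiber (α := {P : Submodule F V × Submodule F V //
      P.1 ≤ P.2 ∧ finrank F P.1 = m ∧ finrank F P.2 = m + 1 ∧ TS B Q P.2})
      (fun P => ⟨P.1.2, P.2.2.2⟩) fun W => ?_).symm.trans
      (card_modEq_of_fiber (fun P => ⟨P.1.1, P.2.2.1, P.2.2.2.2.mono P.2.1⟩) fun U => ?_)
    · have h2 := card_subspaces (F := F) (V := W.1) (m := m) (by rw [W.2.1]; omega)
      have h3 := nsub_symm (Fintype.card F) (n := m + 1) (m := 1) (by omega)
      have h4 := nsub_mul F (n := m + 1) (m := 1) (by omega)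
      rw [Nat.add_sub_cancel] at h3
      rw [W.2.1, h3] at h2
      have h5 := modEq_one_of_mul (a := nsub (Fintype.card F) (m + 1) 1) hq Fintype.card_pos
        (dvd_pow hq (Nat.succ_ne_zero m)) (by
          simp only [qfac, Finset.range_one, Finset.prod_singleton, zero_add, pow_one,
            Nat.add_sub_cancel, add_zero] at h4
          rw [h4, Nat.sub_add_cancel (Nat.one_le_pow _ _ Fintype.card_pos)])
      rw [← h2] at h5
      refine Nat.ModEq.trans (congrArg (· % p) (Nat.card_congr (Equiv.ofBijective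
        (fun U => ⟨⟨(U.1.map W.1.subtype, W.1), Submodule.map_subtype_le _ _,
          by rw [Submodule.finrank_map_subtype_eq, U.2], W.2⟩, rfl⟩) ⟨?_, ?_⟩)).symm) h5
      · intro U U' h
        exact Subtype.ext (Submodule.map_injective_of_injective W.1.injective_subtype
          (congrArg Prod.fst (congrArg Subtype.val (congrArg Subtype.val h))))
      · rintro ⟨⟨⟨U, W'⟩, h1, h3, h4⟩, rfl⟩
        exact ⟨⟨U.comap W'.subtype, (Submodule.comapSubtypeEquivOfLe h1).finrank_eq.trans h3⟩,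
          Subtype.ext (Subtype.ext (Prod.ext
            ((Submodule.map_comap_subtype _ _).trans (inf_eq_right.2 h1)) rfl))⟩
    · obtain ⟨U, hU, hU'⟩ := U
      obtain ⟨Y, -, y1, y2, y3, y4, y5⟩ := hG.exists_nd_compl hG.nd_top le_top hU'.le_perp
      rw [finrank_top] at y5
      rw [inf_top_eq] at y4
      have h1 : ∀ y, (y ∈ Y ∧ y ≠ 0) ∧ Q y = 0 → finrank F ↥(U ⊔ F ∙ y) = m + 1 ∧
          TS B Q (U ⊔ F ∙ y) := fun y hy => by
        have h2 := (Submodule.span_singleton_le_iff_mem _ _).2 hy.1.1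
        exact ⟨by rw [finrank_sup_of_disjoint (y3.mono_right h2), hU,
          finrank_span_singleton hy.1.2], hG.ts_sup hU' (hG.ts_span_singleton hy.2) (h2.trans y2)⟩
      refine modEq_one_of_mul hq Fintype.card_pos (hz Y y1 (by omega)) (congrArg (· + 1) ?_)
      refine (card_eq_mul_of_fiber (fun y => ⟨⟨(U, U ⊔ F ∙ y.1), le_sup_left, hU, h1 y.1 y.2⟩,
        rfl⟩) ?_).symm
      rintro ⟨⟨⟨U', W⟩, w1, w2, w3, w4⟩, h⟩
      obtain rfl : U' = U := congrArg Subtype.val h
      have w5 : U' ⊔ Y ⊓ W = W := by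
        rw [← sup_inf_assoc_of_le _ w1, y4, inf_eq_right]
        exact w4.le_perp.trans (perp_anti w1)
      have w6 := finrank_sup_of_disjoint (y3.mono_right (inf_le_left : Y ⊓ W ≤ Y))
      have w7 := card_ne_zero_mem (Y ⊓ W)
      rw [w5, show finrank F W = m + 1 from w3, hU] at w6
      rw [show finrank F ↥(Y ⊓ W) = 1 by omega, pow_one] at w7
      rw [← w7, Nat.add_sub_cancel]
      refine Nat.card_congr ⟨fun y => ⟨y.1.1, ⟨y.1.2.1.1, ?_⟩, y.1.2.1.2⟩,
        fun y => ⟨⟨y.1, ⟨y.2.1.1, y.2.2⟩, w4.2 _ y.2.1.2⟩, Subtype.ext (Subtype.ext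
          (Prod.ext rfl ?_))⟩, fun _ => rfl, fun _ => rfl⟩
      · have h3 : U' ⊔ (F ∙ y.1.1) = W :=
          congrArg Prod.snd (congrArg Subtype.val (congrArg Subtype.val y.2))
        exact h3.le (Submodule.mem_sup_right (Submodule.mem_span_singleton_self _))
      · exact Submodule.eq_of_le_of_finrank_eq
          (sup_le w1 ((Submodule.span_singleton_le_iff_mem _ _).2 y.2.1.2))
          ((h1 y.1 ⟨⟨y.2.1.1, y.2.2⟩, w4.2 _ y.2.1.2⟩).1.trans w3.symm)

theorem not_dvd_of_modEq_one {p n : ℕ} [hp : Fact p.Prime] (h : n ≡ 1 [MOD p]) : ¬ p ∣ n :=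
  fun h1 => hp.1.one_lt.ne' (Nat.dvd_one.1 ((h.dvd_iff dvd_rfl).1 h1))

theorem ed_eq_movE_add (f : End F V) :
    ∃ k, ed f = movE f + Multiset.replicate k (X - C 1) := by
  classical
  refine ⟨_, (Multiset.filter_add_not (· ≠ X - C 1) (ed f)).symm.trans
    (congrArg₂ (· + ·) (by rw [movE]) (Multiset.eq_replicate_card.2 fun e he => ?_))⟩
  simpa using (Multiset.mem_filter.1 he).2

theorem det_eq_movE (f : End F V) :
    LinearMap.det f = (-1) ^ ((movE f).map natDegree).sum * (movE f).prod.coeff 0 := by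
  obtain ⟨k, hk⟩ := ed_eq_movE_add f
  have h1 := sum_natDegree_ed f
  rw [det_eq_ed, ← h1, hk]
  simp only [Multiset.map_add, Multiset.sum_add, Multiset.map_replicate, natDegree_X_sub_C,
    Multiset.sum_replicate, smul_eq_mul, mul_one, Multiset.prod_add, Multiset.prod_replicate,
    coeff_zero_eq_eval_zero, eval_mul, eval_pow, eval_sub, eval_X, eval_C, zero_sub,
    pow_add]
  rw [mul_mul_mul_comm, ← mul_pow]
  simp

theorem coeff_zero_prod_add_map {t : Multiset F[X]} (h : ∀ e ∈ t, e.Monic ∧ e.coeff 0 ≠ 0) :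
    (t + t.map (uDual (RingHom.id F))).prod.coeff 0 = 1 := by
  induction t using Multiset.induction_on with
  | empty => simp
  | cons e t ih =>
    have h1 := h e (Multiset.mem_cons_self _ _)
    have h2 := ih fun e he => h e (Multiset.mem_cons_of_mem he)
    rw [Multiset.prod_add, mul_coeff_zero] at h2
    rw [Multiset.map_cons, Multiset.prod_add, Multiset.prod_cons, Multiset.prod_cons,
      mul_coeff_zero, mul_coeff_zero, mul_coeff_zero, mul_mul_mul_comm, h2, coeff_zero_uDual h1.1,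
      RingHom.id_apply, mul_inv_cancel₀ h1.2, one_mul]

theorem Geom.map_uDual_movE' (hG : Geom B Q τ) (h : Iso B Q f) (hs : f.IsSemisimple) :
    (movE f).map (uDual σ) = movE f := by
  rw [← hG.ed_perp_fixS h hs]
  exact hG.map_uDual_of_nd h _ (hG.nd_perp (hG.nd_fixS h hs))

open Classical in
/-- The number of unpaired blocks. -/
noncomputable def oG (D : Prop) (f : End F V) : ℕ := if D then oddc (movE f) else 0

open Classical in
/-- The size of a minimal non-degenerate moving block. -/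
noncomputable def cG (D : Prop) (b : ℕ) : ℕ := if D then b else 2 * b

theorem cG_pos {D : Prop} (h : D) (b : ℕ) : cG D b = b := if_pos h

theorem cG_neg {D : Prop} (h : ¬ D) (b : ℕ) : cG D b = 2 * b := if_neg h

theorem oG_neg {D : Prop} (h : ¬ D) : oG D f = 0 := if_neg h

theorem oG_pos {D : Prop} (h : D) : oG D f = oddc (movE f) := if_pos h

theorem cG_dvd_mul {D : Prop} {b w o : ℕ} (h : ¬ D → o = 0) : cG D b ∣ (2 * w + o) * b := by
  by_cases hD : D
  · rw [cG_pos hD]
    exact dvd_mul_left _ _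
  · rw [cG_neg hD, h hD]
    exact ⟨w, by ring⟩

theorem exists_mul_cG {D : Prop} {b T : ℕ} (hT : 1 ≤ T) (s : ℕ) :
    ∃ w o, s * cG D b = (2 * w + o) * b ∧ o ≤ T ∧ (¬ D → o = 0) := by
  by_cases hD : D
  · exact ⟨s / 2, s % 2, by rw [cG_pos hD, Nat.div_add_mod], by omega, fun h => absurd hD h⟩
  · exact ⟨s, 0, by rw [cG_neg hD]; ring, by omega, fun _ => rfl⟩

theorem lt_cG {D : Prop} {b : ℕ} (hb : 0 < b) : 0 < cG D b := by
  unfold cG
  split_ifs <;> omega

variable {r : ℕ} [hr : Fact r.Prime] [Fintype F] {p : ℕ} [hp : Fact p.Prime] [CharP F p]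

variable (σ r p) in
/-- The duality type of the factors of the cyclotomic polynomial. -/
structure DT (D : Prop) : Prop where
  ne : r ≠ p
  good : ∀ e ∈ cycF F r, Good σ e
  dual : ∀ e ∈ cycF F r, uDual σ e = e ↔ D

variable {D : Prop}

theorem oG_le (hrp : r ≠ p) (hf : f ^ r = 1) :
    oG D f ≤ (r - 1) / orderOf ((Fintype.card F : ℕ) : ZMod r) := by
  unfold oG
  split_ifs
  · rw [← card_cycF hrp]
    exact oddc_le_card fun e => mem_cycF_of_mem_movE hrp hf
  · exact Nat.zero_le _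

theorem DT.exists_eq_add_map (hD : DT σ r p D) (hσ : ∀ a, σ (σ a) = a) (hi : ¬ D)
    {μ : Multiset F[X]} (h : ∀ e ∈ μ, e ∈ cycF F r) (hd : μ.map (uDual σ) = μ) :
    ∃ t, μ = t + t.map (uDual σ) :=
  Der.exists_eq_add_map _ le_rfl (fun e he => uDual_uDual' hσ (mem_cycF.1 (h e he)).2.1
    (coeff_zero_of_mem_cycF (h e he))) (fun e he h3 => hi ((hD.dual e (h e he)).1 h3)) hd

namespace Geom

theorem exists_card_movE' (hG : Geom B Q τ) (hD : DT σ r p D) (h : Iso B Q f) (hf : f ^ r = 1) :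
    ∃ w, Multiset.card (movE f) = 2 * w + oG D f := by
  unfold oG
  split_ifs with hi
  · exact exists_card_eq_oddc _
  · obtain ⟨t, ht⟩ := hD.exists_eq_add_map hG.invol hi (fun e => mem_cycF_of_mem_movE hD.ne hf)
      (hG.map_uDual_movE' h (isSemisimple_of_pow_eq_one hD.ne hf))
    exact ⟨Multiset.card t, by rw [ht]; simp [two_mul]⟩

theorem exists_ts_iff_oG (hG : Geom B Q τ) (hD : DT σ r p D) (h : Iso B Q f) (hf : f ^ r = 1)
    (m : ℕ) : (∃ W : Submodule F V, finrank F W = m ∧ TS B Q W ∧ ∀ v ∈ W, f v ∈ W) ↔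
      ∃ a v, HasTS B Q (fixS f) a ∧ 2 * v + oG D f ≤ Multiset.card (movE f) ∧
        m = a + v * orderOf ((Fintype.card F : ℕ) : ZMod r) := by
  have hrp := hD.ne
  have hs := isSemisimple_of_pow_eq_one hrp hf
  have h1 : ∀ e ∈ movE f, e ∈ cycF F r := fun e => mem_cycF_of_mem_movE hrp hf
  rw [hG.exists_ts_iff h hs fun e he => hD.good e (h1 e he)]
  have h3 : ∀ v, (∃ t, t + t.map (uDual σ) ≤ movE f ∧ Multiset.card t = v) ↔
      2 * v + oG D f ≤ Multiset.card (movE f) := fun v => by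
    unfold oG
    split_ifs with hi
    · rw [← exists_add_self_le_iff]
      refine exists_congr fun t => and_congr_left fun _ => ⟨fun h4 => ?_, fun h4 => ?_⟩ <;>
      have h5 := map_eq_self_of_forall fun e he => (hD.dual e
        (h1 e (Multiset.mem_of_le h4 (Multiset.mem_add.2 (Or.inl he))))).2 hi
      · rwa [h5] at h4
      · rwa [h5]
    · constructor
      · rintro ⟨t, h4, rfl⟩
        simpa [two_mul] using Multiset.card_le_card h4
      · intro h4
        obtain ⟨t, ht⟩ := hD.exists_eq_add_map hG.invol hi h1 (hG.map_uDual_movE' h hs)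
        obtain ⟨u, hu, rfl⟩ := exists_le_card_eq (t := t) (v := v) (by
          rw [ht] at h4
          simp only [Multiset.card_add, Multiset.card_map] at h4
          omega)
        exact ⟨u, ht ▸ add_le_add hu (Multiset.map_le_map hu), rfl⟩
  simp only [← h3]
  constructor
  · rintro ⟨a, t, h4, h5, rfl⟩
    exact ⟨a, _, h4, ⟨t, h5, rfl⟩, by rw [sum_natDegree_of_cycF hrp fun e he =>
      h1 e (Multiset.mem_of_le h5 (Multiset.mem_add.2 (Or.inl he)))]⟩
  · rintro ⟨a, _, h4, ⟨t, h5, rfl⟩, rfl⟩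
    exact ⟨a, t, h4, h5, by rw [sum_natDegree_of_cycF hrp fun e he =>
      h1 e (Multiset.mem_of_le h5 (Multiset.mem_add.2 (Or.inl he)))]⟩

theorem cG_dvd (hG : Geom B Q τ) (hD : DT σ r p D) (h : Iso B Q f) (hf : f ^ r = 1)
    (hY : ∀ v ∈ Y, f v ∈ Y) (hN : ND B Y) (hle : Y ≤ perp B (fixS f)) :
    cG D (orderOf ((Fintype.card F : ℕ) : ZMod r)) ∣ finrank F Y := by
  have h1 := fun e => hG.mem_cycF_of_le h hD.ne hf hY hle (e := e)
  rw [finrank_eq_sum_ed hY, sum_natDegree_of_cycF hD.ne h1, cG]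
  split_ifs with hi
  · exact dvd_mul_left _ _
  · obtain ⟨t, ht⟩ := hD.exists_eq_add_map hG.invol hi h1 (hG.map_uDual_of_nd h hY hN)
    rw [ht]
    exact ⟨Multiset.card t, by simp; ring⟩

theorem exists_nd_cG (hG : Geom B Q τ) (hD : DT σ r p D) (h : Iso B Q f) (hf : f ^ r = 1) {w : ℕ}
    (hw : w * cG D (orderOf ((Fintype.card F : ℕ) : ZMod r)) ≤ finrank F (perp B (fixS f))) :
    ∃ Y : Submodule F V, (∀ v ∈ Y, f v ∈ Y) ∧ Y ≤ perp B (fixS f) ∧ ND B Y ∧
      finrank F Y = w * cG D (orderOf ((Fintype.card F : ℕ) : ZMod r)) := by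
  have hrp := hD.ne
  have hs := isSemisimple_of_pow_eq_one hrp hf
  have h1 : ∀ e ∈ movE f, e ∈ cycF F r := fun e => mem_cycF_of_mem_movE hrp hf
  have hP := hG.perp_inv h (fixS_inv f)
  have hi0 := orderOf_pos_of_ne_zero (natCast_ne_zero_of_card (F := F) hrp)
  rw [finrank_eq_sum_ed hP, hG.ed_perp_fixS h hs, sum_natDegree_of_cycF hrp h1] at hw
  obtain ⟨t, h3, h4, h5⟩ : ∃ t, t ≤ movE f ∧ t.map (uDual σ) = t ∧
      Multiset.card t * orderOf ((Fintype.card F : ℕ) : ZMod r) =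
        w * cG D (orderOf ((Fintype.card F : ℕ) : ZMod r)) := by
    unfold cG at hw ⊢
    split_ifs at hw ⊢ with hi
    · obtain ⟨t, ht, rfl⟩ := exists_le_card_eq (Nat.le_of_mul_le_mul_right hw hi0)
      exact ⟨t, ht, map_eq_self_of_forall fun e he => (hD.dual e
        (h1 e (Multiset.mem_of_le ht he))).2 hi, rfl⟩
    · obtain ⟨t, ht⟩ := hD.exists_eq_add_map hG.invol hi h1 (hG.map_uDual_movE' h hs)
      obtain ⟨u, hu, rfl⟩ := exists_le_card_eq (t := t) (v := w) (by
        rw [ht, ← mul_assoc] at hw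
        have := Nat.le_of_mul_le_mul_right hw hi0
        simp only [Multiset.card_add, Multiset.card_map] at this
        omega)
      refine ⟨u + u.map (uDual σ), ht ▸ add_le_add hu (Multiset.map_le_map hu), ?_,
        by simp; ring⟩
      rw [Multiset.map_add, Multiset.map_map, add_comm, map_eq_self_of_forall (μ := u)]
      intro e he
      have h3 := h1 e (ht ▸ Multiset.mem_add.2 (Or.inl (Multiset.mem_of_le hu he)))
      exact uDual_uDual' hG.invol (mem_cycF.1 h3).2.1 (coeff_zero_of_mem_cycF h3)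
  obtain ⟨Y, hY, h6, h7, rfl⟩ := hG.exists_nd_in h hs hP (hG.nd_perp (hG.nd_fixS h hs)) (s := t)
    (fun e he => hD.good e (h1 e (Multiset.mem_of_le h3 he))) h4 (by rwa [hG.ed_perp_fixS h hs])
  exact ⟨Y, hY, h6, h7, by rw [finrank_eq_sum_ed hY, sum_natDegree_of_cycF hrp
    fun e he => h1 e (Multiset.mem_of_le h3 he), h5]⟩

theorem cG_dvd_inf (hG : Geom B Q τ) (hD : DT σ r p D) (h : Iso B Q f) (hf : f ^ r = 1)
    (hW : ∀ v ∈ W, f v ∈ W) (hN : ND B W) :
    cG D (orderOf ((Fintype.card F : ℕ) : ZMod r)) ∣ finrank F ↥(W ⊓ perp B (fixS f)) :=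
  hG.cG_dvd hD h hf (inf_inv hW (hG.perp_inv h (fixS_inv f)))
    (hG.nd_inf_perp_fixS h (isSemisimple_of_pow_eq_one hD.ne hf) hW hN) inf_le_right

theorem le_fixS_of_lt_cG (hG : Geom B Q τ) (hD : DT σ r p D) (h : Iso B Q f) (hf : f ^ r = 1)
    (hW : ∀ v ∈ W, f v ∈ W) (hN : ND B W)
    (hlt : finrank F W < cG D (orderOf ((Fintype.card F : ℕ) : ZMod r))) : W ≤ fixS f :=
  hG.le_fixS_of_inf h (isSemisimple_of_pow_eq_one hD.ne hf) hW (Nat.eq_zero_of_dvd_of_lt
    (hG.cG_dvd_inf hD h hf hW hN) ((Submodule.finrank_mono inf_le_left).trans_lt hlt))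

theorem mod_cG_le (hG : Geom B Q τ) (hD : DT σ r p D) (h : Iso B Q f) (hf : f ^ r = 1)
    (hW : ∀ v ∈ W, f v ∈ W) (hN : ND B W) :
    finrank F W % cG D (orderOf ((Fintype.card F : ℕ) : ZMod r)) ≤ finrank F (fixS f) :=
  (mod_le_of_dvd (hG.finrank_eq_fixS h (isSemisimple_of_pow_eq_one hD.ne hf) hW).symm
    (hG.cG_dvd_inf hD h hf hW hN)).trans (Submodule.finrank_mono inf_le_right)

end Geom

end Cfsg.Agent.Cl.Der
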