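import Mathlib
import Cfsg.Agent.Cl.DerGen
import Cfsg.Agent.Cl.UOrder
import Cfsg.Agent.Cl.UMatrix
import Cfsg.Agent.Cl.QuadDisc

/-! Unitary geometry: isometries of prime order modulo scalars. -/

set_option autoImplicit false
set_option linter.unusedSectionVars false

namespace Cfsg.Agent.Cl.Der

open Polynomial Module Cfsg.Agent.Cl.Cls

variable {F V : Type*} [Field F] [AddCommGroup V] [Module F V] [FiniteDimensional F V]
  {f : End F V} {U W S Y Z : Submodule F V} {σ : F →+* F} {B : V →ₛₗ[σ] V →ₗ[F] F} {q : ℕ}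

/-- A unitary geometry. -/
structure GeomU (B : V →ₛₗ[σ] V →ₗ[F] F) (q : ℕ) : Prop where
  uf : UField σ q
  herm : IsHerm B.flip

/-- Unitary isometries. -/
abbrev IsoU (B : V →ₛₗ[σ] V →ₗ[F] F) (f : End F V) : Prop := Iso B (fun x => B x x) f

/-- Totally isotropic subspaces. -/
abbrev TSU (B : V →ₛₗ[σ] V →ₗ[F] F) (W : Submodule F V) : Prop := TS B (fun x => B x x) W

theorem isoU_of (h : ∀ x y, B (f x) (f y) = B x y) : IsoU B f := ⟨h, fun x => h x x⟩

theorem tsU_of (h : ∀ x ∈ W, ∀ y ∈ W, B x y = 0) : TSU B W := ⟨h, fun x hx => h x hx x hx⟩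

/-- `z` has norm one and is not the `r`-th power of an element of norm one. -/
def NP (q r : ℕ) (z : F) : Prop := z ^ (q + 1) = 1 ∧ ∀ c : F, c ^ (q + 1) = 1 → c ^ r ≠ z

theorem exists_nonpow_iff' {g : F} {N r n : ℕ} [hr : Fact r.Prime] (hg : IsPrimitiveRoot g N)
    (hN : N ≠ 0) (hq : r ∣ N) (hn : n ≠ 0) :
    (∃ (z : F) (k : ℕ), (z ^ N = 1 ∧ ∀ c : F, c ^ N = 1 → c ^ r ≠ z) ∧ k * r = n ∧
      ((-1) ^ (r - 1) * z) ^ k = 1) ↔
      ¬ (padicValNat r n ≤ padicValNat r N ∧ (r = 2 → Even n → N % 4 = 0)) := by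
  have hm : ((-1 : F) ^ (r - 1)) ^ N = 1 := by
    rcases hr.1.eq_two_or_odd' with h2 | h2
    · subst h2
      rw [← pow_mul, Even.neg_one_pow ((even_iff_two_dvd.2 hq).mul_left _)]
    · rw [(Nat.Odd.sub_odd h2 odd_one).neg_one_pow, one_pow]
  have flip : (r = 2 → N % 4 = 0) → ∀ z : F, (∀ c : F, c ^ N = 1 → c ^ r ≠ z) →
      ∀ c : F, c ^ N = 1 → c ^ r ≠ (-1) ^ (r - 1) * z := fun h4 z hz c hc1 hc => by
    rcases hr.1.eq_two_or_odd' with h2 | h2
    · obtain ⟨k, rfl⟩ := Nat.dvd_of_mod_eq_zero (h4 h2)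
      subst h2
      have h5 : (g ^ k) ^ 2 = -1 := by
        rw [← pow_mul]
        exact (hg.pow (by omega) (by ring : 4 * k = k * 2 * 2)).eq_neg_one_of_two_right
      refine hz (g ^ k * c) ?_ (by rw [mul_pow, hc, h5]; simp)
      rw [mul_pow, hc1, ← pow_mul, mul_comm k, pow_mul, hg.pow_eq_one, one_pow, one_mul]
    · rw [(Nat.Odd.sub_odd h2 odd_one).neg_one_pow, one_mul] at hc
      exact hz c hc1 hc
  constructor
  · rintro ⟨z, k, ⟨hz1, hz⟩, rfl, hk⟩ ⟨h1, h2⟩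
    have h3 := flip (fun h => h2 h (h ▸ (even_two.mul_left k))) z hz
    exact absurd (lt_of_nonpow hg hN hn (dvd_mul_left r k) (by rw [mul_pow, hm, hz1, one_mul])
      h3 (by rwa [Nat.mul_div_cancel _ hr.1.pos])) (not_lt.2 h1)
  · intro h
    by_cases h4 : r = 2 → Even n → N % 4 = 0
    · have h1 : padicValNat r N < padicValNat r n := not_le.1 fun h1 => h ⟨h1, h4⟩
      obtain ⟨w, hw1, hw2, hw3, -⟩ := exists_nonpow hg hN hq h1
      have hrn := dvd_of_lt_padicValNat h1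
      refine ⟨(-1) ^ (r - 1) * w, n / r, ⟨by rw [mul_pow, hm, hw1, one_mul],
        flip (fun h2 => h4 h2 (even_iff_two_dvd.2 (h2 ▸ hrn))) w hw2⟩, Nat.div_mul_cancel hrn, ?_⟩
      rw [← mul_assoc, ← mul_pow, neg_one_mul, neg_neg, one_pow, one_mul, hw3]
    · push Not at h4
      obtain ⟨h2, ⟨k, hk⟩, h5⟩ := h4
      subst h2
      obtain ⟨M, rfl⟩ := hq
      refine ⟨-1, k, ⟨by simp, fun c hc1 hc => ?_⟩, by omega, by simp⟩
      rw [pow_mul, hc, Odd.neg_one_pow (Nat.odd_iff.2 (by omega))] at hc1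
      have h6 := (hg.pow (by omega) (mul_comm 2 M)).eq_neg_one_of_two_right
      rw [hc1] at h6
      have := Nat.le_of_dvd (by omega) (hg.dvd_of_pow_eq_one _ h6)
      omega

theorem pow_eq_smul_of_ed {k : ℕ} {z : F} (h : ∀ e ∈ ed f, e ∣ X ^ k - C z) : f ^ k = z • 1 :=
  aeval_X_pow_sub_C_eq_zero.1 ((aeval_eq_zero_iff_ed _ _).2 h)

theorem det_of_prod_ed {r k : ℕ} (hr : r ≠ 0) {z : F} (hk : k * r = finrank F V)
    (h : (ed f).prod = (X ^ r - C z) ^ k) : LinearMap.det f = ((-1) ^ (r - 1) * z) ^ k := by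
  rw [det_eq_ed, h, ← hk, coeff_zero_eq_eval_zero, eval_pow, mul_comm k r, pow_mul, ← mul_pow]
  congr 1
  obtain ⟨s, hs⟩ := Nat.exists_eq_succ_of_ne_zero hr
  simp [hs, pow_succ]

theorem ringChar_ne_two (h2 : (2 : F) ≠ 0) : ringChar F ≠ 2 := fun h => h2 (by
  have := ringChar.charP F
  rw [h] at this
  exact CharP.cast_eq_zero F 2)

namespace GeomU

theorem geom (hG : GeomU B q) : Geom B (fun x => B x x)
    (AddMonoidHom.id F + (AddMonoidHom.mulLeft (1 : F)).comp σ) := geom_herm hG.herm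

theorem ne_id (hG : GeomU B q) : σ ≠ RingHom.id F := fun e => by
  obtain ⟨a, ha⟩ := hG.herm.exists_ne
  exact ha (by rw [e]; rfl)

theorem good (hG : GeomU B q) (e : F[X]) : Good σ e := Or.inl hG.ne_id

theorem res (hG : GeomU B q) (hU : ND B U) : GeomU (resB B U) q :=
  ⟨hG.uf, ⟨hG.herm.toUInvol, fun x y => hG.herm.symm x y, (hG.geom.res hU).nondeg'⟩⟩

theorem norm_iff (hG : GeomU B q) {c : F} : σ c * c = 1 ↔ c ^ (q + 1) = 1 := by
  rw [mul_comm, hG.uf.norm_eq_pow]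

theorem hasTS_iff (hG : GeomU B q) (hW : ND B W) {a : ℕ} :
    HasTS B (fun x => B x x) W a ↔ 2 * a ≤ finrank F W := by
  have := hG.uf.finite
  refine ⟨hG.geom.two_mul_le_of_hasTS hW, fun h => hG.geom.hasTS_of_sing hW (e := 2)
    (fun Y _ h1 h2 => ?_) (by omega)⟩
  obtain ⟨u, w, h3, -, h4⟩ := (hG.res h1).herm.exists_hyperbolic_pair h2
  refine ⟨u, u.2, fun h0 => ?_, h3⟩
  rw [show u = 0 from Subtype.ext h0] at h4
  simp at h4

theorem plus (hG : GeomU B q) (hW : ND B W) (he : Even (finrank F W)) :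
    Plus B (fun x => B x x) W := by
  obtain ⟨a, ha⟩ := he
  rw [← two_mul] at ha
  rw [plus_iff ha, hG.hasTS_iff hW, ha]

theorem exists_nd (hG : GeomU B q) (hW : ND B W) {a : ℕ} (h : a ≤ finrank F W) :
    ∃ Y, Y ≤ W ∧ ND B Y ∧ finrank F Y = a := by
  obtain ⟨Y, h1, -, h2, h3⟩ := exists_le_of_res (B := B) (f := 1) (W := W) (fun _ h => h) (m := a)
    (by
      obtain ⟨Y, hY, h1, h2⟩ := (hG.res hW).geom.exists_nd (f := 1) iso_one End.isSemisimple_id
        (s := Multiset.replicate a (X - C 1)) (fun e _ => hG.good e)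
        (by rw [Multiset.map_replicate, uDual_X_sub_one]) (by
          rw [← ed_restrict_top (fun _ _ => Submodule.mem_top), ed_restrict_of_eq _ fun _ _ => rfl,
            finrank_top]
          exact (Multiset.replicate_le_replicate _).2 h)
      exact ⟨Y, by rw [finrank_eq_sum_ed hY, h2, Multiset.map_replicate, natDegree_X_sub_C]; simp,
        h1, hY⟩)
  exact ⟨Y, h1, h2, h3⟩

theorem isom (hG : GeomU B q) (hU : ND B U) (hW : ND B W) (h : finrank F U = finrank F W) :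
    Isom B (fun x => B x x) U W := by
  have := hG.uf.finite
  obtain ⟨e, he⟩ := (hG.res hU).herm.exists_equiv (hG.res hW).herm h
  exact ⟨e, fun x y => he y x, fun x => he x x⟩

theorem realOn (hG : GeomU B q) (hW : ND B W) {μ : Multiset F[X]} (h1 : ∀ e ∈ μ, IsPP e)
    (h0 : ∀ e ∈ μ, e.coeff 0 ≠ 0) (hd : (μ.map natDegree).sum = finrank F W)
    (h2 : μ.map (uDual σ) = μ) : RealOn B (fun x => B x x) W μ := by
  have := hG.uf.finite
  obtain ⟨M, h3, rfl⟩ := exists_unitary_edM_eq (ι := Fin (finrank F W)) hG.uf.invol h1 h0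
    (by rw [hd, Fintype.card_fin]) h2
  obtain ⟨e, he⟩ := (hG.res hW).herm.exists_equiv_uStd rfl
  have h4 := (uStd_preserves_iff M).2 ((uStar_mul_self_eq_one_iff M).1 h3)
  exact hG.geom.realOn_of_equiv hW (B' := (uStd σ _).flip) (Q' := fun x => uStd σ _ x x) e.symm
    (fun x y => by
      have := he (e.symm y) (e.symm x)
      rw [e.apply_symm_apply, e.apply_symm_apply] at this
      exact this.symm)
    (fun x => by
      have := he (e.symm x) (e.symm x)
      rw [e.apply_symm_apply] at this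
      exact this.symm) ⟨fun x y => h4 y x, fun x => h4 x x⟩

theorem exists_ed (hG : GeomU B q) {μ : Multiset F[X]} (h1 : ∀ e ∈ μ, IsPP e)
    (h0 : ∀ e ∈ μ, e.coeff 0 ≠ 0) (hd : (μ.map natDegree).sum = finrank F V)
    (h2 : μ.map (uDual σ) = μ) : ∃ f, IsoU B f ∧ ed f = μ :=
  (hG.realOn hG.geom.nd_top h1 h0 (by rwa [finrank_top]) h2).top

theorem det_pow (hG : GeomU B q) (h : IsoU B f) : LinearMap.det f ^ (q + 1) = 1 := by
  obtain ⟨g, rfl⟩ := hG.geom.exists_isoRep (S := ⊥) h (by simp)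
  have h1 := hG.herm.det_mem_uNormOne (g := g.1) fun u v => h.mapB v u
  rw [mem_uNormOne, LinearEquiv.coe_det, hG.uf.norm_eq_pow] at h1
  exact h1

theorem card_isoFix (hG : GeomU B q) :
    Nat.card (isoFix B (fun x => B x x) ⊥) = uOrd q (finrank F V) := by
  rw [← hG.herm.card_UG hG.uf rfl]
  congr 2
  ext g
  exact mem_isoFix_bot.trans ⟨fun h u v => h.mapB v u, fun h => isoU_of fun u v => h v u⟩

theorem iso_smul (hG : GeomU B q) (h : IsoU B f) {c : F} (hc : c ^ (q + 1) = 1) :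
    IsoU B (c • f) := hG.geom.iso_smul h (hG.norm_iff.2 hc)

/-- Reduction to elements of order `r` and elements of non-power type. -/
theorem forall_iff (hG : GeomU B q) [Nontrivial V] {r : ℕ} {P : End F V → Prop}
    (hP : ∀ f (c : F), c ≠ 0 → P f → P (c • f)) :
    (∀ f, IsoU B f → LinearMap.det f = 1 → (∃ z : F, f ^ r = z • 1) → (∀ z : F, f ≠ z • 1) →
      P f) ↔ (∀ f, IsoU B f → f ^ r = 1 → (∀ z : F, f ≠ z • 1) →
        (∃ c : F, c ^ (q + 1) = 1 ∧ c ^ finrank F V * LinearMap.det f = 1) → P f) ∧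
      ∀ f (z : F), IsoU B f → LinearMap.det f = 1 → f ^ r = z • 1 → NP q r z → P f := by
  have hne : ∀ c : F, c ^ (q + 1) = 1 → c ≠ 0 := fun c hc h0 => by simp [h0] at hc
  have hinv : ∀ (c : F) (f : End F V), c ≠ 0 → c⁻¹ • c • f = f := fun c f hc => by
    rw [smul_smul, inv_mul_cancel₀ hc, one_smul]
  constructor
  · intro H
    refine ⟨fun f h h1 h2 ⟨c, h3, h4⟩ => ?_, fun f z h h1 h2 h3 => H f h h1 ⟨z, h2⟩ ?_⟩
    · rw [← hinv c f (hne c h3)]
      refine hP _ _ (inv_ne_zero (hne c h3)) (H _ (hG.iso_smul h h3)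
        (by rw [LinearMap.det_smul, h4]) ⟨c ^ r, by rw [_root_.smul_pow, h1]⟩ fun z hz => ?_)
      exact h2 (c⁻¹ * z) (by rw [← hinv c f (hne c h3), hz, smul_smul])
    · rintro c rfl
      refine h3.2 c (hG.norm_iff.1 (hG.geom.norm_eq_one h)) ?_
      rw [_root_.smul_pow, one_pow] at h2
      exact smul_left_injective F one_ne_zero h2
  · rintro ⟨H1, H2⟩ f h h1 ⟨z, h2⟩ h3
    by_cases h4 : ∃ c : F, c ^ (q + 1) = 1 ∧ c ^ r = z
    · obtain ⟨c, h4, rfl⟩ := h4
      have h5 := hinv c⁻¹ f (inv_ne_zero (hne c h4))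
      rw [inv_inv] at h5
      rw [← h5]
      refine hP _ _ (hne c h4) (H1 _ (hG.iso_smul h (by rw [inv_pow, h4, inv_one]))
        (smul_pow_eq_one (hne c h4) h2) (fun z hz => h3 (c * z) (by rw [← h5, hz, smul_smul]))
        ⟨c, h4, by rw [← LinearMap.det_smul, h5, h1]⟩)
    · push Not at h4
      exact H2 f z h h1 h2 ⟨hG.norm_iff.1 (hG.geom.norm_eq_one (h2 ▸ h.pow r)), h4⟩

theorem exists_eig (hG : GeomU B q) (h2 : (2 : F) ≠ 0) (h : IsoU B f) {c : F}
    (hc : c ^ (q + 1) = -1) (hf : f ^ 2 = c ^ 2 • 1) :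
    ∃ U W : Submodule F V, TSU B U ∧ TSU B W ∧ IsCompl U W ∧ (∀ v ∈ U, f v = c • v) ∧
      (∀ v ∈ W, f v = -c • v) ∧ finrank F U = finrank F W := by
  rw [← hG.uf.norm_eq_pow] at hc
  have h1 : ∀ c : F, c * σ c = -1 → TSU B (End.eigenspace f c) := fun c hc =>
    tsU_of fun u hu v hv => by
      have := h.mapB u v
      rw [End.mem_eigenspace_iff.1 hu, End.mem_eigenspace_iff.1 hv] at this
      simp only [map_smul, LinearMap.map_smulₛₗ, LinearMap.smul_apply, smul_eq_mul] at this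
      refine (mul_eq_zero.1 ?_).resolve_left h2
      linear_combination -this + B u v * hc
  have hc0 : c ≠ 0 := by
    rintro rfl
    simp at hc
  have hff : ∀ v, f (f v) = c ^ 2 • v := fun v => LinearMap.congr_fun (sq f ▸ hf) v
  have h3 := h1 c hc
  have h4 := h1 (-c) (by rw [map_neg, neg_mul_neg, hc])
  have h5 : IsCompl (End.eigenspace f c) (End.eigenspace f (-c)) := by
    refine hG.geom.isCompl_of_ts h3 h4 (eq_top_iff.2 fun v _ => Submodule.mem_sup.2
      ⟨(2 : F)⁻¹ • (v + c⁻¹ • f v), Submodule.smul_mem _ _ ?_, (2 : F)⁻¹ • (v - c⁻¹ • f v),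
        Submodule.smul_mem _ _ ?_, ?_⟩)
    · rw [End.mem_eigenspace_iff, map_add, map_smul, hff, smul_add, smul_smul, smul_smul, sq,
        inv_mul_cancel_left₀ hc0, mul_inv_cancel₀ hc0, one_smul, add_comm]
    · rw [End.mem_eigenspace_iff, map_sub, map_smul, hff, smul_sub, smul_smul, smul_smul, sq,
        inv_mul_cancel_left₀ hc0, neg_mul, mul_inv_cancel₀ hc0, neg_smul, neg_smul, one_smul]
      abel
    · rw [← smul_add, add_add_sub_cancel, ← two_smul F, smul_smul, inv_mul_cancel₀ h2, one_smul]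
  refine ⟨_, _, h3, h4, h5, fun v => End.mem_eigenspace_iff.1, fun v => End.mem_eigenspace_iff.1,
    ?_⟩
  have := hG.geom.two_mul_le_of_ts h3
  have := hG.geom.two_mul_le_of_ts h4
  have := Submodule.finrank_add_eq_of_isCompl h5
  omega

variable {r : ℕ} [hr : Fact r.Prime] [Fintype F]

theorem card_eq (hG : GeomU B q) : Fintype.card F = q ^ 2 := by
  rw [← Nat.card_eq_fintype_card, hG.uf.card]

theorem exists_primitiveRoot (hG : GeomU B q) : ∃ g : F, IsPrimitiveRoot g (q + 1) :=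
  Der.exists_primitiveRoot ⟨q - 1, by rw [hG.card_eq, ← Nat.sq_sub_sq, one_pow]⟩

theorem pow_sq_sub_one (hG : GeomU B q) {c : F} (hc : c ≠ 0) : (c ^ (q + 1)) ^ (q - 1) = 1 := by
  rw [← pow_mul, ← Nat.sq_sub_sq, one_pow, ← hG.card_eq, pow_card_sub_one_eq_one_iff]
  exact hc

theorem NP_ne (hG : GeomU B q) (h2 : r ≠ 2) {z : F} (hz : NP q r z) (c : F) : c ^ r ≠ z := by
  rintro rfl
  have h0 : c ≠ 0 := by
    rintro rfl
    simpa [hr.1.ne_zero] using hz.1
  have h1 := dvd_of_nonpow hz.1 hz.2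
  have h3 := hG.uf.two_le
  have h4 : r.Coprime (q - 1) := (Nat.Prime.coprime_iff_not_dvd hr.1).2 fun h => h2
    ((Nat.prime_dvd_prime_iff_eq hr.1 Nat.prime_two).1
      ((by omega : q + 1 - (q - 1) = 2) ▸ Nat.dvd_sub h1 h))
  refine hz.2 c ?_ rfl
  rw [← orderOf_eq_one_iff]
  exact Nat.eq_one_of_dvd_coprimes h4 (orderOf_dvd_of_pow_eq_one
    (by rw [← pow_mul, mul_comm, pow_mul, hz.1])) (orderOf_dvd_of_pow_eq_one (hG.pow_sq_sub_one h0))

theorem NP_two (hG : GeomU B q) {z : F} (hz : NP q 2 z) :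
    (2 : F) ≠ 0 ∧ ∃ c, c ^ (q + 1) = -1 ∧ c ^ 2 = z := by
  obtain ⟨k, hk⟩ := dvd_of_nonpow hz.1 hz.2
  have h3 := hG.uf.two_le
  have h0 : z ≠ 0 := by
    rintro rfl
    simpa using hz.1
  have h2 : (2 : F) ≠ 0 := quad_two_ne_zero_of_odd
    (hG.card_eq ▸ (Nat.odd_iff.2 (by omega : q % 2 = 1)).pow)
  obtain ⟨c, rfl⟩ := (FiniteField.isSquare_iff (ringChar_ne_two h2) h0).2 (by
    have : Fintype.card F / 2 = (q + 1) * (k - 1) := by
      obtain ⟨k, rfl⟩ : ∃ j, k = j + 1 := ⟨k - 1, by omega⟩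
      obtain rfl : q = 2 * k + 1 := by omega
      rw [hG.card_eq, Nat.add_sub_cancel, Nat.div_eq_iff two_pos]
      constructor <;> ring_nf <;> omega
    rw [this, pow_mul, hz.1, one_pow])
  refine ⟨h2, c, (mul_self_eq_one_iff.1 ?_).resolve_left fun h => hz.2 c h (sq c), sq c⟩
  rw [← mul_pow, hz.1]

theorem NP_isSemisimple (hG : GeomU B q) {z : F} (hz : NP q r z) (hf : f ^ r = z • 1) :
    f.IsSemisimple := by
  refine isSemisimple_of_pow_eq (fun h => ?_) (by rintro rfl; simpa using hz.1) hf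
  obtain ⟨k, hk⟩ := dvd_of_nonpow hz.1 hz.2
  have h1 := congrArg (Nat.cast : ℕ → F) hk
  rw [Nat.cast_mul, h, zero_mul, Nat.cast_add, hG.uf.cast_eq_zero, zero_add, Nat.cast_one] at h1
  exact one_ne_zero h1

theorem NP_ed (hG : GeomU B q) (h2 : r ≠ 2) {z : F} (hz : NP q r z) (hf : f ^ r = z • 1) :
    ∃ k, ed f = Multiset.replicate k (X ^ r - C z) ∧ k * r = finrank F V := by
  obtain ⟨k, h1, h3⟩ := ed_eq_replicate (monic_X_pow_sub_C z hr.1.ne_zero)
    (X_pow_sub_C_irreducible_of_prime hr.1 (hG.NP_ne h2 hz)) (aeval_X_pow_sub_C_eq_zero.2 hf)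
  exact ⟨k, h1, by rwa [natDegree_X_pow_sub_C] at h3⟩

theorem NP_dvd_of_ne (hG : GeomU B q) (h2 : r ≠ 2) {z : F} (hz : NP q r z) (hf : f ^ r = z • 1)
    (hW : ∀ v ∈ W, f v ∈ W) : r ∣ finrank F W := by
  obtain ⟨k, h1, h3⟩ := ed_eq_replicate (monic_X_pow_sub_C z hr.1.ne_zero)
    (X_pow_sub_C_irreducible_of_prime hr.1 (hG.NP_ne h2 hz))
    (aeval_X_pow_sub_C_eq_zero.2 (restrict_pow_eq hf hW))
  exact ⟨k, by rw [← h3, natDegree_X_pow_sub_C, mul_comm]⟩

theorem NP_uDual (hG : GeomU B q) {z : F} (hz : z ^ (q + 1) = 1) :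
    uDual σ (X ^ r - C z) = X ^ r - C z := by
  rw [uDual_X_pow_sub_C hr.1.ne_zero (by rintro rfl; simp at hz),
    inv_eq_of_mul_eq_one_right (hG.norm_iff.2 hz)]

theorem NP_det (hG : GeomU B q) (h : IsoU B f) {z : F} (hz : NP q r z) (hf : f ^ r = z • 1) :
    ∃ k, k * r = finrank F V ∧ LinearMap.det f = ((-1) ^ (r - 1) * z) ^ k := by
  by_cases h2 : r = 2
  · subst h2
    obtain ⟨h2, c, h3, rfl⟩ := hG.NP_two hz
    obtain ⟨U, W, -, -, h4, h5, h6, h7⟩ := hG.exists_eig h2 h h3 hf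
    have h8 := Submodule.finrank_add_eq_of_isCompl h4
    refine ⟨finrank F U, by omega, det_of_prod_ed two_ne_zero (by omega) ?_⟩
    rw [ed_eq_add_restrict f h4 (inv_of_eq_smul h5 le_rfl) (inv_of_eq_smul h6 le_rfl),
      ed_restrict_of_eq_smul _ h5, ed_restrict_of_eq_smul _ h6, Multiset.prod_add,
      Multiset.prod_replicate, Multiset.prod_replicate, ← h7, ← mul_pow, C_neg, C_pow]
    congr 1
    ring
  · obtain ⟨k, h1, h3⟩ := hG.NP_ed h2 hz hf
    exact ⟨k, h3, det_of_prod_ed hr.1.ne_zero h3 (by rw [h1, Multiset.prod_replicate])⟩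

theorem NP_dvd (hG : GeomU B q) (h : IsoU B f) {z : F} (hz : NP q r z) (hf : f ^ r = z • 1)
    (hW : ∀ v ∈ W, f v ∈ W) (hN : ND B W) : r ∣ finrank F W := by
  obtain ⟨k, h1, -⟩ := (hG.res hN).NP_det (h.res hW) hz (restrict_pow_eq hf hW)
  exact h1 ▸ dvd_mul_left r k

theorem NP_exists_ts (hG : GeomU B q) (h : IsoU B f) {z : F} (hz : NP q r z) (hf : f ^ r = z • 1)
    {m : ℕ} (hm : 2 * m ≤ finrank F V) (hm' : r = 2 ∨ r ∣ m) :
    ∃ W : Submodule F V, finrank F W = m ∧ TSU B W ∧ ∀ v ∈ W, f v ∈ W := by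
  by_cases h2 : r = 2
  · subst h2
    obtain ⟨h2, c, h3, rfl⟩ := hG.NP_two hz
    obtain ⟨U, W, h9, -, h4, h5, h6, h7⟩ := hG.exists_eig h2 h h3 hf
    have h8 := Submodule.finrank_add_eq_of_isCompl h4
    obtain ⟨T, h7, h8⟩ := exists_le_finrank_eq (W := U) (k := m) (by omega)
    exact ⟨T, h8, h9.mono h7, inv_of_eq_smul h5 h7⟩
  · obtain ⟨k, h1, h3⟩ := hG.NP_ed h2 hz hf
    obtain ⟨v, rfl⟩ := hm'.resolve_left h2
    obtain ⟨U, hU, h4, h5⟩ := hG.geom.exists_ts h (hG.NP_isSemisimple hz hf)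
      (s := Multiset.replicate v (X ^ r - C z)) (fun e _ => hG.good e) (by
        rw [Multiset.map_replicate, hG.NP_uDual hz.1, h1, ← Multiset.replicate_add,
          Multiset.replicate_le_replicate]
        exact Nat.le_of_mul_le_mul_right (by rw [h3]; linarith) hr.1.pos)
    exact ⟨U, by rw [finrank_eq_sum_ed hU, h5, Multiset.map_replicate, natDegree_X_pow_sub_C,
      Multiset.sum_replicate, smul_eq_mul, mul_comm], h4, hU⟩

theorem NP_exists_nd (hG : GeomU B q) (h : IsoU B f) {z : F} (hz : NP q r z) (hf : f ^ r = z • 1)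
    {m : ℕ} (hm : m ≤ finrank F V) (hm' : r ∣ m) :
    ∃ W : Submodule F V, finrank F W = m ∧ ND B W ∧ ∀ v ∈ W, f v ∈ W := by
  have hs := hG.NP_isSemisimple hz hf
  obtain ⟨v, rfl⟩ := hm'
  by_cases h2 : r = 2
  · obtain ⟨U, h3, h4, hU⟩ := hG.NP_exists_ts h hz hf (m := v) (h2 ▸ hm) (Or.inl h2)
    obtain ⟨Z, hZ, h5, h6, h7⟩ := hG.geom.exists_hull h hs hU h4.le_perp
    refine ⟨Z, ?_, h6, hZ⟩
    rw [finrank_eq_sum_ed hZ, h7, Multiset.map_add, Multiset.sum_add, Multiset.map_map,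
      Multiset.map_congr (f := natDegree ∘ uDual _) rfl (g := natDegree) fun e he => natDegree_uDual
        (hG.geom.coeff_zero_ne h (Multiset.mem_of_le (ed_restrict_le hs hU) he)), sum_natDegree_ed,
      h3, h2, two_mul]
  · obtain ⟨k, h1, h3⟩ := hG.NP_ed h2 hz hf
    obtain ⟨U, hU, h4, h5⟩ := hG.geom.exists_nd h hs
      (s := Multiset.replicate v (X ^ r - C z)) (fun e _ => hG.good e)
      (by rw [Multiset.map_replicate, hG.NP_uDual hz.1]) (by
        rw [h1, Multiset.replicate_le_replicate]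
        exact Nat.le_of_mul_le_mul_right (by rw [h3]; linarith) hr.1.pos)
    exact ⟨U, by rw [finrank_eq_sum_ed hU, h5, Multiset.map_replicate, natDegree_X_pow_sub_C,
      Multiset.sum_replicate, smul_eq_mul, mul_comm], h4, hU⟩

theorem NP_exists (hG : GeomU B q) {z : F} (hz : NP q r z) {k : ℕ} (hk : k * r = finrank F V) :
    ∃ f, IsoU B f ∧ f ^ r = z • 1 := by
  have h0 : z ≠ 0 := by
    rintro rfl
    simpa using hz.1
  by_cases h2 : r = 2
  · subst h2
    obtain ⟨h2, c, h3, rfl⟩ := hG.NP_two hz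
    have hc : c ≠ 0 := fun h => h0 (by rw [h, zero_pow two_ne_zero])
    rw [← hG.uf.norm_eq_pow] at h3
    have h4 : ∀ e ∈ Multiset.replicate k (X - C c) + Multiset.replicate k (X - C (-c)),
        ∃ d, d ≠ 0 ∧ d ^ 2 = c ^ 2 ∧ e = X - C d := fun e he => by
      rcases Multiset.mem_add.1 he with h | h
      exacts [⟨c, hc, rfl, Multiset.eq_of_mem_replicate h⟩,
        ⟨-c, neg_ne_zero.2 hc, neg_sq c, Multiset.eq_of_mem_replicate h⟩]
    obtain ⟨f, f1, f2⟩ := hG.exists_ed (fun e he => by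
      obtain ⟨d, -, -, rfl⟩ := h4 e he
      exact isPP_of_irreducible (monic_X_sub_C d) (irreducible_X_sub_C d)) (fun e he => by
      obtain ⟨d, h, -, rfl⟩ := h4 e he
      simpa using h) (by simp only [Multiset.map_add, Multiset.map_replicate, natDegree_X_sub_C]
                         simp
                         omega) (by
      rw [Multiset.map_add, Multiset.map_replicate, Multiset.map_replicate, uDual_X_sub_C hc,
        uDual_X_sub_C (neg_ne_zero.2 hc), add_comm,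
        inv_eq_of_mul_eq_one_left (by rw [neg_mul, h3, neg_neg] : -c * σ c = 1),
        inv_eq_of_mul_eq_one_left (by rw [map_neg, mul_neg, h3, neg_neg] : c * σ (-c) = 1)])
    refine ⟨f, f1, pow_eq_smul_of_ed fun e he => ?_⟩
    obtain ⟨d, -, h, rfl⟩ := h4 e (f2 ▸ he)
    exact dvd_iff_isRoot.2 (by simp [h])
  · obtain ⟨f, f1, f2⟩ := hG.exists_ed (μ := Multiset.replicate k (X ^ r - C z)) (fun e he => by
      rw [Multiset.eq_of_mem_replicate he]
      exact isPP_of_irreducible (monic_X_pow_sub_C z hr.1.ne_zero)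
        (X_pow_sub_C_irreducible_of_prime hr.1 (hG.NP_ne h2 hz))) (fun e he => by
      rw [Multiset.eq_of_mem_replicate he, coeff_zero_eq_eval_zero]
      simpa [hr.1.ne_zero] using h0)
      (by rw [Multiset.map_replicate, natDegree_X_pow_sub_C, Multiset.sum_replicate, smul_eq_mul, hk])
      (by rw [Multiset.map_replicate, hG.NP_uDual hz.1])
    exact ⟨f, f1, pow_eq_smul_of_ed fun e he =>
      (Multiset.eq_of_mem_replicate (f2 ▸ he : e ∈ Multiset.replicate k _)).dvd⟩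

/-- When elements of non-power type exist. -/
theorem exists_NP_iff (hG : GeomU B q) [Nontrivial V] :
    (∃ (f : End F V) (z : F), IsoU B f ∧ LinearMap.det f = 1 ∧ f ^ r = z • 1 ∧ NP q r z) ↔ r ∣ q + 1 ∧
      ¬ (padicValNat r (finrank F V) ≤ padicValNat r (q + 1) ∧
        (r = 2 → Even (finrank F V) → (q + 1) % 4 = 0)) := by
  obtain ⟨g, hg⟩ := hG.exists_primitiveRoot
  have hn := (finrank_pos (R := F) (M := V)).ne'
  constructor
  · rintro ⟨f, z, h1, h2, h3, h4⟩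
    obtain ⟨k, h5, h6⟩ := hG.NP_det h1 h4 h3
    have h7 := dvd_of_nonpow h4.1 h4.2
    exact ⟨h7, (exists_nonpow_iff' hg (by omega) h7 hn).1 ⟨z, k, h4, h5, h6 ▸ h2⟩⟩
  · rintro ⟨h1, h2⟩
    obtain ⟨z, k, h3, h4, h5⟩ := (exists_nonpow_iff' hg (by omega) h1 hn).2 h2
    obtain ⟨f, h6, h7⟩ := hG.NP_exists h3 h4
    obtain ⟨k', h8, h9⟩ := hG.NP_det h6 h3 h7
    obtain rfl : k = k' := Nat.eq_of_mul_eq_mul_right hr.1.pos (h4.trans h8.symm)
    exact ⟨f, z, h6, h9.trans h5, h7, h3⟩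

end GeomU

end Cfsg.Agent.Cl.Der
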