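import Mathlib
import Cfsg.Agent.Cl.DerU

/-! Unitary geometry: orders, models and the bridge to matrices. -/

set_option autoImplicit false
set_option linter.unusedSectionVars false

namespace Cfsg.Agent.Cl.Der

open Polynomial Module Cfsg.Agent.Cl.Cls

variable {F V : Type*} [Field F] [AddCommGroup V] [Module F V] [FiniteDimensional F V]
  {f : End F V} {U W S Y Z : Submodule F V} {σ : F →+* F} {B : V →ₛₗ[σ] V →ₗ[F] F} {q : ℕ}

theorem oddc_of_nodup {α : Type*} {μ : Multiset α} (h : μ.Nodup) : oddc μ = Multiset.card μ := by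
  classical
  rw [oddc, Finset.filter_true_of_mem fun a ha => by
    rw [Multiset.count_eq_one_of_mem h (by simpa using ha)]
    exact odd_one]
  convert Multiset.toFinset_card_of_nodup h

variable {r : ℕ} [hr : Fact r.Prime]

theorem orderOf_sq (a : ZMod r) :
    orderOf (a ^ 2) = if Even (orderOf a) then orderOf a / 2 else orderOf a := by
  rw [orderOf_pow' _ two_ne_zero]
  split_ifs with h
  · rw [Nat.gcd_eq_right (even_iff_two_dvd.1 h)]
  · rw [(Nat.coprime_two_right.2 (Nat.not_even_iff_odd.1 h)).gcd_eq_one, Nat.div_one]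

theorem exists_sq_pow_eq_neg_iff (h2 : r ≠ 2) {a : ZMod r} (ha : a ≠ 0) :
    (∃ j, (a ^ 2) ^ j = -a) ↔ orderOf a % 4 = 2 := by
  have hi := orderOf_pos_of_ne_zero ha
  constructor
  · rintro ⟨j, hj⟩
    have h1 : a ^ (2 * j + (orderOf a - 1)) = -1 := by
      rw [pow_add, pow_mul, hj, neg_mul, ← pow_succ', Nat.sub_add_cancel hi, pow_orderOf_eq_one]
    obtain ⟨k, hk⟩ := even_orderOf_of_pow_eq_neg_one h2 h1
    obtain ⟨l, hl⟩ := orderOf_dvd_of_pow_eq_one (x := a) (n := (2 * j + (orderOf a - 1)) * 2)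
      (by rw [pow_mul, h1, neg_one_sq])
    by_contra h3
    obtain ⟨s, rfl⟩ : ∃ s, k = 2 * s := ⟨k / 2, by omega⟩
    rw [hk, show (2 * s + 2 * s) * l = 4 * (s * l) by ring] at hl
    omega
  · intro h
    refine ⟨orderOf a / 4 + 1, ?_⟩
    rw [← pow_mul, show 2 * (orderOf a / 4 + 1) = orderOf a / 2 + 1 by omega, pow_succ,
      pow_half_eq_neg_one ha (Nat.even_iff.2 (by omega)), neg_one_mul]

theorem dvd_add_one_iff (h2 : r ≠ 2) (q : ℕ) : r ∣ q + 1 ↔ orderOf (q : ZMod r) = 2 := by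
  have h1 := dvd_pow_add_one_iff (r := r) q 1
  rw [pow_one, pow_one] at h1
  rw [h1]
  constructor
  · intro h
    rw [h]
    exact orderOf_eq_prime neg_one_sq (neg_one_ne_one_zmod h2)
  · intro h
    have h3 := pow_orderOf_eq_one (q : ZMod r)
    rw [h, sq, mul_self_eq_one_iff] at h3
    refine h3.resolve_left fun h4 => ?_
    rw [h4, orderOf_one] at h
    omega

theorem mod_four_of_odd_pow (h2 : r ≠ 2) {a : ZMod r} {j : ℕ} (hj : Odd j) (h : a ^ j = -1) :
    orderOf a % 4 = 2 ∧ orderOf a / 2 ∣ j := by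
  obtain ⟨k, hk⟩ := even_orderOf_of_pow_eq_neg_one h2 h
  obtain ⟨l, hl⟩ := orderOf_dvd_of_pow_eq_one (x := a) (n := j * 2)
    (by rw [pow_mul, h, neg_one_sq])
  have h1 : j = k * l := by
    rw [hk, add_mul] at hl
    omega
  have h3 := Nat.odd_iff.1 (Nat.odd_mul.1 (h1 ▸ hj)).1
  exact ⟨by omega, by rw [show orderOf a / 2 = k by omega]; exact ⟨l, h1⟩⟩

theorem uOrd_two_mul (q d : ℕ) : uOrd q (2 * d) = qfac (q ^ 2) d *
    (q ^ (2 * d * (2 * d - 1) / 2) * ∏ i ∈ Finset.range d, (q ^ (2 * i + 1) + 1)) := by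
  rw [uOrd, mul_left_comm]
  congr 1
  induction d with
  | zero => simp [qfac]
  | succ d ih =>
    rw [mul_add, mul_one, Finset.prod_range_succ, Finset.prod_range_succ, ih, qfac_succ,
      Finset.prod_range_succ, if_pos (even_two_mul d),
      if_neg (Nat.not_even_iff_odd.2 (odd_two_mul_add_one d)), ← pow_mul, mul_add 2 d 1]
    ring

theorem eq_of_mem_cycF_two {e : F[X]} (he : e ∈ cycF F 2) : e = X - C (-1) := by
  obtain ⟨h1, h2, h3⟩ := mem_cycF.1 he
  rw [cyclotomic_two, show (X + 1 : F[X]) = X - C (-1) by simp] at h3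
  exact eq_of_monic_of_associated h2 (monic_X_sub_C _)
    (h1.associated_of_dvd (irreducible_X_sub_C _) h3)

variable [Fintype F] {p : ℕ} [hp : Fact p.Prime] [CharP F p]

theorem det_of_sq_eq_one (h2 : 2 ≠ p) (hf : f ^ 2 = 1) :
    LinearMap.det f = (-1) ^ Multiset.card (movE f) := by
  rw [det_eq_movE, Multiset.eq_replicate_card.2 fun e he =>
    eq_of_mem_cycF_two (mem_cycF_of_mem_movE h2 hf he), Multiset.map_replicate, natDegree_X_sub_C]
  simp [coeff_zero_eq_eval_zero]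

theorem det_of_pow_char (hf : f ^ p = 1) : LinearMap.det f = 1 := by
  have h1 := congrArg LinearMap.det hf
  rw [map_pow, map_one, ← one_pow p] at h1
  exact frobenius_inj F p h1

theorem orderOf_card_two (h2 : 2 ≠ p) : orderOf ((Fintype.card F : ℕ) : ZMod 2) = 1 := by
  have h1 := natCast_ne_zero_of_card (F := F) h2
  have h3 := orderOf_le_sub_one h1
  have h4 := orderOf_pos_of_ne_zero h1
  omega

namespace GeomU

theorem exists_pow (hG : GeomU B q) : ∃ a, q = p ^ a := by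
  have h0 : CharP F p := inferInstance
  obtain ⟨p', k, h1, h2, -, h3⟩ := hG.uf.exists_prime_pow
  exact ⟨k, by rw [h3, CharP.eq F h2 h0]⟩

theorem dvd_iff (hG : GeomU B q) : r ∣ q ↔ r = p := by
  rw [← dvd_card_iff (F := F), hG.card_eq]
  exact ⟨fun h => dvd_pow h two_ne_zero, hr.1.dvd_of_dvd_pow⟩

theorem cast_ne_zero (hG : GeomU B q) (hrp : r ≠ p) : (q : ZMod r) ≠ 0 := fun h =>
  hrp (hG.dvd_iff.1 ((ZMod.natCast_eq_zero_iff _ _).1 h))

theorem orderOf_card (hG : GeomU B q) : orderOf ((Fintype.card F : ℕ) : ZMod r) =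
    if Even (orderOf (q : ZMod r)) then orderOf (q : ZMod r) / 2 else orderOf (q : ZMod r) := by
  rw [hG.card_eq, Nat.cast_pow, orderOf_sq]

theorem dt (hG : GeomU B q) (hrp : r ≠ p) (h2 : r ≠ 2) :
    DT σ r p (orderOf (q : ZMod r) % 4 = 2) := by
  refine ⟨hrp, fun e _ => hG.good e, fun e he => ?_⟩
  have h1 := hG.cast_ne_zero hrp
  have h3 := hG.card_eq
  obtain ⟨a, rfl⟩ := hG.exists_pow (p := p)
  rw [uDual_eq_self_iff hrp hG.uf.pow hG.herm.invol he, h3, Nat.cast_pow _ 2,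
    exists_sq_pow_eq_neg_iff h2 h1]

theorem dt_two (hG : GeomU B q) (h2 : 2 ≠ p) : DT σ 2 p True :=
  ⟨h2, fun e _ => hG.good e, fun e he => iff_of_true (by
    rw [eq_of_mem_cycF_two he, uDual_X_sub_C (by simp)]
    simp) trivial⟩

theorem cG_eq (hG : GeomU B q) : cG (orderOf (q : ZMod r) % 4 = 2)
    (orderOf ((Fintype.card F : ℕ) : ZMod r)) = if orderOf (q : ZMod r) % 4 = 0 then
      orderOf (q : ZMod r) else if orderOf (q : ZMod r) % 4 = 2 then orderOf (q : ZMod r) / 2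
      else 2 * orderOf (q : ZMod r) := by
  rw [hG.orderOf_card, cG]
  simp only [Nat.even_iff]
  split_ifs <;> omega

theorem det_eq_one (hG : GeomU B q) (h : IsoU B f) (hf : f ^ r = 1) (h1 : ¬ r ∣ q + 1) :
    LinearMap.det f = 1 := by
  rw [← orderOf_eq_one_iff]
  exact Nat.eq_one_of_dvd_coprimes ((Nat.Prime.coprime_iff_not_dvd hr.1).2 h1)
    (orderOf_dvd_of_pow_eq_one (by rw [← map_pow, hf, map_one]))
    (orderOf_dvd_of_pow_eq_one (hG.det_pow h))

theorem ne_smul (hG : GeomU B q) [Nontrivial V] (h : IsoU B f) (hf : f ^ r = 1) (h1 : ¬ r ∣ q + 1)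
    (h2 : f ≠ 1) (z : F) : f ≠ z • 1 := by
  rintro rfl
  rw [_root_.smul_pow, one_pow] at hf
  have h3 : z ^ r = 1 := smul_left_injective F one_ne_zero (hf.trans (one_smul F _).symm)
  have h4 : orderOf z = 1 := Nat.eq_one_of_dvd_coprimes ((Nat.Prime.coprime_iff_not_dvd hr.1).2 h1)
    (orderOf_dvd_of_pow_eq_one h3)
    (orderOf_dvd_of_pow_eq_one (hG.norm_iff.1 (hG.geom.norm_eq_one h)))
  exact h2 (by rw [orderOf_eq_one_iff.1 h4, one_smul])

theorem not_char_dvd (hG : GeomU B q) : ¬ p ∣ q + 1 := fun h =>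
  hp.1.one_lt.ne' (Nat.dvd_one.1 ((Nat.dvd_add_right (hG.dvd_iff.2 rfl)).1 h))

theorem exists_of_cycF (hG : GeomU B q) (hrp : r ≠ p) {μ : Multiset F[X]}
    (h1 : ∀ e ∈ μ, e ∈ cycF F r) (h2 : μ.map (uDual σ) = μ)
    (h3 : Multiset.card μ * orderOf ((Fintype.card F : ℕ) : ZMod r) ≤ finrank F V) :
    ∃ f, IsoU B f ∧ f ^ r = 1 ∧ movE f = μ := by
  obtain ⟨W, -, h4, h5⟩ := hG.exists_nd hG.geom.nd_top (h3.trans (finrank_top F V).ge)
  obtain ⟨f, h6, h7, -, h8⟩ := hG.geom.exists_of_realOn_cycF hrp h4 h1 (hG.realOn h4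
    (fun e he => isPP_of_mem_cycF (h1 e he)) (fun e he => coeff_zero_of_mem_cycF (h1 e he))
    (by rw [sum_natDegree_of_cycF hrp h1, h5]) h2)
  exact ⟨f, h6, h7, h8⟩

theorem exists_model (hG : GeomU B q) {D : Prop} (hD : DT σ r p D) {w o : ℕ}
    (hd : (2 * w + o) * orderOf ((Fintype.card F : ℕ) : ZMod r) ≤ finrank F V)
    (ho : o ≤ (r - 1) / orderOf ((Fintype.card F : ℕ) : ZMod r)) (ho' : ¬ D → o = 0) :
    ∃ f, IsoU B f ∧ f ^ r = 1 ∧ Multiset.card (movE f) = 2 * w + o ∧ oG D f = o := by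
  by_cases hi : D
  · obtain ⟨μ, h3, h4, h5⟩ := exists_oddc_eq (cycF_nonempty (F := F) (r := r))
      ((card_cycF (F := F) hD.ne).symm ▸ ho) w
    obtain ⟨f, f1, f2, rfl⟩ := hG.exists_of_cycF hD.ne h3
      (map_eq_self_of_forall fun e he => (hD.dual e (h3 e he)).2 hi) (h4 ▸ hd)
    exact ⟨f, f1, f2, h4, by rw [oG_pos hi, h5]⟩
  · obtain ⟨e, he⟩ := cycF_nonempty (F := F) (r := r)
    obtain rfl := ho' hi
    obtain ⟨f, f1, f2, f3⟩ := hG.exists_of_cycF hD.ne
      (μ := Multiset.replicate w e + Multiset.replicate w (uDual σ e)) (fun e' he' => by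
        rcases Multiset.mem_add.1 he' with h | h <;> rw [Multiset.eq_of_mem_replicate h]
        · exact he
        · exact uDual_mem_cycF hG.herm.invol (natCast_ne_zero_of_ne hD.ne) he)
      (by rw [Multiset.map_add, Multiset.map_replicate, Multiset.map_replicate, add_comm,
        uDual_uDual' hG.herm.invol (mem_cycF.1 he).2.1 (coeff_zero_of_mem_cycF he)])
      (by simpa [two_mul] using hd)
    exact ⟨f, f1, f2, by simp [f3, two_mul], oG_neg hi⟩

theorem exists_model_one (hG : GeomU B q) {D : Prop} (hD : DT σ r p D) (hi : D) (h2 : r ≠ 2)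
    (h1 : orderOf ((Fintype.card F : ℕ) : ZMod r) = 1) {k : ℕ} (hk : 2 * k ≤ finrank F V)
    (hk' : 2 * k ≤ r - 1) : ∃ f, IsoU B f ∧ f ^ r = 1 ∧ LinearMap.det f = 1 ∧
      Multiset.card (movE f) = 2 * k ∧ oG D f = 2 * k := by
  classical
  have hF := natCast_ne_zero_of_ne (F := F) hD.ne
  have h3 : ∀ e ∈ cycF F r, uDual (RingHom.id F) (uDual (RingHom.id F) e) = e := fun e he =>
    uDual_uDual' (fun _ => rfl) (mem_cycF.1 he).2.1 (coeff_zero_of_mem_cycF he)
  obtain ⟨T, hT⟩ := exists_eq_add_map_of_cycF hD.ne h2 (h1 ▸ odd_one) (μ := (cycF F r).val)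
    (fun _ h => h) (by
      refine (Multiset.Nodup.ext ((cycF F r).nodup.map_on fun a ha b hb h => by
        rw [← h3 a ha, h, h3 b hb]) (cycF F r).nodup).2 fun e => ⟨fun he => ?_, fun he => ?_⟩
      · obtain ⟨a, ha, rfl⟩ := Multiset.mem_map.1 he
        exact uDual_mem_cycF (fun _ => rfl) hF ha
      · exact Multiset.mem_map.2 ⟨_, uDual_mem_cycF (fun _ => rfl) hF he, h3 e he⟩)
  have h4 := card_cycF (F := F) hD.ne
  rw [h1, Nat.div_one, Finset.card_def, hT, Multiset.card_add, Multiset.card_map] at h4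
  obtain ⟨t, ht, rfl⟩ := exists_le_card_eq (t := T) (v := k) (by omega)
  have h5 : t + t.map (uDual (RingHom.id F)) ≤ (cycF F r).val :=
    hT ▸ add_le_add ht (Multiset.map_le_map ht)
  have h6 : ∀ e ∈ t + t.map (uDual (RingHom.id F)), e ∈ cycF F r := fun e he =>
    Multiset.mem_of_le h5 he
  have h7 : Multiset.card (t + t.map (uDual (RingHom.id F))) = 2 * Multiset.card t := by
    simp [two_mul]
  obtain ⟨f, f1, f2, f3⟩ := hG.exists_of_cycF hD.ne h6
    (map_eq_self_of_forall fun e he => (hD.dual e (h6 e he)).2 hi) (by rwa [h7, h1, mul_one])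
  refine ⟨f, f1, f2, ?_, f3 ▸ h7, by
    rw [oG_pos hi, f3, oddc_of_nodup (Multiset.nodup_of_le h5 (cycF F r).nodup), h7]⟩
  rw [det_eq_movE, f3, sum_natDegree_of_cycF hD.ne h6, h7, h1, coeff_zero_prod_add_map fun e he =>
    have := h6 e (Multiset.mem_add.2 (Or.inl he))
    ⟨(mem_cycF.1 this).2.1, coeff_zero_of_mem_cycF this⟩]
  simp

theorem not_dvd_card_ts (hG : GeomU B q) {m : ℕ} (hm : 2 * m ≤ finrank F V) :
    ¬ p ∣ Nat.card {W : Submodule F V // finrank F W = m ∧ TSU B W} := by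
  refine not_dvd_of_modEq_one (hG.geom.card_ts_modEq m fun Y h1 h2 => ?_)
  have h3 := (hG.res h1).herm.card_isotropic hG.uf rfl
  rw [Nat.card_congr (β := {v : Y // v ≠ 0 ∧ (resB B Y).flip v v = 0})
    ⟨fun y => ⟨⟨y.1, y.2.1.1⟩, fun h => y.2.1.2 (congrArg Subtype.val h), y.2.2⟩,
      fun y => ⟨y.1.1, ⟨y.1.2, fun h => y.2.1 (Subtype.ext h)⟩, y.2.2⟩, fun _ => rfl, fun _ => rfl⟩,
    h3, ← Int.natCast_dvd_natCast, Nat.cast_add, cast_uIsoNum (by have := hG.uf.two_le; omega)]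
  obtain ⟨k, hk⟩ : ∃ k, finrank F Y = k + 2 := ⟨finrank F Y - 2, by omega⟩
  obtain ⟨a, ha⟩ := (hG.dvd_iff (r := p)).2 rfl
  have h4 : ((-1 : ℤ) ^ (k + 2)) * (-1) ^ (k + 2) = 1 := by rw [← mul_pow]; simp
  rw [hk, show k + 2 - 1 = k + 1 from rfl]
  refine ⟨a * (q ^ (k + 1) * (q ^ (k + 1) + (-1) ^ (k + 2)) - (-1) ^ (k + 2) * q ^ k), ?_⟩
  have h5 : (q : ℤ) = p * a := by exact_mod_cast ha
  rw [← mul_assoc, ← h5]
  push_cast
  linear_combination -h4

end GeomU

theorem ne_smul_of_movE [Nontrivial V] (h1 : 0 < finrank F (fixS f)) (h2 : f ≠ 1) (z : F) :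
    f ≠ z • 1 := by
  rintro rfl
  obtain ⟨v, hv, h0⟩ := (Submodule.ne_bot_iff (fixS (z • (1 : End F V)))).1 fun h => by
    rw [h, finrank_bot] at h1
    omega
  have h3 : z • v = (1 : F) • v := by rw [one_smul]; exact mem_fixS.1 hv
  exact h2 (by rw [smul_left_injective F h0 h3, one_smul])

variable {n : ℕ}

variable (σ n) in
/-- The standard Hermitian form. -/
abbrev uB : (Fin n → F) →ₛₗ[σ] (Fin n → F) →ₗ[F] F := (uStd σ (Fin n)).flip

theorem geomU_uB (h : UField σ q) : GeomU (uB σ n) q := ⟨h, h.isHerm_uStd _⟩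

theorem ts_uB_iff (h : UField σ q) {W : Submodule F (Fin n → F)} :
    (∀ u ∈ W, ∀ v ∈ W, Cfsg.hermForm n F q u v = 0) ↔ TSU (uB σ n) W := by
  simp only [h.hermForm_eq]
  exact ⟨fun H => tsU_of fun u hu v hv => H v hv u hu, fun H u hu v hv => H.1 v hv u hu⟩

theorem nd_uB_iff (h : UField σ q) {W : Submodule F (Fin n → F)} :
    (∀ u ∈ W, u ≠ 0 → ∃ v ∈ W, Cfsg.hermForm n F q u v ≠ 0) ↔ ND (uB σ n) W := by
  simp only [h.hermForm_eq, nd_iff_ne]
  exact forall₃_congr fun u _ _ => exists_congr fun v => and_congr_right fun _ =>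
    (h.isHerm_uStd (Fin n)).eq_zero_comm.not

theorem iso_uB_iff {M : Matrix (Fin n) (Fin n) F} :
    IsoU (uB σ n) (Matrix.toLin' M) ↔ M.transpose * M.map σ = 1 :=
  ⟨fun h => (uStd_preserves_iff M).1 fun u v => h.mapB v u,
    fun h => isoU_of fun u v => (uStd_preserves_iff M).2 h v u⟩

theorem su_forall_iff (h : UField σ q) {r : ℕ} (P : End F (Fin n → F) → Prop) :
    (∀ x : Matrix.SpecialLinearGroup (Fin n) F, x ∈ Cfsg.SU n F q →
      (∃ z : F, ((x ^ r : Matrix.SpecialLinearGroup (Fin n) F) : Matrix (Fin n) (Fin n) F) =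
        z • (1 : Matrix (Fin n) (Fin n) F)) →
      (∀ z : F, (x : Matrix (Fin n) (Fin n) F) ≠ z • (1 : Matrix (Fin n) (Fin n) F)) →
      P (Matrix.toLin' (x : Matrix (Fin n) (Fin n) F))) ↔
    ∀ f, IsoU (uB σ n) f → LinearMap.det f = 1 → (∃ z : F, f ^ r = z • 1) →
      (∀ z : F, f ≠ z • 1) → P f := by
  constructor
  · intro H f h1 h2 h3 h4
    obtain ⟨M, rfl⟩ := Matrix.toLin'.surjective f
    rw [LinearMap.det_toLin'] at h2
    exact H ⟨M, h2⟩ ((h.mem_SU_iff _).2 (iso_uB_iff.1 h1))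
      (h3.imp fun z hz => toLin'_pow_eq_smul.1 hz) fun z hz => h4 z (toLin'_eq_smul.2 hz)
  · intro H x h1 h2 h3
    exact H _ (iso_uB_iff.2 ((h.mem_SU_iff _).1 h1)) (det_toLin'_SL x)
      (h2.imp fun z hz => toLin'_pow_eq_smul.2 hz) fun z hz => h3 z (toLin'_eq_smul.1 hz)

end Cfsg.Agent.Cl.Der
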