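import Mathlib
import Cfsg.Agent.Cl.DerU2

/-! Arithmetic criteria for invariant subspaces. -/

set_option autoImplicit false
set_option linter.unusedSectionVars false

namespace Cfsg.Agent.Cl.Der

open Polynomial Module Cfsg.Agent.Cl.Cls

theorem ts_arith {n m b T ε : ℕ} {D : Prop} (hb : 0 < b) (hT : 1 ≤ T) (hm : 2 * m + ε ≤ n)
    (hbm : b ≤ m) : (∀ w o k, k + (2 * w + o) * b = n → 0 < 2 * w + o → o ≤ T → (¬ D → o = 0) →
      ∃ a v, 2 * a + ε ≤ k ∧ v ≤ w ∧ m = a + v * b) ↔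
    2 * (m % b) + ε ≤ n % cG D b ∧ (¬ D ∨ T + 2 * (m / b) ≤ n / b) := by
  have hm1 := Nat.div_add_mod m b
  have hc := lt_cG (D := D) hb
  constructor
  · intro H
    refine ⟨?_, or_iff_not_imp_left.2 fun h3 => ?_⟩
    · obtain ⟨w, o, h1, h2, h3⟩ := exists_mul_cG (D := D) (b := b) hT (n / cG D b)
      have h4 := Nat.div_add_mod' n (cG D b)
      have h5 : 0 < n / cG D b := Nat.div_pos (by unfold cG; split_ifs <;> omega) hc
      obtain ⟨a, v, h6, -, h7⟩ := H w o (n % cG D b) (by omega) (Nat.pos_of_mul_pos_right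
        (h1 ▸ Nat.mul_pos h5 hc)) h2 h3
      have := mod_le_of_add_mul h7.symm
      omega
    by_contra h4
    have h5 : 1 ≤ m / b := (Nat.one_le_div_iff hb).2 hbm
    have h6 : 2 * (m / b) ≤ n / b := (Nat.le_div_iff_mul_le hb).2 (by
      have := Nat.div_mul_le_self m b
      rw [mul_assoc]
      omega)
    have h7 := Nat.div_add_mod n b
    have h8 := Nat.mod_lt n hb
    obtain ⟨o, ho⟩ : ∃ o, n / b + 1 = 2 * (m / b) + o := ⟨_, (Nat.add_sub_cancel' (by omega)).symm⟩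
    have h9 : (2 * 0 + o) * b ≤ n := (Nat.le_div_iff_mul_le hb).1 (by omega)
    obtain ⟨a, v, h9, h10, h11⟩ := H 0 o (n - (2 * 0 + o) * b) (by omega) (by omega)
      (by omega) fun h => absurd h h3
    obtain rfl : v = 0 := by omega
    have : b * (n / b) + b = 2 * (b * (m / b)) + (2 * 0 + o) * b := by
      rw [← mul_add_one, ho]
      ring
    omega
  · rintro ⟨h2, h3⟩ w o k h4 - h6 h7
    have h8 := mod_le_of_dvd h4 (cG_dvd_mul h7)
    rcases le_total (m / b) w with h9 | h9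
    · exact ⟨m % b, m / b, by omega, by omega, by rw [mul_comm]; omega⟩
    · have h10 := Nat.mul_le_mul_left b h9
      refine ⟨m - w * b, w, ?_, le_rfl, by rw [mul_comm]; omega⟩
      suffices 2 * m + ε + o * b ≤ n by
        rw [add_mul, mul_assoc] at h4
        omega
      by_cases h11 : D
      · have h12 := Nat.mul_le_mul_left b (h3.resolve_left (not_not.2 h11))
        have h13 := Nat.mul_le_mul_left b h6
        have h14 := Nat.div_add_mod n b
        rw [cG_pos h11] at h2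
        nlinarith
      · rw [h7 h11]
        omega

theorem nd_arith {n m c : ℕ} {k : ℕ} (hm : m ≤ n) (hk : k ≤ n) (h1 : c ∣ n - k)
    (h2 : m % c ≤ n % c) : ∃ a j, a ≤ k ∧ j * c ≤ n - k ∧ m = a + j * c := by
  have h3 := mod_le_of_dvd (Nat.add_sub_cancel' hk) h1
  obtain ⟨w, hw⟩ := h1
  have h4 := Nat.div_add_mod' m c
  rw [mul_comm] at hw
  rcases le_total (m / c) w with h5 | h5
  · exact ⟨m % c, m / c, by omega, hw ▸ Nat.mul_le_mul_right c h5, by omega⟩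
  · have := Nat.mul_le_mul_right c h5
    exact ⟨m - w * c, w, by omega, hw.ge, by omega⟩

theorem exists_le_of_one_two {μ : Multiset ℕ} (h : ∀ a ∈ μ, 0 < a ∧ a ≤ 2) {m : ℕ}
    (hm : m ≤ μ.sum) (h1 : Odd μ.sum ∨ Even m) : ∃ ν, ν ≤ μ ∧ ν.sum = m := by
  obtain ⟨k, s, rfl⟩ := eq_replicate_add_of_mem (s := μ) (a := 1) (b := 2) fun a ha => by
    have := h a ha
    omega
  change m ≤ (oneA k s 2).sum at hm
  change Odd (oneA k s 2).sum ∨ _ at h1
  rw [sum_oneA] at hm h1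
  refine (exists_sum_oneA_iff hm).2 ?_
  rw [Nat.odd_iff, Nat.even_iff] at h1
  omega

variable {F V A : Type*} [Field F] [AddCommGroup V] [Module F V] [FiniteDimensional F V]
  [AddCommGroup A] {τ : F →+ A} {Q : V → A}
  {f : End F V} {U W S Y Z : Submodule F V} {σ : F →+* F} {B : V →ₛₗ[σ] V →ₗ[F] F} {q : ℕ}

theorem ne_smul_of_oddc (h : 2 ≤ oddc (movE f)) (z : F) : f ≠ z • 1 := by
  classical
  rintro rfl
  have h1 := oddc_le_card (μ := movE (z • (1 : End F V))) (S := {X - C z}) fun e he => by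
    have h2 := Multiset.mem_of_le (Multiset.filter_le _ _) he
    rw [← ed_restrict_top (fun _ _ => Submodule.mem_top),
      ed_restrict_of_eq_smul _ (c := z) fun _ _ => rfl] at h2
    rw [Multiset.eq_of_mem_replicate h2]
    exact Finset.mem_singleton_self _
  rw [Finset.card_singleton] at h1
  omega

theorem smul_inv_of {c : F} (h : ∀ v ∈ W, f v ∈ W) : ∀ v ∈ W, (c • f) v ∈ W :=
  fun v hv => W.smul_mem c (h v hv)

theorem map_smul_eq {c : F} (hc : c ≠ 0) (f : End F V) (W : Submodule F V) :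
    W.map (c • f) = W.map f := by
  simpa using map_smul_inv f (inv_ne_zero hc) W

variable {r : ℕ} [hr : Fact r.Prime] [Fintype F] {p : ℕ} [hp : Fact p.Prime] [CharP F p]

theorem Geom.ne_one_of_card (hG : Geom B Q τ) (h : Iso B Q f) (hrp : r ≠ p) (hf : f ^ r = 1)
    (h1 : 0 < Multiset.card (movE f)) : f ≠ 1 := by
  have h2 := hG.finrank_fixS_add h hrp hf
  have h3 := Nat.mul_pos h1 (orderOf_pos_of_ne_zero (natCast_ne_zero_of_card (F := F) hrp))
  exact ne_one_of_finrank_fixS (by omega)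

theorem Geom.card_pos_of_ne_one (hG : Geom B Q τ) (h : Iso B Q f) (hrp : r ≠ p) (hf : f ^ r = 1)
    (h1 : f ≠ 1) : 0 < Multiset.card (movE f) := by
  refine Nat.pos_of_ne_zero fun h0 => h1 (fixS_eq_top.1 (Submodule.eq_top_of_finrank_eq ?_))
  have h2 := hG.finrank_fixS_add h hrp hf
  rwa [h0, zero_mul, add_zero] at h2

/-- Small totally singular subspaces. -/
theorem Geom.le_of_forall_ts (hG : Geom B Q τ) (hrp : r ≠ p) {m : ℕ} (h0 : HasTS B Q ⊤ m)
    (h1 : r ∣ Nat.card {W : Submodule F V // finrank F W = m ∧ TS B Q W})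
    (H : ∀ f, Iso B Q f → f ^ r = 1 → f ≠ 1 →
      ∃ W : Submodule F V, finrank F W = m ∧ TS B Q W ∧ ∀ v ∈ W, f v ∈ W) :
    orderOf ((Fintype.card F : ℕ) : ZMod r) ≤ m := by
  by_contra! h2
  obtain ⟨Y, -, y1, y2⟩ := h0
  obtain ⟨f, f1, f2, f3, f4⟩ := hG.exists_der_of_small hrp
    (fun W => finrank F W = m ∧ TS B Q W)
    (fun f W h hW => ⟨(hG.finrank_map h W).trans hW.1, h.ts_map hW.2⟩)
    (fun W W' h h' => isom_of_ts h.2 h'.2 (h.1.trans h'.1.symm))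
    (fun f W h hf hW hW' => hG.le_fixS_of_lt h hrp hf hW' (hW.1 ▸ h2)) h1 ⟨Y, y2, y1⟩
  obtain ⟨W, h3, h4, h5⟩ := H f f1 f2 f3
  exact f4 W ⟨h3, h4⟩ h5

namespace GeomU

theorem forall_iff_of_not_dvd (hG : GeomU B q) [Nontrivial V] {P : End F V → Prop}
    (hP : ∀ f (c : F), c ≠ 0 → P f → P (c • f)) (h : ¬ r ∣ q + 1) :
    (∀ f, IsoU B f → LinearMap.det f = 1 → (∃ z : F, f ^ r = z • 1) → (∀ z : F, f ≠ z • 1) →
      P f) ↔ ∀ f, IsoU B f → f ^ r = 1 → f ≠ 1 → P f := by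
  rw [hG.forall_iff hP]
  refine ⟨fun H f h1 h2 h3 => H.1 f h1 h2 (hG.ne_smul h1 h2 h h3)
    ⟨1, one_pow _, by rw [one_pow, one_mul, hG.det_eq_one h1 h2 h]⟩, fun H => ⟨fun f h1 h2 h3 _ =>
      H f h1 h2 (by simpa using h3 1), fun f z _ _ _ h4 => absurd (dvd_of_nonpow h4.1 h4.2) h⟩⟩

theorem exists_ts_iff (hG : GeomU B q) {D : Prop} (hD : DT σ r p D) (h : IsoU B f) (hf : f ^ r = 1)
    {w : ℕ} (hw : Multiset.card (movE f) = 2 * w + oG D f) (m : ℕ) :
    (∃ W : Submodule F V, finrank F W = m ∧ TSU B W ∧ ∀ v ∈ W, f v ∈ W) ↔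
      ∃ a v, 2 * a ≤ finrank F (fixS f) ∧ v ≤ w ∧
        m = a + v * orderOf ((Fintype.card F : ℕ) : ZMod r) := by
  simp only [hG.geom.exists_ts_iff_oG hD h hf, hw, add_le_add_iff_right,
    hG.hasTS_iff (hG.geom.nd_fixS h (isSemisimple_of_pow_eq_one hD.ne hf)),
    Nat.mul_le_mul_left_iff two_pos]

theorem exists_nd_of_mod (hG : GeomU B q) {D : Prop} (hD : DT σ r p D) (h : IsoU B f)
    (hf : f ^ r = 1) {m : ℕ} (hm : m ≤ finrank F V)
    (h1 : m % cG D (orderOf ((Fintype.card F : ℕ) : ZMod r)) ≤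
      finrank F V % cG D (orderOf ((Fintype.card F : ℕ) : ZMod r))) :
    ∃ W : Submodule F V, finrank F W = m ∧ ND B W ∧ ∀ v ∈ W, f v ∈ W := by
  have h2 := hG.geom.nd_fixS h (isSemisimple_of_pow_eq_one hD.ne hf)
  have h3 := hG.geom.finrank_add_perp (fixS f)
  have h4 := hG.geom.cG_dvd hD h hf (hG.geom.perp_inv h (fixS_inv f)) (hG.geom.nd_perp h2) le_rfl
  have h5 : finrank F (perp B (fixS f)) = finrank F V - finrank F (fixS f) := by omega
  obtain ⟨a, j, h6, h7, rfl⟩ := nd_arith hm (by omega) (h5 ▸ h4) h1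
  obtain ⟨Z, z1, z2, rfl⟩ := hG.exists_nd h2 h6
  obtain ⟨Y, y1, y2, y3, y4⟩ := hG.geom.exists_nd_cG hD h hf (h5 ▸ h7)
  obtain ⟨h8, h9, h10⟩ := hG.geom.sup_of_fix z1 z2 y2 y3 y1
  exact ⟨_, by rw [h10, y4], h9, h8⟩

theorem exists_unip (hG : GeomU B q) {μ : Multiset ℕ} (h : ∀ a ∈ μ, 0 < a ∧ a ≤ p)
    (hd : μ.sum = finrank F V) :
    ∃ f, IsoU B f ∧ f ^ p = 1 ∧ ed f = μ.map fun a => (X - C (1 : F)) ^ a := by
  obtain ⟨f, f1, f2⟩ := hG.exists_ed (μ := μ.map fun a => (X - C (1 : F)) ^ a) (fun e he => by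
    obtain ⟨a, ha, rfl⟩ := Multiset.mem_map.1 he
    exact isPP_pow (monic_X_sub_C _) (irreducible_X_sub_C _) (h a ha).1) (fun e he => by
    obtain ⟨a, ha, rfl⟩ := Multiset.mem_map.1 he
    simp [coeff_zero_eq_eval_zero]) (by rw [degs_map_pow, hd]) map_uDual_map_pow
  exact ⟨f, f1, pow_char_eq_one_of_ed f2 fun a ha => (h a ha).2, f2⟩

theorem exists_nd_unip_iff (hG : GeomU B q) (h : IsoU B f) (hf : f ^ p = 1) (m : ℕ) :
    (∃ W : Submodule F V, finrank F W = m ∧ ND B W ∧ ∀ v ∈ W, f v ∈ W) ↔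
      ∃ ν, ν ≤ degs f ∧ ν.sum = m := by
  constructor
  · rintro ⟨W, rfl, h1, h2⟩
    exact ⟨_, hG.geom.degs_restrict_le h h2 h1, sum_degs _⟩
  · rintro ⟨ν, h1, rfl⟩
    obtain ⟨Y, y1, y2, rfl⟩ := hG.geom.exists_nd_unip_herm hG.ne_id h (sub_one_pow_char' hf) h1
    exact ⟨Y, finrank_eq_sum_degs y1, y2, y1⟩

theorem odd_of_ne (hG : GeomU B q) (h : 2 ≠ p) : q % 2 = 1 :=
  Nat.two_dvd_ne_zero.1 fun h1 => h (hG.dvd_iff.1 h1)

end GeomU

end Cfsg.Agent.Cl.Der
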