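import Mathlib
import Cfsg.Agent.Cl.DerU3

/-! Matrix groups versus endomorphisms; pairs of complementary totally singular subspaces. -/

set_option autoImplicit false
set_option linter.unusedSectionVars false

namespace Cfsg.Agent.Cl.Der

open Polynomial Module Cfsg.Agent.Cl.Cls

section Mat

variable {F : Type*} [Field F] {ι : Type} [Fintype ι] [DecidableEq ι]

/-- The natural representation of `GL`. -/
noncomputable def glRep : GL ι F →* End F (ι → F) where
  toFun g := Matrix.toLin' (g : Matrix ι ι F)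
  map_one' := by simp [End.one_eq_id]
  map_mul' a b := by rw [Units.val_mul, Matrix.toLin'_mul, End.mul_eq_comp]

theorem glRep_apply (g : GL ι F) : glRep g = Matrix.toLin' (g : Matrix ι ι F) := rfl

theorem isUnit_glRep (g : GL ι F) : IsUnit (glRep g) := (Group.isUnit g).map glRep

theorem glRep_injective : Function.Injective (glRep : GL ι F → End F (ι → F)) := fun _ _ h =>
  Units.ext (Matrix.toLin'.injective h)

theorem exists_glRep {f : End F (ι → F)} (h : IsUnit f) : ∃ g : GL ι F, glRep g = f := by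
  obtain ⟨M, rfl⟩ := Matrix.toLin'.surjective f
  have h1 : IsUnit M := (Matrix.isUnit_iff_isUnit_det M).2 (by
    rw [← LinearMap.det_toLin']
    exact h.map LinearMap.det)
  exact ⟨h1.unit, rfl⟩

theorem det_glRep (g : GL ι F) : LinearMap.det (glRep g) = (g : Matrix ι ι F).det :=
  LinearMap.det_toLin' _

theorem mem_specialLinear_iff {g : GL ι F} :
    g ∈ Cfsg.Geo.specialLinear ι F ↔ LinearMap.det (glRep g) = 1 := by
  rw [mem_specialLinear, det_glRep]

theorem glRep_eq_smul {g : GL ι F} {z : F} : glRep g = z • 1 ↔ (g : Matrix ι ι F) = z • 1 :=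
  toLin'_eq_smul

theorem glRep_pow_eq_smul {g : GL ι F} {r : ℕ} {z : F} :
    glRep g ^ r = z • 1 ↔ ((g ^ r : GL ι F) : Matrix ι ι F) = z • 1 := by
  rw [← map_pow, glRep_eq_smul]

theorem gl_forall_iff {M : GL ι F → Prop} {R : End F (ι → F) → Prop}
    (hM : ∀ x, M x ↔ R (glRep x)) (hR : ∀ f, R f → IsUnit f) {r : ℕ} {P' : GL ι F → Prop}
    {P : End F (ι → F) → Prop} (hP : ∀ x, M x → (P' x ↔ P (glRep x))) :
    (∀ x : GL ι F, M x → (∃ z : F, ((x ^ r : GL ι F) : Matrix ι ι F) = z • (1 : Matrix ι ι F)) →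
      (∀ z : F, (x : Matrix ι ι F) ≠ z • (1 : Matrix ι ι F)) → P' x) ↔
    ∀ f, R f → (∃ z : F, f ^ r = z • 1) → (∀ z : F, f ≠ z • 1) → P f := by
  constructor
  · intro H f h1 h2 h3
    obtain ⟨x, rfl⟩ := exists_glRep (hR f h1)
    exact (hP x ((hM x).2 h1)).1 (H x ((hM x).2 h1) (h2.imp fun z hz => glRep_pow_eq_smul.1 hz)
      fun z hz => h3 z (glRep_eq_smul.2 hz))
  · intro H x h1 h2 h3
    exact (hP x h1).2 (H _ ((hM x).1 h1) (h2.imp fun z hz => glRep_pow_eq_smul.2 hz)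
      fun z hz => h3 z (glRep_eq_smul.1 hz))

theorem gl_forall_order_iff {M : GL ι F → Prop} {R : End F (ι → F) → Prop}
    (hM : ∀ x, M x ↔ R (glRep x)) (hR : ∀ f, R f → IsUnit f) {r : ℕ} [Fact r.Prime]
    {P' : GL ι F → Prop} {P : End F (ι → F) → Prop} (hP : ∀ x, M x → (P' x ↔ P (glRep x))) :
    (∀ x : GL ι F, M x → orderOf x = r → P' x) ↔ ∀ f, R f → f ^ r = 1 → f ≠ 1 → P f := by
  have h1 : ∀ x : GL ι F, orderOf x = r ↔ glRep x ^ r = 1 ∧ glRep x ≠ 1 := fun x => by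
    rw [orderOf_eq_prime_iff, ← map_pow, ← map_one glRep, glRep_injective.eq_iff,
      glRep_injective.ne_iff]
  constructor
  · intro H f h2 h3 h4
    obtain ⟨x, rfl⟩ := exists_glRep (hR f h2)
    exact (hP x ((hM x).2 h2)).1 (H x ((hM x).2 h2) ((h1 x).2 ⟨h3, h4⟩))
  · intro H x h2 h3
    exact (hP x h2).2 (H _ ((hM x).1 h2) ((h1 x).1 h3).1 ((h1 x).1 h3).2)

theorem map_glRep_inv (g : GL ι F) (W : Submodule F (ι → F)) :
    (W.map (glRep g)).map (glRep g⁻¹) = W := by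
  rw [map_map_end, ← map_mul, inv_mul_cancel, map_one, End.one_eq_id, Submodule.map_id]

theorem map_glRep_inv' (g : GL ι F) (W : Submodule F (ι → F)) :
    (W.map (glRep g⁻¹)).map (glRep g) = W := by
  simpa using map_glRep_inv g⁻¹ W

theorem map_conj_eq_iff (g x : GL ι F) (U W : Submodule F (ι → F)) :
    U.map (glRep (g⁻¹ * x * g)) = W ↔ (U.map (glRep g)).map (glRep x) = W.map (glRep g) := by
  rw [map_mul, map_mul, ← map_map_end, ← map_map_end]
  constructor
  · rintro rfl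
    rw [map_glRep_inv']
  · intro h
    rw [h, map_glRep_inv]

theorem conj_mem_decompositionStabilizer {t : ℕ} {D : Fin t → Submodule F (ι → F)} {g x : GL ι F} :
    g⁻¹ * x * g ∈ Cfsg.Geo.decompositionStabilizer D ↔ ∃ π : Equiv.Perm (Fin t),
      ∀ j, ((D j).map (glRep g)).map (glRep x) = (D (π j)).map (glRep g) :=
  exists_congr fun _ => forall_congr' fun _ => map_conj_eq_iff g x _ _

theorem exists_perm_two_iff {α : Type*} {E : Fin 2 → α} {φ : α → α} :
    (∃ π : Equiv.Perm (Fin 2), ∀ j, φ (E j) = E (π j)) ↔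
      (φ (E 0) = E 0 ∧ φ (E 1) = E 1) ∨ (φ (E 0) = E 1 ∧ φ (E 1) = E 0) := by
  constructor
  · rintro ⟨π, h⟩
    have h0 := h 0
    have h1 := h 1
    have h2 : π 0 ≠ π 1 := π.injective.ne (by decide)
    revert h0 h1 h2
    generalize π 0 = a
    generalize π 1 = b
    fin_cases a <;> fin_cases b <;> simp +contextual
  · rintro (h | h)
    · exact ⟨1, Fin.forall_fin_two.2 h⟩
    · exact ⟨Equiv.swap 0 1, Fin.forall_fin_two.2 (by simpa using h)⟩

theorem isCompl_of_family {V : Type*} [AddCommGroup V] [Module F V] {D : Fin 2 → Submodule F V}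
    (h1 : iSupIndep D) (h2 : iSup D = ⊤) : IsCompl (D 0) (D 1) :=
  ⟨h1.pairwiseDisjoint (by decide), codisjoint_iff.2 (by
    rw [← h2, eq_comm, ← iSup_univ, ← Finset.coe_univ, Finset.iSup_coe, ← Finset.sup_eq_iSup]
    simp [Fin.univ_succ])⟩

theorem relIndex_dvd_card_pairs {D : Fin 2 → Submodule F (ι → F)} (S : Subgroup (GL ι F))
    (P : Submodule F (ι → F) × Submodule F (ι → F) → Prop)
    (hP : ∀ E, P E ↔ ∃ g ∈ S, (D 0).map (glRep g) = E.1 ∧ (D 1).map (glRep g) = E.2) :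
    (Cfsg.Geo.decompositionStabilizer D).relIndex S ∣ Nat.card {E // P E} := by
  rw [card_pair_eq_index (glRep.comp S.subtype) P (D 0) (D 1) fun E => (hP E).trans
    ⟨fun ⟨g, h1, h2⟩ => ⟨⟨g, h1⟩, h2⟩, fun ⟨g, h⟩ => ⟨g.1, g.2, h⟩⟩]
  refine Subgroup.index_dvd_of_le fun g hg => Subgroup.mem_subgroupOf.2 ⟨1, ?_⟩
  exact Fin.forall_fin_two.2 ⟨hg 0, hg 1⟩

end Mat

variable {F V A : Type*} [Field F] [AddCommGroup V] [Module F V] [FiniteDimensional F V]
  [AddCommGroup A] {τ : F →+ A} {Q : V → A}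
  {f : End F V} {U W S Y Z : Submodule F V} {σ : F →+* F} {B : V →ₛₗ[σ] V →ₗ[F] F} {q : ℕ}

/-- `f` fixes a pair of complementary totally singular subspaces. -/
def PairFix (B : V →ₛₗ[σ] V →ₗ[F] F) (Q : V → A) (f : End F V) : Prop :=
  ∃ U W : Submodule F V, IsCompl U W ∧ TS B Q U ∧ TS B Q W ∧
    ((U.map f = U ∧ W.map f = W) ∨ (U.map f = W ∧ W.map f = U))

theorem PairFix.smul (h : PairFix B Q f) {c : F} (hc : c ≠ 0) : PairFix B Q (c • f) := by
  simpa only [PairFix, map_smul_eq hc] using h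

theorem Geom.two_mul_eq_of_pair (hG : Geom B Q τ) (h : IsCompl U W) (hU : TS B Q U)
    (hW : TS B Q W) : 2 * finrank F U = finrank F V := by
  have := hG.two_mul_le_of_ts hU
  have := hG.two_mul_le_of_ts hW
  have := Submodule.finrank_add_eq_of_isCompl h
  omega

theorem Geom.perp_eq_of_ts (hG : Geom B Q τ) (hU : TS B Q U)
    (h : 2 * finrank F U = finrank F V) : perp B U = U := by
  have := hG.finrank_add_perp U
  exact (Submodule.eq_of_le_of_finrank_eq hU.le_perp (by omega)).symm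

theorem Geom.ed_of_pair (hG : Geom B Q τ) (h : Iso B Q f) (hc : IsCompl U W) (hU : TS B Q U)
    (hW : TS B Q W) (h1 : ∀ v ∈ U, f v ∈ U) (h2 : ∀ v ∈ W, f v ∈ W) :
    ed f = ed (f.restrict h1) + (ed (f.restrict h1)).map (uDual σ) := by
  rw [← hG.ed_compl_perp h h1 h2 (by rwa [hG.perp_eq_of_ts hU (hG.two_mul_eq_of_pair hc hU hW)])]
  exact ed_eq_add_restrict f hc h1 h2

theorem finrank_add_fixS_le (hc : Disjoint U W) (h : U.map f = W) :
    finrank F U + finrank F (fixS f) ≤ finrank F V := by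
  rw [← finrank_sup_of_disjoint (Submodule.disjoint_def.2 fun v h1 h2 =>
    Submodule.disjoint_def.1 hc v h1 (h ▸ ⟨v, h1, mem_fixS.1 h2⟩))]
  exact Submodule.finrank_le _

theorem finrank_fixS_of_ed {μ : Multiset ℕ} (h0 : ∀ a ∈ μ, 0 < a)
    (h : ed f = μ.map fun a => (X - C (1 : F)) ^ a) : finrank F (fixS f) = Multiset.card μ := by
  classical
  have h1 := nul_X_sub_C f 1
  rw [nul_X_sub_C', one_smul, h, Multiset.filter_eq_self.2, Multiset.card_map] at h1
  · exact h1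
  · intro e he
    obtain ⟨a, ha, rfl⟩ := Multiset.mem_map.1 he
    simp [(h0 a ha).ne']

/-- A unipotent element fixing a pair has even multiplicities or a small fixed space. -/
theorem Geom.pairFix_unip (hG : Geom B Q τ) (h : Iso B Q f) {μ : Multiset ℕ}
    (h0 : ∀ a ∈ μ, 0 < a) (h1 : ed f = μ.map fun a => (X - C (1 : F)) ^ a) (H : PairFix B Q f) :
    (∀ a, Even (μ.count a)) ∨ 2 * Multiset.card μ ≤ finrank F V := by
  obtain ⟨U, W, hc, hU, hW, ⟨h2, h3⟩ | ⟨h2, -⟩⟩ := H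
  · refine Or.inl fun a => ?_
    have h4 := hG.ed_of_pair h hc hU hW (map_le_iff.1 h2.le) (map_le_iff.1 h3.le)
    obtain ⟨ν, -, h5⟩ := exists_le_map _ (h1 ▸ h4 ▸ Multiset.le_add_right _ _ :
      ed (f.restrict (map_le_iff.1 h2.le)) ≤ μ.map fun a => (X - C (1 : F)) ^ a)
    rw [← h5, map_uDual_map_pow, ← Multiset.map_add] at h4
    rw [← degs_of_ed_eq_map h1, degs_of_ed_eq_map h4, Multiset.count_add]
    exact Even.add_self _
  · have := finrank_add_fixS_le hc.disjoint h2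
    have := hG.two_mul_eq_of_pair hc hU hW
    have := finrank_fixS_of_ed h0 h1
    omega

theorem Geom.pairFix_odd (hG : Geom B Q τ) [Nontrivial V] {r : ℕ} (hr : Odd r) (hf : f ^ r = 1)
    (H : PairFix B Q f) : ∃ W : Submodule F V, finrank F W = finrank F V / 2 ∧ TS B Q W ∧
      ∀ v ∈ W, f v ∈ W := by
  obtain ⟨U, W, hc, hU, hW, ⟨h2, -⟩ | ⟨h2, h3⟩⟩ := H
  · exact ⟨U, by have := hG.two_mul_eq_of_pair hc hU hW; omega, hU, map_le_iff.1 h2.le⟩
  · have h4 := map_pow_of_swap h2 h3 hr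
    rw [hf, End.one_eq_id, Submodule.map_id] at h4
    subst h4
    exact absurd ((codisjoint_self.1 hc.codisjoint).symm.trans (disjoint_self.1 hc.disjoint))
      top_ne_bot

theorem Geom.pairFix_cases (hG : Geom B Q τ) (H : PairFix B Q f) :
    (∃ W : Submodule F V, finrank F W = finrank F V / 2 ∧ TS B Q W ∧ ∀ v ∈ W, f v ∈ W) ∨
      2 * finrank F (fixS f) ≤ finrank F V := by
  obtain ⟨U, W, hc, hU, hW, ⟨h2, -⟩ | ⟨h2, -⟩⟩ := H
  · exact Or.inl ⟨U, by have := hG.two_mul_eq_of_pair hc hU hW; omega, hU, map_le_iff.1 h2.le⟩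
  · have := finrank_add_fixS_le hc.disjoint h2
    have := hG.two_mul_eq_of_pair hc hU hW
    omega

theorem Geom.exists_levi_det (hG : Geom B Q τ) [Nontrivial V] (hU : TS B Q U) (hW : TS B Q W)
    (hc : IsCompl U W) {c : F} (h0 : c ≠ 0) : ∃ g, Iso B Q g ∧ U.map g = U ∧ W.map g = W ∧
      LinearMap.det g = c * (σ c)⁻¹ := by
  have h1 := hG.two_mul_eq_of_pair hc hU hW
  have h2 : 0 < finrank F V := finrank_pos
  obtain ⟨k, hk⟩ : ∃ k, finrank F U = k + 1 := ⟨finrank F U - 1, by omega⟩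
  have h3 : ∀ e ∈ (X - C c) ::ₘ Multiset.replicate k (X - C (1 : F)), IsPP e ∧ e.coeff 0 ≠ 0 := by
    intro e he
    rcases Multiset.mem_cons.1 he with rfl | he
    · exact ⟨isPP_of_irreducible (monic_X_sub_C _) (irreducible_X_sub_C _), by simpa using h0⟩
    · rw [Multiset.eq_of_mem_replicate he]
      exact ⟨isPP_of_irreducible (monic_X_sub_C _) (irreducible_X_sub_C _), by simp⟩
  obtain ⟨g, hg⟩ := exists_ed_eq (V := U) (fun e he => (h3 e he).1) (by
    rw [Multiset.map_cons, Multiset.map_replicate, natDegree_X_sub_C, natDegree_X_sub_C]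
    simp [hk, add_comm])
  obtain ⟨f, f1, f2, f3, f4⟩ := hG.exists_levi hU hW hc (g := g)
    ((End.isUnit_iff _).1 ((isUnit_iff_ed g).2 fun e he => (h3 e (hg ▸ he)).2)).1
  refine ⟨f, f1, hG.map_eq f1 fun v hv => (f2 ⟨v, hv⟩).symm ▸ (g ⟨v, hv⟩).2, hG.map_eq f1 f3, ?_⟩
  rw [det_eq_ed, f4, hg, ← h1, Multiset.map_cons, Multiset.map_replicate, uDual_X_sub_C h0,
    uDual_X_sub_one]
  simp [coeff_zero_eq_eval_zero, ← mul_pow]
  ring_nf

namespace GeomU

theorem exists_iso_pair (hG : GeomU B q) [Nontrivial V] (hU : TSU B U) (hW : TSU B W)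
    (hc : IsCompl U W) (hY : TSU B Y) (hZ : TSU B Z) (hc' : IsCompl Y Z) :
    ∃ g, IsoU B g ∧ LinearMap.det g = 1 ∧ U.map g = Y ∧ W.map g = Z := by
  have := hG.uf.finite
  obtain ⟨g, g1, g2, g3⟩ := hG.geom.exists_iso_pair hU hW hc hY hZ hc'
  have h1 := hG.norm_iff.2 (hG.det_pow g1)
  obtain ⟨c, h2, h3⟩ := hG.uf.invol.hilbert90 (u := σ (LinearMap.det g)) (by
    rw [hG.geom.invol, h1])
  obtain ⟨l, l1, l2, l3, l4⟩ := hG.geom.exists_levi_det hU hW hc h2
  exact ⟨g * l, g1.mul l1, by rw [map_mul, l4, ← h3, mul_comm, h1], by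
    rw [← map_map_end, l2, g2], by rw [← map_map_end, l3, g3]⟩

end GeomU

theorem mem_GU_inf_iff [Fintype F] {n : ℕ} (h : UField σ q) (x : GL (Fin n) F) :
    x ∈ Cfsg.GU n F q ⊓ Cfsg.Geo.specialLinear (Fin n) F ↔
      IsoU (uB σ n) (glRep x) ∧ LinearMap.det (glRep x) = 1 := by
  rw [Subgroup.mem_inf, h.mem_GU_iff, mem_specialLinear_iff, glRep_apply, iso_uB_iff]

end Cfsg.Agent.Cl.Der
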