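import Mathlib
import Cfsg.Agent.Cl.DerU4
import Cfsg.Agent.Cl.QuadOmega
import Cfsg.Agent.Cl.OrthForms
import Cfsg.Agent.Cl.ClassSpOPrime

/-! Quadratic geometries: the type of a non-degenerate subspace. -/

set_option autoImplicit false
set_option linter.unusedSectionVars false

namespace Cfsg.Agent.Cl.Der

open Polynomial Module Cfsg.Agent.Cl.Cls QuadraticMap

variable {F V V' : Type*} [Field F] [AddCommGroup V] [Module F V] [FiniteDimensional F V]
  [AddCommGroup V'] [Module F V'] [FiniteDimensional F V']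
  {f : End F V} {U W S Y Z : Submodule F V} {Q : QuadraticForm F V} {Q' : QuadraticForm F V'}

/-- A quadratic geometry. -/
abbrev GeomQ (Q : QuadraticForm F V) : Prop :=
  Geom (σ := RingHom.id F) (polarBilin Q) Q (AddMonoidHom.id F)

/-- Isometries of a quadratic form. -/
scoped notation:max "IsoQ " Q:max => Iso (QuadraticMap.polarBilin Q) Q
/-- Totally singular subspaces. -/
scoped notation:max "TSQ " Q:max => TS (QuadraticMap.polarBilin Q) Q
/-- Non-degenerate subspaces. -/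
scoped notation:max "NDQ " Q:max => ND (QuadraticMap.polarBilin Q)
/-- Subspaces of plus type. -/
scoped notation:max "PlusQ " Q:max => Plus (QuadraticMap.polarBilin Q) Q
/-- Subspaces containing a totally singular subspace. -/
scoped notation:max "HasQ " Q:max => HasTS (QuadraticMap.polarBilin Q) Q
/-- Orthogonal complements. -/
scoped notation:max "perpQ " Q:max => perp (QuadraticMap.polarBilin Q)
/-- Isometric subspaces. -/
scoped notation:max "IsomQ " Q:max => Isom (QuadraticMap.polarBilin Q) Q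
/-- Realisable elementary divisors. -/
scoped notation:max "RealQ " Q:max => RealOn (QuadraticMap.polarBilin Q) Q

theorem tsQ_iff : TSQ Q W ↔ ∀ w ∈ W, Q w = 0 :=
  ⟨fun h => h.2, fun h => ⟨fun _ hu _ hv => quad_polar_eq_zero_of_singular h hu hv, h⟩⟩

theorem isoQ_iff : IsoQ Q f ↔ ∀ v, Q (f v) = Q v :=
  ⟨fun h => h.mapQ, fun h => ⟨fun x y => o_polar_congr f h x y, h⟩⟩

theorem isomQ_iff : IsomQ Q U W ↔ ∃ e : U ≃ₗ[F] W, ∀ x : U, Q (e x) = Q x :=
  exists_congr fun e => ⟨fun h => h.2, fun h => ⟨fun x y =>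
    quad_polar_equiv (Q := Q.restrict U) (Q' := Q.restrict W) e h x y, h⟩⟩

theorem ndQ_iff : NDQ Q W ↔ (polarBilin (Q.restrict W)).Nondegenerate := by
  rw [quad_nondeg_iff]
  exact ⟨fun h x hx => Subtype.ext (h x x.2 fun v hv => hx ⟨v, hv⟩),
    fun h u hu hx => congrArg Subtype.val (h ⟨u, hu⟩ fun y => hx y y.2)⟩

theorem GeomQ.nondegenerate (hG : GeomQ Q) : (polarBilin Q).Nondegenerate :=
  (quad_nondeg_iff Q).2 hG.nondeg

theorem ND.geomQ (h : NDQ Q W) : GeomQ (Q.restrict W) := geom_quad (ndQ_iff.1 h)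

theorem polarBilin_restrict (Q : QuadraticForm F V) (W : Submodule F V) :
    polarBilin (Q.restrict W) = resB (σ := RingHom.id F) (polarBilin Q) W := by
  ext x y
  rfl

theorem hasQ_restrict {a : ℕ} : HasQ (Q.restrict W) ⊤ a ↔ HasQ Q W a := by
  rw [← hasTS_res (U := W), polarBilin_restrict]
  rfl

theorem plusQ_restrict : PlusQ (Q.restrict W) ⊤ ↔ PlusQ Q W := by
  rw [← plus_res (U := W), polarBilin_restrict]
  rfl

theorem isoQ_restrict (h : IsoQ Q f) (hW : ∀ v ∈ W, f v ∈ W) :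
    IsoQ (Q.restrict W) (f.restrict hW) := isoQ_iff.2 fun v => h.mapQ v

theorem symm_polarBilin (Q : QuadraticForm F V) (x y : V) :
    polarBilin Q x y = polarBilin Q y x := polar_comm Q x y

theorem eps_polarBilin (Q : QuadraticForm F V) (x y : V) :
    polarBilin Q y x = (-1) ^ 0 * polarBilin Q x y := by
  rw [pow_zero, one_mul, symm_polarBilin]

theorem polarBilin_self (Q : QuadraticForm F V) (x : V) : polarBilin Q x x = 2 * Q x :=
  quad_polar_self Q x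

theorem hasQ_of_equiv (e : V ≃ₗ[F] V') (he : ∀ v, Q' (e v) = Q v) {a : ℕ} (h : HasQ Q ⊤ a) :
    HasQ Q' ⊤ a := by
  obtain ⟨U, -, h1, rfl⟩ := h
  refine ⟨U.map (e : V →ₗ[F] V'), le_top, tsQ_iff.2 ?_, e.finrank_map_eq U⟩
  rintro _ ⟨u, hu, rfl⟩
  exact (he u).trans (h1.2 u hu)

theorem plusQ_of_equiv (e : V ≃ₗ[F] V') (he : ∀ v, Q' (e v) = Q v) (h : PlusQ Q ⊤) :
    PlusQ Q' ⊤ := by
  obtain ⟨a, ha⟩ := h.even.two_dvd
  exact (plus_iff (by rw [finrank_top, ← e.finrank_eq, ← finrank_top, ha])).2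
    (hasQ_of_equiv e he ((plus_iff ha).1 h))

theorem plusQ_quad_plus (m : ℕ) : PlusQ (quad_plus m F) ⊤ := by
  obtain ⟨U, h1, h2⟩ := quad_plus_exists_singular (F := F) m
  exact ⟨U, le_top, tsQ_iff.2 h1, by rw [h2, finrank_top, o_finrank_plus]⟩

theorem not_plusQ_quad_minus (m : ℕ) {a b : F} (hab : ∀ t : F, t ^ 2 + a * t + b ≠ 0) :
    ¬ PlusQ (quad_minus m F a b) ⊤ := fun ⟨U, _, h1, h2⟩ => by
  have := quad_minus_singular_le hab h1.2
  rw [finrank_top, o_finrank_minus] at h2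
  omega

theorem GeomQ.even_of_two (hG : GeomQ Q) (h2 : (2 : F) = 0) (hW : NDQ Q W) :
    Even (finrank F W) :=
  GeomA.even (geom_alt hG.nondegenerate fun x => by rw [polarBilin_self, h2, zero_mul]) hW

variable [Finite F]

theorem exists_equiv_of_plus_iff (hG : GeomQ Q) (hG' : GeomQ Q') (he : Even (finrank F V))
    (hd : finrank F V = finrank F V') (h : PlusQ Q ⊤ ↔ PlusQ Q' ⊤) :
    ∃ e : V ≃ₗ[F] V', ∀ v, Q' (e v) = Q v := by
  obtain ⟨m, hm⟩ := he.two_dvd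
  obtain ⟨ζ, hζ⟩ := quad_exists_aniso F
  have key : ∀ {e : V ≃ₗ[F] (Fin m ⊕ Fin m → F)}, (∀ v, quad_plus m F (e v) = Q v) → PlusQ Q ⊤ :=
    fun {e} he => plusQ_of_equiv e.symm (fun v => by rw [← he, e.apply_symm_apply])
      (plusQ_quad_plus m)
  have key' : ∀ {e : V' ≃ₗ[F] (Fin m ⊕ Fin m → F)}, (∀ v, quad_plus m F (e v) = Q' v) →
      PlusQ Q' ⊤ := fun {e} he =>
    plusQ_of_equiv e.symm (fun v => by rw [← he, e.apply_symm_apply]) (plusQ_quad_plus m)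
  rcases quad_classify_even hG.nondegenerate hm with ⟨g, hg⟩ | ⟨-, hg⟩ <;>
    rcases quad_classify_even hG'.nondegenerate (hd ▸ hm) with ⟨g', hg'⟩ | ⟨-, hg'⟩
  · exact ⟨g.trans g'.symm, fun v => by rw [← hg', ← hg]; simp⟩
  · obtain ⟨g', hg'⟩ := hg' 1 ζ hζ
    exact absurd (plusQ_of_equiv (Q' := quad_minus _ F 1 ζ) g' hg' (h.1 (key hg)))
      (not_plusQ_quad_minus _ hζ)
  · obtain ⟨g, hg⟩ := hg 1 ζ hζ
    exact absurd (plusQ_of_equiv (Q' := quad_minus _ F 1 ζ) g hg (h.2 (key' hg')))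
      (not_plusQ_quad_minus _ hζ)
  · obtain ⟨g, hg⟩ := hg 1 ζ hζ
    obtain ⟨g', hg'⟩ := hg' 1 ζ hζ
    exact ⟨g.trans g'.symm, fun v => by rw [← hg', ← hg]; simp⟩

theorem exists_sing_of_three (Y : Submodule F V) (h : 3 ≤ finrank F Y) :
    ∃ y ∈ Y, y ≠ 0 ∧ Q y = 0 := by
  obtain ⟨v, h1, h2⟩ := quad_exists_singular (Q.restrict Y) h
  exact ⟨v, v.2, fun h => h1 (Subtype.ext h), h2⟩

theorem ND.exists_eq (hW : NDQ Q W) (h : 2 ≤ finrank F W) (c : F) : ∃ v ∈ W, Q v = c := by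
  obtain ⟨v, hv⟩ := quad_exists_eq (ndQ_iff.1 hW) h c
  exact ⟨v, v.2, hv⟩

theorem ND.exists_ne_zero (hW : NDQ Q W) (h : 0 < finrank F W) : ∃ v ∈ W, Q v ≠ 0 := by
  have := Module.nontrivial_of_finrank_pos h
  obtain ⟨v, hv⟩ := quad_exists_ne_zero (ndQ_iff.1 hW)
  exact ⟨v, v.2, hv⟩

namespace GeomQ

theorem hasQ_of_lt (hG : GeomQ Q) (hW : NDQ Q W) {a : ℕ} (h : 2 * a < finrank F W) :
    HasQ Q W a :=
  hG.hasTS_of_sing hW (e := 3) (fun Y _ _ h => exists_sing_of_three Y h) (by omega)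

theorem hasQ_iff (hG : GeomQ Q) (hW : NDQ Q W) {a : ℕ} :
    HasQ Q W a ↔ 2 * a < finrank F W ∨ (2 * a = finrank F W ∧ PlusQ Q W) := by
  constructor
  · intro h
    exact (hG.two_mul_le_of_hasTS hW h).lt_or_eq.imp_right fun h1 => ⟨h1, (plus_iff h1.symm).2 h⟩
  · rintro (h | ⟨h1, h2⟩)
    exacts [hG.hasQ_of_lt hW h, (plus_iff h1.symm).1 h2]

theorem exists_plus_of_lt (hG : GeomQ Q) (hW : NDQ Q W) {a : ℕ} (h : 2 * a < finrank F W) :
    ∃ Y, Y ≤ W ∧ NDQ Q Y ∧ PlusQ Q Y ∧ finrank F Y = 2 * a :=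
  hG.exists_plus hW (hG.hasQ_of_lt hW h)

theorem aniso_of_not_plus (hG : GeomQ Q) (h2 : finrank F W = 2) (h : ¬ PlusQ Q W) :
    ∀ v : W, Q.restrict W v = 0 → v = 0 := fun v hv => by
  by_contra h0
  exact h ((plus_iff (a := 1) h2).2 (hG.hasTS_one_iff.2 ⟨v, v.2, fun h => h0 (Subtype.ext h), hv⟩))

theorem plus_sup_plane (hG : GeomQ Q) (hU : NDQ Q U) (hW : NDQ Q W) (h : W ≤ perpQ Q U)
    (h1 : finrank F U = 2) (h2 : finrank F W = 2) (h3 : ¬ PlusQ Q U) (h4 : ¬ PlusQ Q W) :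
    PlusQ Q (U ⊔ W) := by
  obtain ⟨ζ, hζ⟩ := quad_exists_aniso F
  obtain ⟨k, hk⟩ := quad_aniso_plane (ndQ_iff.1 hU) h1 (hG.aniso_of_not_plus h1 h3) hζ
  obtain ⟨l, hl⟩ := quad_aniso_plane (Q := (-1 : F) • Q.restrict W)
    (o_nondeg_smul (by simp) (ndQ_iff.1 hW)) h2
    (fun v hv => hG.aniso_of_not_plus h2 h4 v (by simpa using hv)) hζ
  let φ : (Fin 2 → F) →ₗ[F] V := U.subtype ∘ₗ (k : _ →ₗ[F] U) + W.subtype ∘ₗ (l : _ →ₗ[F] W)
  have h5 : Function.Injective φ := (injective_iff_map_eq_zero φ).2 fun z hz => by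
    have h6 : (k z : V) = -l z := eq_neg_of_add_eq_zero_left hz
    have h7 := Submodule.disjoint_def.1 (hG.disjoint_of_le_perp hU h) _ (k z).2
      (h6 ▸ W.neg_mem (l z).2)
    exact k.map_eq_zero_iff.1 (Subtype.ext h7)
  refine ⟨LinearMap.range φ, ?_, tsQ_iff.2 ?_, ?_⟩
  · rintro _ ⟨z, rfl⟩
    exact Submodule.add_mem_sup (k z).2 (l z).2
  · rintro _ ⟨z, rfl⟩
    have h6 : polar Q (k z : V) (l z) = 0 := h (l z).2 _ (k z).2
    have h7 : Q (k z) = _ := hk z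
    have h8 : -1 * Q (l z) = _ := hl z
    change Q ((k z : V) + l z) = 0
    rw [quad_add, h6]
    linear_combination h7 - h8
  · rw [LinearMap.finrank_range_of_inj h5, hG.finrank_sup_of_le_perp hU h, h1, h2]
    simp

/-- A non-plus space is a plus space plus an anisotropic plane. -/
theorem exists_split (hG : GeomQ Q) (hW : NDQ Q W) (he : Even (finrank F W)) (h : ¬ PlusQ Q W) :
    ∃ P E, NDQ Q P ∧ NDQ Q E ∧ E ≤ perpQ Q P ∧ P ⊔ E = W ∧ PlusQ Q P ∧ ¬ PlusQ Q E ∧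
      finrank F E = 2 := by
  obtain ⟨a, ha⟩ := he.two_dvd
  have h0 : a ≠ 0 := by
    rintro rfl
    exact h (Submodule.finrank_eq_zero.1 ha ▸ hG.plus_bot)
  obtain ⟨P, h1, h2, h3, h4⟩ := hG.exists_plus_of_lt hW (a := a - 1) (by omega)
  have h5 := hG.sup_perp_inf hW h2 h1
  have h6 := hG.finrank_add_perp_inf hW h1
  exact ⟨P, _, h2, hG.nd_perp_inf hW h2 h1, inf_le_left, h5, h3,
    fun h7 => h (h5 ▸ hG.plus_sup h2 inf_le_left h3 h7), by omega⟩

theorem plus_sup_iff_iff (hG : GeomQ Q) (hU : NDQ Q U) (hW : NDQ Q W) (h : W ≤ perpQ Q U)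
    (h1 : Even (finrank F U)) (h2 : Even (finrank F W)) :
    PlusQ Q (U ⊔ W) ↔ (PlusQ Q U ↔ PlusQ Q W) := by
  by_cases h3 : PlusQ Q U
  · simp only [h3, true_iff]
    exact hG.plus_sup_iff hU hW h h3
  by_cases h4 : PlusQ Q W
  · simp only [h4, iff_true]
    exact hG.plus_sup_iff' hU hW h h4
  simp only [h3, h4, iff_self, iff_true]
  obtain ⟨P, E, p1, e1, e2, rfl, p2, e3, e4⟩ := hG.exists_split hU h1 h3
  obtain ⟨P', E', p1', e1', e2', rfl, p2', e3', e4'⟩ := hG.exists_split hW h2 h4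
  rw [perp_sup, le_inf_iff, sup_le_iff, sup_le_iff] at h
  rw [sup_sup_sup_comm]
  refine hG.plus_sup (hG.nd_sup p1 p1' h.1.1) ?_ (hG.plus_sup p1 h.1.1 p2 p2')
    (hG.plus_sup_plane e1 e1' h.2.2 e4 e4' e3 e3')
  rw [perp_sup]
  exact le_inf (sup_le e2 h.1.2) (sup_le (hG.le_perp_comm.1 h.2.1) e2')

theorem isom_of_even (hG : GeomQ Q) (hU : NDQ Q U) (hW : NDQ Q W) (he : Even (finrank F U))
    (hd : finrank F U = finrank F W) (h : PlusQ Q U ↔ PlusQ Q W) : IsomQ Q U W :=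
  have := hG
  isomQ_iff.2 (exists_equiv_of_plus_iff hU.geomQ hW.geomQ he hd
    (by rwa [plusQ_restrict, plusQ_restrict]))

theorem exists_minus_plane (hG : GeomQ Q) (hW : NDQ Q W) (h : 4 ≤ finrank F W) :
    ∃ E, E ≤ W ∧ NDQ Q E ∧ ¬ PlusQ Q E ∧ finrank F E = 2 := by
  obtain ⟨ζ, hζ⟩ := quad_exists_aniso F
  obtain ⟨u, u1, u2, u3⟩ := hG.hasTS_one_iff.1 (hG.hasQ_of_lt hW (a := 1) (by omega))
  obtain ⟨w, w1, w2, w3⟩ := hG.exists_partner hW u1 u2 u3
  obtain ⟨h1, -, h2⟩ := hG.hyp_plane u3 w2 (w3 ▸ one_ne_zero)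
  have h3 : (F ∙ u) ⊔ (F ∙ w) ≤ W := sup_le ((Submodule.span_singleton_le_iff_mem _ _).2 u1)
    ((Submodule.span_singleton_le_iff_mem _ _).2 w1)
  have h4 := hG.finrank_add_perp_inf hW h3
  obtain ⟨y, ⟨y1, y2⟩, y3⟩ := (hG.nd_perp_inf hW h1 h3).exists_eq (by omega) ζ
  have y4 : polar Q u y = 0 := y1 u (Submodule.mem_sup_left (Submodule.mem_span_singleton_self u))
  have y5 : polar Q w y = 0 := y1 w (Submodule.mem_sup_right (Submodule.mem_span_singleton_self w))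
  have w4 : polar Q u w = 1 := w3
  let φ : (Fin 2 → F) →ₗ[F] V := Fintype.linearCombination F ![u + w, w + y]
  have h5 : ∀ z, Q (φ z) = obin F 1 ζ z := fun z => by
    simp only [φ, Fintype.linearCombination_apply, Fin.sum_univ_two, Matrix.cons_val_zero,
      Matrix.cons_val_one, obin_apply, quad_smul_add_smul]
    simp only [quad_add, polar_add_left, polar_add_right, u3, w2, w4, y3, y4, y5, quad_polar_self]
    ring
  have h6 := obin_aniso ((quad_aniso_iff 1 ζ).2 hζ)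
  have h7 : Function.Injective φ := (injective_iff_map_eq_zero φ).2 fun z hz =>
    h6 z (by rw [← h5, hz, map_zero])
  have h8 : finrank F (LinearMap.range φ) = 2 := by
    rw [LinearMap.finrank_range_of_inj h7]
    simp
  refine ⟨LinearMap.range φ, ?_, ndQ_iff.2 (quad_nondeg_of_equiv (LinearEquiv.ofInjective φ h7) h5
    (obin_nondeg (quad_aniso_disc_ne_zero hζ))), fun h9 => ?_, h8⟩
  · rintro _ ⟨z, rfl⟩
    simp only [φ, Fintype.linearCombination_apply, Fin.sum_univ_two]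
    exact W.add_mem (W.smul_mem _ (W.add_mem u1 w1)) (W.smul_mem _ (W.add_mem w1 y2))
  · obtain ⟨_, ⟨z, rfl⟩, h10, h11⟩ := hG.hasTS_one_iff.1 ((plus_iff (a := 1) h8).1 h9)
    exact h10 (by rw [h6 z (h5 z ▸ h11), map_zero])

theorem exists_minus (hG : GeomQ Q) (hW : NDQ Q W) {a : ℕ} (h0 : 0 < a)
    (h : 2 * a + 2 ≤ finrank F W) : ∃ Y, Y ≤ W ∧ NDQ Q Y ∧ ¬ PlusQ Q Y ∧ finrank F Y = 2 * a := by
  obtain ⟨E, h1, h2, h3, h4⟩ := hG.exists_minus_plane hW (by omega)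
  have h5 := hG.finrank_add_perp_inf hW h1
  obtain ⟨P, h6, h7, h8, h9⟩ := hG.exists_plus_of_lt (hG.nd_perp_inf hW h2 h1) (a := a - 1)
    (by omega)
  have h10 := h6.trans inf_le_left
  exact ⟨E ⊔ P, sup_le h1 (h6.trans inf_le_right), hG.nd_sup h2 h7 h10,
    fun h => h3 ((hG.plus_sup_iff' h2 h7 h10 h8).1 h), by
      rw [hG.finrank_sup_of_le_perp h2 h10]
      omega⟩

end GeomQ

/-- The square class of the discriminant of a subspace. -/
noncomputable def dsc (Q : QuadraticForm F V) (W : Submodule F V) : ℤˣ :=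
  sqSign (quad_disc Q fun i => (Module.finBasis F W i : V))

theorem ND.disc_ne_zero (hW : NDQ Q W) {ι : Type*} [Fintype ι] [DecidableEq ι]
    (b : Basis ι F W) : quad_disc Q (fun i => (b i : V)) ≠ 0 :=
  (quad_disc_ne_zero_iff (Q.restrict W) b).2 (ndQ_iff.1 hW)

theorem dsc_eq {ι : Type*} [Fintype ι] [DecidableEq ι] (b : Basis ι F W) :
    dsc Q W = sqSign (quad_disc Q fun i => (b i : V)) := by
  obtain ⟨s, h1, h2⟩ := quad_disc_change (Q.restrict W) b (Module.finBasis F W)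
  exact sqSign_eq_iff.2 ((congrArg IsSquare h2).to_iff.trans (quad_isSquare_sq_mul h1 _))

theorem dsc_eq_of_span {ι : Type*} [Fintype ι] [DecidableEq ι] {b : ι → V}
    (hb : LinearIndependent F b) :
    dsc Q (Submodule.span F (Set.range b)) = sqSign (quad_disc Q b) := by
  rw [dsc_eq (Basis.span hb)]
  simp

theorem span_range_basis {ι : Type*} (b : Basis ι F W) :
    Submodule.span F (Set.range fun i => (b i : V)) = W := by
  have h := congrArg (Submodule.map W.subtype) b.span_eq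
  rwa [Submodule.map_span, ← Set.range_comp, Submodule.map_top, Submodule.range_subtype] at h

theorem GeomQ.dsc_sup (hG : GeomQ Q) (hU : NDQ Q U) (hW : NDQ Q W) (h : W ≤ perpQ Q U) :
    dsc Q (U ⊔ W) = dsc Q U * dsc Q W := by
  have h1 : LinearIndependent F fun i => (Module.finBasis F U i : V) :=
    (Module.finBasis F U).linearIndependent.map' U.subtype U.ker_subtype
  have h2 : LinearIndependent F fun i => (Module.finBasis F W i : V) :=
    (Module.finBasis F W).linearIndependent.map' W.subtype W.ker_subtype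
  have h3 := span_range_basis (Module.finBasis F U)
  have h4 := span_range_basis (Module.finBasis F W)
  have h5 := dsc_eq_of_span (Q := Q) (h1.sum_type h2 (by
    rw [h3, h4]
    exact hG.disjoint_of_le_perp hU h))
  rw [Set.Sum.elim_range, Submodule.span_union, quad_disc_sum _ _ _ fun i k =>
    h (Module.finBasis F W k).2 _ (Module.finBasis F U i).2, h3, h4] at h5
  rw [h5, dsc, dsc, ← sqSign_mul (hU.disc_ne_zero _) (hW.disc_ne_zero _)]

theorem dsc_span_singleton {v : V} (hv : v ≠ 0) : dsc Q (F ∙ v) = sqSign (2 * Q v) := by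
  have h := dsc_eq_of_span (Q := Q) (b := fun _ : Unit => v) (linearIndependent_unique_iff.2 hv)
  rw [Set.range_const, quad_disc_orthogonal _ _ fun i j h => absurd rfl h] at h
  simpa using h

theorem sqSign_eq_iff_mul {a b : F} (ha : a ≠ 0) (hb : b ≠ 0) :
    sqSign a = sqSign b ↔ IsSquare (a * b) := by
  rw [sqSign_eq_iff, quad_isSquare_mul_iff ha hb]

theorem isomQ_iff_dsc (h2 : (2 : F) ≠ 0) (hU : NDQ Q U) (hW : NDQ Q W)
    (hd : finrank F U = finrank F W) : IsomQ Q U W ↔ dsc Q U = dsc Q W := by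
  rw [isomQ_iff, dsc, dsc, sqSign_eq_iff_mul (hU.disc_ne_zero _) (hW.disc_ne_zero _)]
  exact quad_equiv_iff_disc h2 (ndQ_iff.1 hU) (ndQ_iff.1 hW) hd _ _

theorem units_mul_eq_one_iff {a b : ℤˣ} : a * b = 1 ↔ a = b := by
  rcases Int.units_eq_one_or a with rfl | rfl <;> rcases Int.units_eq_one_or b with rfl | rfl <;>
    simp

variable (F) in
/-- The quadratic character of `-1`. -/
noncomputable abbrev chi : ℤˣ := sqSign (-1 : F)

theorem plusQ_iff_dsc (h2 : (2 : F) ≠ 0) (hW : NDQ Q W) {m : ℕ} (hm : finrank F W = 2 * m) :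
    PlusQ Q W ↔ chi F ^ m * dsc Q W = 1 := by
  rw [dsc, ← sqSign_pow (by simp), ← sqSign_mul (by simp) (hW.disc_ne_zero _), sqSign_eq_one_iff,
    plus_iff hm, ← hasQ_restrict]
  refine Iff.trans ?_ (o_exists_max_singular_iff_disc h2 (ndQ_iff.1 hW) hm (Module.finBasis F W))
  exact ⟨fun ⟨U, _, h1, h2⟩ => ⟨U, h2, h1.2⟩, fun ⟨U, h1, h2⟩ => ⟨U, le_top, tsQ_iff.2 h2, h1⟩⟩

open Classical in
/-- The type of a non-degenerate subspace. -/
noncomputable def tp (Q : QuadraticForm F V) (W : Submodule F V) : ℤˣ :=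
  if Even (finrank F W) then (if PlusQ Q W then 1 else -1)
  else chi F ^ (finrank F W / 2) * dsc Q W

theorem tp_eq_one_iff (he : Even (finrank F W)) : tp Q W = 1 ↔ PlusQ Q W := by
  rw [tp, if_pos he]
  split_ifs with h <;> simp [h]

theorem tp_eq_neg_one_iff (he : Even (finrank F W)) : tp Q W = -1 ↔ ¬ PlusQ Q W := by
  rw [tp, if_pos he]
  split_ifs with h <;> simp [h]

theorem units_eq_of_iff {a b : ℤˣ} (h : a = 1 ↔ b = 1) : a = b := by
  rcases Int.units_eq_one_or a with rfl | rfl <;> rcases Int.units_eq_one_or b with rfl | rfl <;>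
    simp_all

theorem tp_eq_dsc (h2 : (2 : F) ≠ 0) (hW : NDQ Q W) :
    tp Q W = chi F ^ (finrank F W / 2) * dsc Q W := by
  by_cases he : Even (finrank F W)
  · refine units_eq_of_iff ((tp_eq_one_iff he).trans (plusQ_iff_dsc h2 hW ?_))
    exact (Nat.two_mul_div_two_of_even he).symm
  · rw [tp, if_neg he]

namespace GeomQ

theorem tp_bot (hG : GeomQ Q) : tp Q ⊥ = 1 := (tp_eq_one_iff (by simp)).2 hG.plus_bot

theorem tp_sup (hG : GeomQ Q) (hU : NDQ Q U) (hW : NDQ Q W) (h : W ≤ perpQ Q U)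
    (he : Even (finrank F U) ∨ Even (finrank F W)) : tp Q (U ⊔ W) = tp Q U * tp Q W := by
  have h1 := hG.finrank_sup_of_le_perp hU h
  by_cases h2 : (2 : F) = 0
  · have h3 := hG.even_of_two h2 hU
    have h4 := hG.even_of_two h2 hW
    refine units_eq_of_iff ?_
    rw [tp_eq_one_iff (h1 ▸ h3.add h4), hG.plus_sup_iff_iff hU hW h h3 h4, units_mul_eq_one_iff,
      ← tp_eq_one_iff h3, ← tp_eq_one_iff h4]
    exact ⟨units_eq_of_iff, fun h => h ▸ Iff.rfl⟩
  · rw [tp_eq_dsc h2 hU, tp_eq_dsc h2 hW, tp_eq_dsc h2 (hG.nd_sup hU hW h), hG.dsc_sup hU hW h, h1,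
      mul_mul_mul_comm, ← pow_add]
    simp only [Nat.even_iff] at he
    congr 2
    omega

theorem isom_iff (hG : GeomQ Q) (hU : NDQ Q U) (hW : NDQ Q W) :
    IsomQ Q U W ↔ finrank F U = finrank F W ∧ tp Q U = tp Q W := by
  refine (and_iff_right_of_imp Isom.finrank_eq).symm.trans (and_congr_right fun hd => ?_)
  by_cases h2 : (2 : F) = 0
  · have h3 := hG.even_of_two h2 hU
    have h4 := hG.even_of_two h2 hW
    refine ⟨fun h => units_eq_of_iff ?_, fun h => hG.isom_of_even hU hW h3 hd ?_⟩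
    · rw [tp_eq_one_iff h3, tp_eq_one_iff h4, h.plus hG]
    · rw [← tp_eq_one_iff h3, ← tp_eq_one_iff h4, h]
  · rw [isomQ_iff_dsc h2 hU hW hd, tp_eq_dsc h2 hU, tp_eq_dsc h2 hW, hd, mul_right_inj]

theorem tp_map (hG : GeomQ Q) (h : IsoQ Q f) (hW : NDQ Q W) : tp Q (W.map f) = tp Q W :=
  ((hG.isom_iff hW (h.nd_map hW)).1 (hG.isom_map h W)).2.symm

theorem nd_span (hG : GeomQ Q) (h2 : (2 : F) ≠ 0) {v : V} (hv : Q v ≠ 0) : NDQ Q (F ∙ v) :=
  hG.nd_span_singleton (by rw [polarBilin_self]; exact mul_ne_zero h2 hv)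

theorem exists_nd_odd (hG : GeomQ Q) (h2 : (2 : F) ≠ 0) (hW : NDQ Q W) {e : ℕ}
    (he : e ≤ finrank F W) : ∃ Y, Y ≤ W ∧ NDQ Q Y ∧ finrank F Y = e := by
  induction e with
  | zero => exact ⟨⊥, bot_le, nd_bot, finrank_bot F V⟩
  | succ e ih =>
    obtain ⟨Y, h1, h3, h4⟩ := ih (by omega)
    have h5 := hG.finrank_add_perp_inf hW h1
    obtain ⟨v, h6, h7⟩ := (hG.nd_perp_inf hW h3 h1).exists_ne_zero (by omega)
    have h8 := (Submodule.span_singleton_le_iff_mem _ _).2 h6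
    exact ⟨Y ⊔ F ∙ v, sup_le h1 (h8.trans inf_le_right), hG.nd_sup h3 (hG.nd_span h2 h7)
      (h8.trans inf_le_left), by
        rw [hG.finrank_sup_of_le_perp h3 (h8.trans inf_le_left), h4,
          finrank_span_singleton fun h => h7 (by rw [h, map_zero])]⟩

theorem exists_dsc (hG : GeomQ Q) (h2 : (2 : F) ≠ 0) (hW : NDQ Q W) {e : ℕ} (h0 : 0 < e)
    (he : e < finrank F W) (s : ℤˣ) : ∃ Y, Y ≤ W ∧ NDQ Q Y ∧ finrank F Y = e ∧ dsc Q Y = s := by
  obtain ⟨Y, h1, h3, h4⟩ := hG.exists_nd_odd h2 hW (e := e - 1) (by omega)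
  have h5 := hG.finrank_add_perp_inf hW h1
  obtain ⟨c, c1, c2⟩ : ∃ c : F, c ≠ 0 ∧ sqSign c = dsc Q Y * s := by
    rcases Int.units_eq_one_or (dsc Q Y * s) with h | h
    · exact ⟨1, one_ne_zero, h ▸ sqSign_eq_one_iff.2 IsSquare.one⟩
    · obtain ⟨c, hc⟩ := FiniteField.exists_nonsquare (ringChar_ne_two h2)
      exact ⟨c, fun h => hc (h ▸ IsSquare.zero), h ▸ sqSign_eq_neg_one_iff.2 hc⟩
  obtain ⟨v, h6, h7⟩ := (hG.nd_perp_inf hW h3 h1).exists_eq (by omega) (c / 2)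
  have h8 := (Submodule.span_singleton_le_iff_mem _ _).2 h6
  have h9 : Q v ≠ 0 := h7 ▸ div_ne_zero c1 h2
  have h10 : v ≠ 0 := fun h => h9 (by rw [h, map_zero])
  refine ⟨Y ⊔ F ∙ v, sup_le h1 (h8.trans inf_le_right), hG.nd_sup h3 (hG.nd_span h2 h9)
    (h8.trans inf_le_left), ?_, ?_⟩
  · rw [hG.finrank_sup_of_le_perp h3 (h8.trans inf_le_left), h4, finrank_span_singleton h10]
    omega
  · rw [hG.dsc_sup h3 (hG.nd_span h2 h9) (h8.trans inf_le_left), dsc_span_singleton h10, h7,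
      mul_div_cancel₀ _ h2, c2, ← mul_assoc, Int.units_mul_self, one_mul]

/-- Proper non-zero non-degenerate subspaces of each type exist. -/
theorem exists_tp (hG : GeomQ Q) (hW : NDQ Q W) {e : ℕ} (h0 : 0 < e) (he : e < finrank F W)
    (h2 : (2 : F) = 0 → Even e) (s : ℤˣ) :
    ∃ Y, Y ≤ W ∧ NDQ Q Y ∧ finrank F Y = e ∧ tp Q Y = s := by
  by_cases h3 : (2 : F) = 0
  · obtain ⟨a, rfl⟩ := (h2 h3).two_dvd
    rcases Int.units_eq_one_or s with rfl | rfl
    · obtain ⟨Y, h4, h5, h6, h7⟩ := hG.exists_plus_of_lt hW he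
      exact ⟨Y, h4, h5, h7, (tp_eq_one_iff (h7 ▸ h2 h3)).2 h6⟩
    · have := Nat.even_iff.1 (hG.even_of_two h3 hW)
      obtain ⟨Y, h4, h5, h6, h7⟩ := hG.exists_minus hW (a := a) (by omega) (by omega)
      exact ⟨Y, h4, h5, h7, (tp_eq_neg_one_iff (h7 ▸ h2 h3)).2 h6⟩
  · obtain ⟨Y, h4, h5, h6, h7⟩ := hG.exists_dsc h3 hW h0 he (chi F ^ (e / 2) * s)
    exact ⟨Y, h4, h5, h6, by rw [tp_eq_dsc h3 h5, h6, h7, ← mul_assoc, Int.units_mul_self, one_mul]⟩

theorem exists_nd (hG : GeomQ Q) (hW : NDQ Q W) {e : ℕ} (he : e ≤ finrank F W)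
    (h2 : (2 : F) = 0 → Even e) : ∃ Y, Y ≤ W ∧ NDQ Q Y ∧ finrank F Y = e := by
  rcases he.eq_or_lt with rfl | he
  · exact ⟨W, le_rfl, hW, rfl⟩
  rcases e.eq_zero_or_pos with rfl | h0
  · exact ⟨⊥, bot_le, nd_bot, finrank_bot F V⟩
  obtain ⟨Y, h3, h4, h5, -⟩ := hG.exists_tp hW h0 he h2 1
  exact ⟨Y, h3, h4, h5⟩

theorem tp_perp_inf (hG : GeomQ Q) (hW : NDQ Q W) (hU : NDQ Q U) (h : U ≤ W)
    (he : Even (finrank F U) ∨ Even (finrank F ↥(perpQ Q U ⊓ W))) :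
    tp Q (perpQ Q U ⊓ W) = tp Q W * tp Q U := by
  have h1 := hG.tp_sup hU (hG.nd_perp_inf hW hU h) inf_le_left he
  rw [hG.sup_perp_inf hW hU h] at h1
  rw [h1, mul_comm, ← mul_assoc, Int.units_mul_self, one_mul]

theorem tp_perp (hG : GeomQ Q) (hU : NDQ Q U)
    (he : Even (finrank F U) ∨ Even (finrank F (perpQ Q U))) :
    tp Q (perpQ Q U) = tp Q ⊤ * tp Q U := by
  simpa using hG.tp_perp_inf hG.nd_top hU le_top (by rwa [inf_top_eq])

theorem hasQ_iff_tp (hG : GeomQ Q) (hW : NDQ Q W) {a : ℕ} :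
    HasQ Q W a ↔ 2 * a < finrank F W ∨ (2 * a = finrank F W ∧ tp Q W = 1) :=
  (hG.hasQ_iff hW).trans (or_congr_right (and_congr_right fun h =>
    (tp_eq_one_iff (h ▸ even_two_mul a)).symm))

end GeomQ

end Cfsg.Agent.Cl.Der
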