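import Mathlib
import Cfsg.Agent.Cl.DerQ1

/-! Membership in `Ω`, involutions and realisations in quadratic geometries. -/

set_option autoImplicit false
set_option linter.unusedSectionVars false

namespace Cfsg.Agent.Cl.Der

open Polynomial Module Cfsg.Agent.Cl.Cls
open QuadraticMap hiding sq

variable {F V V' : Type*} [Field F] [AddCommGroup V] [Module F V] [FiniteDimensional F V]
  [AddCommGroup V'] [Module F V'] [FiniteDimensional F V']
  {f : End F V} {U W S Y Z : Submodule F V} {Q : QuadraticForm F V} {Q' : QuadraticForm F V'}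

/-- `f` lies in `Ω(Q)`. -/
def InO (Q : QuadraticForm F V) (f : End F V) : Prop :=
  ∃ g : OG Q, g ∈ commutator (OG Q) ∧ (g.1 : End F V) = f

theorem InO.iso (h : InO Q f) : IsoQ Q f := by
  obtain ⟨g, -, rfl⟩ := h
  exact isoQ_iff.2 g.2

theorem InO.mul {g : End F V} (h : InO Q f) (h' : InO Q g) : InO Q (f * g) := by
  obtain ⟨a, h1, rfl⟩ := h
  obtain ⟨b, h2, rfl⟩ := h'
  exact ⟨a * b, mul_mem h1 h2, rfl⟩

theorem mem_omegaGL_iff {ι : Type} [Fintype ι] [DecidableEq ι] {P : QuadraticForm F (ι → F)}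
    (x : GL ι F) : x ∈ Cfsg.Geo.omegaGL ⇑P ↔ InO P (glRep x) := by
  constructor
  · rintro ⟨g, hg, rfl⟩
    exact ⟨omatEquiv P g, (omatEquiv_mem_commutator_iff g).2 hg, rfl⟩
  · rintro ⟨g, hg, h⟩
    obtain ⟨g, rfl⟩ := (omatEquiv P).surjective g
    exact ⟨g, (omatEquiv_mem_commutator_iff g).1 hg, glRep_injective h⟩

theorem OG_coe_injective : Function.Injective fun g : OG Q => (g.1 : End F V) := fun _ _ h =>
  OG.ext fun x => LinearMap.congr_fun h x

theorem OG_coe_pow (g : OG Q) (k : ℕ) : ((g ^ k).1 : End F V) = (g.1 : End F V) ^ k := by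
  induction k with
  | zero => rfl
  | succ k ih => rw [pow_succ, pow_succ, ← ih]; rfl

theorem GeomQ.exists_OG (hG : GeomQ Q) (h : IsoQ Q f) : ∃ g : OG Q, (g.1 : End F V) = f :=
  ⟨⟨LinearEquiv.ofInjectiveEndo f (hG.injective h), h.mapQ⟩, rfl⟩

theorem inO_coe_iff (g : OG Q) : InO Q (g.1 : End F V) ↔ g ∈ commutator (OG Q) :=
  ⟨fun ⟨_, h1, h2⟩ => OG_coe_injective h2 ▸ h1, fun h => ⟨g, h, rfl⟩⟩

theorem not_oExc_of_ne (h : finrank F V ≠ 4) : ¬ OExc Q := fun H => h H.2.1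

theorem polar_apply_of_sq_eq_neg_one (h2 : (2 : F) ≠ 0) (h : IsoQ Q f) (hf : f ^ 2 = -1) (v : V) :
    polarBilin Q v (f v) = 0 := by
  have h1 := h.mapB v (f v)
  rw [apply_apply_of_sq_eq_neg_one hf, map_neg, symm_polarBilin] at h1
  exact (mul_eq_zero.1 (by linear_combination -h1 : 2 * polarBilin Q v (f v) = 0)).resolve_left h2

variable [Finite F]

theorem units_eq_one_of_odd {a : ℤˣ} {r : ℕ} (hr : Odd r) (h : a ^ r = 1) : a = 1 := by
  rcases Int.units_eq_one_or a with rfl | rfl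
  · rfl
  · rwa [hr.neg_one_pow] at h

theorem dsc_map_of_sim {c : F} (hc : c ≠ 0) (h : ∀ v, Q (f v) = c * Q v)
    (hf : Function.Injective f) (hU : NDQ Q U) :
    dsc Q (U.map f) = sqSign c ^ finrank F U * dsc Q U := by
  rw [dsc_eq ((Module.finBasis F U).map (U.equivMapOfInjective f hf)), dsc, ← sqSign_pow hc,
    ← sqSign_mul (pow_ne_zero _ hc) (hU.disc_ne_zero _)]
  have h1 := quad_disc_similar f h fun i => (Module.finBasis F U i : V)
  rw [Fintype.card_fin] at h1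
  rw [← h1]
  rfl

namespace GeomQ

theorem inO_of_odd (hG : GeomQ Q) (hexc : ¬ OExc Q) (h : IsoQ Q f) {r : ℕ} (hr : Odd r)
    (hf : f ^ r = 1) : InO Q f := by
  obtain ⟨g, rfl⟩ := hG.exists_OG h
  have h1 : g ^ r = 1 := OG_coe_injective ((OG_coe_pow g r).trans hf)
  exact (inO_coe_iff g).2 ((mem_commutator_OG_iff hG.nondegenerate hexc g).2
    ⟨units_eq_one_of_odd hr (by rw [← map_pow, h1, map_one]),
      units_eq_one_of_odd hr (by rw [← map_pow, h1, map_one])⟩)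

theorem inO_iff_of_two (hG : GeomQ Q) (hexc : ¬ OExc Q) (h2 : (2 : F) = 0) (h : IsoQ Q f) :
    InO Q f ↔ Even (finrank F (perpQ Q (fixS f))) := by
  obtain ⟨g, rfl⟩ := hG.exists_OG h
  rw [inO_coe_iff, mem_commutator_OG_iff_of_two_eq_zero hG.nondegenerate hexc h2, hG.perp_fixS h]
  rfl

theorem invariants_of_neg (hG : GeomQ Q) (h2 : (2 : F) ≠ 0) (hW : NDQ Q W) (g : OG Q)
    (h3 : ∀ v ∈ W, g.1 v = -v) (h4 : ∀ v ∈ perpQ Q W, g.1 v = v) :
    dickson hG.nondegenerate g = (-1) ^ finrank F W ∧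
      ospin hG.nondegenerate g = sqSign (2 : F) ^ finrank F W * dsc Q W := by
  obtain ⟨b, hb, hb0⟩ := quad_exists_orth_basis h2 (ndQ_iff.1 hW)
  have h5 := quad_app_of_neg (Q := Q) h2 (fun i => (b i : V)) hb hb0 (g.1 : End F V)
    (fun i => h3 _ (b i).2) fun x hx => h4 x (by
      rw [← span_range_basis b, mem_perp_span]
      rintro _ ⟨i, rfl⟩
      exact (symm_polarBilin Q _ _).trans (hx i))
  have h6 : ∏ i, Q (b i) ≠ 0 := Finset.prod_ne_zero_iff.2 fun i _ => hb0 i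
  refine ⟨(quad_dickson_orth _ (fun i => (b i : V)) hb hb0 g h5).trans (by rw [Fintype.card_fin]), ?_⟩
  rw [quad_ospin_orth _ (fun i => (b i : V)) hb hb0 g h5, dsc_eq b,
    quad_disc_orthogonal Q (fun i => (b i : V)) hb,
    sqSign_mul (pow_ne_zero _ h2) h6, sqSign_pow h2, Fintype.card_fin, ← mul_assoc,
    Int.units_mul_self, one_mul]

theorem inO_iff_of_sq (hG : GeomQ Q) (h2 : (2 : F) ≠ 0) (h : IsoQ Q f) (hf : f ^ 2 = 1) :
    InO Q f ↔ ∃ j, finrank F (perpQ Q (fixS f)) = 2 * j ∧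
      tp Q (perpQ Q (fixS f)) = chi F ^ j := by
  obtain ⟨g, rfl⟩ := hG.exists_OG h
  have h1 := hG.nd_perp (hG.nd_fixS h (isSemisimple_of_sq_eq_one h2 hf))
  obtain ⟨h3, h4⟩ := hG.invariants_of_neg h2 h1 g
    (fun v hv => hG.apply_of_mem_perp_fixS h hf hv) fun v hv => by
      rwa [hG.perp_perp, mem_fixS] at hv
  rw [inO_coe_iff, mem_commutator_OG_iff hG.nondegenerate (not_oExc_of_two_ne_zero h2), h3, h4,
    neg_one_pow_eq_one_iff_even (by decide), tp_eq_dsc h2 h1]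
  constructor
  · rintro ⟨h5, h6⟩
    obtain ⟨j, hj⟩ := h5.two_dvd
    rw [hj, pow_mul, Int.units_sq, one_pow, one_mul] at h6
    exact ⟨j, hj, by rw [hj, h6, mul_one, Nat.mul_div_cancel_left _ two_pos]⟩
  · rintro ⟨j, hj, h5⟩
    rw [hj, Nat.mul_div_cancel_left _ two_pos, mul_eq_left] at h5
    exact ⟨hj ▸ even_two_mul j, by rw [hj, h5, pow_mul, Int.units_sq, one_pow, one_mul]⟩

/-- An involution of `Ω` with a `-1`-eigenspace of given dimension. -/
theorem exists_inO_neg (hG : GeomQ Q) (h2 : (2 : F) ≠ 0) {j : ℕ} (h0 : 0 < j)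
    (hj : 2 * j < finrank F V) : ∃ f, InO Q f ∧ f ^ 2 = 1 ∧ f ≠ 1 ∧ f ≠ -1 ∧
      finrank F (perpQ Q (fixS f)) = 2 * j ∧ tp Q (perpQ Q (fixS f)) = chi F ^ j := by
  obtain ⟨W, -, h1, h3, h4⟩ := hG.exists_tp hG.nd_top (e := 2 * j) (by omega)
    (by rwa [finrank_top]) (fun h => absurd h h2) (chi F ^ j)
  obtain ⟨f, f1, f2, f3, -⟩ := hG.exists_neg_on h2 h1
  have f4 : perpQ Q (fixS f) = W := by rw [f3, hG.perp_perp]
  have f5 := hG.finrank_add_perp W
  refine ⟨f, (hG.inO_iff_of_sq h2 f1 f2).2 ⟨j, f4 ▸ h3, f4 ▸ h4⟩, f2,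
    ne_one_of_finrank_fixS (by rw [f3]; omega), ?_, f4 ▸ h3, f4 ▸ h4⟩
  rintro rfl
  obtain ⟨v, h5, h6⟩ := (hG.nd_perp h1).exists_ne_zero (by omega)
  have h7 : -v = v := mem_fixS.1 (f3 ▸ h5)
  have h8 : (2 : F) • v = 0 := by rw [two_smul, ← neg_eq_iff_add_eq_zero, h7]
  exact h6 (by rw [(smul_eq_zero.1 h8).resolve_left h2, map_zero])

theorem exists_half (hG : GeomQ Q) (h2 : (2 : F) ≠ 0) (h : IsoQ Q f) (hf : f ^ 2 = -1) (n : ℕ) :
    ∀ W : Submodule F V, (∀ v ∈ W, f v ∈ W) → NDQ Q W → finrank F W ≤ n →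
      ∃ U, NDQ Q U ∧ U.map f ≤ perpQ Q U ∧ U ⊔ U.map f = W := by
  induction n with
  | zero =>
    intro W _ _ h3
    obtain rfl := Submodule.finrank_eq_zero.1 (Nat.le_zero.1 h3)
    exact ⟨⊥, nd_bot, by simp, by simp⟩
  | succ n ih =>
    intro W h1 h3 h4
    rcases (finrank F W).eq_zero_or_pos with h5 | h5
    · exact ih W h1 h3 (by omega)
    obtain ⟨u, u1, u2⟩ := h3.exists_ne_zero h5
    have u3 := hG.nd_span h2 u2
    have u4 : (F ∙ u).map f ≤ perpQ Q (F ∙ u) := by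
      rw [Submodule.map_span, Set.image_singleton, Submodule.span_singleton_le_iff_mem,
        mem_perp_span]
      rintro _ rfl
      exact polar_apply_of_sq_eq_neg_one h2 h hf _
    have u5 := hG.nd_sup u3 (h.nd_map u3) u4
    have u6 : (F ∙ u) ⊔ (F ∙ u).map f ≤ W := by
      have := (Submodule.span_singleton_le_iff_mem _ _).2 u1
      exact sup_le this ((Submodule.map_mono this).trans (map_le_iff.2 h1))
    have u7 : ∀ v ∈ (F ∙ u) ⊔ (F ∙ u).map f, f v ∈ (F ∙ u) ⊔ (F ∙ u).map f := by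
      rw [← map_le_iff, Submodule.map_sup, map_map_end, ← sq, hf, Submodule.map_neg,
        End.one_eq_id, Submodule.map_id, sup_comm]
    have u8 := hG.finrank_add_perp_inf h3 u6
    have u9 := hG.finrank_sup_of_le_perp u3 u4
    rw [finrank_span_singleton fun h => u2 (by rw [h, map_zero])] at u9
    obtain ⟨U, h6, h7, h8⟩ := ih _ (inf_inv (hG.perp_inv h u7) h1) (hG.nd_perp_inf h3 u5 u6)
      (by omega)
    have h9 := h8.le.trans inf_le_left
    rw [perp_sup, le_inf_iff, sup_le_iff, sup_le_iff] at h9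
    refine ⟨(F ∙ u) ⊔ U, hG.nd_sup u3 h6 h9.1.1, ?_, ?_⟩
    · rw [Submodule.map_sup, perp_sup]
      exact le_inf (sup_le u4 h9.1.2) (sup_le (hG.le_perp_comm.1 h9.2.1) h7)
    · rw [Submodule.map_sup, sup_sup_sup_comm, h8, hG.sup_perp_inf h3 u5 u6]

theorem tp_of_sq_neg (hG : GeomQ Q) (h2 : (2 : F) ≠ 0) (h : IsoQ Q f) (hf : f ^ 2 = -1)
    (hW : ∀ v ∈ W, f v ∈ W) (hN : NDQ Q W) : ∃ j, finrank F W = 2 * j ∧ tp Q W = chi F ^ j := by
  obtain ⟨U, h1, h3, rfl⟩ := hG.exists_half h2 h hf _ W hW hN le_rfl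
  have h4 := hG.finrank_sup_of_le_perp h1 h3
  rw [hG.finrank_map h, ← two_mul] at h4
  refine ⟨_, h4, ?_⟩
  rw [tp_eq_dsc h2 hN, h4, hG.dsc_sup h1 (h.nd_map h1) h3, ← (isomQ_iff_dsc h2 h1 (h.nd_map h1)
    (hG.finrank_map h U).symm).1 (hG.isom_map h U), Int.units_mul_self, mul_one,
    Nat.mul_div_cancel_left _ two_pos]

theorem exists_nd_of_sq_neg (hG : GeomQ Q) (h2 : (2 : F) ≠ 0) (h : IsoQ Q f) (hf : f ^ 2 = -1)
    {j : ℕ} (hj : 2 * j ≤ finrank F V) :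
    ∃ W : Submodule F V, finrank F W = 2 * j ∧ NDQ Q W ∧ ∀ v ∈ W, f v ∈ W := by
  obtain ⟨U, h1, h3, h4⟩ := hG.exists_half h2 h hf _ ⊤ (fun _ _ => Submodule.mem_top) hG.nd_top
    le_rfl
  have h5 := hG.finrank_sup_of_le_perp h1 h3
  rw [hG.finrank_map h, h4, finrank_top] at h5
  obtain ⟨Y, h6, h7, h8⟩ := hG.exists_nd_odd h2 h1 (e := j) (by omega)
  have h9 : Y.map f ≤ perpQ Q Y := ((Submodule.map_mono h6).trans h3).trans (perp_anti h6)
  refine ⟨Y ⊔ Y.map f, by rw [hG.finrank_sup_of_le_perp h7 h9, hG.finrank_map h, h8, two_mul],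
    hG.nd_sup h7 (h.nd_map h7) h9, ?_⟩
  rw [← map_le_iff, Submodule.map_sup, map_map_end, ← sq, hf, Submodule.map_neg, End.one_eq_id,
    Submodule.map_id, sup_comm]

theorem inO_iff_of_sq_neg (hG : GeomQ Q) (h2 : (2 : F) ≠ 0) (h : IsoQ Q f) (hf : f ^ 2 = -1)
    {d : ℕ} (hd : finrank F V = 2 * d) : InO Q f ↔ Even d ∨ IsSquare (2 : F) := by
  obtain ⟨U, h1, h3, h4⟩ := hG.exists_half h2 h hf _ ⊤ (fun _ _ => Submodule.mem_top) hG.nd_top
    le_rfl
  have h5 := hG.finrank_sup_of_le_perp h1 h3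
  rw [hG.finrank_map h, h4, finrank_top] at h5
  have h6 : ∀ v, Q ((1 - f) v) = 2 * Q v := fun v => by
    have := polar_apply_of_sq_eq_neg_one h2 h hf v
    rw [LinearMap.sub_apply, End.one_apply, quad_sub, h.mapQ, ← polarBilin_apply_apply, this]
    ring
  have h7 : Function.Injective (1 - f : End F V) := (injective_iff_map_eq_zero _).2 fun v hv => by
    have h8 : v = f v := sub_eq_zero.1 hv
    have h9 := apply_apply_of_sq_eq_neg_one hf v
    rw [← h8, ← h8, eq_neg_iff_add_eq_zero, ← two_smul F] at h9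
    exact (smul_eq_zero.1 h9).resolve_left h2
  have h8 : ∀ x y, polarBilin Q ((1 - f) x) ((1 - f) y) = 2 * polarBilin Q x y :=
    quad_polar_map (1 - f) h6
  have h9 : NDQ Q (U.map (1 - f)) := by
    rintro _ ⟨u, hu, rfl⟩ H
    rw [h1 u hu fun v hv => (mul_eq_zero.1 ((h8 u v).symm.trans (H _ ⟨v, hv, rfl⟩))).resolve_left h2,
      map_zero]
  obtain ⟨s, s1, -, s3, s4⟩ := hG.exists_neg_on h2 h1
  obtain ⟨t, t1, -, t3, t4⟩ := hG.exists_neg_on h2 h9
  have h10 : ∀ u ∈ U, t u = f u ∧ t (f u) = u := fun u hu => by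
    have e1 : t u - t (f u) = -(u - f u) := by rw [← map_sub]; exact t4 _ ⟨u, hu, rfl⟩
    have e2 : t u + t (f u) = u + f u := by
      rw [← map_add]
      refine mem_fixS.1 (t3 ▸ ?_)
      rintro _ ⟨v, hv, rfl⟩
      have e3 := h3 ⟨u, hu, rfl⟩ v hv
      have e4 := h3 ⟨v, hv, rfl⟩ u hu
      rw [symm_polarBilin] at e4
      simp only [LinearMap.sub_apply, End.one_apply, map_add, map_sub, h.mapB, e3, e4]
      ring
    constructor
    · refine smul_right_injective V h2 ?_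
      simp only [two_smul]
      linear_combination (norm := abel) e1 + e2
    · refine smul_right_injective V h2 ?_
      simp only [two_smul]
      linear_combination (norm := abel) e2 - e1
  have h11 : s * t = f := by
    ext v
    obtain ⟨u, hu, _, ⟨w, hw, rfl⟩, rfl⟩ := Submodule.mem_sup.1 (h4 ▸ Submodule.mem_top : v ∈ _)
    rw [End.mul_apply, map_add, map_add, map_add, (h10 u hu).1, (h10 w hw).2, s4 w hw,
      apply_apply_of_sq_eq_neg_one hf, mem_fixS.1 (s3 ▸ h3 ⟨u, hu, rfl⟩)]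
  obtain ⟨s, rfl⟩ := hG.exists_OG s1
  obtain ⟨t, rfl⟩ := hG.exists_OG t1
  obtain ⟨e1, e2⟩ := hG.invariants_of_neg h2 h1 s s4 fun v hv => mem_fixS.1 (s3 ▸ hv)
  obtain ⟨e3, e4⟩ := hG.invariants_of_neg h2 h9 t t4 fun v hv => mem_fixS.1 (t3 ▸ hv)
  rw [← (U.equivMapOfInjective _ h7).finrank_eq] at e3 e4
  rw [← h11]
  refine (inO_coe_iff (s * t)).trans ?_
  rw [mem_commutator_OG_iff hG.nondegenerate (not_oExc_of_two_ne_zero h2), map_mul, map_mul, e1, e2,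
    e3, e4, dsc_map_of_sim h2 h6 h7 h1, Int.units_mul_self, ← mul_assoc (_ ^ _) (_ ^ _),
    Int.units_mul_self, one_mul, mul_assoc, Int.units_mul_self, mul_one,
    show finrank F U = d by omega, ← sqSign_eq_one_iff]
  rcases Int.units_eq_one_or (sqSign (2 : F)) with h | h <;>
    simp [h, neg_one_pow_eq_one_iff_even]

theorem exists_sq_neg (hG : GeomQ Q) (h2 : (2 : F) ≠ 0) {d : ℕ} (hd : finrank F V = 2 * d)
    (h : tp Q ⊤ = chi F ^ d) : ∃ f, IsoQ Q f ∧ f ^ 2 = -1 := by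
  obtain ⟨U, -, h1, h3⟩ := hG.exists_nd_odd h2 hG.nd_top (e := d) (by rw [finrank_top]; omega)
  have h4 := hG.finrank_add_perp U
  have h5 := hG.isCompl_perp h1
  have h6 := hG.dsc_sup h1 (hG.nd_perp h1) le_rfl
  rw [tp_eq_dsc h2 hG.nd_top, finrank_top, hd, Nat.mul_div_cancel_left _ two_pos,
    mul_eq_left] at h
  rw [codisjoint_iff.1 h5.codisjoint, h, eq_comm, units_mul_eq_one_iff] at h6
  obtain ⟨e, e1, e2⟩ := (isomQ_iff_dsc h2 h1 (hG.nd_perp h1) (by omega)).2 h6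
  let g : End F V := LinearMap.ofIsCompl h5 ((perpQ Q U).subtype ∘ₗ (e : U →ₗ[F] _))
    (-(U.subtype ∘ₗ (e.symm : _ →ₗ[F] U)))
  have g1 : ∀ u : U, g u = e u := fun u => LinearMap.ofIsCompl_apply_left h5 u
  have g2 : ∀ u : U, g (e u) = -u := fun u =>
    (LinearMap.ofIsCompl_apply_right h5 (e u)).trans (by simp)
  refine ⟨g, isoQ_iff.2 fun v => ?_, ?_⟩
  · obtain ⟨u, w, rfl⟩ := SpO.exists_add_of_isCompl h5 v
    obtain ⟨w, rfl⟩ := e.surjective w
    have e3 : polar Q (u : V) (e w) = 0 := (e w).2 _ u.2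
    have e4 : polar Q (w : V) (e u) = 0 := (e u).2 _ w.2
    rw [map_add, g1, g2, quad_add, quad_add, e2, e2, e3, polar_neg_right, polar_comm, e4,
      QuadraticMap.map_neg, neg_zero]
  · ext v
    obtain ⟨u, w, rfl⟩ := SpO.exists_add_of_isCompl h5 v
    obtain ⟨w, rfl⟩ := e.surjective w
    simp [sq, g1, g2, add_comm]

theorem exists_inO_sq_neg_iff (hG : GeomQ Q) (h2 : (2 : F) ≠ 0) {d : ℕ}
    (hd : finrank F V = 2 * d) : (∃ f, InO Q f ∧ f ^ 2 = -1) ↔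
      tp Q ⊤ = chi F ^ d ∧ (Even d ∨ IsSquare (2 : F)) := by
  constructor
  · rintro ⟨f, h, hf⟩
    obtain ⟨j, h1, h3⟩ := hG.tp_of_sq_neg h2 h.iso hf (fun _ _ => Submodule.mem_top) hG.nd_top
    rw [finrank_top] at h1
    obtain rfl : j = d := by omega
    exact ⟨h3, (hG.inO_iff_of_sq_neg h2 h.iso hf hd).1 h⟩
  · rintro ⟨h1, h3⟩
    obtain ⟨f, h, hf⟩ := hG.exists_sq_neg h2 hd h1
    exact ⟨f, (hG.inO_iff_of_sq_neg h2 h hf hd).2 h3, hf⟩

/-- An involution `≠ ±1` fixes non-degenerate subspaces of each dimension and type. -/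
theorem exists_tp_of_sq (hG : GeomQ Q) (h2 : (2 : F) ≠ 0) (h : InO Q f) (hf : f ^ 2 = 1)
    (h1 : f ≠ 1) {m : ℕ} (h0 : 0 < m) (hm : m < finrank F V) (s : ℤˣ) :
    ∃ W : Submodule F V, finrank F W = m ∧ NDQ Q W ∧ tp Q W = s ∧ ∀ v ∈ W, f v ∈ W := by
  have h3 := hG.nd_fixS h.iso (isSemisimple_of_sq_eq_one h2 hf)
  have h4 := hG.finrank_add_perp (fixS f)
  obtain ⟨j, h5, -⟩ := (hG.inO_iff_of_sq h2 h.iso hf).1 h
  have h6 : finrank F (fixS f) ≠ finrank F V := fun e =>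
    h1 (fixS_eq_top.1 (Submodule.eq_top_of_finrank_eq e))
  obtain ⟨Z, z1, z2, z3⟩ := hG.exists_nd_odd h2 h3 (e := min (m - 1) (finrank F (fixS f)))
    (min_le_right _ _)
  obtain ⟨Y, y1, y2, y3, y4⟩ := hG.exists_dsc h2 (hG.nd_perp h3) (e := m - finrank F Z) (by omega)
    (by omega) (dsc Q Z * chi F ^ (m / 2) * s)
  obtain ⟨h7, h8, h9⟩ := hG.sup_of_fix z1 z2 y1 y2 (hG.inv_of_le_perp_fixS h.iso hf y1)
  have h10 : finrank F ↥(Z ⊔ Y) = m := by omega
  refine ⟨Z ⊔ Y, h10, h8, ?_, h7⟩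
  rw [tp_eq_dsc h2 h8, hG.dsc_sup z2 y2 (y1.trans (perp_anti z1)), y4, h10, mul_assoc (dsc Q Z),
    ← mul_assoc (dsc Q Z), Int.units_mul_self, one_mul, ← mul_assoc, Int.units_mul_self, one_mul]

theorem realQ_of_equiv (hG : GeomQ Q) (hW : NDQ Q W) (e : V' ≃ₗ[F] W) (he : ∀ x, Q (e x) = Q' x)
    {g : End F V'} (hg : IsoQ Q' g) : RealQ Q W (ed g) :=
  hG.realOn_of_equiv hW (B' := polarBilin Q') e (fun x y => quad_polar_equiv (Q' := Q.restrict W) e he x y) he hg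

theorem realOn_odd (hG : GeomQ Q) (h2 : (2 : F) ≠ 0) (hW : NDQ Q W) {n : ℕ} (hn : finrank F W = n)
    (h : Odd n) : RealQ Q W {(X - C 1) ^ n} := by
  obtain ⟨P, hP, A, hA⟩ := (SpO.rlz_odd_block h2 h).exists_o h2 (n := n) (by
    rw [jt, Multiset.map_singleton, Multiset.map_singleton, natDegree_X_sub_one_pow,
      Multiset.sum_singleton])
  obtain ⟨m, hm⟩ := h
  obtain ⟨c, g, hc, hg⟩ := quad_classify_odd' hP (m := m) (by simp [hm])
  obtain ⟨c', g', hc', hg'⟩ := quad_classify_odd' (ndQ_iff.1 hW) (hn.trans hm)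
  have h1 : ∀ x, Q.restrict W ((g.trans g'.symm) x) = ((c' / c) • P) x := fun x => by
    rw [← hg', smul_apply, ← hg, smul_eq_mul]
    simp only [LinearEquiv.trans_apply, LinearEquiv.apply_symm_apply]
    field_simp
  have h4 : IsoQ ((c' / c) • P) (glRep A.1) := isoQ_iff.2 fun v => by
    rw [smul_apply, smul_apply]
    exact congrArg _ ((mem_isometryGroup _ _).1 A.2 v)
  have h5 : ed (glRep A.1) = {(X - C 1) ^ n} := hA
  exact h5 ▸ hG.realQ_of_equiv hW (g.trans g'.symm) h1 h4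

theorem realOn_sum_odd (hG : GeomQ Q) (h2 : (2 : F) ≠ 0) {ν : Multiset ℕ} (hν : ∀ a ∈ ν, Odd a) :
    ∀ {W : Submodule F V}, NDQ Q W → ν.sum = finrank F W →
      RealQ Q W (ν.map fun a => (X - C (1 : F)) ^ a) := by
  induction ν using Multiset.induction_on with
  | empty =>
    intro W _ h
    simpa [← h] using realOn_one (B := polarBilin Q) (Q := Q) W
  | cons a ν ih =>
    intro W hW h
    rw [Multiset.sum_cons] at h
    obtain ⟨Y, h1, h3, rfl⟩ := hG.exists_nd_odd h2 hW (e := a) (by omega)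
    have h4 := hG.finrank_add_perp_inf hW h1
    rw [← hG.sup_perp_inf hW h3 h1, Multiset.map_cons, ← Multiset.singleton_add]
    exact hG.realOn_sup h3 inf_le_left (hG.realOn_odd h2 h3 rfl (hν _ (Multiset.mem_cons_self _ _)))
      (ih (fun a ha => hν a (Multiset.mem_cons_of_mem ha)) (hG.nd_perp_inf hW h3 h1) (by omega))

theorem realOn_unip (hG : GeomQ Q) (h2 : (2 : F) ≠ 0) (hW : NDQ Q W) {μ : Multiset ℕ}
    (h0 : ∀ a ∈ μ, 0 < a) (h1 : ∀ a, Even a → Even (μ.count a)) (hd : μ.sum = finrank F W)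
    (h3 : (∃ a ∈ μ, Odd a) ∨ PlusQ Q W) : RealQ Q W (μ.map fun a => (X - C (1 : F)) ^ a) := by
  obtain ⟨t, ν, h4, h5⟩ : ∃ t ν, μ = t + t + ν ∧ (∀ a ∈ ν, Odd a) ∧ (ν ≠ 0 ∨ PlusQ Q W) := by
    obtain ⟨t, ν, rfl, h5⟩ := exists_eq_add_add_of_even h1
    simp only [Nat.not_even_iff_odd] at h5
    by_cases h6 : ν = 0
    · subst h6
      rcases h3 with ⟨a, ha, ha'⟩ | h3
      · obtain ⟨t, rfl⟩ := Multiset.exists_cons_of_mem (show a ∈ t by simpa using ha)
        exact ⟨t, {a, a}, by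
          simp only [← Multiset.singleton_add, Multiset.insert_eq_cons]
          abel, by simpa, Or.inl (by simp)⟩
      · exact ⟨t, 0, rfl, h5, Or.inr h3⟩
    · exact ⟨t, ν, rfl, h5, Or.inl h6⟩
  subst h4
  simp only [Multiset.sum_add] at hd
  obtain ⟨P, p1, p2, p3, p4⟩ : ∃ P, P ≤ W ∧ NDQ Q P ∧ PlusQ Q P ∧ finrank F P = 2 * t.sum := by
    by_cases h6 : ν.sum = 0
    · refine ⟨W, le_rfl, hW, h5.2.resolve_left fun h => ?_, by omega⟩
      obtain ⟨a, ha⟩ := Multiset.exists_mem_of_ne_zero h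
      exact (h5.1 a ha).pos.ne' (Multiset.sum_eq_zero_iff.1 h6 a ha)
    · exact hG.exists_plus_of_lt hW (by omega)
  have h4 := hG.finrank_add_perp_inf hW p1
  rw [← hG.sup_perp_inf hW p2 p1, Multiset.map_add]
  exact hG.realOn_sup p2 inf_le_left (hG.realOn_hyp_unip p2 p3
    (fun a ha => h0 a (by simp [ha])) p4.symm)
    (hG.realOn_sum_odd h2 h5.1 (hG.nd_perp_inf hW p2 p1) (by omega))

/-- Invariant non-degenerate subspaces of unipotent elements. -/
theorem degs_of_nd (hG : GeomQ Q) (h2 : (2 : F) ≠ 0) (h : IsoQ Q f) {K : ℕ}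
    (hK : (f - 1) ^ K = 0) (hW : ∀ v ∈ W, f v ∈ W) (hN : NDQ Q W) :
    degs (f.restrict hW) ≤ degs f ∧ (degs (f.restrict hW)).sum = finrank F W ∧
      ∀ a, Even a → Even ((degs (f.restrict hW)).count a) :=
  ⟨hG.degs_restrict_le h hW hN, sum_degs _,
    (hG.unip_eps h2 (eps_polarBilin Q) h hK hW hN).1⟩

theorem plus_of_degs_top (hG : GeomQ Q) (h2 : (2 : F) ≠ 0) (h : IsoQ Q f) {K : ℕ}
    (hK : (f - 1) ^ K = 0) (h1 : ∀ a ∈ degs f, a = 2) : PlusQ Q ⊤ := by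
  obtain ⟨k, h5⟩ : ∃ k, ed f = (Multiset.replicate k 2).map fun a => (X - C (1 : F)) ^ a := by
    refine ⟨Multiset.card (ed f), ?_⟩
    rw [Multiset.map_replicate]
    refine Multiset.eq_replicate_card.2 fun e he => ?_
    obtain ⟨a, -, -, rfl⟩ := mem_ed_of_sub_pow (c := 1) (by rwa [one_smul]) he
    rw [← h1 _ (Multiset.mem_map_of_mem _ he), natDegree_X_sub_one_pow]
  have h6 := finrank_fixS_of_ed (fun a ha => by rw [Multiset.eq_of_mem_replicate ha]; omega) h5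
  have h7 := sum_degs f
  rw [degs_of_ed_eq_map h5] at h7
  simp only [Multiset.card_replicate, Multiset.sum_replicate, smul_eq_mul] at h6 h7
  have h8 := hG.finrank_add_perp (fixS f)
  have h10 : aeval f ((X - C (1 : F)) ^ 2) = 0 := (aeval_eq_zero_iff_ed f _).2 fun e he => by
    rw [h5, Multiset.map_replicate] at he
    exact (Multiset.eq_of_mem_replicate he).dvd
  rw [aeval_X_sub_one_pow, sq] at h10
  have h9 : perpQ Q (fixS f) ≤ fixS f := by
    rw [hG.perp_fixS h]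
    rintro _ ⟨v, rfl⟩
    exact LinearMap.congr_fun h10 v
  refine ⟨_, le_top, tsQ_iff.2 fun w hw => ?_, (by rw [finrank_top]; omega :
    2 * finrank F (perpQ Q (fixS f)) = _)⟩
  have h11 := hw w (h9 hw)
  rw [polarBilin_self] at h11
  exact (mul_eq_zero.1 h11).resolve_left h2

theorem plus_of_degs (hG : GeomQ Q) (h2 : (2 : F) ≠ 0) (h : IsoQ Q f) {K : ℕ}
    (hK : (f - 1) ^ K = 0) (hW : ∀ v ∈ W, f v ∈ W) (hN : NDQ Q W)
    (h1 : ∀ a ∈ degs (f.restrict hW), a = 2) : PlusQ Q W := by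
  have := hG
  refine plusQ_restrict.1 (plus_of_degs_top hN.geomQ h2 (isoQ_restrict h hW) (K := K) ?_ h1)
  ext v
  have := coe_aeval_restrict hW ((X - C 1) ^ K) v
  rw [aeval_X_sub_one_pow, aeval_X_sub_one_pow, hK] at this
  exact this

end GeomQ

end Cfsg.Agent.Cl.Der
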