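import Mathlib
import Cfsg.Agent.Cl.DerQ2

/-! Semisimple elements of odd prime order in quadratic geometries. -/

set_option autoImplicit false
set_option linter.unusedSectionVars false

namespace Cfsg.Agent.Cl.Der

open Polynomial Module Cfsg.Agent.Cl.Cls
open QuadraticMap hiding sq

/-- The type of a space of dimension `e` with a fixed-point-free isometry. -/
def tq (i e : ℕ) : ℤˣ := if 2 * i ∣ e then 1 else -1

theorem tq_zero (i : ℕ) : tq i 0 = 1 := if_pos (dvd_zero _)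

theorem tq_eq_one_iff {i e : ℕ} : tq i e = 1 ↔ 2 * i ∣ e := by
  unfold tq
  split_ifs with h <;> simp [h]

theorem tq_mul {i : ℕ} (hi : 0 < i) (s : ℕ) : tq i (s * i) = (-1) ^ s := by
  unfold tq
  split_ifs with h
  · rw [(even_iff_two_dvd.2 (Nat.dvd_of_mul_dvd_mul_right hi h)).neg_one_pow]
  · rw [(Nat.not_even_iff_odd.1 fun h1 => h (Nat.mul_dvd_mul_right h1.two_dvd i)).neg_one_pow]

theorem tq_of_dvd {i e : ℕ} (hi : 0 < i) (h : i ∣ e) : tq i e = (-1) ^ (e / i) := by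
  rw [← tq_mul hi, Nat.div_mul_cancel h]

theorem tq_add {i e e' : ℕ} (hi : 0 < i) (h : i ∣ e) (h' : i ∣ e') :
    tq i (e + e') = tq i e * tq i e' := by
  obtain ⟨s, rfl⟩ := h
  obtain ⟨t, rfl⟩ := h'
  rw [← mul_add, mul_comm, mul_comm i, mul_comm i, tq_mul hi, tq_mul hi, tq_mul hi, pow_add]

theorem tq_of_odd {i e : ℕ} (h : Odd i) (he : cOf i ∣ e) : tq i e = 1 :=
  tq_eq_one_iff.2 (cOf_odd h ▸ he)

/-- Arithmetic criterion for non-degenerate subspaces of given type. -/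
theorem ndq_arith {n m i : ℕ} {ε s : ℤˣ} (hi : 0 < i) (hm0 : 0 < m) (hm : m < n) :
    ((cOf i ≤ n → ∀ k, k < n → cOf i ∣ n - k → (k = 0 → tq i n = ε) → ∃ a e, a + e = m ∧
      cOf i ∣ e ∧ e + k ≤ n ∧ a ≤ k ∧ ((0 < a ∧ a < k) ∨ (a = 0 ∧ tq i e = s) ∨
        (a = k ∧ ε * tq i (n - k) * tq i e = s))) ↔ (cOf i ≤ n →
    ((n % cOf i = 0 ∧ tq i n ≠ ε) ∨ (0 < m % cOf i ∧ m % cOf i < n % cOf i) ∨
      (m % cOf i = 0 ∧ tq i m = s) ∨ (0 < m % cOf i ∧ m % cOf i = n % cOf i ∧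
        ε * tq i (n - n % cOf i) * tq i (m - n % cOf i) = s)))) := by
  refine imp_congr_right fun hc => ?_
  have hc0 := cOf_pos hi
  have hic := dvd_cOf i
  generalize cOf i = c at hc hc0 hic
  have hn := Nat.mod_lt n hc0
  have hm' := Nat.mod_lt m hc0
  constructor
  · intro H
    refine or_iff_not_imp_left.2 fun h1 => ?_
    obtain ⟨a, e, rfl, h2, h3, h4, h5⟩ := H (n % c) (by omega) (Nat.dvd_sub_mod n)
      fun h => not_not.1 fun h' => h1 ⟨h, h'⟩
    have h6 := mod_eq_of_dvd rfl h2 (k := a)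
    rw [Nat.mod_eq_of_lt (by omega)] at h6
    rw [← h6]
    rcases h5 with h5 | ⟨rfl, h5⟩ | ⟨h5, h7⟩
    · exact Or.inl h5
    · exact Or.inr (Or.inl ⟨rfl, by rwa [zero_add]⟩)
    rcases a.eq_zero_or_pos with rfl | h8
    · refine Or.inr (Or.inl ⟨rfl, ?_⟩)
      rw [← h5, Nat.sub_zero, not_not.1 fun h' => h1 ⟨h5.symm, h'⟩, Int.units_mul_self,
        one_mul] at h7
      rwa [zero_add]
    · exact Or.inr (Or.inr ⟨h8, h5, by rwa [← h5, add_tsub_cancel_left, h5]⟩)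
  intro H k h1 h2 h3
  have hk := mod_eq_of_dvd (show k + (n - k) = n by omega) h2
  have hk' := Nat.mod_le k c
  -- the three basic choices
  have A : m % c ≤ k → m % c ≠ 0 → m % c ≠ n % c → ∃ a e, a + e = m ∧ c ∣ e ∧ e + k ≤ n ∧ a ≤ k ∧
      0 < a ∧ a < k := fun h4 h5 h6 => by
    obtain ⟨e, e1, e2, e3⟩ : ∃ e, c ∣ e ∧ e ≤ m ∧ e + k ≤ n ∧ m ≤ e + k := by
      by_cases h7 : m - m % c + k ≤ n
      · exact ⟨m - m % c, Nat.dvd_sub_mod m, by omega, h7, by omega⟩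
      · exact ⟨n - k, h2, by omega, by omega, by omega⟩
    have h7 := mod_eq_of_dvd (show m - e + e = m by omega) e1
    refine ⟨m - e, e, by omega, e1, e3.1, by omega, Nat.pos_of_ne_zero fun h => h5 ?_,
      lt_of_le_of_ne (by omega) fun h => h6 ?_⟩
    · rw [← h7, h, Nat.zero_mod]
    · rw [← h7, h, hk]
  have B : m % c = 0 → tq i m = s → ∃ a e, a + e = m ∧ c ∣ e ∧ e + k ≤ n ∧ a ≤ k ∧
      ((0 < a ∧ a < k) ∨ (a = 0 ∧ tq i e = s) ∨ (a = k ∧ ε * tq i (n - k) * tq i e = s)) :=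
    fun h4 h5 => by
    by_cases h7 : m + k ≤ n
    · exact ⟨0, m, by omega, Nat.dvd_of_mod_eq_zero h4, h7, by omega, Or.inr (Or.inl ⟨rfl, h5⟩)⟩
    · exact ⟨m + k - n, n - k, by omega, h2, by omega, by omega, Or.inl (by omega)⟩
  have C : m % c = n % c → ε * tq i (n - n % c) * tq i (m - n % c) = s → ∃ a e, a + e = m ∧
      c ∣ e ∧ e + k ≤ n ∧ a ≤ k ∧ ((0 < a ∧ a < k) ∨ (a = 0 ∧ tq i e = s) ∨
        (a = k ∧ ε * tq i (n - k) * tq i e = s)) := fun h4 h5 => by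
    by_cases h7 : k ≤ m
    · have h8 : c ∣ m - k := (Nat.modEq_iff_dvd' h7).1 (hk.trans h4.symm)
      have h9 : c ∣ k - n % c := hk ▸ Nat.dvd_sub_mod k
      refine ⟨k, m - k, by omega, h8, by omega, le_rfl, Or.inr (Or.inr ⟨rfl, ?_⟩)⟩
      rw [show n - n % c = (n - k) + (k - n % c) by omega,
        show m - n % c = (k - n % c) + (m - k) by omega, tq_add hi (hic.trans h2) (hic.trans h9),
        tq_add hi (hic.trans h9) (hic.trans h8), mul_assoc, mul_assoc, ← mul_assoc (tq i (k - _)),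
        Int.units_mul_self, one_mul, ← mul_assoc] at h5
      exact h5
    · exact ⟨m, 0, rfl, dvd_zero c, by omega, by omega, Or.inl (by omega)⟩
  rcases H with ⟨h4, h5⟩ | ⟨h4, h5⟩ | ⟨h4, h5⟩ | ⟨-, h4, h5⟩
  · by_cases h6 : m % c = 0
    · by_cases h7 : tq i m = s
      · exact B h6 h7
      · refine C (by omega) ?_
        rw [h4, Nat.sub_zero, Nat.sub_zero]
        revert h5 h7
        generalize tq i n = x
        generalize tq i m = y
        rcases Int.units_eq_one_or x with rfl | rfl <;> rcases Int.units_eq_one_or y with rfl | rfl <;>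
          rcases Int.units_eq_one_or ε with rfl | rfl <;>
          rcases Int.units_eq_one_or s with rfl | rfl <;> simp
    · have h7 : c ≤ k := Nat.le_of_dvd (Nat.pos_of_ne_zero fun h => h5 (h3 h))
        (Nat.dvd_of_mod_eq_zero (by omega))
      obtain ⟨a, e, h8, h9, h10, h11, h12⟩ := A (by omega) h6 (by omega)
      exact ⟨a, e, h8, h9, h10, h11, Or.inl h12⟩
  · obtain ⟨a, e, h8, h9, h10, h11, h12⟩ := A (by omega) (by omega) (by omega)
    exact ⟨a, e, h8, h9, h10, h11, Or.inl h12⟩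
  · exact B h4 h5
  · exact C h4 h5

/-- Arithmetic criterion for totally singular subspaces, `i` even. -/
theorem tsq_arith_even {n m i T : ℕ} {E : Prop} (hi : 0 < i) (hT : 1 ≤ T) (hm : 2 * m < n)
    (him : i ≤ m) : (∀ w o k, k + (2 * w + o) * i = n → 0 < 2 * w + o → o ≤ T →
      (k = 0 → (E ↔ Even o)) → ∃ a v, (2 * a < k ∨ (2 * a = k ∧ (E ↔ Even o))) ∧ v ≤ w ∧
        m = a + v * i) ↔ T + 2 * (m / i) ≤ n / i ∧
    ((2 * (m % i) ≤ i ∧ n % i = 0 ∧ ¬ (E ↔ Even (n / i)) ∧ T + 2 * (m / i) < n / i) ∨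
      (2 * (m % i) ≤ n % i ∧ (E ↔ Even (n / i))) ∨
      (2 * (m % i) < n % i ∧ ¬ (E ↔ Even (n / i)))) := by
  have h1 := Nat.div_add_mod' n i
  have h2 := Nat.div_add_mod' m i
  have h3 := Nat.mod_lt n hi
  have h4 := Nat.mod_lt m hi
  have h5 : 1 ≤ m / i := (Nat.one_le_div_iff hi).2 him
  have h6 : 2 * (m / i) ≤ n / i := (Nat.le_div_iff_mul_le hi).2 (by rw [mul_assoc]; omega)
  have key : ∀ a v, m = a + v * i → m % i ≤ a := fun a v h => mod_le_of_add_mul h.symm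
  generalize n / i = n' at h1 h6 ⊢
  generalize n % i = κ at h1 h3 ⊢
  generalize m / i = m' at h2 h5 h6 ⊢
  generalize m % i = l at h2 h4 key ⊢
  simp only [Nat.even_iff]
  constructor
  · intro H
    have H1 : ∀ s k, k + s * i = n → 0 < s → (k = 0 → (E ↔ s % 2 = 0)) →
        2 * l < k ∨ (2 * l = k ∧ (E ↔ s % 2 = 0)) := fun s k h7 h8 h9 => by
      obtain ⟨a, v, h10, -, h11⟩ := H (s / 2) (s % 2) k (by rwa [Nat.div_add_mod]) (by omega)
        (by omega) (by rwa [Nat.mod_mod])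
      have := key a v h11
      rw [Nat.mod_mod] at h10
      rcases h10 with h10 | ⟨h10, h12⟩
      · omega
      · rcases this.lt_or_eq with h | h
        · omega
        · exact Or.inr ⟨by omega, h12⟩
    have H2 : ∀ o k, k + (2 * m' + o) * i = n + 2 * i → 0 < 2 * (m' - 1) + o → o ≤ T → 0 < k →
        2 * (l + i) < k ∨ (2 * (l + i) = k ∧ (E ↔ o % 2 = 0)) := fun o k h7 h8 h9 h10 => by
      obtain ⟨m'', rfl⟩ : ∃ x, m' = x + 1 := ⟨m' - 1, by omega⟩
      obtain ⟨a, v, h11, h12, h13⟩ := H m'' o k (by linarith) (by omega) h9 (by omega)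
      have := Nat.mul_le_mul_right i h12
      rcases h11 with h11 | ⟨h11, h14⟩
      · exact Or.inl (by linarith)
      · rcases (show 2 * (l + i) ≤ k by linarith).lt_or_eq with h | h
        exacts [Or.inl h, Or.inr ⟨h, h14⟩]
    have h7 : T + 2 * m' ≤ n' := by
      by_contra h7
      obtain ⟨o, rfl⟩ : ∃ o, n' = 2 * m' + o := ⟨n' - 2 * m', by omega⟩
      have := H2 (o + 1) (κ + i) (by linarith) (by omega) (by omega) (by omega)
      omega
    refine ⟨h7, ?_⟩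
    by_cases h8 : κ = 0 ∧ ¬ (E ↔ n' % 2 = 0)
    · obtain ⟨n'', rfl⟩ : ∃ x, n' = x + 1 := ⟨n' - 1, by omega⟩
      have h9 := H1 n'' i (by linarith [h8.1]) (by omega) (by omega)
      refine Or.inl ⟨by omega, h8.1, h8.2, lt_of_le_of_ne h7 fun h10 => ?_⟩
      rcases H2 T (2 * i) (by rw [add_comm (2 * m'), h10]; linarith [h8.1]) (by omega) le_rfl
        (by omega) with h | ⟨-, h⟩
      · omega
      · exact h8.2 (h.trans (by omega))
    · rcases H1 n' κ (by omega) (by omega) fun h => not_not.1 fun h' => h8 ⟨h, h'⟩ with h | h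
      · by_cases h9 : E ↔ n' % 2 = 0
        exacts [Or.inr (Or.inl ⟨h.le, h9⟩), Or.inr (Or.inr ⟨h, h9⟩)]
      · exact Or.inr (Or.inl ⟨h.1.le, h.2⟩)
  rintro ⟨H1, H⟩ w o k h7 h8 h9 h10
  have G : ∀ s k', s % 2 = o % 2 → k' + s * i = n → (κ = 0 → ¬ (E ↔ n' % 2 = 0) → s ≠ n') →
      2 * l < k' ∨ (2 * l = k' ∧ (E ↔ o % 2 = 0)) := fun s k' g1 g2 g3 => by
    have g4 : s ≤ n' := by
      by_contra g4
      have := Nat.mul_le_mul_right i (show n' + 1 ≤ s by omega)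
      linarith
    obtain ⟨j, rfl⟩ := Nat.exists_eq_add_of_le g4
    obtain rfl : k' = κ + j * i := by linarith
    rcases j with _ | _ | j
    · rw [add_zero, g1] at H g3
      rcases H with h | h | h
      · exact absurd rfl (g3 h.2.1 h.2.2.1)
      · rcases h.1.lt_or_eq with h' | h'
        exacts [Or.inl (by omega), Or.inr ⟨by omega, h.2⟩]
      · exact Or.inl (by omega)
    · rcases H with h | h | h
      · rcases h.1.lt_or_eq with h' | h'
        · exact Or.inl (by omega)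
        · refine Or.inr ⟨by omega, ?_⟩
          have := h.2.2.1
          by_cases hE : E <;> simp only [hE, true_iff, false_iff] at this ⊢ <;> omega
      · exact Or.inl (by omega)
      · exact Or.inl (by omega)
    · have : 2 * i ≤ (j + 1 + 1) * i := Nat.mul_le_mul_right i (by omega)
      exact Or.inl (by omega)
  by_cases h11 : m' ≤ w
  · refine ⟨l, m', G (2 * w + o) k (by omega) h7 fun g1 g2 g3 => g2 ?_, h11, by omega⟩
    rw [g3] at h7
    exact (h10 (by omega)).trans (by omega)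
  · obtain ⟨j, rfl⟩ := Nat.exists_eq_add_of_le (not_le.1 h11).le
    have g1 : (2 * (w + j) + o) * i ≤ n' * i := Nat.mul_le_mul_right i (by omega)
    obtain ⟨k', hk'⟩ := Nat.exists_eq_add_of_le (show (2 * (w + j) + o) * i ≤ n by omega)
    have g2 := G (2 * (w + j) + o) k' (by omega) (by omega) fun g3 g4 g5 => by
      rcases H with h | h | h
      · omega
      · exact g4 h.2
      · omega
    obtain rfl : k = k' + 2 * (j * i) := by linarith
    exact ⟨l + j * i, w, g2.imp (by omega) fun h => ⟨by omega, h.2⟩, le_rfl, by linarith⟩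

/-- Arithmetic criterion for totally singular subspaces, `i` odd. -/
theorem tsq_arith_odd {n m i : ℕ} {E : Prop} (hi : 0 < i) (hm : 2 * m < n) (him : i ≤ m) :
    (∀ w k, k + 2 * w * i = n → 0 < w → (k = 0 → E) →
      ∃ a v, (2 * a < k ∨ (2 * a = k ∧ E)) ∧ v ≤ w ∧ m = a + v * i) ↔
    ((n % (2 * i) = 0 ∧ ¬ E) ∨ 2 * (m % i) < n % (2 * i) ∨ (2 * (m % i) = n % (2 * i) ∧ E)) := by
  have h1 := Nat.div_add_mod' n (2 * i)
  have h2 := Nat.div_add_mod' m i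
  have h4 := Nat.mod_lt m hi
  constructor
  · intro H
    refine or_iff_not_imp_left.2 fun h5 => ?_
    obtain ⟨a, v, h6, -, h7⟩ := H (n / (2 * i)) (n % (2 * i)) (by linarith)
      (Nat.div_pos (by omega) (by omega)) fun h => not_not.1 fun h' => h5 ⟨h, h'⟩
    have := mod_le_of_add_mul h7.symm
    rcases h6 with h6 | ⟨h6, h8⟩
    · omega
    · rcases this.lt_or_eq with h | h
      exacts [Or.inl (by omega), Or.inr ⟨by omega, h8⟩]
  intro H w k h5 h6 h7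
  by_cases h8 : m / i ≤ w
  · refine ⟨m % i, m / i, ?_, h8, by omega⟩
    have h9 : k % (2 * i) = n % (2 * i) := mod_eq_of_dvd h5 ⟨w, by ring⟩
    have h10 := Nat.mod_le k (2 * i)
    rcases H with ⟨h, h'⟩ | h | ⟨h, h'⟩
    · have := Nat.le_of_dvd (Nat.pos_of_ne_zero fun e => h' (h7 e))
        (Nat.dvd_of_mod_eq_zero (h9.trans h))
      omega
    · omega
    · rcases h10.lt_or_eq with e | e
      exacts [Or.inl (by omega), Or.inr ⟨by omega, h'⟩]
  · have := Nat.mul_le_mul_right i (not_le.1 h8).le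
    exact ⟨m - w * i, w, Or.inl (by rw [mul_assoc] at h5; omega), le_rfl, by omega⟩

variable {F V : Type*} [Field F] [AddCommGroup V] [Module F V] [FiniteDimensional F V]
  {f : End F V} {U W S Y Z : Submodule F V} {Q : QuadraticForm F V}
  {r : ℕ} [hr : Fact r.Prime] [Fintype F] {p : ℕ} [hp : Fact p.Prime] [CharP F p]

theorem eq_of_sq_apply {k : ℕ} (hk : Odd k) (hf : f ^ k = 1) {v : V} (h : f (f v) = v) :
    f v = v := by
  obtain ⟨k, rfl⟩ := hk
  have h1 : ((f ^ 2) ^ k) v = v := by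
    rw [End.pow_apply]
    exact Function.iterate_fixed h k
  have h2 := LinearMap.congr_fun hf v
  rwa [pow_succ', End.mul_apply, pow_mul, h1] at h2

theorem exists_quad_of_alt {B : V →ₛₗ[RingHom.id F] V →ₗ[F] F} (hG : GeomA B) (h : IsoA B f)
    {k : ℕ} (hk : Odd k) (hf : f ^ k = 1) (h1 : fixS f = ⊥) :
    ∃ Q : QuadraticForm F V, GeomQ Q ∧ IsoQ Q f := by
  let Q : QuadraticForm F V := LinearMap.BilinMap.toQuadraticMap (B.compl₂ f)
  refine ⟨Q, geom_quad ((quad_nondeg_iff Q).2 fun u hu => ?_), isoQ_iff.2 fun v => h.mapB v (f v)⟩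
  refine (Submodule.mem_bot F).1 (h1 ▸ mem_fixS.2 (eq_of_sq_apply hk hf ?_))
  refine sub_eq_zero.1 (hG.nondeg _ fun y => ?_)
  obtain ⟨v, -, rfl⟩ := hG.surj_on h (U := ⊤) (fun _ _ => Submodule.mem_top) (u := y)
    Submodule.mem_top
  have h2 : B u (f v) + B v (f u) = 0 := (LinearMap.BilinMap.polar_toQuadraticMap u v).symm.trans (hu v)
  rw [map_sub, LinearMap.sub_apply, h.mapB, hG.eps]
  linear_combination -h2

namespace GeomQ

theorem tp_top_of_fpf (hG : GeomQ Q) (h : IsoQ Q f) (hrp : r ≠ p) (h2 : r ≠ 2) (hf : f ^ r = 1)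
    (h1 : fixS f = ⊥) :
    tp Q ⊤ = tq (orderOf ((Fintype.card F : ℕ) : ZMod r)) (finrank F V) := by
  have h3 := (even_cOf _).two_dvd.trans (hG.cOf_dvd h hrp h2 hf (Y := ⊤)
    (fun _ _ => Submodule.mem_top) hG.nd_top (by rw [h1, perp_bot]))
  refine units_eq_of_iff ?_
  rw [tp_eq_one_iff (even_iff_two_dvd.2 h3), tq_eq_one_iff]
  rw [finrank_top] at h3
  obtain ⟨m, hm⟩ := h3
  rcases m with _ | m
  · rw [hm, Submodule.finrank_eq_zero.1 ((finrank_top F V).trans hm)]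
    exact iff_of_true hG.plus_bot (dvd_zero _)
  have h4 := SpO.type_of_fpf hG.nondegenerate hm (r := r)
    (by rw [Nat.card_eq_fintype_card]; exact natCast_ne_zero_of_card hrp) hf h.mapQ
    ((LinearMap.isUnit_iff_ker_eq_bot _).2 h1)
  rw [hm, Nat.mul_dvd_mul_iff_left two_pos, orderOf_dvd_iff_pow_eq_one, ← Nat.card_eq_fintype_card]
  rcases SpO.ozeros_cases hG.nondegenerate hm with ⟨h5, g, hg⟩ | ⟨h5, hg⟩
  · exact iff_of_true (plusQ_of_equiv g.symm (fun v => by rw [← hg, g.apply_symm_apply])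
      (plusQ_quad_plus _)) (h4.1 h5)
  · obtain ⟨ζ, hζ⟩ := quad_exists_aniso F
    obtain ⟨g, hg⟩ := hg 1 ζ hζ
    exact iff_of_false (fun h6 => not_plusQ_quad_minus _ hζ (plusQ_of_equiv g hg h6))
      (h4.2 h5 ▸ neg_one_ne_one_zmod h2)

theorem tp_of_fpf (hG : GeomQ Q) (h : IsoQ Q f) (hrp : r ≠ p) (h2 : r ≠ 2) (hf : f ^ r = 1)
    (hY : ∀ v ∈ Y, f v ∈ Y) (hN : NDQ Q Y) (hle : Y ≤ perpQ Q (fixS f)) :
    tp Q Y = tq (orderOf ((Fintype.card F : ℕ) : ZMod r)) (finrank F Y) := by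
  have h3 := even_iff_two_dvd.2 ((even_cOf _).two_dvd.trans (hG.cOf_dvd h hrp h2 hf hY hN hle))
  rw [← tp_top_of_fpf hN.geomQ (isoQ_restrict h hY) hrp h2 (restrict_pow_eq_one hY hf)
    (eq_bot_iff.2 fun v hv => Subtype.ext (Submodule.disjoint_def.1 (hG.isCompl_perp
      (hG.nd_fixS h (isSemisimple_of_pow_eq_one hrp hf))).disjoint v
        (mem_fixS.2 (congrArg Subtype.val (mem_fixS.1 hv))) (hle v.2)))]
  refine units_eq_of_iff ?_
  rw [tp_eq_one_iff h3, tp_eq_one_iff (by rwa [finrank_top]), plusQ_restrict]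

theorem tp_fixS (hG : GeomQ Q) (h : IsoQ Q f) (hrp : r ≠ p) (h2 : r ≠ 2) (hf : f ^ r = 1) :
    tp Q (fixS f) = tp Q ⊤ * tq (orderOf ((Fintype.card F : ℕ) : ZMod r))
      (finrank F V - finrank F (fixS f)) := by
  have h1 := hG.nd_perp (hG.nd_fixS h (isSemisimple_of_pow_eq_one hrp hf))
  have h3 := hG.perp_inv h (fixS_inv f)
  have h4 := hG.tp_perp h1 (Or.inl (even_iff_two_dvd.2 ((even_cOf _).two_dvd.trans
    (hG.cOf_dvd h hrp h2 hf h3 h1 le_rfl))))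
  have h5 := hG.finrank_add_perp (fixS f)
  rw [hG.perp_perp, hG.tp_of_fpf h hrp h2 hf h3 h1 le_rfl] at h4
  rw [h4, ← h5, add_tsub_cancel_left]

theorem exists_model_on (hG : GeomQ Q) (hrp : r ≠ p) (h2 : r ≠ 2) (hW : NDQ Q W) {w o : ℕ}
    (hd : finrank F W = (2 * w + o) * orderOf ((Fintype.card F : ℕ) : ZMod r))
    (ho : o ≤ (r - 1) / orderOf ((Fintype.card F : ℕ) : ZMod r))
    (ho' : Odd (orderOf ((Fintype.card F : ℕ) : ZMod r)) → o = 0)
    (ht : tp Q W = tq (orderOf ((Fintype.card F : ℕ) : ZMod r)) (finrank F W)) :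
    ∃ f, IsoQ Q f ∧ f ^ r = 1 ∧ fixS f = perpQ Q W ∧ Multiset.card (movE f) = 2 * w + o ∧
      oInv r f = o := by
  have h3 := (even_cOf _).two_dvd.trans (hd ▸ cOf_dvd_mul (w := w) ho')
  obtain ⟨d, hd'⟩ := h3
  have hA : GeomA (spB d F) := geomA_spB
  have hV : finrank F (Fin d ⊕ Fin d → F) = finrank F W := sp_finrank_std.trans hd'.symm
  obtain ⟨μ, h4, h5, h6, h7⟩ := hA.exists_realOn hrp h2 hA.nd_top (w := w) (o := o)
    (by rw [finrank_top, hV, hd]) ho ho'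
  obtain ⟨g, g1, g2, g3, g4⟩ := hA.exists_of_realOn_cycF hrp hA.nd_top h4 h7
  rw [hA.perp_top] at g3
  obtain ⟨P, hP, g5⟩ := exists_quad_of_alt hA g1 (hr.1.odd_of_ne_two h2) g2 g3
  have he : Even (finrank F W) := hd' ▸ even_two_mul d
  obtain ⟨e, he⟩ := exists_equiv_of_plus_iff hP hW.geomQ (hV ▸ he) hV (by
    rw [plusQ_restrict, ← tp_eq_one_iff he, ← tp_eq_one_iff (by rwa [finrank_top, hV]), ht,
      hP.tp_top_of_fpf g5 hrp h2 g2 g3, hV])
  have h8 := hG.realQ_of_equiv hW e he g5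
  obtain ⟨k, hk⟩ := ed_eq_movE_add g
  have h9 := hA.finrank_fixS_add g1 hrp g2
  have h10 := sum_natDegree_ed g
  rw [hk, Multiset.map_add, Multiset.sum_add, g4, sum_natDegree_of_cycF hrp h4,
    Multiset.map_replicate, natDegree_X_sub_C, Multiset.sum_replicate, smul_eq_mul, ← h9, g3, g4,
    finrank_bot] at h10
  rw [hk, show k = 0 by omega, Multiset.replicate_zero, add_zero, g4] at h8
  obtain ⟨f, f1, f2, f3, f4, f5⟩ := hG.exists_model_of_realOn hrp hW ho' h4 h6 h8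
  exact ⟨f, f1, f2, f3, f4 ▸ h5, f5⟩

theorem exists_model (hG : GeomQ Q) (hrp : r ≠ p) (h2 : r ≠ 2) {w o k : ℕ}
    (hd : k + (2 * w + o) * orderOf ((Fintype.card F : ℕ) : ZMod r) = finrank F V)
    (ho : o ≤ (r - 1) / orderOf ((Fintype.card F : ℕ) : ZMod r))
    (ho' : Odd (orderOf ((Fintype.card F : ℕ) : ZMod r)) → o = 0)
    (ht : k = 0 → tq (orderOf ((Fintype.card F : ℕ) : ZMod r)) (finrank F V) = tp Q ⊤) :
    ∃ f, IsoQ Q f ∧ f ^ r = 1 ∧ finrank F (fixS f) = k ∧ Multiset.card (movE f) = 2 * w + o ∧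
      oInv r f = o := by
  obtain ⟨W, h3, h4, h5⟩ : ∃ W : Submodule F V, NDQ Q W ∧
      finrank F W = (2 * w + o) * orderOf ((Fintype.card F : ℕ) : ZMod r) ∧
      tp Q W = tq (orderOf ((Fintype.card F : ℕ) : ZMod r)) (finrank F W) := by
    rcases k.eq_zero_or_pos with h0 | h0
    · exact ⟨⊤, hG.nd_top, by rw [finrank_top]; omega, by rw [finrank_top, ht h0]⟩
    rcases ((2 * w + o) * orderOf ((Fintype.card F : ℕ) : ZMod r)).eq_zero_or_pos with h1 | h1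
    · exact ⟨⊥, nd_bot, by rw [finrank_bot, h1], by rw [finrank_bot, tq_zero, hG.tp_bot]⟩
    obtain ⟨W, -, h3, h4, h5⟩ := hG.exists_tp hG.nd_top h1 (by rw [finrank_top]; omega)
      (fun _ => even_iff_two_dvd.2 ((even_cOf _).two_dvd.trans (cOf_dvd_mul ho'))) _
    exact ⟨W, h3, h4, h4 ▸ h5⟩
  obtain ⟨f, f1, f2, f3, f4, f5⟩ := hG.exists_model_on hrp h2 h3 h4 ho ho' h5
  have := hG.finrank_add_perp W
  exact ⟨f, f1, f2, by rw [f3]; omega, f4, f5⟩

theorem exists_tp_iff (hG : GeomQ Q) (h : IsoQ Q f) (hrp : r ≠ p) (h2 : r ≠ 2) (hf : f ^ r = 1)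
    {m : ℕ} (hm : (2 : F) = 0 → Even m) (s : ℤˣ) :
    (∃ W : Submodule F V, finrank F W = m ∧ NDQ Q W ∧ tp Q W = s ∧ ∀ v ∈ W, f v ∈ W) ↔
      ∃ a e, a + e = m ∧ cOf (orderOf ((Fintype.card F : ℕ) : ZMod r)) ∣ e ∧
        e + finrank F (fixS f) ≤ finrank F V ∧ a ≤ finrank F (fixS f) ∧
        ((0 < a ∧ a < finrank F (fixS f)) ∨
          (a = 0 ∧ tq (orderOf ((Fintype.card F : ℕ) : ZMod r)) e = s) ∨
          (a = finrank F (fixS f) ∧ tp Q ⊤ * tq (orderOf ((Fintype.card F : ℕ) : ZMod r))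
            (finrank F V - finrank F (fixS f)) *
              tq (orderOf ((Fintype.card F : ℕ) : ZMod r)) e = s)) := by
  have hs := isSemisimple_of_pow_eq_one hrp hf
  have h1 := hG.nd_fixS h hs
  have h3 := hG.finrank_add_perp (fixS f)
  rw [← hG.tp_fixS h hrp h2 hf]
  constructor
  · rintro ⟨W, rfl, h4, rfl, h5⟩
    have h6 := hG.cOf_dvd_inf h hrp h2 hf h5 h4
    have h7 := hG.tp_sup (hG.nd_inf_fixS h hs h5 h4) (hG.nd_inf_perp_fixS h hs h5 h4)
      (Geom.inf_perp_le W) (Or.inr (even_iff_two_dvd.2 ((even_cOf _).two_dvd.trans h6)))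
    rw [hG.sup_fixS h hs h5, hG.tp_of_fpf h hrp h2 hf (inf_inv h5 (hG.perp_inv h (fixS_inv f)))
      (hG.nd_inf_perp_fixS h hs h5 h4) inf_le_right] at h7
    have h8 : finrank F ↥(W ⊓ fixS f) ≤ finrank F (fixS f) := Submodule.finrank_mono inf_le_right
    have h9 : finrank F ↥(W ⊓ perpQ Q (fixS f)) ≤ finrank F (perpQ Q (fixS f)) :=
      Submodule.finrank_mono inf_le_right
    refine ⟨_, _, (hG.finrank_eq_fixS h hs h5).symm, h6, by omega, h8, ?_⟩
    rcases (finrank F ↥(W ⊓ fixS f)).eq_zero_or_pos with h0 | h0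
    · refine Or.inr (Or.inl ⟨h0, ?_⟩)
      rw [h7, Submodule.finrank_eq_zero.1 h0, hG.tp_bot, one_mul]
    rcases h8.lt_or_eq with h10 | h10
    · exact Or.inl ⟨h0, h10⟩
    · refine Or.inr (Or.inr ⟨h10, ?_⟩)
      rw [h7, Submodule.eq_of_le_of_finrank_eq inf_le_right h10]
  · rintro ⟨a, e, rfl, ⟨j, rfl⟩, h4, h5, h6⟩
    obtain ⟨Y, y1, y2, y3, y4⟩ := hG.exists_nd_cOf h hrp h2 hf (w := j) (by rw [mul_comm]; omega)
    have y5 := hG.tp_of_fpf h hrp h2 hf y1 y3 y2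
    rw [mul_comm] at y4
    have y6 : Even (finrank F Y) := y4 ▸ (even_cOf _).mul_right j
    rw [← y4, ← y5] at h6
    rw [← y4] at hm ⊢
    obtain ⟨Z, z1, z2, z3, z4⟩ : ∃ Z, Z ≤ fixS f ∧ NDQ Q Z ∧ finrank F Z = a ∧
        tp Q Z * tp Q Y = s := by
      rcases h6 with ⟨h6, h7⟩ | ⟨rfl, h6⟩ | ⟨rfl, h6⟩
      · obtain ⟨Z, z1, z2, z3, z4⟩ := hG.exists_tp h1 h6 h7
          (fun h => (Nat.even_add.1 (hm h)).2 y6) (s * tp Q Y)
        exact ⟨Z, z1, z2, z3, by rw [z4, mul_assoc, Int.units_mul_self, mul_one]⟩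
      · exact ⟨⊥, bot_le, nd_bot, finrank_bot F V, by rw [hG.tp_bot, one_mul, h6]⟩
      · exact ⟨_, le_rfl, h1, rfl, h6⟩
    obtain ⟨h7, h8, h9⟩ := hG.sup_of_fix z1 z2 y2 y3 y1
    exact ⟨Z ⊔ Y, by rw [h9, z3], h8,
      by rw [hG.tp_sup z2 y3 (y2.trans (perp_anti z1)) (Or.inr y6), z4], h7⟩

/-- The criterion for non-degenerate subspaces of type `s`, `r` odd. -/
theorem forall_tp_iff (hG : GeomQ Q) (hrp : r ≠ p) (h2 : r ≠ 2) {m n i c : ℕ}
    (hn : finrank F V = n) (hi : i = orderOf ((Fintype.card F : ℕ) : ZMod r))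
    (hc : c = if Even i then i else 2 * i) (h0 : 0 < m) (hm : m < n)
    (hm' : (2 : F) = 0 → Even m) {s : ℤˣ}
    (hΩ : r ∣ Nat.card {W : Submodule F V // finrank F W = m ∧ NDQ Q W ∧ tp Q W = s}) :
    (∀ f, IsoQ Q f → f ^ r = 1 → f ≠ 1 →
      ∃ W : Submodule F V, finrank F W = m ∧ NDQ Q W ∧ tp Q W = s ∧ ∀ v ∈ W, f v ∈ W) ↔
    (n % c = 0 ∧ tq i n ≠ tp Q ⊤) ∨ c ≤ m ∧ ((0 < m % c ∧ m % c < n % c) ∨
      (m % c = 0 ∧ tq i m = s) ∨ (0 < m % c ∧ m % c = n % c ∧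
        tp Q ⊤ * tq i (n - n % c) * tq i (m - n % c) = s)) := by
  have hq0 := natCast_ne_zero_of_card (F := F) hrp
  have hi0 := orderOf_pos_of_ne_zero hq0
  obtain rfl : c = cOf i := hc
  subst hi hn
  have h1 := ndq_arith (ε := tp Q ⊤) (s := s) hi0 h0 hm
  constructor
  · intro H
    have h3 : cOf (orderOf ((Fintype.card F : ℕ) : ZMod r)) ≤ m := by
      by_contra! h3
      obtain ⟨Y, -, y1, y2, y3⟩ := hG.exists_tp hG.nd_top h0 (by rwa [finrank_top]) hm' s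
      obtain ⟨f, f1, f2, f3, f4⟩ := hG.exists_der_of_small hrp
        (fun W => finrank F W = m ∧ NDQ Q W ∧ tp Q W = s)
        (fun f W h hW => ⟨(hG.finrank_map h W).trans hW.1, h.nd_map hW.2.1,
          (hG.tp_map h hW.2.1).trans hW.2.2⟩)
        (fun W W' h h' => (hG.isom_iff h.2.1 h'.2.1).2
          ⟨h.1.trans h'.1.symm, h.2.2.trans h'.2.2.symm⟩)
        (fun f W h hf hW hW' => hG.le_fixS_of_nd_lt h hrp h2 hf hW' hW.2.1 (hW.1 ▸ h3)) hΩ
        ⟨Y, y2, y1, y3⟩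
      obtain ⟨W, h4, h5, h6, h7⟩ := H f f1 f2 f3
      exact f4 W ⟨h4, h5, h6⟩ h7
    refine (h1.1 (fun _ k h4 ⟨j, hj⟩ h5 => ?_) (by omega)).imp_right fun h => ⟨h3, h⟩
    obtain ⟨w, o, h6, h7, h8, -⟩ := exists_mul_cOf (one_le_div_orderOf hq0) j
    obtain ⟨f, f1, f2, rfl, -⟩ := hG.exists_model hrp h2 (w := w) (o := o) (k := k)
      (by rw [← h6, mul_comm, ← hj]; omega) h7 h8 h5
    exact (hG.exists_tp_iff f1 hrp h2 f2 hm' s).1 (H f f1 f2 (ne_one_of_finrank_fixS h4))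
  · intro H f f1 f2 f3
    have h3 := hG.finrank_add_perp (fixS f)
    have h4 := hG.cOf_dvd f1 hrp h2 f2 (hG.perp_inv f1 (fixS_inv f))
      (hG.nd_perp (hG.nd_fixS f1 (isSemisimple_of_pow_eq_one hrp f2))) le_rfl
    refine (hG.exists_tp_iff f1 hrp h2 f2 hm' s).2 (h1.2 (fun _ => H.imp_right And.right)
      (hG.cOf_le f1 hrp h2 f2 f3) _ (lt_of_le_of_ne (fixS f).finrank_le fun h =>
        f3 (fixS_eq_top.1 (Submodule.eq_top_of_finrank_eq h))) (by convert h4 using 1; omega)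
      fun h => (hG.tp_top_of_fpf f1 hrp h2 f2 (Submodule.finrank_eq_zero.1 h)).symm)

theorem not_dvd_card_ts (hG : GeomQ Q) {m : ℕ} (hm : 2 * m < finrank F V) :
    ¬ p ∣ Nat.card {W : Submodule F V // finrank F W = m ∧ TSQ Q W} := by
  refine not_dvd_of_modEq_one (hG.card_ts_modEq m fun Y hY h => ?_)
  have h1 : Nat.card {y // (y ∈ Y ∧ y ≠ 0) ∧ Q y = 0} + 1 = ozeros (Q.restrict Y) := by
    have : Finite V := Module.finite_of_finite F
    classical
    rw [ozeros, ← Nat.card_congr (Equiv.optionSubtypeNe (⟨0, map_zero _⟩ :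
      {v : Y // Q.restrict Y v = 0})), Finite.card_option, add_left_inj]
    exact Nat.card_congr ⟨fun y => ⟨⟨⟨y.1, y.2.1.1⟩, y.2.2⟩, fun h => y.2.1.2
      (congrArg (fun v => v.1.1) h)⟩, fun y => ⟨y.1.1.1, ⟨y.1.1.2, fun h => y.2
        (Subtype.ext (Subtype.ext h))⟩, y.1.2⟩, fun _ => rfl, fun _ => rfl⟩
  have hq : p ∣ Nat.card F := by
    rw [Nat.card_eq_fintype_card]
    exact dvd_card_iff.2 rfl
  rw [h1]
  rcases Nat.even_or_odd' (finrank F Y) with ⟨k, hk | hk⟩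
  · obtain ⟨k, rfl⟩ : ∃ j, k = j + 1 + 1 := ⟨k - 2, by omega⟩
    rcases SpO.ozeros_cases (ndQ_iff.1 hY) hk with ⟨h2, -⟩ | ⟨h2, -⟩ <;>
    exact (Nat.dvd_add_left (dvd_pow hq (by omega))).1
      (h2 ▸ Nat.dvd_add (dvd_pow hq (by omega)) (dvd_pow hq (by omega)))
  · obtain ⟨c, g, hc, hg⟩ := quad_classify_odd' (ndQ_iff.1 hY) hk
    have h2 : ozeros (Q.restrict Y) = ozeros (quad_odd k F) := Nat.card_congr
      (g.toEquiv.subtypeEquiv fun v => by rw [← hg, mul_eq_zero, or_iff_right hc]; rfl)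
    rw [h2, ozeros_odd]
    exact dvd_pow hq (by omega)

/-- The criterion for totally singular subspaces, `r` odd. -/
theorem forall_ts_iff (hG : GeomQ Q) (hrp : r ≠ p) (h2 : r ≠ 2) {m n i : ℕ}
    (hn : finrank F V = n) (hi : i = orderOf ((Fintype.card F : ℕ) : ZMod r)) (hm : 2 * m < n)
    (hΩ : r ∣ Nat.card {W : Submodule F V // finrank F W = m ∧ TSQ Q W}) :
    (∀ f, IsoQ Q f → f ^ r = 1 → f ≠ 1 →
      ∃ W : Submodule F V, finrank F W = m ∧ TSQ Q W ∧ ∀ v ∈ W, f v ∈ W) ↔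
    i ≤ m ∧ ∀ w o k, k + (2 * w + o) * i = n → 0 < 2 * w + o → o ≤ (r - 1) / i → (Odd i → o = 0) →
      (k = 0 → (tp Q ⊤ = 1 ↔ Even o)) → ∃ a v,
        (2 * a < k ∨ (2 * a = k ∧ (tp Q ⊤ = 1 ↔ Even o))) ∧ v ≤ w ∧ m = a + v * i := by
  have hi0 := orderOf_pos_of_ne_zero (natCast_ne_zero_of_card (F := F) hrp)
  subst hi hn
  have h1 : ∀ w o, tp Q ⊤ * tq (orderOf ((Fintype.card F : ℕ) : ZMod r))
      ((2 * w + o) * orderOf ((Fintype.card F : ℕ) : ZMod r)) = 1 ↔ (tp Q ⊤ = 1 ↔ Even o) := by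
    intro w o
    rw [tq_mul hi0, pow_add, pow_mul, neg_one_sq, one_pow, one_mul, units_mul_eq_one_iff,
      ← neg_one_pow_eq_one_iff_even (R := ℤˣ) (by decide)]
    exact ⟨fun h => h ▸ Iff.rfl, units_eq_of_iff⟩
  have key : ∀ f w, IsoQ Q f → f ^ r = 1 → Multiset.card (movE f) = 2 * w + oInv r f →
      ((∃ W : Submodule F V, finrank F W = m ∧ TSQ Q W ∧ ∀ v ∈ W, f v ∈ W) ↔ ∃ a v,
        (2 * a < finrank F (fixS f) ∨ (2 * a = finrank F (fixS f) ∧
          (tp Q ⊤ = 1 ↔ Even (oInv r f)))) ∧ v ≤ w ∧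
        m = a + v * orderOf ((Fintype.card F : ℕ) : ZMod r)) := fun f w f1 f2 f3 => by
    have h3 := hG.finrank_fixS_add f1 hrp f2
    rw [hG.exists_ts_iff_oInv f1 hrp h2 f2]
    refine exists₂_congr fun a v => and_congr ?_ (and_congr_left' (by omega))
    rw [hG.hasQ_iff_tp (hG.nd_fixS f1 (isSemisimple_of_pow_eq_one hrp f2)),
      hG.tp_fixS f1 hrp h2 f2, ← h3, add_tsub_cancel_left, f3, h1]
  constructor
  · intro H
    refine ⟨hG.le_of_forall_ts hrp (hG.hasQ_of_lt hG.nd_top (by rwa [finrank_top])) hΩ H,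
      fun w o k h3 h4 h5 h6 h7 => ?_⟩
    obtain ⟨f, f1, f2, rfl, f4, rfl⟩ := hG.exists_model hrp h2 h3 h5 h6 fun h => by
      rw [← h3, h, zero_add, eq_comm, ← units_mul_eq_one_iff, h1]
      exact h7 h
    exact (key f w f1 f2 f4).1 (H f f1 f2 (hG.ne_one_of_card f1 hrp f2 (by omega)))
  · rintro ⟨-, H⟩ f f1 f2 f3
    obtain ⟨w, hw⟩ := hG.exists_card_movE f1 hrp h2 f2
    have h3 := hG.finrank_fixS_add f1 hrp f2
    refine (key f w f1 f2 hw).2 (H w _ _ (hw ▸ h3) (hw ▸ hG.card_pos_of_ne_one f1 hrp f2 f3)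
      (oInv_le hrp f2) oInv_of_odd fun h => ?_)
    rw [← h1 w, ← hw, units_mul_eq_one_iff,
      hG.tp_top_of_fpf f1 hrp h2 f2 (Submodule.finrank_eq_zero.1 h), ← h3, h, zero_add]

end GeomQ

end Cfsg.Agent.Cl.Der
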