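import Mathlib
import Cfsg.Agent.Cl.DerQ3

/-! Involutions and unipotent elements of `Ω`; bridges to the matrix statements. -/

set_option autoImplicit false
set_option linter.unusedSectionVars false

namespace Cfsg.Agent.Cl.Der

open Polynomial Module Cfsg.Agent.Cl.Cls
open QuadraticMap hiding sq

theorem exists_of_le_two {ν μ : Multiset ℕ} {N : ℕ} (hμ : ∀ a ∈ μ, Odd a)
    (h : ν ≤ Multiset.replicate N 2 + μ) (he : Even (ν.count 2)) :
    ∃ j ν₀, ν₀ ≤ μ ∧ ν = Multiset.replicate (2 * j) 2 + ν₀ := by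
  obtain ⟨a, h1, b, h2, rfl⟩ := exists_add_of_le_add h
  obtain ⟨l, -, rfl⟩ := Multiset.le_replicate_iff.1 h1
  rw [Multiset.count_add, Multiset.count_replicate_self, Multiset.count_eq_zero.2 fun h =>
    absurd (hμ 2 (Multiset.mem_of_le h2 h)) (by decide), add_zero] at he
  obtain ⟨j, rfl⟩ := he.two_dvd
  exact ⟨j, b, h2, rfl⟩

theorem le_pair_cases {ν : Multiset ℕ} {a b : ℕ} (h : ν ≤ {a, b}) :
    ν = 0 ∨ ν = {a} ∨ ν = {b} ∨ ν = {a, b} := by
  obtain ⟨x, h1, y, h2, rfl⟩ := exists_add_of_le_add (s := {a}) (t := {b}) h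
  rcases Multiset.le_singleton.1 h1 with rfl | rfl <;>
    rcases Multiset.le_singleton.1 h2 with rfl | rfl <;> simp

section Bridge

variable {F : Type*} [Field F] {ι : Type} [Fintype ι] [DecidableEq ι]
  {P : QuadraticForm F (ι → F)} {U W : Submodule F (ι → F)}

theorem isTotallySingularQuad_iff : Cfsg.Geo.IsTotallySingularQuad P W ↔ TSQ P W := tsQ_iff.symm

theorem isNondegenerateOn_iff : Cfsg.Geo.IsNondegenerateOn (polar P) W ↔ NDQ P W := by
  rw [nd_iff_ne]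
  exact ⟨fun h u hu h0 => (h u hu h0).2, fun h u hu h0 =>
    ⟨(h u hu h0).imp fun v hv => ⟨hv.1, by rw [polar_comm]; exact hv.2⟩, h u hu h0⟩⟩

theorem nd_polar_iff : (∀ u ∈ W, u ≠ 0 → ∃ v ∈ W, polar P u v ≠ 0) ↔ NDQ P W :=
  (nd_iff_ne (B := polarBilin P)).symm

theorem isPlusTypeOn_iff : Cfsg.Geo.IsPlusTypeOn P W ↔ PlusQ P W :=
  exists_congr fun _ => and_congr_right' (and_congr_left' isTotallySingularQuad_iff)

theorem areIsometricFor_iff : Cfsg.Geo.AreIsometricFor P U W ↔ IsomQ P U W := isomQ_iff.symm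

theorem omega_forall_iff (hG : GeomQ P) {r : ℕ} (R : End F (ι → F) → Prop) :
    (∀ x : GL ι F, x ∈ Cfsg.Geo.omegaGL ⇑P →
      (∃ z : F, ((x ^ r : GL ι F) : Matrix ι ι F) = z • (1 : Matrix ι ι F)) →
      (∀ z : F, (x : Matrix ι ι F) ≠ z • (1 : Matrix ι ι F)) →
      R (Matrix.toLin' (x : Matrix ι ι F))) ↔
    ∀ f, IsoQ P f → InO P f → (∃ z : F, f ^ r = z • 1) → (∀ z : F, f ≠ z • 1) → R f :=
  (gl_forall_iff (R := InO P) mem_omegaGL_iff (fun _ h => hG.isUnit h.iso)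
    fun _ _ => Iff.rfl).trans ⟨fun H f _ => H f, fun H f h => H f h.iso h⟩

theorem omega_forall_order_iff (hG : GeomQ P) {r : ℕ} [Fact r.Prime] (R : End F (ι → F) → Prop) :
    (∀ x : GL ι F, x ∈ Cfsg.Geo.omegaGL ⇑P → orderOf x = r →
      R (Matrix.toLin' (x : Matrix ι ι F))) ↔ ∀ f, InO P f → f ^ r = 1 → f ≠ 1 → R f :=
  gl_forall_order_iff (R := InO P) mem_omegaGL_iff (fun _ h => hG.isUnit h.iso) fun _ _ => Iff.rfl

theorem geomQ_plus (d : ℕ) : GeomQ (quad_plus d F) := geom_quad quad_plus_nondeg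

theorem geomQ_odd (h2 : (2 : F) ≠ 0) (d : ℕ) : GeomQ (quad_odd d F) :=
  geom_quad (quad_odd_nondeg h2)

variable [Finite F]

theorem geomQ_minus (d : ℕ) {a b : F}
    (hab : ∀ x y : F, x ^ 2 + a * x * y + b * y ^ 2 = 0 → x = 0 ∧ y = 0) :
    GeomQ (quad_minus d F a b) := geom_quad (o_minus_nondeg hab)

theorem tp_plus (d : ℕ) : tp (quad_plus d F) ⊤ = 1 :=
  have h := plusQ_quad_plus (F := F) d
  (tp_eq_one_iff h.even).2 h

theorem tp_minus (d : ℕ) {a b : F}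
    (hab : ∀ x y : F, x ^ 2 + a * x * y + b * y ^ 2 = 0 → x = 0 ∧ y = 0) :
    tp (quad_minus d F a b) ⊤ = -1 :=
  (tp_eq_neg_one_iff (by rw [finrank_top, o_finrank_minus]; exact ⟨d + 1, by ring⟩)).2
    (not_plusQ_quad_minus d ((quad_aniso_iff a b).1 hab))

end Bridge

variable {F V : Type*} [Field F] [AddCommGroup V] [Module F V] [FiniteDimensional F V]
  {f : End F V} {U W S Y Z : Submodule F V} {Q : QuadraticForm F V}
  {r : ℕ} [hr : Fact r.Prime] [Fintype F] {p : ℕ} [hp : Fact p.Prime] [CharP F p]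

theorem plus_iff_tp {m : ℕ} (hm : Even m) :
    (finrank F W = m ∧ NDQ Q W ∧ PlusQ Q W) ↔ finrank F W = m ∧ NDQ Q W ∧ tp Q W = 1 :=
  and_congr_right fun h => and_congr_right' (tp_eq_one_iff (h ▸ hm)).symm

theorem not_plus_iff_tp {m : ℕ} (hm : Even m) :
    (finrank F W = m ∧ NDQ Q W ∧ ¬ PlusQ Q W) ↔ finrank F W = m ∧ NDQ Q W ∧ tp Q W = -1 :=
  and_congr_right fun h => and_congr_right' (tp_eq_neg_one_iff (h ▸ hm)).symm

theorem chi_cases (h2 : (2 : F) ≠ 0) :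
    (chi F = 1 ∧ Fintype.card F % 4 = 1) ∨ (chi F = -1 ∧ Fintype.card F % 4 = 3) := by
  have h1 := sqSign_neg_one h2
  have h3 := Nat.odd_iff.1 (quad_odd_of_two_ne_zero h2)
  rcases Int.units_eq_one_or (chi F) with h | h
  · exact Or.inl ⟨h, h1.1 h⟩
  · have : Fintype.card F % 4 ≠ 1 := fun e => absurd ((h1.2 e).symm.trans h) (by decide)
    exact Or.inr ⟨h, by omega⟩

theorem neg_one_pow_eq_one_iff' {k : ℕ} : (-1 : ℤˣ) ^ k = 1 ↔ k % 2 = 0 := by
  rw [neg_one_pow_eq_one_iff_even (by decide), Nat.even_iff]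

theorem neg_one_pow_eq_neg_one_iff' {k : ℕ} : (-1 : ℤˣ) ^ k = -1 ↔ k % 2 = 1 := by
  rw [neg_one_pow_eq_neg_one_iff_odd (by decide), Nat.odd_iff]

theorem two_lt_char (h2 : (2 : F) ≠ 0) : 2 < p :=
  two_lt_of_ne fun h => h2 (two_eq_zero_of_eq h)

namespace GeomQ

theorem isom_iff_tp (hG : GeomQ Q) {m : ℕ} (hU : finrank F U = m ∧ NDQ Q U) :
    (finrank F W = m ∧ NDQ Q W ∧ IsomQ Q W U) ↔ finrank F W = m ∧ NDQ Q W ∧ tp Q W = tp Q U :=
  and_congr_right fun h => and_congr_right fun h' =>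
    (hG.isom_iff h' hU.2).trans (and_iff_right (h.trans hU.1.symm))

theorem forall_odd (hG : GeomQ Q) (hn : 4 < finrank F V) (h2 : r ≠ 2) {R : End F V → Prop}
    (hR : ∀ f, R (-f) → R f) :
    (∀ f, IsoQ Q f → InO Q f → (∃ z : F, f ^ r = z • 1) → (∀ z : F, f ≠ z • 1) → R f) ↔
      ∀ f, IsoQ Q f → f ^ r = 1 → f ≠ 1 → R f :=
  have : Nontrivial V := Module.nontrivial_of_finrank_pos (R := F) (by omega)
  hG.forall_odd_iff (hr.1.odd_of_ne_two h2)
    (fun _ h hf => hG.inO_of_odd (not_oExc_of_ne hn.ne') h (hr.1.odd_of_ne_two h2) hf) hR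

theorem forall_odd' (hG : GeomQ Q) (hn : 4 < finrank F V) (h2 : r ≠ 2) {R : End F V → Prop} :
    (∀ f, InO Q f → f ^ r = 1 → f ≠ 1 → R f) ↔ ∀ f, IsoQ Q f → f ^ r = 1 → f ≠ 1 → R f :=
  ⟨fun H f h hf => H f (hG.inO_of_odd (not_oExc_of_ne hn.ne') h (hr.1.odd_of_ne_two h2) hf) hf,
    fun H f h => H f h.iso⟩

theorem forall_two_tp_iff (hG : GeomQ Q) (h2 : (2 : F) ≠ 0) {d m : ℕ} (hd : finrank F V = 2 * d)
    (h0 : 0 < m) (hm : m < 2 * d) (s : ℤˣ) :
    (∀ f, IsoQ Q f → InO Q f → (∃ z : F, f ^ 2 = z • 1) → (∀ z : F, f ≠ z • 1) →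
      ∃ W : Submodule F V, finrank F W = m ∧ NDQ Q W ∧ tp Q W = s ∧ ∀ v ∈ W, f v ∈ W) ↔
    ¬ (tp Q ⊤ = chi F ^ d ∧ (Even d ∨ IsSquare (2 : F))) ∨ (Even m ∧ chi F ^ (m / 2) = s) := by
  have : Nontrivial V := Module.nontrivial_of_finrank_pos (R := F) (by omega)
  rw [hG.forall_two_iff h2, and_iff_right fun f _ h hf h1 _ =>
    hG.exists_tp_of_sq h2 h hf h1 h0 (hd ▸ hm) s, ← hG.exists_inO_sq_neg_iff h2 hd,
    or_iff_not_imp_left, not_not]
  constructor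
  · rintro H ⟨f, h, hf⟩
    obtain ⟨W, rfl, h3, rfl, h4⟩ := H f h.iso h hf
    obtain ⟨j, h5, h6⟩ := hG.tp_of_sq_neg h2 h.iso hf h4 h3
    exact ⟨h5 ▸ even_two_mul j, by rw [h5, h6, Nat.mul_div_cancel_left _ two_pos]⟩
  · intro H f h h' hf
    obtain ⟨⟨j, rfl⟩, rfl⟩ := H ⟨f, h', hf⟩
    obtain ⟨W, h3, h4, h5⟩ := hG.exists_nd_of_sq_neg h2 h hf (j := j) (by omega)
    obtain ⟨j', h6, h7⟩ := hG.tp_of_sq_neg h2 h hf h5 h4
    exact ⟨W, by omega, h4, by rw [h7, show j' = (j + j) / 2 by omega], h5⟩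

theorem forall_sq_ts_iff (hG : GeomQ Q) (h2 : (2 : F) ≠ 0) {m : ℕ} (h0 : 0 < m)
    (hm : 2 * m < finrank F V) :
    (∀ f, InO Q f → f ^ 2 = 1 → f ≠ 1 → f ≠ -1 →
      ∃ W : Submodule F V, finrank F W = m ∧ TSQ Q W ∧ ∀ v ∈ W, f v ∈ W) ↔
    chi F = 1 ∨ 2 * m + 2 < finrank F V ∨ (2 * m + 2 = finrank F V ∧ tp Q ⊤ = -1) := by
  have key : ∀ f j, IsoQ Q f → f ^ 2 = 1 → finrank F (perpQ Q (fixS f)) = 2 * j →
      tp Q (perpQ Q (fixS f)) = chi F ^ j →
      ((∃ W : Submodule F V, finrank F W = m ∧ TSQ Q W ∧ ∀ v ∈ W, f v ∈ W) ↔ ∃ a b,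
        (2 * a + 2 * j < finrank F V ∨ (2 * a + 2 * j = finrank F V ∧ tp Q ⊤ = chi F ^ j)) ∧
        (b < j ∨ (b = j ∧ chi F ^ j = 1)) ∧ m = a + b) := fun f j h hf h3 h4 => by
    have h5 := hG.nd_fixS h (isSemisimple_of_sq_eq_one h2 hf)
    have h6 := hG.tp_perp (hG.nd_perp h5) (Or.inl (h3 ▸ even_two_mul j))
    have h7 := hG.finrank_add_perp (fixS f)
    rw [hG.perp_perp, h4] at h6
    rw [hG.exists_ts_iff_sq h2 h hf]
    refine exists₂_congr fun a b => and_congr ?_ (and_congr_left' ?_)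
    · rw [hG.hasQ_iff_tp h5, h6, units_mul_eq_one_iff]
      exact or_congr (by omega) (and_congr_left' (by omega))
    · rw [hG.hasQ_iff_tp (hG.nd_perp h5), h3, h4]
      exact or_congr (by omega) (and_congr_left' (by omega))
  constructor
  · intro H
    obtain ⟨f, f1, f2, f3, f4, f5, f6⟩ := hG.exists_inO_neg h2 one_pos (by omega)
    obtain ⟨a, b, h3, h4, rfl⟩ := (key f 1 f1.iso f2 f5 f6).1 (H f f1 f2 f3 f4)
    rw [pow_one] at h3 h4
    rcases Int.units_eq_one_or (chi F) with h | h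
    · exact Or.inl h
    rw [h] at h3 h4
    obtain rfl : b = 0 := by
      rcases h4 with h4 | ⟨-, h4⟩
      · omega
      · exact absurd h4 (by decide)
    exact Or.inr h3
  · intro H f f1 f2 f3 f4
    obtain ⟨j, h3, h4⟩ := (hG.inO_iff_of_sq h2 f1.iso f2).1 f1
    have h5 := hG.finrank_add_perp (fixS f)
    have h6 : finrank F (fixS f) ≠ finrank F V := fun e =>
      f3 (fixS_eq_top.1 (Submodule.eq_top_of_finrank_eq e))
    have h7 : finrank F (perpQ Q (fixS f)) ≠ finrank F V := fun e => f4 (LinearMap.ext fun v =>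
      hG.apply_of_mem_perp_fixS f1.iso f2 (Submodule.eq_top_of_finrank_eq e ▸ Submodule.mem_top))
    rw [key f j f1.iso f2 h3 h4]
    by_cases h8 : m < j
    · exact ⟨0, m, Or.inl (by omega), Or.inl h8, by omega⟩
    rcases Int.units_eq_one_or (chi F ^ j) with h9 | h9
    · exact ⟨m - j, j, Or.inl (by omega), Or.inr ⟨rfl, h9⟩, by omega⟩
    refine ⟨m - j + 1, j - 1, ?_, Or.inl (by omega), by omega⟩
    rcases H with H | H | H
    · rw [H, one_pow] at h9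
      exact absurd h9 (by decide)
    · exact Or.inl (by omega)
    · exact Or.inr ⟨by omega, H.2.trans h9.symm⟩

theorem forall_two_ts_iff (hG : GeomQ Q) (h2 : (2 : F) ≠ 0) {d m : ℕ} (hd : finrank F V = 2 * d)
    (h0 : 0 < m) (hm : m < d) :
    (∀ f, IsoQ Q f → InO Q f → (∃ z : F, f ^ 2 = z • 1) → (∀ z : F, f ≠ z • 1) →
      ∃ W : Submodule F V, finrank F W = m ∧ TSQ Q W ∧ ∀ v ∈ W, f v ∈ W) ↔
    (chi F = 1 ∨ m + 1 < d ∨ tp Q ⊤ = -1) ∧
      (¬ (tp Q ⊤ = chi F ^ d ∧ (Even d ∨ IsSquare (2 : F))) ∨ chi F = 1 ∨ Even m) := by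
  have : Nontrivial V := Module.nontrivial_of_finrank_pos (R := F) (by omega)
  rw [hG.forall_two_iff h2, ← hG.exists_inO_sq_neg_iff h2 hd]
  refine and_congr (Iff.trans ⟨fun H f h => H f h.iso h, fun H f _ => H f⟩
    ((hG.forall_sq_ts_iff h2 h0 (by omega)).trans (or_congr_right ?_))) ?_
  · rw [hd]
    by_cases h : tp Q ⊤ = -1 <;> simp only [h, and_true, or_true, and_false, or_false, iff_true] <;>
      omega
  rw [or_iff_not_imp_left, not_not, sqSign_eq_one_iff]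
  constructor
  · rintro H ⟨f, h, hf⟩
    obtain ⟨W, rfl, -, h4⟩ := H f h.iso h hf
    exact or_iff_not_imp_left.2 fun h3 => even_of_sq_eq_neg_one h3 hf h4
  · intro H f h h' hf
    by_cases h3 : IsSquare (-1 : F)
    · exact hG.exists_ts_of_isSquare h2 h h3 hf (by omega)
    · obtain ⟨j, rfl⟩ := ((H ⟨f, h', hf⟩).resolve_left h3).two_dvd
      exact hG.exists_ts_of_not_isSquare h2 h h3 hf (by omega)

theorem exists_aType_inO (hG : GeomQ Q) (hn : 4 < finrank F V) {u : ℕ} (h0 : 0 < u)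
    (h : HasQ Q ⊤ (2 * u)) : ∃ (f : End F V) (U : Submodule F V), finrank F U = 2 * u ∧
      AType (polarBilin Q) Q U f ∧ InO Q f ∧ f ^ p = 1 ∧ ∀ z : F, f ≠ z • 1 := by
  obtain ⟨U, -, h1, h2⟩ := h
  obtain ⟨f, hf⟩ := hG.exists_aType (symm_polarBilin Q) h1 (h2 ▸ even_two_mul u)
  refine ⟨f, U, h2, hf, ?_, hf.pow_char hG, hf.ne_smul hG (by omega)⟩
  by_cases h3 : p = 2
  · rw [hG.inO_iff_of_two (not_oExc_of_ne hn.ne') (two_eq_zero_of_eq h3) hf.iso, hf.fix,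
      hG.perp_perp, h2]
    exact even_two_mul u
  · exact hG.inO_of_odd (not_oExc_of_ne hn.ne') hf.iso (hp.1.odd_of_ne_two h3) (hf.pow_char hG)

theorem exists_aType_der (hG : GeomQ Q) (hn : 4 < finrank F V) {u : ℕ} (h0 : 0 < u)
    (h : 4 * u < finrank F V ∨ (4 * u = finrank F V ∧ tp Q ⊤ = 1)) :
    ∃ f, InO Q f ∧ f ^ p = 1 ∧ (∀ z : F, f ≠ z • 1) ∧ ∀ W : Submodule F V, NDQ Q W →
      (∀ v ∈ W, f v ∈ W) → Even (finrank F W) → ∃ a b, u ≤ a + b ∧
        (4 * a < finrank F W ∨ (4 * a = finrank F W ∧ tp Q W = 1)) ∧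
        (4 * b + finrank F W < finrank F V ∨
          (4 * b + finrank F W = finrank F V ∧ tp Q ⊤ = tp Q W)) := by
  obtain ⟨f, U, h1, h2, h3, h4, h5⟩ := hG.exists_aType_inO (p := p) hn h0
    ((hG.hasQ_iff_tp hG.nd_top).2 (by rwa [finrank_top, ← mul_assoc]))
  refine ⟨f, h3, h4, h5, fun W h6 h7 h8 => ?_⟩
  obtain ⟨a, b, h9, h10, h11⟩ := h2.exists_hasTS hG h7 h6
  have h12 := hG.finrank_add_perp W
  rw [hG.hasQ_iff_tp h6, ← mul_assoc] at h9
  rw [hG.hasQ_iff_tp (hG.nd_perp h6), hG.tp_perp h6 (Or.inl h8), units_mul_eq_one_iff] at h10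
  exact ⟨a, b, by omega, h9, h10.imp (by omega) fun h => ⟨by omega, h.2⟩⟩

theorem exists_plus_two (hG : GeomQ Q) (h2 : (2 : F) = 0) (h : IsoQ Q f) (hf : f ^ 2 = 1)
    {a b : ℕ} (ha : (2 * a = finrank F V ∧ tp Q ⊤ = 1) ∨ (2 * a + 2 = finrank F V ∧ tp Q ⊤ = -1))
    (hb : b ≤ a) (hab : Even b ∨ Odd a) :
    ∃ W : Submodule F V, finrank F W = 2 * b ∧ NDQ Q W ∧ tp Q W = 1 ∧ ∀ v ∈ W, f v ∈ W := by
  obtain ⟨W, -, h1, h3, h4, h5⟩ := hG.exists_plus_of_two h2 (symm_polarBilin Q)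
    (fun x => by rw [polarBilin_self, h2, zero_mul]) h hf a ⊤ (fun _ _ => Submodule.mem_top)
    hG.nd_top (by
      rw [hG.hasQ_iff_tp hG.nd_top, finrank_top]
      exact ha.symm.imp_left (by omega)) (by
      rw [hG.hasQ_iff_tp hG.nd_top, finrank_top]
      rintro (h | ⟨h, h'⟩)
      · omega
      · rcases ha with ha | ha
        · omega
        · exact absurd (h'.symm.trans ha.2) (by decide)) b hb hab
  exact ⟨W, h5, h1, (tp_eq_one_iff h4.even).2 h4, h3⟩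

theorem exists_unip (hG : GeomQ Q) (h2 : (2 : F) ≠ 0) {μ : Multiset ℕ}
    (h0 : ∀ a ∈ μ, 0 < a ∧ a ≤ p) (h1 : ∀ a, Even a → Even (μ.count a)) (hd : μ.sum = finrank F V)
    (h3 : (∃ a ∈ μ, Odd a) ∨ PlusQ Q ⊤) (h4 : ∃ a ∈ μ, a ≠ 1) :
    ∃ f, InO Q f ∧ f ^ p = 1 ∧ (∀ z : F, f ≠ z • 1) ∧ ∀ W : Submodule F V, NDQ Q W →
      (∀ v ∈ W, f v ∈ W) → ∃ ν, ν ≤ μ ∧ ν.sum = finrank F W ∧ (∀ a, Even a → Even (ν.count a)) ∧
        ((∀ a ∈ ν, a = 2) → PlusQ Q W) := by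
  obtain ⟨f, f1, f2⟩ := (hG.realOn_unip h2 hG.nd_top (fun a ha => (h0 a ha).1) h1
    (by rwa [finrank_top]) h3).top
  have f3 := pow_char_eq_one_of_ed f2 fun a ha => (h0 a ha).2
  have f4 := degs_of_ed_eq_map f2
  obtain ⟨a, ha, ha'⟩ := h4
  refine ⟨f, hG.inO_of_odd (not_oExc_of_two_ne_zero h2) f1
    (hp.1.odd_of_ne_two (two_lt_char h2).ne') f3, f3, not_scalar_of_mem_degs (f4 ▸ ha) ha',
    fun W h5 h6 => ?_⟩
  obtain ⟨h7, h8, h9⟩ := hG.degs_of_nd h2 f1 (sub_one_pow_char' f3) h6 h5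
  exact ⟨_, f4 ▸ h7, h8, h9, hG.plus_of_degs h2 f1 (sub_one_pow_char' f3) h6 h5⟩

theorem exists_two_type (hG : GeomQ Q) (h2 : (2 : F) ≠ 0) {μ : Multiset ℕ} {k : ℕ}
    (h0 : ∀ a ∈ μ, a = 1 ∨ a = 3) (hd : 4 * k + μ.sum = finrank F V)
    (h3 : μ ≠ 0 ∨ PlusQ Q ⊤) (h4 : 0 < k ∨ 3 ∈ μ) :
    ∃ f, InO Q f ∧ f ^ p = 1 ∧ (∀ z : F, f ≠ z • 1) ∧ ∀ W : Submodule F V, NDQ Q W →
      (∀ v ∈ W, f v ∈ W) → ∃ j ν, ν ≤ μ ∧ finrank F W = 4 * j + ν.sum ∧ (ν = 0 → PlusQ Q W) := by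
  have hp3 := two_lt_char (p := p) h2
  have h5 : ∀ a ∈ μ, Odd a := fun a ha => by rcases h0 a ha with rfl | rfl <;> decide
  obtain ⟨f, f1, f2, f3, f4⟩ := hG.exists_unip (p := p) h2
    (μ := Multiset.replicate (2 * k) 2 + μ) (fun a ha => by
      rcases Multiset.mem_add.1 ha with h | h
      · rw [Multiset.eq_of_mem_replicate h]
        omega
      · have := h0 a h
        omega) (fun a ha => by
      rw [Multiset.count_add, Multiset.count_eq_zero.2 fun h =>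
        Nat.not_even_iff_odd.2 (h5 a h) ha, add_zero]
      exact even_count_replicate (even_two_mul k) _ _) (by simp; omega)
    (h3.imp_left fun h => by
      obtain ⟨a, ha⟩ := Multiset.exists_mem_of_ne_zero h
      exact ⟨a, Multiset.mem_add.2 (Or.inr ha), h5 a ha⟩) (by
      rcases h4 with h | h
      · exact ⟨2, Multiset.mem_add.2 (Or.inl (Multiset.mem_replicate.2 ⟨by omega, rfl⟩)), by decide⟩
      · exact ⟨3, Multiset.mem_add.2 (Or.inr h), by decide⟩)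
  refine ⟨f, f1, f2, f3, fun W h6 h7 => ?_⟩
  obtain ⟨ν, h8, h9, h10, h11⟩ := f4 W h6 h7
  obtain ⟨j, ν, h12, rfl⟩ := exists_of_le_two h5 h8 (h10 2 even_two)
  refine ⟨j, ν, h12, by rw [← h9]; simp; omega, ?_⟩
  rintro rfl
  exact h11 fun a ha => Multiset.eq_of_mem_replicate (by simpa using ha)

theorem tp_span (hG : GeomQ Q) (h2 : (2 : F) ≠ 0) {v : V} (hv : Q v ≠ 0) :
    tp Q (F ∙ v) = sqSign (2 * Q v) := by
  have h0 : v ≠ 0 := fun h => hv (by rw [h, map_zero])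
  rw [tp_eq_dsc h2 (hG.nd_span h2 hv), finrank_span_singleton h0, dsc_span_singleton h0]
  simp

theorem exists_eq_span (hG : GeomQ Q) (hW : NDQ Q W) (h : finrank F W = 1) :
    ∃ v, Q v ≠ 0 ∧ W = F ∙ v := by
  have := hG
  obtain ⟨v, h1, h2⟩ := hW.exists_ne_zero (by omega)
  exact ⟨v, h2, (Submodule.eq_of_le_of_finrank_eq ((Submodule.span_singleton_le_iff_mem _ _).2 h1)
    (by rw [h, finrank_span_singleton fun h => h2 (by rw [h, map_zero])])).symm⟩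

/-- A unipotent element with Jordan blocks `2^{2k}, 3, 1` and prescribed class of the `1`-block. -/
theorem exists_three_one (hG : GeomQ Q) (h2 : (2 : F) ≠ 0) {k : ℕ} (hd : finrank F V = 4 * k + 4)
    (s : ℤˣ) : ∃ f, InO Q f ∧ f ^ p = 1 ∧ (∀ z : F, f ≠ z • 1) ∧ ∀ W : Submodule F V, NDQ Q W →
      (∀ v ∈ W, f v ∈ W) → finrank F W % 4 = 1 → tp Q W = s := by
  have hp3 := two_lt_char (p := p) h2
  obtain ⟨L, -, l1, l2, rfl⟩ := hG.exists_tp hG.nd_top one_pos (by rw [finrank_top]; omega)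
    (fun h => absurd h h2) s
  have l3 := hG.finrank_add_perp L
  have l4 := hG.nd_perp l1
  obtain ⟨f, f1, f2, ⟨f3, f4⟩, f5⟩ := hG.exists_of_realOn l4 (hG.realOn_unip h2 l4
    (μ := Multiset.replicate (2 * k) 2 + {3}) (fun a ha => by
      rcases Multiset.mem_add.1 ha with h | h
      · rw [Multiset.eq_of_mem_replicate h]
        omega
      · rw [Multiset.mem_singleton.1 h]
        omega) (fun a ha => by
      rw [Multiset.count_add, Multiset.count_eq_zero.2 fun h : a ∈ ({3} : Multiset ℕ) =>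
        absurd (Multiset.mem_singleton.1 h ▸ ha) (by decide), add_zero]
      exact even_count_replicate (even_two_mul k) _ _) (by simp; omega)
    (Or.inl ⟨3, by simp, by decide⟩))
  rw [hG.perp_perp] at f2 f5
  replace f5 : ed f = (Multiset.replicate (2 * k) 2 + {3, 1}).map fun a => (X - C (1 : F)) ^ a := by
    rw [f5, l2, Multiset.replicate_one]
    simp [add_assoc]
  have f6 := pow_char_eq_one_of_ed f5 (p := p) fun a ha => by
    rcases Multiset.mem_add.1 ha with h | h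
    · rw [Multiset.eq_of_mem_replicate h]
      omega
    · simp only [Multiset.insert_eq_cons, Multiset.mem_cons, Multiset.mem_singleton] at h
      omega
  have f7 := degs_of_ed_eq_map f5
  have f8 := sub_one_pow_char' f6
  refine ⟨f, hG.inO_of_odd (not_oExc_of_two_ne_zero h2) f1 (hp.1.odd_of_ne_two hp3.ne') f6, f6,
    not_scalar_of_mem_degs (a := 3) (by simp [f7]) (by decide), fun W h3 h4 h5 => ?_⟩
  obtain ⟨h6, h7, h8⟩ := hG.degs_of_nd h2 f1 f8 h4 h3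
  obtain ⟨j, ν, h9, h10⟩ := exists_of_le_two (μ := {3, 1}) (by simp; decide) (f7 ▸ h6)
    (h8 2 even_two)
  rw [h10] at h7
  obtain rfl : ν = {1} := by
    rcases le_pair_cases h9 with rfl | rfl | rfl | rfl <;> simp at h7 ⊢ <;> omega
  obtain ⟨Y, y1, y2, y3, y4⟩ := (hG.unip_eps h2 (eps_polarBilin Q) f1 f8 h4 h3).2 {1}
    (h10 ▸ Multiset.le_add_left _ _) fun a ha => by
      rw [Multiset.count_eq_zero.2 fun h => absurd (Multiset.mem_singleton.1 h ▸ ha) (by decide)]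
      exact Even.zero
  have y5 := hG.degs_eq_add_perp_inf f1 h4 h3 y1 y3 y2
  rw [h10, y4, add_comm, add_right_inj] at y5
  have y6 := hG.plus_of_degs h2 f1 f8 _ (hG.nd_perp_inf h3 y3 y2) fun a ha =>
    Multiset.eq_of_mem_replicate (y5 ▸ ha)
  have y7 := hG.tp_perp_inf h3 y3 y2 (Or.inr y6.even)
  rw [(tp_eq_one_iff y6.even).2 y6, eq_comm, units_mul_eq_one_iff] at y7
  obtain ⟨v, v1, rfl⟩ := hG.exists_eq_span y3 (by rw [finrank_eq_sum_degs y1, y4]; rfl)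
  have v2 : f v = v := by
    obtain ⟨w, w1, w2, w3⟩ := exists_fixed_of_nilpotent y1 (k := p)
      (Submodule.mem_span_singleton_self v) (fun h => v1 (by rw [h, map_zero])) (by rw [f8]; rfl)
    obtain ⟨c, rfl⟩ := Submodule.mem_span_singleton.1 w1
    rw [map_smul] at w3
    exact smul_right_injective V (left_ne_zero_of_smul w2) w3
  obtain ⟨l, hl, u, hu, rfl⟩ := Submodule.mem_sup.1
    (codisjoint_iff.1 (hG.isCompl_perp l1).codisjoint ▸ Submodule.mem_top : v ∈ _)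
  rw [map_add, f2 l hl, add_right_inj] at v2
  have u1 : Q u = 0 := by
    by_contra u1
    have u2 : F ∙ u ≤ fixS f := (Submodule.span_singleton_le_iff_mem _ _).2 (mem_fixS.2 v2)
    have u3 := hG.degs_eq_add_perp_inf f1 f3 l4 (inv_of_le_fixS u2) (hG.nd_span h2 u1)
      ((Submodule.span_singleton_le_iff_mem _ _).2 hu)
    rw [degs_of_ed_eq_map f4, degs, ed_restrict_of_eq _ fun v hv => mem_fixS.1 (u2 hv),
      finrank_span_singleton fun h => u1 (by rw [h, map_zero]), Multiset.replicate_one,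
      Multiset.map_singleton, natDegree_X_sub_C] at u3
    have u4 := congrArg (Multiset.count 1) u3
    simp [Multiset.count_replicate] at u4
  have u2 : Q (l + u) = Q l := by
    rw [quad_add, u1, show polar Q l u = 0 from hu l hl, add_zero, add_zero]
  have u3 : Q l ≠ 0 := u2 ▸ v1
  rw [y7, hG.tp_span h2 v1, u2, ← hG.tp_span h2 u3, Submodule.eq_of_le_of_finrank_eq
    ((Submodule.span_singleton_le_iff_mem _ _).2 hl)
    (by rw [l2, finrank_span_singleton fun h => u3 (by rw [h, map_zero])])]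

end GeomQ

end Cfsg.Agent.Cl.Der
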