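import Mathlib
import Cfsg.Agent.Cl.DerQ4

/-! Case forms of the derangement criteria for orthogonal groups; nonsingular points. -/

set_option autoImplicit false
set_option linter.unusedSectionVars false

namespace Cfsg.Agent.Cl.Der

open Polynomial Module Cfsg.Agent.Cl.Cls
open QuadraticMap hiding sq

theorem two_dvd_of_ite {i c : ℕ} (hc : c = if Even i then i else 2 * i) : 2 ∣ c := by
  split_ifs at hc with h
  · exact hc ▸ h.two_dvd
  · exact hc ▸ dvd_mul_right 2 i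

theorem neg_one_pow_eq_iff {k : ℕ} {s : ℤˣ} : (-1) ^ k = s ↔ (s = 1 ↔ Even k) := by
  rcases Int.units_eq_one_or s with rfl | rfl
  · simp [neg_one_pow_eq_one_iff_even]
  · rw [neg_one_pow_eq_neg_one_iff_odd (by decide), ← Nat.not_even_iff_odd]
    simp

theorem tp_rhs_iff {n m i c : ℕ} {ε s : ℤˣ} (hi : 0 < i) (hc : c = if Even i then i else 2 * i) :
    ((n % c = 0 ∧ tq i n ≠ ε) ∨ c ≤ m ∧ ((0 < m % c ∧ m % c < n % c) ∨ (m % c = 0 ∧ tq i m = s) ∨
      (0 < m % c ∧ m % c = n % c ∧ ε * tq i (n - n % c) * tq i (m - n % c) = s))) ↔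
    (Odd i ∧ ((n % c = 0 ∧ ε = -1) ∨ c ≤ m ∧ ((0 < m % c ∧ m % c < n % c) ∨ (m % c = 0 ∧ s = 1) ∨
      (0 < m % c ∧ m % c = n % c ∧ ε = s)))) ∨
    (Even i ∧ ((n % c = 0 ∧ (ε = 1 ↔ Odd (n / i))) ∨ i ≤ m ∧ ((0 < m % c ∧ m % c < n % c) ∨
      (m % c = 0 ∧ (s = 1 ↔ Even (m / i))) ∨
      (0 < m % c ∧ m % c = n % c ∧ (ε = s ↔ Even ((n + m - 2 * (n % c)) / i)))))) := by
  have h1 : ∀ a, c ∣ a - a % c := fun a => Nat.dvd_sub_mod a
  rcases Nat.even_or_odd i with h | h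
  · rw [if_pos h] at hc
    subst hc
    rw [and_iff_right h, or_iff_right fun H : Odd c ∧ _ => Nat.not_even_iff_odd.2 H.1 h]
    refine or_congr (and_congr_right fun h2 => ?_) (and_congr_right' (or_congr_right
      (or_congr (and_congr_right fun h2 => ?_) (and_congr_right' (and_congr_right fun h2 => ?_)))))
    · rw [tq_of_dvd hi (Nat.dvd_of_mod_eq_zero h2), Ne, neg_one_pow_eq_iff, ← Nat.not_even_iff_odd]
      tauto
    · rw [tq_of_dvd hi (Nat.dvd_of_mod_eq_zero h2), neg_one_pow_eq_iff]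
    · have h3 := Nat.mod_le n c
      have h4 := Nat.mod_le m c
      have h5 : c ∣ m - n % c := h2 ▸ h1 m
      rw [mul_assoc, ← tq_add hi (h1 n) h5, tq_of_dvd hi (dvd_add (h1 n) h5),
        show n - n % c + (m - n % c) = n + m - 2 * (n % c) by omega, ← eq_inv_mul_iff_mul_eq,
        neg_one_pow_eq_iff, inv_mul_eq_one]
  · have h' := Nat.not_even_iff_odd.2 h
    have h0 : ∀ a, c ∣ a → tq i a = 1 := fun a ha => tq_of_odd h (by rwa [cOf, ← hc])
    rw [and_iff_right h, or_iff_left fun H : Even i ∧ _ => h' H.1]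
    refine or_congr (and_congr_right fun h2 => ?_) (and_congr_right' (or_congr_right
      (or_congr (and_congr_right fun h2 => ?_) (and_congr_right' (and_congr_right fun h2 => ?_)))))
    · rw [h0 n (Nat.dvd_of_mod_eq_zero h2)]
      rcases Int.units_eq_one_or ε with rfl | rfl <;> decide
    · rw [h0 m (Nat.dvd_of_mod_eq_zero h2), eq_comm]
    · rw [h0 _ (h1 n), h0 _ (h2 ▸ h1 m), mul_one, mul_one]

variable {F V : Type*} [Field F] [AddCommGroup V] [Module F V] [FiniteDimensional F V]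
  {f : End F V} {U W S Y Z : Submodule F V} {Q : QuadraticForm F V}
  {r : ℕ} [hr : Fact r.Prime] [Fintype F] {p : ℕ} [hp : Fact p.Prime] [CharP F p]

theorem isSquare_two_iff' (h2 : (2 : F) ≠ 0) :
    IsSquare (2 : F) ↔ Fintype.card F % 8 = 1 ∨ Fintype.card F % 8 = 7 := by
  have := Nat.odd_iff.1 (quad_odd_of_two_ne_zero h2)
  rw [FiniteField.isSquare_two_iff]
  omega

theorem isom_span {v w : V} (hv : v ≠ 0) (hw : w ≠ 0) (h : Q w = Q v) :
    IsomQ Q (F ∙ v) (F ∙ w) :=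
  isomQ_iff.2 ⟨(LinearEquiv.toSpanNonzeroSingleton F V v hv).symm.trans
    (LinearEquiv.toSpanNonzeroSingleton F V w hw), fun x => by
      obtain ⟨c, rfl⟩ := (LinearEquiv.toSpanNonzeroSingleton F V v hv).surjective x
      rw [LinearEquiv.trans_apply, LinearEquiv.symm_apply_apply]
      simp [QuadraticMap.map_smul, h]⟩

theorem eq_span_of_finrank {v : V} (h : finrank F W = 1) (hv : v ∈ W) (h0 : v ≠ 0) : W = F ∙ v :=
  (Submodule.eq_of_le_of_finrank_eq ((Submodule.span_singleton_le_iff_mem v W).2 hv)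
    (by rw [finrank_span_singleton h0, h])).symm

theorem isom_of_nonsing (h2 : (2 : F) = 0) (hU : finrank F U = 1 ∧ ∃ v ∈ U, Q v ≠ 0)
    (hW : finrank F W = 1 ∧ ∃ v ∈ W, Q v ≠ 0) : IsomQ Q U W := by
  obtain ⟨h1, v, hv, h3⟩ := hU
  obtain ⟨h4, w, hw, h5⟩ := hW
  obtain ⟨c, hc⟩ := FiniteField.isSquare_of_char_two
    (ringChar.eq_iff.2 (CharTwo.of_one_ne_zero_of_two_eq_zero one_ne_zero h2)) (Q v / Q w)
  have h6 : Q (c • w) = Q v := by
    rw [QuadraticMap.map_smul, ← hc, smul_eq_mul, div_mul_cancel₀ _ h5]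
  have h7 : v ≠ 0 := fun e => h3 (by rw [e, map_zero])
  have h8 : c • w ≠ 0 := fun e => h3 (by rw [← h6, e, map_zero])
  rw [eq_span_of_finrank h1 hv h7, eq_span_of_finrank h4 (W.smul_mem c hw) h8]
  exact isom_span h7 h8 h6

namespace GeomQ

theorem forall_tp_cases (hG : GeomQ Q) (hrp : r ≠ p) (h2 : r ≠ 2) {m n i c : ℕ}
    (hn : finrank F V = n) (hi : i = orderOf ((Fintype.card F : ℕ) : ZMod r))
    (hc : c = if Even i then i else 2 * i) (h0 : 0 < m) (hm : m < n)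
    (hm' : (2 : F) = 0 → Even m) {s ε : ℤˣ} (hε : tp Q ⊤ = ε)
    (hΩ : r ∣ Nat.card {W : Submodule F V // finrank F W = m ∧ NDQ Q W ∧ tp Q W = s}) :
    (∀ f, IsoQ Q f → f ^ r = 1 → f ≠ 1 →
      ∃ W : Submodule F V, finrank F W = m ∧ NDQ Q W ∧ tp Q W = s ∧ ∀ v ∈ W, f v ∈ W) ↔
    (Odd i ∧ ((n % c = 0 ∧ ε = -1) ∨ c ≤ m ∧ ((0 < m % c ∧ m % c < n % c) ∨ (m % c = 0 ∧ s = 1) ∨
      (0 < m % c ∧ m % c = n % c ∧ ε = s)))) ∨
    (Even i ∧ ((n % c = 0 ∧ (ε = 1 ↔ Odd (n / i))) ∨ i ≤ m ∧ ((0 < m % c ∧ m % c < n % c) ∨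
      (m % c = 0 ∧ (s = 1 ↔ Even (m / i))) ∨
      (0 < m % c ∧ m % c = n % c ∧ (ε = s ↔ Even ((n + m - 2 * (n % c)) / i)))))) := by
  rw [hG.forall_tp_iff hrp h2 hn hi hc h0 hm hm' hΩ, hε]
  exact tp_rhs_iff (hi ▸ orderOf_pos_of_ne_zero (natCast_ne_zero_of_card hrp)) hc

theorem forall_ts_cases (hG : GeomQ Q) (hrp : r ≠ p) (h2 : r ≠ 2) {m n i c : ℕ}
    (hn : finrank F V = n) (hi : i = orderOf ((Fintype.card F : ℕ) : ZMod r))
    (hc : c = if Even i then i else 2 * i) (hm : 2 * m < n) {E : Prop} (hE : tp Q ⊤ = 1 ↔ E)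
    (hΩ : r ∣ Nat.card {W : Submodule F V // finrank F W = m ∧ TSQ Q W}) :
    (∀ f, IsoQ Q f → f ^ r = 1 → f ≠ 1 →
      ∃ W : Submodule F V, finrank F W = m ∧ TSQ Q W ∧ ∀ v ∈ W, f v ∈ W) ↔
    (Odd i ∧ i ≤ m ∧ ((n % c = 0 ∧ ¬ E) ∨ 2 * (m % i) < n % c ∨ (2 * (m % i) = n % c ∧ E))) ∨
    (Even i ∧ i ≤ m ∧ (r - 1) / i + 2 * (m / i) ≤ n / i ∧
      ((2 * (m % i) ≤ i ∧ n % c = 0 ∧ ¬ (E ↔ Even (n / i)) ∧ (r - 1) / i + 2 * (m / i) < n / i) ∨
      (2 * (m % i) ≤ n % c ∧ (E ↔ Even (n / i))) ∨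
      (2 * (m % i) < n % c ∧ ¬ (E ↔ Even (n / i))))) := by
  have hq := natCast_ne_zero_of_card (F := F) hrp
  have h0 : 0 < i := hi ▸ orderOf_pos_of_ne_zero hq
  have hT : 1 ≤ (r - 1) / i := hi ▸ one_le_div_orderOf hq
  rw [hG.forall_ts_iff hrp h2 hn hi hm hΩ]
  simp only [hE]
  rcases Nat.even_or_odd i with h | h
  · have h' := Nat.not_odd_iff_even.2 h
    rw [if_pos h] at hc
    subst hc
    simp only [h, h', false_and, false_or, true_and, false_imp_iff, true_imp_iff]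
    exact and_congr_right fun h3 => tsq_arith_even h0 hT hm h3
  · have h' := Nat.not_even_iff_odd.2 h
    rw [if_neg h'] at hc
    subst hc
    simp only [h, h', false_and, or_false, true_and, true_imp_iff]
    refine and_congr_right fun h3 => Iff.trans ?_ (tsq_arith_odd h0 hm h3)
    constructor
    · intro H w k h4 h5 h6
      simpa using H w 0 k h4 (by omega) (Nat.zero_le _) rfl (by simpa using h6)
    · rintro H w o k h4 h5 - rfl h6
      simpa using H w k h4 (by omega) (by simpa using h6)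

theorem exists_part (hG : GeomQ Q) (h2 : (2 : F) ≠ 0) {m : ℕ} (hm : m ≤ finrank F V)
    (he : Even m) (H : ∀ f, InO Q f → f ^ p = 1 → (∀ z : F, f ≠ z • 1) →
      ∃ W : Submodule F V, finrank F W = m ∧ NDQ Q W ∧ ∀ v ∈ W, f v ∈ W)
    (μ : Multiset ℕ) (h0 : ∀ e ∈ μ, 0 < e ∧ e ≤ p) (h1 : ∀ e, Even e → Even (μ.count e))
    (hd : μ.sum = finrank F V) :
    ∃ ν : Multiset ℕ, ν ≤ μ ∧ ν.sum = m ∧ ∀ e, Even e → Even (ν.count e) := by
  have key : ∀ μ : Multiset ℕ, (∀ e ∈ μ, 0 < e ∧ e ≤ p) → (∀ e, Even e → Even (μ.count e)) →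
      μ.sum = finrank F V → (∃ a ∈ μ, Odd a) → (∃ a ∈ μ, a ≠ 1) →
      ∃ ν : Multiset ℕ, ν ≤ μ ∧ ν.sum = m ∧ ∀ e, Even e → Even (ν.count e) := by
    intro μ h0 h1 hd h3 h4
    obtain ⟨f, f1, f2, f3, f4⟩ := hG.exists_unip h2 h0 h1 hd (Or.inl h3) h4
    obtain ⟨W, rfl, w1, w2⟩ := H f f1 f2 f3
    obtain ⟨ν, h5, h6, h7, -⟩ := f4 W w1 w2
    exact ⟨ν, h5, h6, h7⟩
  by_cases h3 : ∀ a ∈ μ, a = 1
  · refine ⟨_, exists_le_sum_eq_of_forall_eq_one h3 (hd ▸ hm), by simp, fun e h6 => ?_⟩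
    rw [Multiset.count_replicate, if_neg fun h => absurd (h ▸ h6) (by decide)]
    exact Even.zero
  push Not at h3
  by_cases h4 : ∃ a ∈ μ, Odd a
  · exact key μ h0 h1 hd h4 h3
  simp only [not_exists, not_and, Nat.not_odd_iff_even] at h4
  obtain ⟨a, ha, -⟩ := h3
  obtain ⟨ρ, rfl⟩ : ∃ ρ, μ = {a, a} + ρ := by
    refine Multiset.le_iff_exists_add.1 ?_
    rw [show ({a, a} : Multiset ℕ) = Multiset.replicate 2 a from rfl,
      Multiset.le_count_iff_replicate_le.symm]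
    have := Multiset.count_pos.2 ha
    have := Nat.even_iff.1 (h1 a (h4 a ha))
    omega
  have h5 := Nat.even_iff.1 (h4 a ha)
  have h6 := h0 a ha
  have h7 := Nat.odd_iff.1 (hp.1.odd_of_ne_two (two_lt_char (p := p) h2).ne')
  have h8 : ∀ e, Even e → ∀ ν : Multiset ℕ, ({a - 1, a + 1} + ν).count e = ν.count e := by
    intro e he ν
    have := Nat.even_iff.1 he
    rw [Multiset.count_add, Multiset.count_eq_zero.2 (by simp; omega), zero_add]
  have h9 : ∀ e (ν : Multiset ℕ), Even (({a, a} + ν).count e) ↔ Even (ν.count e) := by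
    intro e ν
    rw [show ({a, a} : Multiset ℕ) = Multiset.replicate 2 a from rfl, Multiset.count_add,
      Multiset.count_replicate]
    split_ifs <;> simp [Nat.even_add]
  obtain ⟨ν, h10, h11, h12⟩ := key ({a - 1, a + 1} + ρ) (fun e he => by
      rcases Multiset.mem_add.1 he with he | he
      · simp at he
        omega
      · exact h0 e (Multiset.mem_add.2 (Or.inr he)))
    (fun e he => by rw [h8 e he, ← h9]; exact h1 e he) (by simp at hd ⊢; omega)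
    ⟨a + 1, by simp, Nat.odd_iff.2 (by omega)⟩ ⟨a + 1, by simp, by omega⟩
  obtain ⟨x, x1, y, y1, rfl⟩ := exists_add_of_le_add h10
  have h13 : y.sum % 2 = 0 := Nat.mod_eq_zero_of_dvd (Multiset.dvd_sum fun e he =>
    (h4 e (Multiset.mem_add.2 (Or.inr (Multiset.mem_of_le y1 he)))).two_dvd)
  have h14 := Nat.even_iff.1 he
  rcases le_pair_cases x1 with rfl | rfl | rfl | rfl
  · exact ⟨y, y1.trans (Multiset.le_add_left _ _), by simpa using h11, by simpa using h12⟩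
  · simp at h11
    omega
  · simp at h11
    omega
  · refine ⟨{a, a} + y, by gcongr, by simp at h11 ⊢; omega, fun e he => ?_⟩
    rw [h9, ← h8 e he]
    exact h12 e he

theorem le_fixS_of_nonsing (hG : GeomQ Q) (h2 : (2 : F) = 0) (h : IsoQ Q f)
    (hW : finrank F W = 1 ∧ ∃ v ∈ W, Q v ≠ 0) (hf : ∀ v ∈ W, f v ∈ W) : W ≤ fixS f := by
  obtain ⟨h1, v, hv, h3⟩ := hW
  have h4 : v ≠ 0 := fun e => h3 (by rw [e, map_zero])
  have h5 : ∀ w ∈ W, ∃ c : F, c • v = w := fun w hw =>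
    Submodule.mem_span_singleton.1 (eq_span_of_finrank h1 hv h4 ▸ hw)
  obtain ⟨c, hc⟩ := h5 _ (hf v hv)
  have h6 := isoQ_iff.1 h v
  rw [← hc, QuadraticMap.map_smul, smul_eq_mul, mul_left_eq_self₀, or_iff_left h3] at h6
  have h7 : c = 1 := sub_eq_zero.1 (pow_eq_zero_iff two_ne_zero |>.1 (by
    linear_combination h6 + (1 - c) * h2))
  intro w hw
  obtain ⟨a, rfl⟩ := h5 w hw
  rw [mem_fixS, map_smul, ← hc, h7, one_smul]

/-- Nonsingular points in characteristic two. -/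
theorem forall_nonsing_iff (hG : GeomQ Q) (hp2 : p = 2) {d : ℕ} (hd : finrank F V = 2 * d)
    (hd' : 2 < d)
    (hΩ : r ∣ Nat.card {W : Submodule F V // finrank F W = 1 ∧ ∃ v ∈ W, Q v ≠ 0}) :
    (∀ f, IsoQ Q f → InO Q f → (∃ z : F, f ^ r = z • 1) → (∀ z : F, f ≠ z • 1) →
      ∃ W : Submodule F V, (finrank F W = 1 ∧ ∃ v ∈ W, Q v ≠ 0) ∧ ∀ v ∈ W, f v ∈ W) ↔
    r = 2 ∧ (Odd d ∨ tp Q ⊤ = -1) := by
  have h2 : (2 : F) = 0 := two_eq_zero_of_eq hp2
  have : Nontrivial V := Module.nontrivial_of_finrank_pos (R := F) (by omega)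
  have hexc : ¬ OExc Q := not_oExc_of_ne (by omega)
  have he : Even (finrank F (⊤ : Submodule F V)) := by rw [finrank_top, hd]; exact even_two_mul d
  have hsp : ∀ v, Q v ≠ 0 → finrank F (F ∙ v) = 1 ∧ ∃ w ∈ F ∙ v, Q w ≠ 0 := fun v hv =>
    ⟨finrank_span_singleton fun e => hv (by rw [e, map_zero]), v,
      Submodule.mem_span_singleton_self v, hv⟩
  by_cases hr2 : r = 2
  · subst hr2 hp2
    rw [and_iff_right rfl]
    constructor
    · intro H
      by_contra! h3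
      obtain ⟨u, rfl⟩ := (Nat.not_odd_iff_even.1 h3.1).two_dvd
      have h4 : tp Q ⊤ = 1 := (Int.units_eq_one_or _).resolve_right h3.2
      obtain ⟨f, U, u1, u2, u3, u4, u5⟩ := hG.exists_aType_inO (p := 2) (by omega) (u := u)
        (by omega) ((hG.hasQ_iff_tp hG.nd_top).2 (Or.inr ⟨by rw [finrank_top, hd], h4⟩))
      obtain ⟨W, w1, w2⟩ := H f u2.iso u3 ⟨1, by rw [u4, one_smul]⟩ u5
      have h5 := hG.le_fixS_of_nonsing h2 u2.iso w1 w2
      have h6 := hG.finrank_add_perp U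
      rw [u2.fix, ← Submodule.eq_of_le_of_finrank_eq u2.ts.le_perp (by omega)] at h5
      obtain ⟨-, v, hv, h7⟩ := w1
      exact h7 (tsQ_iff.1 u2.ts v (h5 hv))
    · rw [hG.forall_char_two_iff h2]
      intro H f f1 f2 f3 _
      by_contra h3
      have h4 : TSQ Q (fixS f) := tsQ_iff.2 fun v hv => by
        by_contra h4
        refine h3 ⟨_, hsp v h4, fun w hw => ?_⟩
        obtain ⟨c, rfl⟩ := Submodule.mem_span_singleton.1 hw
        rwa [map_smul, mem_fixS.1 hv]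
      have h5 := hG.two_mul_le_of_ts h4
      have h6 := hG.finrank_add_perp (fixS f)
      have h7 : perpQ Q (fixS f) ≤ fixS f := by
        rw [hG.perp_fixS f1]
        rintro _ ⟨w, rfl⟩
        have := LinearMap.congr_fun (sub_one_sq_of_sq_eq_one h2 f3) w
        rw [mem_fixS, ← sub_eq_zero]
        simpa [sq] using this
      have h8 := Submodule.finrank_mono h7
      have h9 := Nat.even_iff.1 ((hG.inO_iff_of_two hexc h2 f1).1 f2)
      rcases H with H | H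
      · have := Nat.odd_iff.1 H
        omega
      · exact (tp_eq_neg_one_iff he).1 H ⟨fixS f, le_top, h4, by rw [finrank_top]; omega⟩
  refine iff_of_false (fun H => ?_) fun H => hr2 H.1
  rw [hG.forall_odd (by omega) hr2 fun f => by simp only [neg_inv_iff, imp_self]] at H
  obtain ⟨v, -, hv⟩ := ND.exists_ne_zero (Q := Q) hG.nd_top (by rw [finrank_top]; omega)
  obtain ⟨f, f1, f2, f3, f4⟩ := hG.exists_der_of_small (hp2 ▸ hr2 : r ≠ p)
    (fun W => finrank F W = 1 ∧ ∃ v ∈ W, Q v ≠ 0)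
    (fun f W h ⟨h3, v, h4, h5⟩ => ⟨(hG.finrank_map h W).trans h3, f v,
      Submodule.mem_map_of_mem h4, by rwa [isoQ_iff.1 h]⟩)
    (fun W W' => isom_of_nonsing h2)
    (fun f W h _ hW hW' => hG.le_fixS_of_nonsing h2 h hW hW') hΩ ⟨_, hsp v hv⟩
  obtain ⟨W, h4, h5⟩ := H f f1 f2 f3
  exact f4 W h4 h5

end GeomQ

end Cfsg.Agent.Cl.Der
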