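import Mathlib
import Cfsg.Agent.Cl.DerQ5
import Cfsg.Agent.Cl.ClassTwist
import Cfsg.Agent.Cl.ClassSemis
import Cfsg.Agent.Cl.LinearBasic

/-! Conjugacy in `SL` into a subgroup of `GL`; eigenvalue multiplicities; rigid elements. -/

set_option autoImplicit false
set_option linter.unusedSectionVars false

namespace Cfsg.Agent.Cl.Der

open Polynomial Module Cfsg.Agent.Cl.Cls

section Index

variable {G : Type*} [Group G] [Finite G] {H S K T : Subgroup G}

theorem relIndex_mul_card_dvd (h : K ≤ H) (h' : K ≤ S) :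
    H.relIndex S * Nat.card K ∣ Nat.card S := by
  rw [← (H.subgroupOf S).index_mul_card]
  refine Nat.mul_dvd_mul_left _ ?_
  rw [← Nat.card_congr (Subgroup.subgroupOfEquivOfLe h').toEquiv]
  exact Subgroup.card_dvd_of_le fun x hx => h hx

theorem relIndex_mul_card_dvd_top [S.Normal] (h : K ≤ H) :
    H.relIndex S * Nat.card K ∣ Nat.card G := by
  have h1 := Subgroup.relIndex_mul_relIndex (H ⊓ S) S (H ⊔ S) inf_le_right le_sup_right
  rw [← Subgroup.relIndex_mul_relIndex (H ⊓ S) H (H ⊔ S) inf_le_left le_sup_left,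
    Subgroup.relIndex_sup_right, Subgroup.inf_relIndex_left, Subgroup.inf_relIndex_right,
    mul_comm] at h1
  rw [Nat.eq_of_mul_eq_mul_left (Nat.pos_of_ne_zero Subgroup.index_ne_zero_of_finite) h1,
    ← H.index_mul_card, ← Subgroup.relIndex_mul_index (le_sup_left : H ≤ H ⊔ S), mul_assoc]
  exact Nat.mul_dvd_mul_left _ ((Subgroup.card_dvd_of_le h).mul_left _)

theorem relIndex_mul_card_dvd_of_normal (hS : S ≤ T) (hn : ∀ s ∈ S, ∀ t ∈ T, t * s * t⁻¹ ∈ S)
    (h : K ≤ H) (h' : K ≤ T) : H.relIndex S * Nat.card K ∣ Nat.card T := by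
  have : (S.subgroupOf T).Normal := ⟨fun s hs t => hn s hs t t.2⟩
  rw [← Subgroup.relIndex_subgroupOf hS, ← Nat.card_congr (Subgroup.subgroupOfEquivOfLe h').toEquiv]
  exact relIndex_mul_card_dvd_top fun x hx => h hx

theorem dvd_of_dvd_of_mul_dvd {r a b c : ℕ} (hb : 0 < b) (h : r ∣ a) (h' : a * b ∣ b * c) :
    r ∣ c := h.trans ((Nat.mul_dvd_mul_iff_left hb).1 (mul_comm a b ▸ h'))

end Index

section Lin

variable {F V W : Type*} [Field F] [AddCommGroup V] [Module F V] [FiniteDimensional F V]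
  [AddCommGroup W] [Module F W] [FiniteDimensional F W] {f : End F V}

theorem sim_smul {g : End F W} (h : Sim f g) (c : F) : Sim (c • f) (c • g) :=
  h.imp fun e he v => by simp [he]

theorem sim_pow {g : End F W} (h : Sim f g) (k : ℕ) : Sim (f ^ k) (g ^ k) := by
  simpa using h.aeval (X ^ k)

theorem sim_eq_smul {g : End F W} {z : F} (h : Sim f g) (hf : f = z • 1) : g = z • 1 := by
  obtain ⟨e, he⟩ := h
  ext w
  obtain ⟨v, rfl⟩ := e.surjective w
  simp [← he, hf]

theorem sim_pow_eq {g : End F W} {z : F} {k : ℕ} (h : Sim f g) (hf : f ^ k = z • 1) :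
    g ^ k = z • 1 := sim_eq_smul (sim_pow h k) hf

theorem sim_pow_eq_one {g : End F W} {k : ℕ} (h : Sim f g) (hf : f ^ k = 1) : g ^ k = 1 := by
  simpa using sim_pow_eq (z := 1) h (by simpa using hf)

theorem inv_smul_smul' {c : F} (hc : c ≠ 0) (f : End F V) : c⁻¹ • c • f = f := by
  rw [smul_smul, inv_mul_cancel₀ hc, one_smul]

theorem smul_inv_smul'' {c : F} (hc : c ≠ 0) (f : End F V) : c • c⁻¹ • f = f := by
  rw [smul_smul, mul_inv_cancel₀ hc, one_smul]

theorem smul_ne_smul_one {c : F} (hc : c ≠ 0) (h : ∀ z : F, f ≠ z • 1) (z : F) : c • f ≠ z • 1 :=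
  fun hz => h (c⁻¹ * z) (by rw [← inv_smul_smul' hc f, hz, smul_smul])

theorem isUnit_of_det_eq_one (h : LinearMap.det f = 1) : IsUnit f :=
  (LinearMap.isUnit_iff_isUnit_det f).2 (h ▸ isUnit_one)

theorem ne_zero_of_pow_eq_smul [Nontrivial V] (h : IsUnit f) {k : ℕ} {z : F}
    (hz : f ^ k = z • 1) : z ≠ 0 := fun h0 => (h.pow k).ne_zero (by rw [hz, h0, zero_smul])

theorem isUnit_of_pow_eq_one {k : ℕ} (hk : k ≠ 0) (h : f ^ k = 1) : IsUnit f :=
  IsUnit.of_pow_eq_one h hk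

/-- The dimension of an eigenspace. -/
noncomputable def mult (f : End F V) (c : F) : ℕ := finrank F (LinearMap.ker (f - c • 1))

theorem mem_ker_sub {c : F} {v : V} : v ∈ LinearMap.ker (f - c • 1) ↔ f v = c • v := by
  simp [sub_eq_zero]

theorem mult_eq_nul (f : End F V) (c : F) : mult f c = nul f (X - C c) := (nul_X_sub_C' f c).symm

theorem sim_mult {g : End F W} (h : Sim f g) (c : F) : mult f c = mult g c := by
  rw [mult_eq_nul, mult_eq_nul, h.nul_eq]

theorem mult_smul {c : F} (hc : c ≠ 0) (f : End F V) (a : F) : mult (c • f) (c * a) = mult f a := by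
  rw [mult, mul_smul, ← smul_sub, LinearMap.ker_smul _ _ hc, mult]

theorem mult_one (f : End F V) : mult f 1 = finrank F (fixS f) := by rw [mult, one_smul, fixS]

theorem mult_add_rank (f : End F V) (c : F) :
    mult f c + finrank F (LinearMap.range (f - c • 1)) = finrank F V := by
  rw [add_comm, mult, LinearMap.finrank_range_add_finrank_ker]

theorem mult_lt {c : F} (h : f ≠ c • 1) : mult f c < finrank F V :=
  Submodule.finrank_lt fun e => h (sub_eq_zero.1 (LinearMap.ker_eq_top.1 e))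

theorem pow_eq_of_mult_pos {c z : F} {k : ℕ} (hf : f ^ k = z • 1) (h : 0 < mult f c) :
    c ^ k = z := by
  obtain ⟨v, hv, h0⟩ := Submodule.exists_mem_ne_zero_of_ne_bot
    (Submodule.one_le_finrank_iff.1 h)
  have h1 := End.HasEigenvector.pow_apply ⟨End.mem_eigenspace_iff.2 (mem_ker_sub.1 hv), h0⟩ k
  rw [hf] at h1
  exact (smul_left_injective F h0 h1).symm

/-- The elementary divisors of a diagonal matrix. -/
noncomputable def dg (t : Multiset F) : Multiset F[X] := t.map fun a => X - C a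

theorem isPP_of_mem_dg {t : Multiset F} {e : F[X]} (h : e ∈ dg t) : IsPP e := by
  obtain ⟨a, -, rfl⟩ := Multiset.mem_map.1 h
  exact isPP_of_irreducible (monic_X_sub_C a) (irreducible_X_sub_C a)

theorem sum_natDegree_dg (t : Multiset F) : ((dg t).map natDegree).sum = Multiset.card t := by
  simp [dg]

theorem dg_add (s t : Multiset F) : dg (s + t) = dg s + dg t := Multiset.map_add _ _ _

theorem dg_replicate (k : ℕ) (a : F) : dg (Multiset.replicate k a) =
    Multiset.replicate k (X - C a) := Multiset.map_replicate _ _ _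

theorem exists_ed_eq_dg {t : Multiset F} (h : Multiset.card t = finrank F V) :
    ∃ f : End F V, ed f = dg t :=
  exists_ed_eq (fun _ => isPP_of_mem_dg) (by rw [sum_natDegree_dg, h])

theorem card_of_ed_eq_dg {t : Multiset F} (h : ed f = dg t) : Multiset.card t = finrank F V := by
  rw [← sum_natDegree_dg, ← h, sum_natDegree_ed]

theorem mult_of_ed_eq_dg [DecidableEq F] {t : Multiset F} (h : ed f = dg t) (c : F) :
    mult f c = t.count c := by
  rw [mult_eq_nul, nul_X_sub_C, h, dg, Multiset.filter_map, Multiset.card_map,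
    Multiset.count_eq_card_filter_eq]
  exact congrArg _ (Multiset.filter_congr fun a _ => by simp [sub_eq_zero])

theorem det_of_ed_eq_dg {t : Multiset F} (h : ed f = dg t) : LinearMap.det f = t.prod := by
  rw [det_eq_ed, ← card_of_ed_eq_dg h, h, dg, coeff_zero_eq_eval_zero, eval_multiset_prod,
    Multiset.map_map]
  simp [Multiset.prod_map_neg, ← mul_assoc, ← mul_pow]

theorem pow_of_ed_eq_dg {t : Multiset F} (h : ed f = dg t) {k : ℕ} {z : F}
    (ht : ∀ a ∈ t, a ^ k = z) : f ^ k = z • 1 := pow_eq_smul_of_ed fun e he => by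
  obtain ⟨a, ha, rfl⟩ := Multiset.mem_map.1 (h ▸ he : e ∈ dg t)
  exact dvd_iff_isRoot.2 (by simp [ht a ha])

theorem ed_smul_of_eq_dg {t : Multiset F} (h : ed f = dg t) {c : F} (hc : c ≠ 0) :
    ed (c • f) = dg (t.map (c * ·)) := by
  rw [ed_smul f hc, h, dg, dg, Multiset.map_map, Multiset.map_map]
  exact Multiset.map_congr rfl fun a _ => by simp [mul_comm]

theorem map_uDual_dg {σ : F →+* F} {t : Multiset F} (h : ∀ a ∈ t, a ≠ 0) :
    (dg t).map (uDual σ) = dg (t.map fun a => (σ a)⁻¹) := by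
  rw [dg, dg, Multiset.map_map, Multiset.map_map]
  exact Multiset.map_congr rfl fun a ha => by
    simpa using uDual_X_pow_sub_C (σ := σ) one_ne_zero (h a ha)

theorem ed_eq_of_charpoly_eq {g : End F W} (hf : f.IsSemisimple) (hg : g.IsSemisimple)
    (h : f.charpoly = g.charpoly) : ed f = ed g := by
  classical
  rw [← eq_normalizedFactors_prod (s := ed f) (fun _ h => (isPP_of_mem_ed h).monic)
    fun _ => irreducible_of_isSemisimple hf, ← eq_normalizedFactors_prod (s := ed g)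
    (fun _ h => (isPP_of_mem_ed h).monic) fun _ => irreducible_of_isSemisimple hg,
    ← charpoly_eq_prod_ed, ← charpoly_eq_prod_ed, h]

theorem lin_forall_iff [Nontrivial V] {r : ℕ} (hr : r ≠ 0) {P : End F V → Prop}
    (hP : ∀ f (c : F), c ≠ 0 → P f → P (c • f)) :
    (∀ f, LinearMap.det f = 1 → (∃ z : F, f ^ r = z • 1) → (∀ z : F, f ≠ z • 1) → P f) ↔
      (∀ f, f ^ r = 1 → (∀ z : F, f ≠ z • 1) →
        (∃ c : F, c ^ finrank F V * LinearMap.det f = 1) → P f) ∧
      ∀ f (z : F), LinearMap.det f = 1 → f ^ r = z • 1 → (∀ c : F, c ^ r ≠ z) → P f := by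
  constructor
  · intro H
    refine ⟨fun f h1 h2 ⟨c, h4⟩ => ?_, fun f z h1 h2 h3 => H f h1 ⟨z, h2⟩ ?_⟩
    · have h3 : c ≠ 0 := fun h => by simp [h, (finrank_pos (R := F) (M := V)).ne'] at h4
      rw [← inv_smul_smul' h3 f]
      exact hP _ _ (inv_ne_zero h3) (H _ (by rw [LinearMap.det_smul, h4])
        ⟨c ^ r, by rw [_root_.smul_pow, h1]⟩ (smul_ne_smul_one h3 h2))
    · rintro c rfl
      rw [_root_.smul_pow, one_pow] at h2
      exact h3 c (smul_left_injective F one_ne_zero h2)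
  · rintro ⟨H1, H2⟩ f h1 ⟨z, h2⟩ h3
    by_cases h4 : ∃ c : F, c ^ r = z
    · obtain ⟨c, rfl⟩ := h4
      have h4 : c ≠ 0 := ne_zero_pow hr (ne_zero_of_pow_eq_smul (isUnit_of_det_eq_one h1) h2)
      have : Fact (Nat.Prime 2) := inferInstance
      rw [← smul_inv_smul'' h4 f]
      exact hP _ _ h4 (H1 _ (by rw [_root_.smul_pow, h2, smul_smul, ← mul_pow, inv_mul_cancel₀ h4,
        one_pow, one_smul]) (smul_ne_smul_one (inv_ne_zero h4) h3)
        ⟨c, by rw [← LinearMap.det_smul, smul_inv_smul'' h4, h1]⟩)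
    · push Not at h4
      exact H2 f z h1 h2 h4

/-- Every non-zero scalar is the determinant of an endomorphism commuting with `f`. -/
def DS (f : End F V) : Prop := ∀ a : F, ∃ c : End F V, Commute f c ∧ LinearMap.det c = a

theorem DS.smul (h : DS f) (c : F) : DS (c • f) := fun a =>
  (h a).imp fun _ h => ⟨h.1.smul_left c, h.2⟩

theorem ds_of_mem_ed [Finite F] {P : F[X]} {k : ℕ} (hP : P.Monic) (hPi : Irreducible P)
    (he : P ^ k ∈ ed f) (hk : ∀ a : F, ∃ b, b ^ k = a) : DS f := fun a => by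
  obtain ⟨b, rfl⟩ := hk a
  exact exists_commute_det_eq hP hPi he b

theorem exists_mem_ed [Nontrivial V] (f : End F V) : ∃ e, e ∈ ed f :=
  Multiset.exists_mem_of_ne_zero fun h => finrank_pos.ne' ((ed_eq_zero_iff f).1 h)

theorem ds_of_isSemisimple [Finite F] [Nontrivial V] (h : f.IsSemisimple) : DS f := by
  obtain ⟨e, he⟩ := exists_mem_ed f
  exact ds_of_mem_ed (isPP_of_mem_ed he).monic (irreducible_of_isSemisimple h he) (k := 1)
    (by rwa [pow_one]) fun a => ⟨a, pow_one a⟩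

variable {r : ℕ} [hr : Fact r.Prime] [Fintype F] {p : ℕ} [hp : Fact p.Prime] [CharP F p]

theorem exists_pow_char_eq (a : F) : ∃ b : F, b ^ p = a := (frobeniusEquiv F p).surjective a

theorem exists_ed_eq_unip (h : f ^ p = 1) : ∃ μ : Multiset ℕ, (∀ a ∈ μ, 0 < a ∧ a ≤ p) ∧
    ed f = μ.map fun a => (X - C (1 : F)) ^ a := by
  refine ⟨degs f, fun a ha => ⟨pos_of_mem_degs ha, le_of_mem_degs_char h ha⟩, ?_⟩
  rw [degs, Multiset.map_map]
  refine (Multiset.map_id _).symm.trans (Multiset.map_congr rfl fun e he => ?_)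
  obtain ⟨a, -, -, rfl⟩ := mem_ed_of_sub_pow (sub_one_pow_char h) he
  simp [-map_one]

theorem ds_of_mem_unip {μ : Multiset ℕ} (h : ed f = μ.map fun a => (X - C (1 : F)) ^ a)
    {a : ℕ} (ha : a ∈ μ) (h1 : a = 1 ∨ a = p) : DS f :=
  ds_of_mem_ed (monic_X_sub_C 1) (irreducible_X_sub_C 1) (h ▸ Multiset.mem_map_of_mem _ ha)
    fun b => h1.elim (fun e => ⟨b, by rw [e, pow_one]⟩) fun e => e ▸ exists_pow_char_eq b

theorem ds_of_pow [Nontrivial V] (hr2 : r ≠ p ∨ r = 2) (h : IsUnit f) {z : F}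
    (hz : f ^ r = z • 1) : DS f := by
  by_cases hrp : r = p
  · subst hrp
    obtain ⟨c, hc, h1⟩ := pow_cases_char f h hz
    obtain ⟨μ, h2, h3⟩ := exists_ed_eq_unip h1
    obtain ⟨e, he⟩ := exists_mem_ed (c⁻¹ • f)
    obtain ⟨a, ha, -⟩ := Multiset.mem_map.1 (h3 ▸ he)
    have := h2 a ha
    exact smul_inv_smul'' hc f ▸ (ds_of_mem_unip (p := r) h3 ha (by omega)).smul c
  · exact ds_of_isSemisimple (isSemisimple_of_pow_eq (natCast_ne_zero_of_ne hrp)
      (ne_zero_of_pow_eq_smul h hz) hz)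

theorem exists_ed_eq_dg_of_pow (hrp : r ≠ p) (hq : r ∣ Fintype.card F - 1) (h : f ^ r = 1) :
    ∃ t, ed f = dg t ∧ ∀ a ∈ t, a ^ r = 1 := by
  have h1 : ∀ e ∈ ed f, ∃ a : F, e = X - C a ∧ a ^ r = 1 := fun e he => by
    have h2 : e.natDegree = 1 := (mem_degs_of_pow_eq_one hrp h (Multiset.mem_map_of_mem _ he)).elim
      id fun h => h.trans ((dvd_sub_one_iff Fintype.card_pos).1 hq)
    have h3 := (isPP_of_mem_ed he).monic.eq_X_add_C h2
    refine ⟨-e.coeff 0, by rw [C_neg, sub_neg_eq_add, ← h3], ?_⟩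
    have h4 := dvd_of_mem_ed (aeval_X_pow_sub_C_eq_zero.2 (h.trans (one_smul F 1).symm)) he
    rw [h3, ← sub_neg_eq_add, ← C_neg, dvd_iff_isRoot] at h4
    simpa [sub_eq_zero] using h4
  choose! g hg using h1
  refine ⟨(ed f).map g, ?_, fun a ha => ?_⟩
  · rw [dg, Multiset.map_map]
    exact (Multiset.map_id _).symm.trans (Multiset.map_congr rfl fun e he => (hg e he).1)
  · obtain ⟨e, he, rfl⟩ := Multiset.mem_map.1 ha
    exact (hg e he).2

theorem det_eq_one_of_le (hn : padicValNat r (Fintype.card F - 1) ≤ padicValNat r (finrank F V))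
    (h : f ^ r = 1) {c : F} (hc : c ^ finrank F V * LinearMap.det f = 1) :
    LinearMap.det f = 1 := by
  have h1 : LinearMap.det f ^ r = 1 := by rw [← map_pow, h, map_one]
  by_contra h2
  by_cases h0 : c = 0
  · rcases Nat.eq_zero_or_pos (finrank F V) with h3 | h3
    · exact h2 (by simpa [h3] using hc)
    · simp [h0, h3.ne'] at hc
  have := lt_of_pow_eq (r := r) (n := finrank F V) (Nat.sub_ne_zero_of_lt Fintype.one_lt_card)
    ((pow_card_sub_one_eq_one_iff c).2 h0) (fun h3 => h2 (by rwa [h3, one_mul] at hc))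
    (by simpa [mul_pow, h1] using congrArg (· ^ r) hc)
  omega

theorem exists_pow_mul_eq_one [Nontrivial V]
    (hn : padicValNat r (finrank F V) < padicValNat r (Fintype.card F - 1)) {a : F}
    (ha : a ^ r = 1) : ∃ c : F, c ^ finrank F V * a = 1 := by
  obtain ⟨g, hg⟩ := exists_primitiveRoot (F := F) dvd_rfl
  obtain ⟨c, -, hc⟩ := exists_pow_eq_of_lt hg (Nat.sub_ne_zero_of_lt Fintype.one_lt_card)
    finrank_pos.ne' hn (ω := a⁻¹) (by rw [inv_pow, ha, inv_one])
  exact ⟨c, by rw [hc, inv_mul_cancel₀ (ne_zero_pow hr.1.ne_zero (ha ▸ one_ne_zero))]⟩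

theorem exists_nonpow_end_iff [Nontrivial V] :
    (∃ (f : End F V) (z : F), LinearMap.det f = 1 ∧ f ^ r = z • 1 ∧ ∀ c : F, c ^ r ≠ z) ↔
      r ∣ Fintype.card F - 1 ∧ ¬ (padicValNat r (finrank F V) ≤
        padicValNat r (Fintype.card F - 1) ∧
          (r = 2 → Even (finrank F V) → Fintype.card F % 4 = 1)) := by
  constructor
  · rintro ⟨f, z, h1, h2, h3⟩
    rcases pow_cases f (isUnit_of_det_eq_one h1) h2 with ⟨c, h4, h5⟩ | ⟨-, h4, k, h5, -, h6⟩
    · rw [_root_.smul_pow, h2, smul_smul, inv_pow] at h5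
      have h6 := smul_left_injective F (one_ne_zero (α := End F V)) (h5.trans (one_smul F _).symm)
      exact absurd ((inv_mul_eq_one₀ (pow_ne_zero r h4)).1 h6) (h3 c)
    · exact ⟨h4, (exists_nonpow_iff h4 finrank_pos.ne').1 ⟨z, k, h3, h5, h6 ▸ h1⟩⟩
  · rintro ⟨h1, h2⟩
    obtain ⟨z, k, h3, h4, h5⟩ := (exists_nonpow_iff h1 finrank_pos.ne').2 h2
    have h6 := (X_pow_sub_C_irreducible_iff_of_prime hr.1).2 h3
    obtain ⟨f, hf⟩ := exists_ed_eq (V := V) (s := Multiset.replicate k (X ^ r - C z))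
      (fun e he => Multiset.eq_of_mem_replicate he ▸
        isPP_of_irreducible (monic_X_pow_sub_C z hr.1.ne_zero) h6) (by simp [h4])
    exact ⟨f, z, by rw [det_of_prod_ed hr.1.ne_zero h4 (by rw [hf, Multiset.prod_replicate]), h5],
      pow_eq_smul_of_ed fun e he => by rw [hf] at he; rw [Multiset.eq_of_mem_replicate he], h3⟩

theorem ed_eq_of_nonpow {g : End F W} {z : F} (hz : ∀ c : F, c ^ r ≠ z) (hf : f ^ r = z • 1)
    (hg : g ^ r = z • 1) (hd : finrank F V = finrank F W) : ed f = ed g := by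
  have h6 := (X_pow_sub_C_irreducible_iff_of_prime hr.1).2 hz
  obtain ⟨k, h1, h2⟩ := ed_eq_replicate (monic_X_pow_sub_C z hr.1.ne_zero) h6
    (aeval_X_pow_sub_C_eq_zero.2 hf)
  obtain ⟨l, h3, h4⟩ := ed_eq_replicate (monic_X_pow_sub_C z hr.1.ne_zero) h6
    (aeval_X_pow_sub_C_eq_zero.2 hg)
  rw [h1, h3, Nat.eq_of_mul_eq_mul_right h6.natDegree_pos (h2.trans (hd.trans h4.symm))]

/-- An element with a single block of order `r`. -/
theorem exists_block (hrp : r ≠ p) (h : orderOf ((Fintype.card F : ℕ) : ZMod r) ≤ finrank F V)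
    {e : F[X]} (he : e ∈ cycF F r) : ∃ f : End F V, f ^ r = 1 ∧ ed f = {e} +
      Multiset.replicate (finrank F V - orderOf ((Fintype.card F : ℕ) : ZMod r)) (X - C 1) ∧
      finrank F (fixS f) + orderOf ((Fintype.card F : ℕ) : ZMod r) = finrank F V := by
  classical
  obtain ⟨f, hf⟩ := exists_ed_eq (V := V) (s := {e} + Multiset.replicate
    (finrank F V - orderOf ((Fintype.card F : ℕ) : ZMod r)) (X - C 1)) (fun a ha => by
      rcases Multiset.mem_add.1 ha with ha | ha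
      · exact Multiset.mem_singleton.1 ha ▸ isPP_of_mem_cycF he
      · exact isPP_of_mem_dg (dg_replicate _ (1 : F) ▸ ha))
    (by simp [natDegree_of_mem_cycF hrp he, -map_one]; omega)
  refine ⟨f, pow_eq_one_of_ed fun a ha => ?_, hf, ?_⟩
  · rcases Multiset.mem_add.1 (hf ▸ ha) with ha | ha
    · exact Multiset.mem_singleton.1 ha ▸ dvd_of_mem_cycF he
    · rw [Multiset.eq_of_mem_replicate ha]
      exact dvd_iff_isRoot.2 (by simp)
  · have h1 : ¬ e.eval 1 = 0 := fun h1 => ne_of_mem_cycF (natCast_ne_zero_of_ne hrp) he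
      (eq_of_monic_of_associated (mem_cycF.1 he).2.1 (monic_X_sub_C 1)
        ((irreducible_X_sub_C 1).associated_of_dvd (mem_cycF.1 he).1 (dvd_iff_isRoot.2 h1)).symm)
    rw [← mult_one, mult_eq_nul, nul_X_sub_C, hf, Multiset.filter_add, Multiset.filter_singleton,
      if_neg h1, Multiset.filter_eq_self.2 fun a ha => by simp [Multiset.eq_of_mem_replicate ha]]
    simp
    omega

theorem det_eq_one_of_not_dvd (hq : ¬ r ∣ Fintype.card F - 1) (h : f ^ r = 1) :
    LinearMap.det f = 1 := by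
  have h1 : LinearMap.det f ^ r = 1 := by rw [← map_pow, h, map_one]
  exact (pow_eq_one_iff_of_coprime ((hr.1.coprime_iff_not_dvd).2 hq)).1 ⟨h1,
    (pow_card_sub_one_eq_one_iff _).2 (ne_zero_pow hr.1.ne_zero (h1 ▸ one_ne_zero))⟩

theorem eq_one_of_not_dvd (hq : ¬ r ∣ Fintype.card F - 1) {c : F} (h : c ^ r = 1) : c = 1 :=
  (pow_eq_one_iff_of_coprime ((hr.1.coprime_iff_not_dvd).2 hq)).1 ⟨h,
    (pow_card_sub_one_eq_one_iff _).2 (ne_zero_pow hr.1.ne_zero (h ▸ one_ne_zero))⟩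

/-- An element whose eigenvalues `1` and `ω` are determined by their multiplicities. -/
theorem exists_rigid (h2 : r ≠ 2) (hq : r ∣ Fintype.card F - 1) (hn : 3 ≤ finrank F V)
    (h6 : ¬ (finrank F V = 6 ∧ r = 3)) (h35 : ¬ ((r = 3 ∨ r = 5) ∧ finrank F V = r ∧
      padicValNat r (Fintype.card F - 1) = 1)) :
    ∃ (f : End F V) (ω : F), f ^ r = 1 ∧ (∀ z : F, f ≠ z • 1) ∧
      (∃ c : F, c ^ finrank F V * LinearMap.det f = 1) ∧ IsPrimitiveRoot ω r ∧
      (∀ a, mult f a = mult f 1 → a = 1) ∧ ∀ a, mult f a = mult f ω → a = ω := by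
  classical
  have : Nontrivial V := Module.nontrivial_of_finrank_pos (R := F) (by omega)
  obtain ⟨ω, hω⟩ := exists_primitiveRoot hq
  have h1 : ω ≠ 1 := hω.ne_one hr.1.one_lt
  have h3 := two_lt_of_ne h2
  have key : ∀ t : Multiset F, Multiset.card t = finrank F V → (∀ a ∈ t, a ^ r = 1) →
      (∃ c : F, c ^ finrank F V * t.prod = 1) → (∀ a, t.count a = t.count 1 → a = 1) →
      (∀ a, t.count a = t.count ω → a = ω) → ∃ (f : End F V) (ω : F), f ^ r = 1 ∧
      (∀ z : F, f ≠ z • 1) ∧ (∃ c : F, c ^ finrank F V * LinearMap.det f = 1) ∧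
      IsPrimitiveRoot ω r ∧ (∀ a, mult f a = mult f 1 → a = 1) ∧
      ∀ a, mult f a = mult f ω → a = ω := by
    intro t t1 t2 t3 t4 t5
    obtain ⟨f, hf⟩ := exists_ed_eq_dg t1
    have h4 : f ^ r = 1 := (pow_of_ed_eq_dg hf t2).trans (one_smul F _)
    refine ⟨f, ω, h4, fun z hz => ?_, by rwa [det_of_ed_eq_dg hf], hω, ?_, ?_⟩
    · have h5 : ∀ a, a ≠ z → t.count a = 0 := fun a ha => by
        by_contra h5
        exact ha (by simpa using (pow_eq_of_mult_pos (k := 1) (by rw [pow_one, hz])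
          (mult_of_ed_eq_dg hf a ▸ Nat.pos_of_ne_zero h5)))
      have h6 : t.count 0 = 0 := Multiset.count_eq_zero.2 fun h => by simpa [hr.1.ne_zero] using t2 0 h
      by_cases h7 : 1 = z
      · exact hω.ne_zero hr.1.ne_zero (t5 0 (h6.trans (h5 ω (h7 ▸ h1)).symm)).symm
      · exact zero_ne_one (t4 0 (h6.trans (h5 1 h7).symm))
    · simpa only [mult_of_ed_eq_dg hf] using t4
    · simpa only [mult_of_ed_eq_dg hf] using t5
  by_cases h4 : padicValNat r (finrank F V) < padicValNat r (Fintype.card F - 1)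
  · refine key (ω ::ₘ Multiset.replicate (finrank F V - 1) 1) (by simp; omega) (fun a ha => ?_)
      (by simpa using exists_pow_mul_eq_one h4 hω.pow_eq_one) (fun a => ?_) fun a => ?_
    · rcases Multiset.mem_cons.1 ha with rfl | ha
      · exact hω.pow_eq_one
      · rw [Multiset.eq_of_mem_replicate ha, one_pow]
    all_goals
      simp only [Multiset.count_cons, Multiset.count_replicate, h1.symm, if_true, if_false]
      split_ifs <;> first | omega | simp_all
  have h5 := one_le_padicValNat_of_dvd (Nat.sub_ne_zero_of_lt Fintype.one_lt_card) hq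
  obtain ⟨k, hk⟩ : r ∣ finrank F V := dvd_of_lt_padicValNat (a := 0) (by omega)
  have h7 : 7 ≤ finrank F V := by
    by_contra h7
    have h8 : r ≤ 6 := (Nat.le_of_dvd (by omega) ⟨k, hk⟩).trans (by omega)
    have h9 := hr.1
    have h10 : finrank F V = r → padicValNat r (finrank F V) = 1 := fun h => by
      rw [h, padicValNat_self]
    interval_cases r <;> first | omega | exact absurd h9 (by decide)
  have h8 : (ω⁻¹) ^ 2 ≠ 1 := fun h => absurd (Nat.le_of_dvd two_pos (hω.inv.dvd_of_pow_eq_one 2 h))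
    (by omega)
  refine key (ω ::ₘ ω ::ₘ (ω⁻¹) ^ 2 ::ₘ Multiset.replicate (finrank F V - 3) 1) (by simp; omega)
    (fun a ha => ?_) ⟨1, by simp [sq, hω.ne_zero hr.1.ne_zero]⟩ (fun a => ?_) fun a => ?_
  · simp only [Multiset.mem_cons, Multiset.mem_replicate] at ha
    rcases ha with rfl | rfl | rfl | ⟨-, rfl⟩
    · exact hω.pow_eq_one
    · exact hω.pow_eq_one
    · rw [← pow_mul, mul_comm, pow_mul, hω.inv.pow_eq_one, one_pow]
    · exact one_pow r
  all_goals
    simp only [Multiset.count_cons, Multiset.count_replicate, h1.symm, h8.symm, if_true,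
      if_false]
    intro h
    by_contra h9
    have h10 : ¬ (1 = a ∧ a = ω⁻¹ ^ 2) := fun h => h8 (h.1.trans h.2).symm
    have h11 : ¬ (1 = a ∧ a = ω) := fun h => h1 (h.1.trans h.2).symm
    have h12 : ¬ (1 = a) ∨ a = 1 := (em (1 = a)).symm.imp id Eq.symm
    split_ifs at h <;> first | omega | tauto

theorem exists_symm_zmod_three : ∀ a b c : ZMod 3, a + b + c = 0 → ∃ v : ZMod 3,
    ({v - a + v, v - b + v, v - c + v} : Multiset (ZMod 3)) = {a, b, c} := by decide +kernel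

theorem exists_symm_zmod_five : ∀ a b c d e : ZMod 5, a + b + c + d + e = 0 → ∃ v : ZMod 5,
    ({v - a + v, v - b + v, v - c + v, v - d + v, v - e + v} : Multiset (ZMod 5)) =
      {a, b, c, d, e} := by decide +kernel

theorem exists_symm_zmod (h35 : r = 3 ∨ r = 5) (s : Multiset (ZMod r))
    (h : Multiset.card s = r) (h0 : s.sum = 0) : ∃ v, s.map (fun a => v - a + v) = s := by
  obtain ⟨l, rfl⟩ := Quot.exists_rep s
  rcases h35 with rfl | rfl
  · obtain ⟨a, b, c, rfl⟩ := List.length_eq_three.1 h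
    exact exists_symm_zmod_three a b c (by simpa [add_assoc] using h0)
  · match l, h with
    | [a, b, c, d, e], _ => exact exists_symm_zmod_five a b c d e (by simpa [add_assoc] using h0)

/-- For `n = r ∈ {3, 5}` the eigenvalues are symmetric after scaling. -/
theorem exists_symm (hrp : r ≠ p) (h35 : r = 3 ∨ r = 5) (hq : r ∣ Fintype.card F - 1)
    (hn : finrank F V = r) (h : f ^ r = 1) (hd : LinearMap.det f = 1) :
    ∃ (c : F) (t : Multiset F), c ≠ 0 ∧ ed (c • f) = dg t ∧ (∀ a ∈ t, a ^ r = 1) ∧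
      t.map (·⁻¹) = t := by
  obtain ⟨t, t1, t2⟩ := exists_ed_eq_dg_of_pow hrp hq h
  obtain ⟨ω, hω⟩ := exists_primitiveRoot hq
  have h0 := hω.ne_zero hr.1.ne_zero
  let E : ZMod r → F := fun a => ω ^ a.val
  have hE : ∀ a b, E (a + b) = E a * E b := fun a b => by
    simp only [E, ZMod.val_add, ← pow_add]
    conv_rhs => rw [← Nat.mod_add_div (a.val + b.val) r, pow_add, pow_mul, hω.pow_eq_one, one_pow,
      mul_one]
  have hE0 : E 0 = 1 := by simp [E]
  have hE1 : ∀ a, E a ≠ 0 := fun a => pow_ne_zero _ h0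
  have hE2 : ∀ s : Multiset (ZMod r), (s.map E).prod = E s.sum := fun s =>
    Multiset.induction_on s (by simp [hE0]) fun a s ih => by simp [hE, ih]
  obtain ⟨s, rfl⟩ : ∃ s : Multiset (ZMod r), s.map E = t := by
    have : ∀ a ∈ t, ∃ b, E b = a := fun a ha => by
      obtain ⟨i, hi, rfl⟩ := hω.eq_pow_of_pow_eq_one (t2 a ha)
      exact ⟨i, by simp [E, ZMod.val_cast_of_lt hi]⟩
    choose! g hg using this
    exact ⟨t.map g, by
      rw [Multiset.map_map]
      exact (Multiset.map_congr rfl hg).trans (Multiset.map_id _)⟩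
  rw [det_of_ed_eq_dg t1, hE2] at hd
  obtain ⟨v, hv⟩ := exists_symm_zmod h35 s ((Multiset.card_map E s).symm.trans ((card_of_ed_eq_dg t1).trans hn))
    ((ZMod.val_eq_zero _).1 (Nat.eq_zero_of_dvd_of_lt (hω.dvd_of_pow_eq_one _ hd) (ZMod.val_lt _)))
  refine ⟨(E v)⁻¹, _, inv_ne_zero (hE1 v), ed_smul_of_eq_dg t1 (inv_ne_zero (hE1 v)),
    fun a ha => ?_, ?_⟩
  · obtain ⟨b, hb, rfl⟩ := Multiset.mem_map.1 ha
    rw [mul_pow, t2 b hb, inv_pow, ← pow_mul, mul_comm _ r, pow_mul, hω.pow_eq_one]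
    simp
  · conv_rhs => rw [← hv]
    simp only [Multiset.map_map]
    refine Multiset.map_congr rfl fun a _ => ?_
    have h1 := hE (v - a) a
    rw [sub_add_cancel] at h1
    have := hE1 v
    have := hE1 a
    simp only [Function.comp, hE]
    field_simp
    rw [h1, mul_comm]

end Lin

section SL

variable {F : Type*} [Field F] {ι : Type} [Fintype ι] [DecidableEq ι] {H : Subgroup (GL ι F)}
  {f : End F (ι → F)}

/-- `f` is similar to an element of `H`. -/
def FixG (H : Subgroup (GL ι F)) (f : End F (ι → F)) : Prop := ∃ y ∈ H, Sim (glRep y) f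

theorem sim_glRep_conj (g x : GL ι F) : Sim (glRep (g⁻¹ * x * g)) (glRep x) :=
  isConj_end_iff_sim.1 (glRep.map_isConj (isConj_iff.2 ⟨g, by group⟩))

theorem exists_conj_of_sim {x y : GL ι F} (h : Sim (glRep y) (glRep x)) :
    ∃ u : GL ι F, u⁻¹ * x * u = y := by
  obtain ⟨u, hu⟩ := isConj_iff.1 (isConj_GL_iff_edM_eq.2 h.ed_eq : IsConj y x)
  exact ⟨u, by rw [← hu]; group⟩

theorem fixG_of_conj {x g : GL ι F} (h : g⁻¹ * x * g ∈ H) : FixG H (glRep x) :=
  ⟨_, h, sim_glRep_conj g x⟩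

theorem FixG.of_sim {g : End F (ι → F)} (h : FixG H f) (h' : Sim f g) : FixG H g :=
  h.imp fun _ h => ⟨h.1, h.2.trans h'⟩

theorem fixG_of_ed_eq {g : End F (ι → F)} (hg : IsUnit g) (h : ∀ y, glRep y = g → y ∈ H)
    (h' : ed g = ed f) : FixG H f := by
  obtain ⟨y, rfl⟩ := exists_glRep hg
  exact ⟨y, h y rfl, sim_iff_ed_eq.2 h'⟩

theorem FixG.smul (hH : Cfsg.Geo.scalars ι F ≤ H) (f : End F (ι → F)) (c : F) (hc : c ≠ 0)
    (h : FixG H f) : FixG H (c • f) := by
  obtain ⟨y, hy, h⟩ := h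
  obtain ⟨s, hs⟩ := exists_glRep (f := c • (1 : End F (ι → F)))
    (isUnit_one.smul (Units.mk0 c hc))
  refine ⟨s * y, H.mul_mem (hH ((Cfsg.Geo.mem_scalars_iff s).2
    ⟨Units.mk0 c hc, glRep_eq_smul.1 hs⟩)) hy, ?_⟩
  rw [map_mul, hs, smul_mul_assoc, one_mul]
  exact sim_smul h c

theorem conj_of_fixG {x : GL ι F} (h : FixG H (glRep x)) (hd : ∀ a : F, a ≠ 0 → ∃ c,
    Commute (glRep x) c ∧ ∃ k ∈ H, LinearMap.det c * LinearMap.det (glRep k) = a) :
    ∃ g ∈ Cfsg.Geo.specialLinear ι F, g⁻¹ * x * g ∈ H := by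
  obtain ⟨y, hy, h⟩ := h
  obtain ⟨u, rfl⟩ := exists_conj_of_sim h
  have hu := ((LinearMap.isUnit_iff_isUnit_det _).1 (isUnit_glRep u)).ne_zero
  obtain ⟨c, h1, k, h2, h3⟩ := hd _ (inv_ne_zero hu)
  obtain ⟨c, rfl⟩ := exists_glRep ((LinearMap.isUnit_iff_isUnit_det c).2 (Ne.isUnit
    (left_ne_zero_of_mul (h3 ▸ inv_ne_zero hu))))
  have h4 : x * c = c * x := glRep_injective (by rw [map_mul, map_mul, h1.eq])
  refine ⟨c * u * k, mem_specialLinear_iff.2 ?_, ?_⟩
  · rw [map_mul, map_mul, map_mul, map_mul, mul_right_comm, h3, inv_mul_cancel₀ hu]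
  · have : (c * u * k)⁻¹ * x * (c * u * k) = k⁻¹ * (u⁻¹ * x * u) * k := by
      rw [mul_assoc _ x, ← mul_assoc x, ← mul_assoc x, h4]
      group
    exact this ▸ H.mul_mem (H.mul_mem (H.inv_mem h2) hy) h2

theorem conj_of_ds {x : GL ι F} (h : FixG H (glRep x)) (hd : DS (glRep x)) :
    ∃ g ∈ Cfsg.Geo.specialLinear ι F, g⁻¹ * x * g ∈ H :=
  conj_of_fixG h fun a _ => (hd a).imp fun _ h => ⟨h.1, 1, H.one_mem, by simp [h.2]⟩

theorem sl_forall_imp {r : ℕ} (h : ∀ x ∈ Cfsg.Geo.specialLinear ι F,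
    (∃ z : F, ((x ^ r : GL ι F) : Matrix ι ι F) = z • (1 : Matrix ι ι F)) →
    (∀ z : F, (x : Matrix ι ι F) ≠ z • (1 : Matrix ι ι F)) →
    ∃ g ∈ Cfsg.Geo.specialLinear ι F, g⁻¹ * x * g ∈ H) :
    ∀ f, LinearMap.det f = 1 → (∃ z : F, f ^ r = z • 1) → (∀ z : F, f ≠ z • 1) → FixG H f :=
  (gl_forall_iff (R := fun f => LinearMap.det f = 1) (fun _ => mem_specialLinear_iff)
    (fun _ => isUnit_of_det_eq_one) fun _ _ => Iff.rfl).1 fun x h1 h2 h3 =>
      (h x h1 h2 h3).elim fun _ h => fixG_of_conj h.2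

theorem sl_forall_iff [Fintype F] [Nonempty ι] {r p : ℕ} [Fact r.Prime] [Fact p.Prime] [CharP F p]
    (hr : r ≠ p ∨ r = 2) : (∀ x ∈ Cfsg.Geo.specialLinear ι F,
    (∃ z : F, ((x ^ r : GL ι F) : Matrix ι ι F) = z • (1 : Matrix ι ι F)) →
    (∀ z : F, (x : Matrix ι ι F) ≠ z • (1 : Matrix ι ι F)) →
    ∃ g ∈ Cfsg.Geo.specialLinear ι F, g⁻¹ * x * g ∈ H) ↔
    ∀ f, LinearMap.det f = 1 → (∃ z : F, f ^ r = z • 1) → (∀ z : F, f ≠ z • 1) → FixG H f :=
  ⟨sl_forall_imp, fun h x h1 ⟨z, h2⟩ h3 => conj_of_ds (h _ (mem_specialLinear_iff.1 h1)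
    ⟨z, glRep_pow_eq_smul.2 h2⟩ fun z hz => h3 z (glRep_eq_smul.1 hz))
    (ds_of_pow hr (isUnit_glRep x) (glRep_pow_eq_smul.2 h2))⟩

theorem exists_toGL_eq {x : GL ι F} (h : x ∈ Cfsg.Geo.specialLinear ι F) :
    ∃ y : Matrix.SpecialLinearGroup ι F, Matrix.SpecialLinearGroup.toGL y = x :=
  ⟨⟨x, by rw [← det_glRep, mem_specialLinear_iff.1 h]⟩, Units.ext rfl⟩

theorem toGL_mem (y : Matrix.SpecialLinearGroup ι F) :
    Matrix.SpecialLinearGroup.toGL y ∈ Cfsg.Geo.specialLinear ι F :=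
  mem_specialLinear_iff.2 (by rw [det_glRep]; exact y.2)

theorem range_toGL : (Matrix.SpecialLinearGroup.toGL : Matrix.SpecialLinearGroup ι F →* _).range =
    Cfsg.Geo.specialLinear ι F :=
  le_antisymm (by rintro _ ⟨y, rfl⟩; exact toGL_mem y) fun _ => exists_toGL_eq

theorem index_comap_toGL : (H.comap (Matrix.SpecialLinearGroup.toGL :
    Matrix.SpecialLinearGroup ι F →* _)).index = H.relIndex (Cfsg.Geo.specialLinear ι F) := by
  rw [Subgroup.index_comap, range_toGL]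

theorem card_specialLinear : Nat.card (Cfsg.Geo.specialLinear ι F) =
    Nat.card (Matrix.SpecialLinearGroup ι F) := by
  rw [← range_toGL]
  exact (Nat.card_congr (MonoidHom.ofInjective
    Matrix.SpecialLinearGroup.toGL_injective).toEquiv).symm

theorem sl_type_iff {r : ℕ} : (∀ x : Matrix.SpecialLinearGroup ι F,
    (∃ z : F, ((x ^ r : Matrix.SpecialLinearGroup ι F) : Matrix ι ι F) = z • (1 : Matrix ι ι F)) →
    (∀ z : F, (x : Matrix ι ι F) ≠ z • (1 : Matrix ι ι F)) →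
    ∃ P : Matrix.SpecialLinearGroup ι F, P⁻¹ * x * P ∈ H.comap (Matrix.SpecialLinearGroup.toGL :
      Matrix.SpecialLinearGroup ι F →* _)) ↔ ∀ x ∈ Cfsg.Geo.specialLinear ι F,
    (∃ z : F, ((x ^ r : GL ι F) : Matrix ι ι F) = z • (1 : Matrix ι ι F)) →
    (∀ z : F, (x : Matrix ι ι F) ≠ z • (1 : Matrix ι ι F)) →
    ∃ g ∈ Cfsg.Geo.specialLinear ι F, g⁻¹ * x * g ∈ H := by
  constructor
  · intro h x h1 h2 h3
    obtain ⟨x, rfl⟩ := exists_toGL_eq h1
    obtain ⟨P, hP⟩ := h x (by simpa using h2) h3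
    exact ⟨_, toGL_mem P, by simpa only [Subgroup.mem_comap, map_mul, map_inv] using hP⟩
  · intro h x h2 h3
    obtain ⟨g, h4, h5⟩ := h _ (toGL_mem x) (by simpa using h2) h3
    obtain ⟨P, rfl⟩ := exists_toGL_eq h4
    exact ⟨P, by simpa only [Subgroup.mem_comap, map_mul, map_inv] using h5⟩

theorem card_gl_eq [Fintype F] : Nat.card (GL ι F) =
    Fintype.card F ^ (Fintype.card ι * (Fintype.card ι - 1) / 2) *
      qfac (Fintype.card F) (Fintype.card ι) := by
  rw [card_gl', Nat.card_eq_fintype_card, qfac]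

/-- A prime `r ≠ p` dividing an index in `SL_n(q)` has `ord_r(q) ≤ n`. -/
theorem orderOf_le_of_dvd [Fintype F] {r p : ℕ} [hr : Fact r.Prime] [Fact p.Prime] [CharP F p]
    (hrp : r ≠ p) (h : r ∣ H.relIndex (Cfsg.Geo.specialLinear ι F)) :
    orderOf ((Fintype.card F : ℕ) : ZMod r) ≤ Fintype.card ι := by
  have h1 := (h.trans (Subgroup.relIndex_dvd_card _ _)).trans (Subgroup.card_subgroup_dvd_card _)
  rw [card_gl_eq] at h1
  exact (dvd_qfac_iff Fintype.card_pos (natCast_ne_zero_of_card hrp) _).1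
    ((hr.1.dvd_mul.1 h1).resolve_left fun h => hrp (dvd_card_iff.1 (hr.1.dvd_of_dvd_pow h)))

end SL

end Cfsg.Agent.Cl.Der
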