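import Mathlib
import Cfsg.Agent.Cl.DerSL
import Cfsg.Agent.Cl.QuadExtStd

/-! Elements of prime order of `PSL_n(q)` and the similarity groups of forms. -/

set_option autoImplicit false
set_option linter.unusedSectionVars false

namespace Cfsg.Agent.Cl.Der

open Polynomial Module Cfsg.Agent.Cl.Cls

section Arith

theorem qfac_two_mul (q d : ℕ) : qfac q (2 * d) =
    (∏ i ∈ Finset.range d, (q ^ (2 * (i + 1)) - 1)) * ∏ i ∈ Finset.range d, (q ^ (2 * i + 1) - 1) := by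
  induction d with
  | zero => simp [qfac]
  | succ d ih =>
    rw [mul_add, mul_one, qfac_succ, qfac_succ, ih, Finset.prod_range_succ, Finset.prod_range_succ,
      mul_add 2 d]
    ring

theorem qfac_two_mul_add_one (q d : ℕ) : qfac q (2 * d + 1) =
    (∏ i ∈ Finset.range d, (q ^ (2 * (i + 1)) - 1)) *
      ∏ i ∈ Finset.range (d + 1), (q ^ (2 * i + 1) - 1) := by
  rw [qfac_succ, qfac_two_mul, Finset.prod_range_succ, mul_assoc]

theorem pow_two_mul_sub_one (q k : ℕ) : q ^ (2 * k) - 1 = (q ^ k - 1) * (q ^ k + 1) := by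
  rw [mul_comm 2, pow_mul, mul_comm, ← Nat.sq_sub_sq, one_pow]

theorem qfac_sq (q n : ℕ) : qfac (q ^ 2) n =
    (∏ i ∈ Finset.range n, if Even i then q ^ (i + 1) + 1 else q ^ (i + 1) - 1) *
      ∏ i ∈ Finset.range n, if Even i then q ^ (i + 1) - 1 else q ^ (i + 1) + 1 := by
  rw [qfac, ← Finset.prod_mul_distrib]
  refine Finset.prod_congr rfl fun i _ => ?_
  rw [← pow_mul, pow_two_mul_sub_one]
  split_ifs
  · exact mul_comm _ _
  · rfl

theorem prod_pow_sub_one_pos {q : ℕ} (hq : 1 < q) (d : ℕ) :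
    0 < ∏ i ∈ Finset.range d, (q ^ (2 * (i + 1)) - 1) :=
  Finset.prod_pos fun _ _ => Nat.sub_pos_of_lt (Nat.one_lt_pow (by omega) hq)

variable {r : ℕ} [hr : Fact r.Prime]

theorem dvd_of_index {a x b c q N : ℕ} (hq : ¬ r ∣ q) (hb : 0 < b) (h : r ∣ a)
    (h' : a * (x * b) ∣ q ^ N * (b * c)) : r ∣ c := by
  have h1 : r ∣ q ^ N * c := dvd_of_dvd_of_mul_dvd hb (h.mul_right x)
    (by rwa [mul_assoc, mul_left_comm b])
  exact (hr.1.dvd_mul.1 h1).resolve_left fun h => hq (hr.1.dvd_of_dvd_pow h)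

theorem odd_orderOf_of_dvd {q d : ℕ} (hq : 0 < q)
    (h : r ∣ ∏ i ∈ Finset.range d, (q ^ (2 * i + 1) - 1)) : Odd (orderOf (q : ZMod r)) := by
  obtain ⟨i, -, hi⟩ := (prime_dvd_prod_iff _ _).1 h
  exact Odd.of_dvd_nat (odd_two_mul_add_one i) ((dvd_pow_sub_one_iff hq _).1 hi)

theorem mod_four_ne_of_dvd (h2 : r ≠ 2) {q n : ℕ} (hq : 0 < q) (h0 : (q : ZMod r) ≠ 0)
    (h : r ∣ ∏ i ∈ Finset.range n, if Even i then q ^ (i + 1) - 1 else q ^ (i + 1) + 1) :
    orderOf (q : ZMod r) % 4 ≠ 2 := fun h4 => by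
  obtain ⟨i, -, hi⟩ := (prime_dvd_prod_iff _ _).1 h
  split_ifs at hi with h1
  · have := (dvd_pow_sub_one_iff hq _).1 hi
    have := (show 2 ∣ orderOf (q : ZMod r) by omega).trans this
    rw [Nat.even_iff] at h1
    omega
  · obtain ⟨k, hk⟩ : 2 ∣ i + 1 := by rw [Nat.even_iff] at h1; omega
    have h3 := (dvd_pow_add_one_iff _ _).1 hi
    have h5 := pow_half_eq_neg_one h0 (by rw [Nat.even_iff]; omega)
    have h6 : ((q : ZMod r) ^ (i + 1)) ^ (orderOf (q : ZMod r) / 2) = 1 := by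
      rw [← pow_mul, mul_comm, pow_mul, h5, hk, pow_mul]
      simp
    rw [h3, Odd.neg_one_pow (by rw [Nat.odd_iff]; omega)] at h6
    exact neg_one_ne_one_zmod h2 h6

theorem padicValNat_sq_sub_one (h2 : r ≠ 2) {q : ℕ} (hq : 1 < q) (h : r ∣ q - 1) :
    padicValNat r (q ^ 2 - 1) = padicValNat r (q - 1) := by
  have h1 : ¬ r ∣ q + 1 := fun h1 => h2 ((Nat.prime_dvd_prime_iff_eq hr.1 Nat.prime_two).1
    ((Nat.dvd_add_right h).1 (by rwa [show q - 1 + 2 = q + 1 by omega])))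
  rw [show q ^ 2 - 1 = (q + 1) * (q - 1) by simpa using Nat.sq_sub_sq q 1,
    padicValNat.mul (by omega) (by omega),
    padicValNat.eq_zero_of_not_dvd h1, zero_add]

end Arith

section General

variable {F V A : Type*} [Field F] [AddCommGroup V] [Module F V] [FiniteDimensional F V]
  [AddCommGroup A] {τ : F →+ A} {Q : V → A} {f g : End F V} {σ : F →+* F}
  {B : V →ₛₗ[σ] V →ₗ[F] F} {μ : F}

/-- Every element of order `r` of `PSL` has the property `P`. -/
def AllP (r : ℕ) (P : End F V → Prop) : Prop :=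
  ∀ f, LinearMap.det f = 1 → (∃ z : F, f ^ r = z • 1) → (∀ z : F, f ≠ z • 1) → P f

theorem AllP.of_one {r : ℕ} {P : End F V → Prop} (h : AllP r P) (h1 : LinearMap.det f = 1)
    (h2 : f ^ r = 1) (h3 : ∀ z : F, f ≠ z • 1) : P f := h f h1 ⟨1, h2.trans (one_smul F _).symm⟩ h3

/-- Similarities. -/
def SimB (B : V →ₛₗ[σ] V →ₗ[F] F) (μ : F) (g : End F V) : Prop :=
  ∀ u v, B (g u) (g v) = μ * B u v

/-- `f` is conjugate to a similarity. -/
def FixS (B : V →ₛₗ[σ] V →ₗ[F] F) (f : End F V) : Prop :=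
  ∃ g μ, μ ≠ 0 ∧ SimB B μ g ∧ ed g = ed f

theorem SimB.smul (h : SimB B μ g) (c : F) : SimB B (σ c * c * μ) (c • g) := fun u v => by
  simp only [LinearMap.smul_apply, map_smulₛₗ, smul_eq_mul, h u v, RingHom.id_apply]
  ring

theorem SimB.pow (h : SimB B μ g) (k : ℕ) : SimB B (μ ^ k) (g ^ k) := by
  induction k with
  | zero => exact fun u v => by simp
  | succ k ih => exact fun u v => by rw [pow_succ', End.mul_apply, End.mul_apply, h, ih]; ring

theorem FixS.smul (f : End F V) (c : F) (hc : c ≠ 0) (h : FixS B f) : FixS B (c • f) := by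
  obtain ⟨g, μ, h1, h2, h3⟩ := h
  exact ⟨_, _, mul_ne_zero (mul_ne_zero ((map_ne_zero σ).2 hc) hc) h1, h2.smul c,
    (sim_smul (sim_iff_ed_eq.2 h3) c).ed_eq⟩

theorem Iso.simB (h : Iso B Q g) : SimB B 1 g := fun u v => by rw [h.mapB, one_mul]

theorem Iso.fixS (h : Iso B Q g) (h' : ed g = ed f) : FixS B f := ⟨g, 1, one_ne_zero, h.simB, h'⟩

theorem simB_of_basis {B : V →ₛₗ[RingHom.id F] V →ₗ[F] F} {ι : Type*} (b : Basis ι F V)
    (h : ∀ i j, B (g (b i)) (g (b j)) = μ * B (b i) (b j)) : SimB B μ g := fun u v =>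
  LinearMap.congr_fun₂ (LinearMap.ext_basis b b (B := B.compl₁₂ g g) (B' := μ • B) h) u v

namespace Geom

theorem isUnit_of_sim (hG : Geom B Q τ) (hμ : μ ≠ 0) (h : SimB B μ g) : IsUnit g :=
  (LinearMap.isUnit_iff_ker_eq_bot g).2 (LinearMap.ker_eq_bot'.2 fun u hu =>
    hG.nondeg u fun v => (mul_eq_zero.1 (by rw [← h, hu]; simp)).resolve_left hμ)

theorem mult_of_sim (hG : Geom B Q τ) (hμ : μ ≠ 0) (h : SimB B μ g) {c d : F}
    (hd : d * σ c = μ) : mult g d = mult g c := by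
  have h1 : perp B (LinearMap.range (g - c • 1)) = LinearMap.ker (g - d • 1) := by
    ext y
    have h2 : ∀ x, B (g x) (g y - d • y) = -d * B ((g - c • 1) x) y := fun x => by
      simp only [map_sub, map_smulₛₗ, h x y, LinearMap.sub_apply, LinearMap.smul_apply,
        End.one_apply, smul_eq_mul, RingHom.id_apply, ← hd]
      ring
    rw [mem_ker_sub, ← sub_eq_zero]
    refine ⟨fun hy => hG.nondeg' _ fun x => ?_, ?_⟩
    · obtain ⟨x, rfl⟩ := (End.isUnit_iff g).1 (hG.isUnit_of_sim hμ h) |>.2 x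
      rw [h2, hy _ ⟨x, rfl⟩, mul_zero]
    · rintro hy _ ⟨x, rfl⟩
      have h3 := h2 x
      rw [hy, map_zero, eq_comm, mul_eq_zero, neg_eq_zero] at h3
      exact h3.resolve_left (left_ne_zero_of_mul (hd ▸ hμ))
  have h2 := hG.finrank_add_perp (LinearMap.range (g - c • 1))
  have h3 := mult_add_rank g c
  rw [h1] at h2
  exact (show mult g d + _ = _ from (add_comm _ _).trans h2).trans h3.symm |> Nat.add_right_cancel

theorem eq_of_sim [Nontrivial V] (hG : Geom B Q τ) {ν : F} (h : SimB B μ g) (h' : SimB B ν g) :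
    μ = ν := by
  obtain ⟨u, hu⟩ := exists_ne (0 : V)
  obtain ⟨v, hv⟩ := not_forall.1 (mt (hG.nondeg u) hu)
  exact mul_right_cancel₀ hv ((h u v).symm.trans (h' u v))

theorem pow_of_sim [Nontrivial V] (hG : Geom B Q τ) (h : SimB B μ g) {k : ℕ} {z : F}
    (hz : g ^ k = z • 1) : μ ^ k = σ z * z :=
  (hG.eq_of_sim (hz ▸ h.pow k) ((iso_one (Q := Q)).simB.smul z)).trans (mul_one _)

theorem map_uDual_of_sim (hG : Geom B Q τ) (h : SimB B 1 g) : (ed g).map (uDual σ) = ed g :=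
  (ed_eq_map_uDual hG.bij B hG.nondeg' rfl fun x y => (h x y).trans (one_mul _)).symm

variable {r : ℕ} [hr : Fact r.Prime] [Fintype F] {p : ℕ} [hp : Fact p.Prime] [CharP F p]

theorem exists_one_of_fixS [Nontrivial V] (hG : Geom B Q τ) (hq : ¬ r ∣ Fintype.card F - 1)
    (hf : f ^ r = 1) (h : FixS B f) : ∃ g, SimB B 1 g ∧ ed g = ed f ∧ g ^ r = 1 := by
  obtain ⟨g, μ, -, h2, h3⟩ := h
  have h4 := sim_pow_eq_one (sim_iff_ed_eq.2 h3.symm) hf
  obtain rfl : μ = 1 := eq_one_of_not_dvd hq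
    (by simpa using hG.pow_of_sim h2 (h4.trans (one_smul F _).symm))
  exact ⟨g, h2, h3, h4⟩

theorem not_allP_of_block (hG : Geom B Q τ) (hrp : r ≠ p)
    (hi : orderOf ((Fintype.card F : ℕ) : ZMod r) ≠ 1)
    (hle : orderOf ((Fintype.card F : ℕ) : ZMod r) ≤ finrank F V)
    (hD : ∀ e ∈ cycF F r, uDual σ e ≠ e) : ¬ AllP r (FixS B) := fun H => by
  have h0 := orderOf_pos_of_ne_zero (natCast_ne_zero_of_card (F := F) hrp)
  have : Nontrivial V := Module.nontrivial_of_finrank_pos (R := F) (by omega)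
  have hq := mt (dvd_sub_one_iff Fintype.card_pos).1 hi
  obtain ⟨e, he⟩ := cycF_nonempty (F := F) (r := r)
  obtain ⟨f, h1, h2, -⟩ := exists_block hrp hle he
  obtain ⟨g, h3, h4, -⟩ := hG.exists_one_of_fixS hq h1 (H.of_one (det_eq_one_of_not_dvd hq h1) h1
    (not_scalar_of_mem_degs (Multiset.mem_map_of_mem _ (h2 ▸ Multiset.mem_add.2
      (Or.inl (Multiset.mem_singleton_self e)))) (natDegree_of_mem_cycF hrp he ▸ hi)))
  have h5 := hG.map_uDual_of_sim h3
  rw [h4, h2, Multiset.map_add, Multiset.map_replicate, uDual_X_sub_one, add_left_inj] at h5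
  exact hD e he (by simpa using h5)

theorem exists_of_allP (hG : Geom B Q τ) (h2 : r ≠ 2) (hq : r ∣ Fintype.card F - 1)
    (hσ : ∀ a : F, a ^ r = 1 → σ a = a) (hn : 3 ≤ finrank F V) (h6 : ¬ (finrank F V = 6 ∧ r = 3))
    (H : AllP r (FixS B)) :
    (r = 3 ∨ r = 5) ∧ finrank F V = r ∧ padicValNat r (Fintype.card F - 1) = 1 := by
  have : Nontrivial V := Module.nontrivial_of_finrank_pos (R := F) (by omega)
  by_contra h35
  obtain ⟨f, ω, h1, h3, h4, hω, h5, h7⟩ := exists_rigid h2 hq hn h6 h35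
  obtain ⟨g, μ, g1, g2, g3⟩ := ((lin_forall_iff hr.1.ne_zero FixS.smul).1 H).1 f h1 h3 h4
  have g4 := sim_mult (sim_iff_ed_eq.2 g3)
  obtain rfl : μ = 1 := h5 μ (by rw [← g4, ← g4, hG.mult_of_sim g1 g2 (c := 1) (by simp)])
  have h0 := hω.ne_zero hr.1.ne_zero
  have h8 := h7 ω⁻¹ (by
    rw [← g4, ← g4, hG.mult_of_sim g1 g2 (by rw [hσ _ hω.pow_eq_one, inv_mul_cancel₀ h0])])
  exact absurd (Nat.le_of_dvd two_pos (hω.dvd_of_pow_eq_one 2
    (by rw [sq, ← inv_mul_cancel₀ h0, h8]))) (not_le.2 (two_lt_of_ne h2))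

end Geom

variable {r : ℕ} [hr : Fact r.Prime] [Fintype F] {p : ℕ} [hp : Fact p.Prime] [CharP F p]

theorem ne_char_of_dvd (hq : r ∣ Fintype.card F - 1) : r ≠ p := fun h =>
  (hr.1.coprime_iff_not_dvd.1 (h ▸ char_coprime_card_sub_one F)) hq

theorem not_char_dvd : ¬ p ∣ Fintype.card F - 1 := fun h => ne_char_of_dvd h rfl

theorem allP_of_symm {P : End F V → Prop} (hP : ∀ f (c : F), c ≠ 0 → P f → P (c • f))
    (h35 : r = 3 ∨ r = 5) (hn : finrank F V = r) (hv : padicValNat r (Fintype.card F - 1) = 1)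
    (H : ∀ f t, ed f = dg t → (∀ a ∈ t, a ^ r = 1) → t.map (·⁻¹) = t → P f) : AllP r P := by
  have : Nontrivial V := Module.nontrivial_of_finrank_pos (R := F) (by omega)
  have hq : r ∣ Fintype.card F - 1 := dvd_of_lt_padicValNat (a := 0) (by omega)
  have h1 : padicValNat r (finrank F V) = 1 := by rw [hn, padicValNat_self]
  obtain ⟨p, hp⟩ := CharP.exists F
  have : Fact p.Prime := ⟨CharP.char_is_prime F p⟩
  refine (lin_forall_iff hr.1.ne_zero hP).2 ⟨fun f h2 _ ⟨c, h3⟩ => ?_, fun f z h2 h3 h4 => ?_⟩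
  · obtain ⟨d, t, h4, h5, h6, h7⟩ := exists_symm (ne_char_of_dvd hq) h35 hq hn h2
      (det_eq_one_of_le (by omega) h2 h3)
    exact inv_smul_smul' h4 f ▸ hP _ _ (inv_ne_zero h4) (H _ t h5 h6 h7)
  · exact absurd ⟨by omega, by omega⟩ (exists_nonpow_end_iff.1 ⟨f, z, h2, h3, h4⟩).2

variable (F) in
theorem exists_unip_end {ν : Multiset ℕ} (h : ∀ a ∈ ν, 0 < a ∧ a ≤ p) (hd : ν.sum = finrank F V)
    {a : ℕ} (ha : a ∈ ν) (h1 : a ≠ 1) : ∃ f : End F V, LinearMap.det f = 1 ∧ f ^ p = 1 ∧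
      (∀ z : F, f ≠ z • 1) ∧ ed f = ν.map fun a => (X - C (1 : F)) ^ a := by
  obtain ⟨f, hf⟩ := exists_ed_eq (V := V) (s := ν.map fun a => (X - C (1 : F)) ^ a) (fun e he => by
    obtain ⟨a, ha, rfl⟩ := Multiset.mem_map.1 he
    exact isPP_pow (monic_X_sub_C 1) (irreducible_X_sub_C 1) (h a ha).1)
    (by rw [degs_map_pow, hd])
  have h2 := pow_char_eq_one_of_ed hf fun a ha => (h a ha).2
  exact ⟨f, det_of_pow_char h2, h2, not_scalar_of_mem_degs (degs_of_ed_eq_map hf ▸ ha) h1, hf⟩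

theorem exists_ed_of_sq (h2 : 2 ≠ p) (hf : f ^ 2 = 1) : ∃ k l, k + l = finrank F V ∧
    ed f = dg (Multiset.replicate k 1 + Multiset.replicate l (-1)) ∧
      LinearMap.det f = (-1) ^ l := by
  obtain ⟨t, h3, h4⟩ := exists_ed_eq_dg_of_pow (r := 2) h2 ((dvd_sub_one_iff Fintype.card_pos).2
    (orderOf_card_two h2)) hf
  obtain ⟨k, l, rfl⟩ := eq_replicate_add_of_mem fun a ha => sq_eq_one_iff.1 (h4 a ha)
  exact ⟨k, l, by simpa using card_of_ed_eq_dg h3, h3, by simp [det_of_ed_eq_dg h3]⟩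

theorem map_inv_signs (k l : ℕ) : (dg (Multiset.replicate k (1 : F) +
    Multiset.replicate l (-1))).map (uDual σ) =
      dg (Multiset.replicate k 1 + Multiset.replicate l (-1)) := by
  rw [map_uDual_dg fun a ha => by
    rcases Multiset.mem_add.1 ha with ha | ha <;> simp [Multiset.eq_of_mem_replicate ha]]
  simp

theorem coeff_zero_of_mem_dg {t : Multiset F} (h : ∀ a ∈ t, a ≠ 0) {e : F[X]} (he : e ∈ dg t) :
    e.coeff 0 ≠ 0 := by
  obtain ⟨a, ha, rfl⟩ := Multiset.mem_map.1 he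
  simpa using h a ha

/-- A transvection-like unipotent element is not a similarity. -/
theorem Geom.not_allP_char {B : V →ₛₗ[RingHom.id F] V →ₗ[F] F} (hG : Geom B Q τ)
    (h2 : (2 : F) ≠ 0) {ε : ℕ} (hε : ∀ x y, B y x = (-1) ^ ε * B x y) (h1 : ε ≤ 1)
    (hI : ∀ g, SimB B 1 g → Iso B Q g) (hn : 3 ≤ finrank F V) : ¬ AllP p (FixS B) := fun H => by
  have : Nontrivial V := Module.nontrivial_of_finrank_pos (R := F) (by omega)
  have h3 := two_lt_char (p := p) h2
  obtain ⟨f, f1, f2, f3, f4⟩ := exists_unip_end F (V := V) (p := p) (a := 2 + ε)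
    (ν := (2 + ε) ::ₘ Multiset.replicate (finrank F V - (2 + ε)) 1) (fun a ha => by
      rcases Multiset.mem_cons.1 ha with ha | ha
      · omega
      · have := Multiset.eq_of_mem_replicate ha
        omega) (by simp; omega) (by simp) (by omega)
  obtain ⟨g, g1, g2, g3⟩ := hG.exists_one_of_fixS not_char_dvd f2 (H.of_one f1 f2 f3)
  have h4 := (hG.unip_eps h2 hε (hI g g1) (sub_one_pow_char' g3) (W := ⊤)
    (fun _ _ => Submodule.mem_top) hG.nd_top).1 (2 + ε) ⟨1 + ε, by omega⟩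
  rw [degs_restrict_top, degs_of_ed_eq_map (g2.trans f4), Multiset.count_cons_self,
    Multiset.count_replicate, if_neg (by omega)] at h4
  simp at h4

end General

section Sp

variable {F V : Type*} [Field F] [AddCommGroup V] [Module F V] [FiniteDimensional F V]
  {f g : End F V} {B : V →ₛₗ[RingHom.id F] V →ₗ[F] F}

theorem SimB.isoA (h : SimB B 1 g) : IsoA B g := ⟨fun u v => (h u v).trans (one_mul _), fun _ => rfl⟩

theorem GeomA.exists_sq (hG : GeomA B) (z : F) : ∃ g, SimB B (-z) g ∧ g ^ 2 = z • 1 := by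
  obtain ⟨m, hm⟩ := (hG.even hG.nd_top).two_dvd
  obtain ⟨b, h1, h2, h3⟩ := sp_exists_basis hG.nondegenerate hG.isAlt (finrank_top F V ▸ hm)
  have h4 : ∀ i j, B (b (Sum.inl i)) (b (Sum.inr j)) = -if i = j then 1 else 0 := fun i j => by
    rw [hG.eps, h1]
    by_cases h : i = j <;> simp [h, eq_comm]
  refine ⟨b.constr F (Sum.elim (fun j => b (Sum.inr j)) fun j => z • b (Sum.inl j)),
    simB_of_basis b ?_, b.ext ?_⟩
  · rintro (i | i) (j | j) <;> by_cases h : i = j <;> simp [h1, h2, h3, h4, h]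
  · rintro (i | i) <;> simp [sq]

variable {r : ℕ} [hr : Fact r.Prime] [Fintype F] {p : ℕ} [hp : Fact p.Prime] [CharP F p]

theorem GeomA.fixS_of_char (hG : GeomA B) (h2 : p = 2) (hf : f ^ p = 1) : FixS B f := by
  obtain ⟨μ, h1, h3⟩ := exists_ed_eq_unip hf
  obtain ⟨k, l, rfl⟩ := eq_replicate_add_of_mem (s := μ) (a := 1) (b := 2) fun a ha => by
    have := h1 a ha
    omega
  have h4 := sum_degs f
  obtain ⟨m, hm⟩ := hG.even hG.nd_top
  rw [degs_of_ed_eq_map h3, ← finrank_top, hm] at h4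
  obtain ⟨g, g1, g2⟩ := (hG.realOn_unip hG.nd_top (fun a ha => (h1 a ha).1) (fun a ha => by
    rw [Multiset.count_add, Multiset.count_replicate, Multiset.count_replicate,
      if_neg (c := 2 = a) (by rintro rfl; exact absurd ha (by decide))]
    simp only [Multiset.sum_add, Multiset.sum_replicate, smul_eq_mul] at h4
    split_ifs
    · exact ⟨m - l, by omega⟩
    · simp) (h4.trans hm.symm)).top
  exact g1.fixS (g2.trans h3.symm)

include hp in
theorem GeomA.allP_two_iff (hG : GeomA B) (hn : 4 ≤ finrank F V) :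
    AllP 2 (FixS B) ↔ padicValNat 2 (Fintype.card F - 1) ≤ padicValNat 2 (finrank F V) := by
  classical
  have : Nontrivial V := Module.nontrivial_of_finrank_pos (R := F) (by omega)
  obtain ⟨m, hm⟩ := hG.even hG.nd_top
  rw [finrank_top] at hm
  rw [AllP, lin_forall_iff two_ne_zero FixS.smul, and_iff_left fun f z h1 h2 h3 => by
    obtain ⟨g, g1, g2⟩ := hG.exists_sq z
    exact ⟨g, _, neg_ne_zero.2 (ne_zero_of_pow_eq_smul (isUnit_of_det_eq_one h1) h2), g1,
      ed_eq_of_nonpow h3 g2 h2 rfl⟩]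
  by_cases h2 : 2 = p
  · subst h2
    exact iff_of_true (fun f h1 _ _ => hG.fixS_of_char rfl h1)
      (padicValNat.eq_zero_of_not_dvd (not_char_dvd (F := F)) ▸ Nat.zero_le _)
  have h3 := two_ne_zero_of_ne (F := F) (Ne.symm h2)
  have h4 : (-1 : F) ≠ 1 := fun h => h3 (by linear_combination -h)
  refine ⟨fun H => not_lt.1 fun h => ?_, fun h f h1 _ ⟨c, hc⟩ => ?_⟩
  · obtain ⟨f, hf⟩ := exists_ed_eq_dg (V := V) (t := (-1 : F) ::ₘ
      Multiset.replicate (finrank F V - 1) 1) (by simp; omega)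
    have h1 : f ^ 2 = 1 := (pow_of_ed_eq_dg hf fun a ha => by
      rcases Multiset.mem_cons.1 ha with rfl | ha
      · simp
      · rw [Multiset.eq_of_mem_replicate ha, one_pow]).trans (one_smul F _)
    have h5 := mult_of_ed_eq_dg hf
    obtain ⟨g, μ, g1, g2, g3⟩ := H f h1 (ne_smul_of_movE (by rw [← mult_one, h5]; simp [h4.symm]; omega)
      (ne_one_of_finrank_fixS (by rw [← mult_one, h5]; simp [h4.symm]; omega)))
      (by simpa [det_of_ed_eq_dg hf] using exists_pow_mul_eq_one (V := V) h (a := -1) (by simp))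
    have g4 := sim_mult (sim_iff_ed_eq.2 g3)
    obtain rfl : μ = 1 := by
      have h6 := hG.mult_of_sim g1 g2 (c := 1) (d := μ) (by simp)
      simp only [g4, h5, Multiset.count_cons, Multiset.count_replicate, h4.symm] at h6
      by_contra h7
      rw [if_neg (Ne.symm h7)] at h6
      split_ifs at h6 <;> omega
    have h6 := hG.even (hG.nd_fixS g2.isoA (isSemisimple_of_sq_eq_one h3
      (sim_pow_eq_one (sim_iff_ed_eq.2 g3.symm) h1)))
    rw [← mult_one, g4, h5, Nat.even_iff] at h6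
    simp [h4.symm] at h6
    omega
  · obtain ⟨k, l, h5, h6, h7⟩ := exists_ed_of_sq h2 h1
    obtain ⟨l, rfl⟩ := (neg_one_pow_eq_one_iff_even h4).1
      (h7 ▸ det_eq_one_of_le (r := 2) h h1 hc)
    obtain ⟨k, rfl⟩ : Even k := ⟨m - l, by omega⟩
    obtain ⟨g, g1, g2⟩ := (hG.realOn_hyp hG.nd_top (hG.plus hG.nd_top)
      (s := dg (Multiset.replicate k 1 + Multiset.replicate l (-1))) (fun _ => isPP_of_mem_dg)
      (fun _ => coeff_zero_of_mem_dg fun a ha => by
        rcases Multiset.mem_add.1 ha with ha | ha <;> simp [Multiset.eq_of_mem_replicate ha])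
      (by rw [sum_natDegree_dg]; simp; omega)).top
    refine g1.fixS ?_
    rw [g2, h6, map_inv_signs, ← dg_add, Multiset.replicate_add, Multiset.replicate_add,
      add_add_add_comm]

theorem GeomA.not_allP (hG : GeomA B) (h2 : r ≠ 2) (hn : 3 ≤ finrank F V)
    (h6 : ¬ (finrank F V = 6 ∧ r = 3)) {a : ℕ} (ha : r ∣ a) {N : ℕ}
    (h : a * Nat.card (isoFix B (fun _ => (0 : F)) ⊥) ∣
      Fintype.card F ^ N * qfac (Fintype.card F) (finrank F V)) : ¬ AllP r (FixS B) := fun H => by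
  obtain ⟨p, hp⟩ := CharP.exists F
  have : Fact p.Prime := ⟨CharP.char_is_prime F p⟩
  by_cases hrp : r = p
  · subst hrp
    exact hG.not_allP_char (two_ne_zero_of_ne h2) hG.eps le_rfl (fun _ => SimB.isoA) hn H
  obtain ⟨m, hm⟩ := (hG.even hG.nd_top).two_dvd
  rw [finrank_top] at hm
  by_cases hi : orderOf ((Fintype.card F : ℕ) : ZMod r) = 1
  · have := hG.exists_of_allP h2 ((dvd_sub_one_iff Fintype.card_pos).2 hi) (fun _ _ => rfl) hn h6 H
    omega
  rw [hG.card_isoFix hm, hm, qfac_two_mul, Nat.card_eq_fintype_card] at h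
  have h3 := dvd_of_index (mt dvd_card_iff.1 hrp) (prod_pow_sub_one_pos Fintype.one_lt_card m) ha h
  refine hG.not_allP_of_block hrp hi ?_ (fun e he h4 => Nat.not_even_iff_odd.2
    (odd_orderOf_of_dvd Fintype.card_pos h3) ((uDual_id_eq_self_iff hrp h2 he).1 h4)) H
  rw [hm, ← dvd_qfac_iff Fintype.card_pos (natCast_ne_zero_of_card hrp), qfac_two_mul]
  exact h3.mul_left _

end Sp

section U

variable {F V : Type*} [Field F] [AddCommGroup V] [Module F V] [FiniteDimensional F V]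
  {f g : End F V} {σ : F →+* F} {B : V →ₛₗ[σ] V →ₗ[F] F} {q : ℕ}
  {r : ℕ} [hr : Fact r.Prime] [Fintype F] {p : ℕ} [hp : Fact p.Prime] [CharP F p]

theorem GeomU.fixS_of (hG : GeomU B q) (h : IsUnit f) (h' : (ed f).map (uDual σ) = ed f) :
    FixS B f := by
  obtain ⟨g, g1, g2⟩ := hG.exists_ed (fun _ => isPP_of_mem_ed) ((isUnit_iff_ed f).1 h)
    (sum_natDegree_ed f) h'
  exact g1.fixS g2

theorem GeomU.allP_two_iff (hG : GeomU B q) [Nontrivial V] : AllP 2 (FixS B) ↔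
    p = 2 ∨ padicValNat 2 (finrank F V) ≤ padicValNat 2 (Fintype.card F - 1) := by
  rw [AllP, lin_forall_iff two_ne_zero FixS.smul, and_iff_right fun f h1 _ _ => by
    refine hG.fixS_of (isUnit_of_pow_eq_one two_ne_zero h1) ?_
    by_cases h2 : 2 = p
    · subst h2
      obtain ⟨μ, -, h3⟩ := exists_ed_eq_unip h1
      rw [h3, map_uDual_map_pow]
    · obtain ⟨k, l, -, h6, -⟩ := exists_ed_of_sq h2 h1
      rw [h6, map_inv_signs]]
  have h1 := hG.uf.two_le
  have key : (∀ (f : End F V) (z : F), LinearMap.det f = 1 → f ^ 2 = z • 1 → (∀ c, c ^ 2 ≠ z) →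
      FixS B f) ↔ ¬ ∃ (f : End F V) (z : F), LinearMap.det f = 1 ∧ f ^ 2 = z • 1 ∧
        ∀ c, c ^ 2 ≠ z := by
    refine ⟨fun H ⟨f, z, h2, h3, h4⟩ => ?_, fun H f z h2 h3 h4 => absurd ⟨f, z, h2, h3, h4⟩ H⟩
    obtain ⟨g, μ, g1, g2, g3⟩ := H f z h2 h3 h4
    have h5 := hG.geom.pow_of_sim g2 (sim_pow_eq (sim_iff_ed_eq.2 g3.symm) h3)
    have h6 : σ μ = μ := hG.geom.eq_of_sim (fun u v => by
      have h6 := hG.herm.symm
      simp only [LinearMap.flip_apply] at h6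
      rw [← h6, g2, map_mul, h6]) g2
    obtain ⟨b, rfl⟩ := hG.uf.exists_norm_eq h6
    have h7 : b ≠ 0 := left_ne_zero_of_mul g1
    obtain ⟨u, h8, h9⟩ := hG.uf.invol.hilbert90 (u := z / b ^ 2) (by
      have : σ b ≠ 0 := right_ne_zero_of_mul g1
      rw [map_div₀, map_pow]
      field_simp
      linear_combination -h5)
    obtain ⟨y, hy⟩ : IsSquare (u * σ u) := by
      by_cases h2 : 2 = p
      · subst h2
        exact (exists_pow_char_eq (p := 2) (u * σ u)).imp fun y hy => by rw [← hy, sq]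
      · obtain ⟨k, hk⟩ : 2 ∣ q + 1 := by have := hG.odd_of_ne h2; omega
        exact ⟨u ^ k, by rw [hG.uf.norm_eq_pow, hk, two_mul, pow_add]⟩
    have h10 : σ u ≠ 0 := (map_ne_zero σ).2 h8
    refine h4 (b * y / σ u) ?_
    rw [div_eq_iff (pow_ne_zero 2 h7)] at h9
    rw [h9, div_pow, mul_pow, sq y, ← hy]
    field_simp
  rw [key, exists_nonpow_end_iff]
  by_cases h2 : 2 = p
  · subst h2
    exact iff_of_true (fun h => Der.not_char_dvd h.1) (Or.inl rfl)
  · obtain ⟨k, hk⟩ : ∃ k, Fintype.card F = 4 * k + 1 := by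
      obtain ⟨k, rfl⟩ := Nat.odd_iff.2 (hG.odd_of_ne h2)
      exact ⟨k * k + k, by rw [hG.card_eq]; ring⟩
    have h3 : 2 ∣ Fintype.card F - 1 := by omega
    have h4 : Fintype.card F % 4 = 1 := by omega
    simp [h3, h4, Ne.symm h2]

theorem GeomU.allP_iff (hG : GeomU B q) (hrp : r ≠ p) (h2 : r ≠ 2) (hn : 3 ≤ finrank F V)
    (h6 : ¬ (finrank F V = 6 ∧ r = 3)) {a : ℕ} (ha : r ∣ a) {N : ℕ}
    (h : a * Nat.card (isoFix B (fun x => B x x) ⊥) ∣
      Fintype.card F ^ N * qfac (Fintype.card F) (finrank F V)) : AllP r (FixS B) ↔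
      (r = 3 ∨ r = 5) ∧ finrank F V = r ∧ padicValNat r (q - 1) = 1 := by
  have h1 := hG.uf.two_le
  have hσ : r ∣ q - 1 → ∀ a : F, a ^ r = 1 → σ a = a := fun ⟨k, hk⟩ a ha => by
    rw [hG.uf.pow, show q = r * k + 1 by omega, pow_succ, pow_mul, ha, one_pow, one_mul]
  refine ⟨fun H => ?_, fun ⟨h3, h4, h5⟩ => ?_⟩
  · rw [hG.card_isoFix, hG.card_eq, qfac_sq, ← pow_mul, uOrd] at h
    have h3 := dvd_of_index (mt hG.dvd_iff.1 hrp) (Finset.prod_pos fun i _ => by
      have := Nat.one_lt_pow (n := i + 1) (by omega) h1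
      split_ifs <;> omega) ha h
    have h4 := mod_four_ne_of_dvd h2 (by omega) (hG.cast_ne_zero hrp) h3
    by_cases hi : orderOf ((Fintype.card F : ℕ) : ZMod r) = 1
    · have h5 : r ∣ q - 1 := by
        rw [dvd_sub_one_iff (by omega)]
        rw [hG.orderOf_card] at hi
        split_ifs at hi with h5
        · rw [Nat.even_iff] at h5
          omega
        · exact hi
      rw [← padicValNat_sq_sub_one h2 h1 h5, ← hG.card_eq]
      exact hG.geom.exists_of_allP h2 ((dvd_sub_one_iff Fintype.card_pos).2 hi) (hσ h5) hn h6 H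
    refine absurd H (hG.geom.not_allP_of_block hrp hi ?_ fun e he h5 =>
      h4 (((hG.dt hrp h2).dual e he).1 h5))
    rw [← dvd_qfac_iff Fintype.card_pos (natCast_ne_zero_of_card hrp), hG.card_eq, qfac_sq]
    exact h3.mul_left _
  · have h7 : r ∣ q - 1 := dvd_of_lt_padicValNat (a := 0) (by omega)
    refine allP_of_symm FixS.smul h3 h4 (by rw [hG.card_eq, padicValNat_sq_sub_one h2 h1 h7, h5])
      fun f t t1 t2 t3 => ?_
    have h8 : ∀ a ∈ t, a ≠ 0 := fun a ha => ne_zero_pow hr.1.ne_zero (t2 a ha ▸ one_ne_zero)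
    refine hG.fixS_of ((isUnit_iff_ed f).2 fun e he => coeff_zero_of_mem_dg h8 (t1 ▸ he)) ?_
    rw [t1, map_uDual_dg h8, Multiset.map_congr rfl fun a ha => by rw [hσ h7 a (t2 a ha)], t3]

end U

section Glue

variable {F A : Type*} [Field F] {ι : Type} [Fintype ι] [DecidableEq ι] {H : Subgroup (GL ι F)}
  [AddCommGroup A] {τ : F →+ A} {Q : (ι → F) → A} {σ : F →+* F}
  {B : (ι → F) →ₛₗ[σ] (ι → F) →ₗ[F] F} {φ : (ι → F) → (ι → F) → F}

instance normal_specialLinear : (Cfsg.Geo.specialLinear ι F).Normal := MonoidHom.normal_ker _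

theorem relIndex_mul_isoFix_dvd [Fintype F] (hH : ∀ x : GL ι F, Iso B Q (glRep x) → x ∈ H) :
    H.relIndex (Cfsg.Geo.specialLinear ι F) * Nat.card (isoFix B Q ⊥) ∣
      Fintype.card F ^ (Fintype.card ι * (Fintype.card ι - 1) / 2) *
        qfac (Fintype.card F) (finrank F (ι → F)) := by
  let e : GL ι F ≃* ((ι → F) ≃ₗ[F] (ι → F)) := Matrix.GeneralLinearGroup.toLin.trans
    (LinearMap.GeneralLinearGroup.generalLinearEquiv F (ι → F))
  rw [finrank_fintype_fun_eq_card, ← card_gl_eq,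
    Nat.card_congr (e.symm.subgroupMap (isoFix B Q ⊥)).toEquiv]
  refine relIndex_mul_card_dvd_top ?_
  rintro _ ⟨g, hg, rfl⟩
  obtain ⟨x, rfl⟩ := e.surjective g
  rw [MonoidHom.coe_coe, e.symm_apply_apply]
  exact hH x (mem_isoFix_bot.1 hg)

theorem Geom.fixG_eq (hG : Geom B Q τ) (hH : ∀ x, x ∈ H ↔ ∃ c : Fˣ, SimB B c (glRep x)) :
    FixG H = FixS B := by
  ext f
  refine ⟨fun ⟨y, h1, h2⟩ => ?_, fun ⟨g, μ, h1, h2, h3⟩ => fixG_of_ed_eq (hG.isUnit_of_sim h1 h2)
    (fun y hy => (hH y).2 ⟨Units.mk0 μ h1, hy ▸ h2⟩) h3⟩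
  obtain ⟨c, hc⟩ := (hH y).1 h1
  exact ⟨_, c, c.ne_zero, hc, h2.ed_eq⟩

theorem exists_geomA (h : Cfsg.Geo.IsSymplecticForm φ) :
    ∃ B : (ι → F) →ₛₗ[RingHom.id F] (ι → F) →ₗ[F] F, GeomA B ∧
      ∀ x, x ∈ Cfsg.Geo.similarityGroup φ ↔ ∃ c : Fˣ, SimB B c (glRep x) :=
  ⟨LinearMap.mk₂ F φ h.bilinear.add_left h.bilinear.smul_left h.bilinear.add_right
    h.bilinear.smul_right, geom_alt ⟨fun v hv => by_contra fun h0 =>
      (h.nondegenerate v h0).2.elim fun x hx => hx (hv x), fun v hv => by_contra fun h0 =>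
      (h.nondegenerate v h0).1.elim fun x hx => hx (hv x)⟩ h.alternating, fun _ => Iff.rfl⟩

theorem exists_geomU {q : ℕ} (hσ : UField σ q) (h : Cfsg.Geo.IsUnitaryFormPow q φ) :
    ∃ B : (ι → F) →ₛₗ[σ] (ι → F) →ₗ[F] F, GeomU B q ∧
      ∀ x, x ∈ Cfsg.Geo.similarityGroup φ ↔ ∃ c : Fˣ, SimB B c (glRep x) := by
  have h1 : ∀ v w, φ v w = σ (φ w v) := fun v w => by rw [hσ.pow, ← h.herm]
  exact ⟨LinearMap.mk₂'ₛₗ σ (RingHom.id F) (fun u v => φ v u)
    (fun x y v => by rw [h1, h.add_left, map_add, ← h1, ← h1])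
    (fun c x v => by rw [h1, h.smul_left, map_mul, ← h1, smul_eq_mul])
    (fun v x y => h.add_left x y v) (fun c v x => h.smul_left c x v),
    ⟨hσ, hσ.invol, fun x y => (h1 y x).symm, fun v hv => by_contra fun h0 =>
      (h.nondegenerate v h0).2.elim fun x hx => hx (hv x)⟩,
    fun _ => exists_congr fun _ => forall_comm⟩

end Glue

end Cfsg.Agent.Cl.Der
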