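import Mathlib
import Cfsg.Agent.Cl.DerSL2
import Cfsg.Agent.Cl.OrthCard

/-! Elements of prime order of `PSL_n(q)` and the subgroups of orthogonal type. -/

set_option autoImplicit false
set_option linter.unusedSectionVars false

namespace Cfsg.Agent.Cl.Der

open Polynomial Module Cfsg.Agent.Cl.Cls
open QuadraticMap hiding sq

section O

variable {F V : Type*} [Field F] [AddCommGroup V] [Module F V] [FiniteDimensional F V]
  {f g : End F V} {Q : QuadraticForm F V} {μ : F}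

theorem isoFix_eq_OG : isoFix (σ := RingHom.id F) (polarBilin Q) Q ⊥ = OG Q :=
  Subgroup.ext fun _ => mem_isoFix_bot.trans isoQ_iff

theorem simB_polar_iff (h2 : (2 : F) ≠ 0) :
    SimB (σ := RingHom.id F) (polarBilin Q) μ g ↔ ∀ v, Q (g v) = μ * Q v :=
  ⟨fun h v => mul_left_cancel₀ h2 (by
    rw [← polarBilin_self, h, polarBilin_self, mul_left_comm]), fun h u v => by
    simp only [polarBilin_apply_apply, polar, ← map_add, h]
    ring⟩

theorem SimB.isoQ (h2 : (2 : F) ≠ 0) (h : SimB (σ := RingHom.id F) (polarBilin Q) 1 g) :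
    IsoQ Q g := isoQ_iff.2 fun v => ((simB_polar_iff h2).1 h v).trans (one_mul _)

variable [Fintype F]

theorem GeomQ.card_OG_odd (hG : GeomQ Q) (h2 : (2 : F) ≠ 0) {m : ℕ}
    (hm : finrank F V = 2 * m + 1) : Nat.card (OG Q) = 2 * Fintype.card F ^ (m ^ 2) *
      ∏ i ∈ Finset.range m, (Fintype.card F ^ (2 * (i + 1)) - 1) := by
  obtain ⟨e, d, he⟩ := quad_exists_equiv_odd hG.nondegenerate hm
  rw [← card_OG_congr (Q := (d : F) • quad_odd m F) e he, ← Nat.card_eq_fintype_card,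
    ← Cl.card_OG_odd h2]
  congr 2
  ext g
  simp

theorem GeomQ.card_OG_even (hG : GeomQ Q) {m : ℕ} (hm : finrank F V = 2 * (m + 1)) :
    Nat.card (OG Q) = 2 * Fintype.card F ^ ((m + 1) * m) * (if tp Q ⊤ = 1 then
      Fintype.card F ^ (m + 1) - 1 else Fintype.card F ^ (m + 1) + 1) *
      ∏ i ∈ Finset.range m, (Fintype.card F ^ (2 * (i + 1)) - 1) := by
  have h1 : Even (finrank F V) := ⟨m + 1, by omega⟩
  have h2 := tp_eq_one_iff (Q := Q) (W := ⊤) (finrank_top F V ▸ h1)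
  rw [← Nat.card_eq_fintype_card]
  split_ifs with h
  · obtain ⟨e, he⟩ := exists_equiv_of_plus_iff hG (geomQ_plus (m + 1)) h1 (by simp; omega)
      (iff_of_true (h2.1 h) (plusQ_quad_plus _))
    rw [card_OG_congr e he, Cl.card_OG_plus]
  · obtain ⟨b, hb⟩ := quad_exists_aniso F
    have hb' : ∀ x y : F, x ^ 2 + 1 * x * y + b * y ^ 2 = 0 → x = 0 ∧ y = 0 := fun x y h => by
      by_cases hy : y = 0
      · simpa [hy] using h
      · refine absurd ?_ (hb (x / y))
        field_simp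
        linear_combination h
    obtain ⟨e, he⟩ := exists_equiv_of_plus_iff hG (geomQ_minus m hb') h1 (by simp; omega)
      (iff_of_false (mt h2.2 h) (not_plusQ_quad_minus _ hb))
    rw [card_OG_congr e he, Cl.card_OG_minus hb']

theorem exists_sq_add_mul_sq (h2 : (2 : F) ≠ 0) {a : F} (ha : a ≠ 0) (z : F) :
    ∃ s t : F, s ^ 2 + a * t ^ 2 = z := by
  obtain ⟨s, t, h⟩ := FiniteField.exists_root_sum_quadratic (f := X ^ 2 - C z) (g := C a * X ^ 2)
    (degree_X_pow_sub_C two_pos z) (degree_C_mul_X_pow 2 ha)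
    ((FiniteField.odd_card_of_char_ne_two (ringChar_ne_two h2)))
  exact ⟨s, t, by simp at h; linear_combination h⟩

theorem GeomQ.exists_sq (hG : GeomQ Q) (h2 : (2 : F) ≠ 0) (he : Even (finrank F V)) (z : F) :
    ∃ g, SimB (σ := RingHom.id F) (polarBilin Q) z g ∧ g ^ 2 = z • 1 := by
  classical
  obtain ⟨m, hm⟩ := he
  have := invertibleOfNonzero h2
  obtain ⟨b₀, hb⟩ := LinearMap.BilinForm.exists_orthogonal_basis (B := polarBilin Q)
    ⟨symm_polarBilin Q⟩
  let b := b₀.reindex ((finCongr hm).trans finSumFinEquiv.symm)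
  obtain ⟨a, ha⟩ : ∃ a : Fin m ⊕ Fin m → F, ∀ i j,
      polarBilin Q (b i) (b j) = if i = j then a i else 0 :=
    ⟨fun i => polarBilin Q (b i) (b i), fun i j => by
      split_ifs with h
      · rw [h]
      · simp only [b, Basis.reindex_apply]
        exact hb (mt (Equiv.injective _ ·) h)⟩
  have h0 : ∀ i, a i ≠ 0 := fun i h => b.ne_zero i (hG.nondeg _ fun y => by
    rw [← b.sum_repr y, map_sum]
    exact Finset.sum_eq_zero fun j _ => by rw [map_smul, ha, h]; simp)
  choose s t h using fun j => exists_sq_add_mul_sq h2 (mul_ne_zero (h0 (.inl j)) (h0 (.inr j))) z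
  refine ⟨b.constr F (Sum.elim (fun j => s j • b (.inl j) + (a (.inl j) * t j) • b (.inr j))
    fun j => (a (.inr j) * t j) • b (.inl j) - s j • b (.inr j)), simB_of_basis b ?_, b.ext ?_⟩
  · rintro (i | i) (j | j) <;> by_cases e : i = j <;>
      simp [-polarBilin_apply_apply, ha, e, ← h j] <;> ring
  · rintro (i | i) <;> simp only [sq, End.mul_apply, Basis.constr_basis, Sum.elim_inl, Sum.elim_inr,
      map_add, map_sub, map_smul, LinearMap.smul_apply, End.one_apply, ← h i] <;> module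

variable {r : ℕ} [hr : Fact r.Prime] {p : ℕ} [hp : Fact p.Prime] [CharP F p]

theorem GeomQ.allP_two (hG : GeomQ Q) (h2 : p ≠ 2) [Nontrivial V] :
    AllP 2 (FixS (σ := RingHom.id F) (polarBilin Q)) := by
  classical
  have h3 := two_ne_zero_of_ne (F := F) h2
  have h4 : (-1 : F) ≠ 1 := fun h => h3 (by linear_combination -h)
  refine (lin_forall_iff two_ne_zero FixS.smul).2 ⟨fun f h1 _ _ => ?_, fun f z h1 h5 h6 => ?_⟩
  · obtain ⟨k, l, h5, h6, -⟩ := exists_ed_of_sq h2.symm h1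
    obtain ⟨W, -, h7, h8⟩ := hG.exists_nd_odd h3 hG.nd_top (e := l) (by simp; omega)
    obtain ⟨g, g1, g2, g3, -⟩ := hG.exists_neg_on h3 h7
    obtain ⟨k', l', h9, g4, -⟩ := exists_ed_of_sq h2.symm g2
    have g5 := mult_of_ed_eq_dg g4 1
    have g6 := hG.finrank_add_perp W
    rw [mult_one, g3] at g5
    simp [h4, Multiset.count_replicate] at g5
    exact g1.fixS (by rw [g4, h6, show k' = k by omega, show l' = l by omega])
  · obtain ⟨k, -, h7⟩ := ed_eq_replicate (monic_X_pow_sub_C z two_ne_zero)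
      ((X_pow_sub_C_irreducible_iff_of_prime Nat.prime_two).2 h6) (aeval_X_pow_sub_C_eq_zero.2 h5)
    obtain ⟨g, g1, g2⟩ := hG.exists_sq h3 ⟨k, by rw [← h7, natDegree_X_pow_sub_C, mul_two]⟩ z
    exact ⟨g, _, ne_zero_of_pow_eq_smul (isUnit_of_det_eq_one h1) h5, g1,
      ed_eq_of_nonpow h6 g2 h5 rfl⟩

theorem GeomQ.exists_of_symm (hG : GeomQ Q) (h2 : r ≠ 2) (hn : Odd (finrank F V))
    {t : Multiset F} (h1 : Multiset.card t = finrank F V) (h3 : ∀ a ∈ t, a ^ r = 1)
    (h4 : t.map (·⁻¹) = t) : ∃ g, IsoQ Q g ∧ ed g = dg t := by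
  classical
  have h5 : (t.filter (· ≠ 1)).map (·⁻¹) = t.filter (· ≠ 1) := by
    conv_rhs => rw [← h4, Multiset.filter_map]
    exact congrArg _ (Multiset.filter_congr fun a _ => by simp)
  obtain ⟨s, hs⟩ := exists_eq_add_map _ le_rfl (fun a _ => inv_inv a) (fun a ha h => by
    obtain ⟨h6, h7⟩ := Multiset.mem_filter.1 ha
    have h8 : a ≠ 0 := ne_zero_pow hr.1.ne_zero (h3 a h6 ▸ one_ne_zero)
    exact h7 ((pow_eq_one_iff_of_coprime ((Nat.coprime_primes hr.1 Nat.prime_two).2 h2)).1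
      ⟨h3 a h6, by rw [sq, ← inv_mul_cancel₀ h8, h]⟩)) h5
  have h6 : ∀ a ∈ s, a ≠ 0 := fun a ha => ne_zero_pow hr.1.ne_zero (h3 a (Multiset.mem_of_mem_filter
    (hs ▸ Multiset.mem_add.2 (Or.inl ha))) ▸ one_ne_zero)
  have h7 := Multiset.filter_add_not (· ≠ 1) t
  rw [hs, Multiset.eq_replicate_card.2 fun a ha => not_not.1 (Multiset.mem_filter.1 ha).2] at h7
  generalize Multiset.card (t.filter fun a => ¬ a ≠ 1) = k at h7
  have h8 := congrArg Multiset.card h7
  simp only [Multiset.card_add, Multiset.card_map, Multiset.card_replicate, h1] at h8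
  obtain ⟨W, -, w1, w2, w3⟩ := hG.exists_plus_of_lt hG.nd_top (a := Multiset.card s) (by
    rw [finrank_top]
    rw [Nat.odd_iff] at hn
    omega)
  obtain ⟨g, g1, -, -, g2⟩ := hG.exists_of_realOn w1 (hG.realOn_hyp w1 w2 (s := dg s)
    (fun _ => isPP_of_mem_dg) (fun _ => coeff_zero_of_mem_dg h6) (by rw [sum_natDegree_dg, w3]))
  have h9 := hG.finrank_add_perp W
  refine ⟨g, g1, ?_⟩
  rw [g2, ← h7, dg_add, dg_add, dg_replicate, map_uDual_dg h6,
    show finrank F (perpQ Q W) = k by omega]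
  rfl

theorem GeomQ.allP_iff (hG : GeomQ Q) (hp2 : p ≠ 2) (h2 : r ≠ 2) (hn : 3 ≤ finrank F V)
    (h6 : ¬ (finrank F V = 6 ∧ r = 3)) {a : ℕ} (ha : r ∣ a) {N : ℕ}
    (h : a * Nat.card (isoFix (σ := RingHom.id F) (polarBilin Q) Q ⊥) ∣
      Fintype.card F ^ N * qfac (Fintype.card F) (finrank F V)) :
    AllP r (FixS (σ := RingHom.id F) (polarBilin Q)) ↔
      (r = 3 ∨ r = 5) ∧ finrank F V = r ∧ padicValNat r (Fintype.card F - 1) = 1 := by
  classical
  have h3 := two_ne_zero_of_ne (F := F) hp2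
  have : Nontrivial V := Module.nontrivial_of_finrank_pos (R := F) (by omega)
  refine ⟨fun H => ?_, fun ⟨h4, h5, h7⟩ => allP_of_symm FixS.smul h4 h5 h7 fun f t t1 t2 t3 => ?_⟩
  swap
  · obtain ⟨g, g1, g2⟩ := hG.exists_of_symm h2 (h5 ▸ hr.1.odd_of_ne_two h2) (card_of_ed_eq_dg t1)
      t2 t3
    exact g1.fixS (g2.trans t1.symm)
  by_cases hrp : r = p
  · subst hrp
    exact absurd H (hG.not_allP_char h3 (eps_polarBilin Q) zero_le_one (fun _ => SimB.isoQ h3) hn)
  by_cases hi : orderOf ((Fintype.card F : ℕ) : ZMod r) = 1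
  · exact hG.exists_of_allP h2 ((dvd_sub_one_iff Fintype.card_pos).2 hi) (fun _ _ => rfl) hn h6 H
  have h0 := natCast_ne_zero_of_card (F := F) hrp
  have h4 : orderOf ((Fintype.card F : ℕ) : ZMod r) ≤ finrank F V :=
    (dvd_qfac_iff Fintype.card_pos h0 _).1 (dvd_of_index (mt dvd_card_iff.1 hrp) one_pos ha
      (by simpa using h))
  by_cases h5 : Odd (orderOf ((Fintype.card F : ℕ) : ZMod r))
  · exact absurd H (hG.not_allP_of_block hrp hi h4 fun e he h6 => Nat.not_even_iff_odd.2 h5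
      ((uDual_id_eq_self_iff hrp h2 he).1 h6))
  exfalso
  rw [isoFix_eq_OG] at h
  obtain ⟨m, hm | hm⟩ := Nat.even_or_odd' (finrank F V)
  swap
  · rw [hG.card_OG_odd h3 hm, hm, qfac_two_mul_add_one] at h
    exact h5 (odd_orderOf_of_dvd Fintype.card_pos (dvd_of_index (mt dvd_card_iff.1 hrp)
      (prod_pow_sub_one_pos Fintype.one_lt_card m) ha h))
  obtain ⟨m, rfl⟩ : ∃ k, m = k + 1 := ⟨m - 1, by omega⟩
  have h7 := Nat.one_lt_pow (n := m + 1) (by omega) (Fintype.one_lt_card (α := F))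
  have h8 : r ∣ if tp Q ⊤ = 1 then Fintype.card F ^ (m + 1) + 1
      else Fintype.card F ^ (m + 1) - 1 := by
    rw [hG.card_OG_even hm, hm, qfac_two_mul, Finset.prod_range_succ, pow_two_mul_sub_one,
      mul_assoc _ (ite _ _ _)] at h
    refine (hr.1.dvd_mul.1 (dvd_of_index (N := N) (mt (dvd_card_iff (F := F)).1 hrp)
      (Nat.mul_pos (by split_ifs <;> omega)
      (prod_pow_sub_one_pos Fintype.one_lt_card m)) ha (h.trans (dvd_of_eq ?_)))).resolve_right
      fun h => h5 (odd_orderOf_of_dvd (d := m + 1) Fintype.card_pos h)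
    split_ifs <;> ring
  have h9 : orderOf ((Fintype.card F : ℕ) : ZMod r) ∣ finrank F V := by
    rw [hm, ← dvd_pow_sub_one_iff Fintype.card_pos, pow_two_mul_sub_one]
    split_ifs at h8
    · exact h8.mul_left _
    · exact h8.mul_right _
  obtain ⟨k, hk⟩ := h9
  obtain ⟨e, he⟩ := cycF_nonempty (F := F) (r := r)
  obtain ⟨f, hf⟩ := exists_ed_eq (V := V) (s := Multiset.replicate k e)
    (fun a ha => Multiset.eq_of_mem_replicate ha ▸ isPP_of_mem_cycF he)
    (by simp [natDegree_of_mem_cycF hrp he, hk, mul_comm])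
  have f1 : f ^ r = 1 := pow_eq_one_of_ed fun a ha => by
    rw [hf] at ha
    exact Multiset.eq_of_mem_replicate ha ▸ dvd_of_mem_cycF he
  have hq := mt (dvd_sub_one_iff Fintype.card_pos).1 hi
  obtain ⟨g, g1, g2, g3⟩ := hG.exists_one_of_fixS hq f1 (H.of_one (det_eq_one_of_not_dvd hq f1) f1
    (not_scalar_of_mem_degs (by
      rw [degs, hf, Multiset.map_replicate, natDegree_of_mem_cycF hrp he, Multiset.mem_replicate]
      exact ⟨by rintro rfl; omega, rfl⟩) hi))
  have g4 := hG.finrank_fixS_add (g1.isoQ h3) hrp g3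
  rw [movE_eq (k := 0) (g2.trans (hf.trans (add_zero _).symm)) fun a ha =>
    Multiset.eq_of_mem_replicate ha ▸ ne_of_mem_cycF (natCast_ne_zero_of_ne hrp) he,
    Multiset.card_replicate, hk, mul_comm, Nat.add_eq_right, Submodule.finrank_eq_zero] at g4
  have g5 := hG.tp_top_of_fpf (g1.isoQ h3) hrp h2 g3 g4
  have g6 : tp Q ⊤ = 1 ↔ ((Fintype.card F : ℕ) : ZMod r) ^ (m + 1) = 1 := by
    rw [g5, tq_eq_one_iff, hm, Nat.mul_dvd_mul_iff_left two_pos, orderOf_dvd_iff_pow_eq_one]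
  split_ifs at h8 with h9
  · exact neg_one_ne_one_zmod h2 (((dvd_pow_add_one_iff _ _).1 h8).symm.trans (g6.1 h9))
  · exact h9 (g6.2 (orderOf_dvd_iff_pow_eq_one.1 ((dvd_pow_sub_one_iff Fintype.card_pos _).1 h8)))

end O

theorem exists_geomQ {F : Type*} [Field F] {ι : Type} [Fintype ι] [DecidableEq ι]
    {φ : (ι → F) → F} (h : Cfsg.Geo.IsNondegenerateQuadraticForm φ) :
    ∃ Q : QuadraticForm F (ι → F), GeomQ Q ∧ φ = Q :=
  ⟨ofPolar φ (fun a x => by rw [h.smul, smul_eq_mul, sq]) h.polar_bilinear.add_left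
    h.polar_bilinear.smul_left, geom_quad ⟨fun v hv => by_contra fun h0 =>
      (h.nondegenerate v h0).2.elim fun x hx => hx (hv x), fun v hv => by_contra fun h0 =>
      (h.nondegenerate v h0).1.elim fun x hx => hx (hv x)⟩, rfl⟩

end Cfsg.Agent.Cl.Der
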