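/-
Lifts, traces and eigenvalues in subgroups of `SL₃(F)`.
-/
import Mathlib
import Cfsg.Agent.Cl.D3Base
import Cfsg.Agent.Cl.ClassSemis
import Cfsg.Agent.GT.TransferEval

set_option autoImplicit false

namespace Cfsg.Agent.Cl.D3

open Matrix Cfsg.Geo Cfsg.Agent.Cl.Max Cfsg.Agent.Cl.Mx
open scoped MatrixGroups

variable {F : Type*} [Field F] {P : Subgroup (GL (Fin 3) F)} {G : Type*} [Group G] {π : P →* G}

/-! ### Matrices of degree three -/

theorem adjugate_three (A : Matrix (Fin 3) (Fin 3) F) :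
    A.adjugate = A * A - A.trace • A + A.adjugate.trace • (1 : Matrix (Fin 3) (Fin 3) F) := by
  ext i j
  fin_cases i <;> fin_cases j <;>
    simp [adjugate_fin_three, trace_fin_three, mul_apply, Fin.sum_univ_three] <;> ring

theorem cayley_three (A : Matrix (Fin 3) (Fin 3) F) : A * A * A =
    A.trace • (A * A) - A.adjugate.trace • A + A.det • (1 : Matrix (Fin 3) (Fin 3) F) := by
  have h := adjugate_mul A
  rw [adjugate_three A] at h
  rw [← h, add_mul, sub_mul, smul_mul_assoc, smul_mul_assoc, one_mul]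
  abel

theorem trace_mul_self_three (A : Matrix (Fin 3) (Fin 3) F) :
    (A * A).trace = A.trace ^ 2 - 2 * A.adjugate.trace := by
  simp [adjugate_fin_three, trace_fin_three, mul_apply, Fin.sum_univ_three]
  ring

theorem adjugate_of_sl {g : GL (Fin 3) F} (hd : g ∈ specialLinear (Fin 3) F) :
    (g : Matrix (Fin 3) (Fin 3) F).adjugate = (g⁻¹ : GL (Fin 3) F) := by
  have h := adjugate_mul (g : Matrix (Fin 3) (Fin 3) F)
  rw [(mem_specialLinear_iff g).1 hd, one_smul] at h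
  calc _ = (g : Matrix (Fin 3) (Fin 3) F).adjugate * (g * (g⁻¹ : GL (Fin 3) F)) := by
        rw [Units.mul_inv, mul_one]
    _ = _ := by rw [← mul_assoc, h, one_mul]

theorem cayley_sl {g : GL (Fin 3) F} (hd : g ∈ specialLinear (Fin 3) F) :
    (g : Matrix (Fin 3) (Fin 3) F) * g * g =
      (g : Matrix (Fin 3) (Fin 3) F).trace • ((g : Matrix (Fin 3) (Fin 3) F) * g) -
        ((g⁻¹ : GL (Fin 3) F) : Matrix (Fin 3) (Fin 3) F).trace • (g : Matrix (Fin 3) (Fin 3) F) +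
          1 := by
  rw [cayley_three, adjugate_of_sl hd, (mem_specialLinear_iff g).1 hd, one_smul]

theorem trace_sq_sl {g : GL (Fin 3) F} (hd : g ∈ specialLinear (Fin 3) F) :
    ((g : Matrix (Fin 3) (Fin 3) F) * g).trace = (g : Matrix (Fin 3) (Fin 3) F).trace ^ 2 -
      2 * ((g⁻¹ : GL (Fin 3) F) : Matrix (Fin 3) (Fin 3) F).trace := by
  rw [trace_mul_self_three, adjugate_of_sl hd]

theorem exists_vecMulVec_of_adjugate {A : Matrix (Fin 3) (Fin 3) F} (h : A.adjugate = 0) :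
    ∃ v φ : Fin 3 → F, ∀ x, A *ᵥ x = (φ ⬝ᵥ x) • v := by
  by_cases h0 : A = 0
  · exact ⟨0, 0, by simp [h0]⟩
  obtain ⟨k, l, hkl⟩ : ∃ k l, A k l ≠ 0 := by
    by_contra h1
    push Not at h1
    exact h0 (Matrix.ext h1)
  have hm : ∀ i j k l, A i j * A k l = A i l * A k j := by
    have e := fun i j => congrFun (congrFun h i) j
    have e00 := e 0 0; have e01 := e 0 1; have e02 := e 0 2
    have e10 := e 1 0; have e11 := e 1 1; have e12 := e 1 2
    have e20 := e 2 0; have e21 := e 2 1; have e22 := e 2 2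
    simp [adjugate_fin_three] at e00 e01 e02 e10 e11 e12 e20 e21 e22
    intro i j k l
    fin_cases i <;> fin_cases j <;> fin_cases k <;> fin_cases l <;> simp <;> grind
  refine ⟨fun i => A i l / A k l, A k, fun x => funext fun i => ?_⟩
  simp only [mulVec, dotProduct, Pi.smul_apply, smul_eq_mul, Finset.sum_mul]
  refine Finset.sum_congr rfl fun j _ => ?_
  field_simp
  linear_combination x j * hm i j k l

theorem trace_of_vec {A : Matrix (Fin 3) (Fin 3) F} {v φ : Fin 3 → F}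
    (h : ∀ x, A *ᵥ x = (φ ⬝ᵥ x) • v) : A.trace = φ ⬝ᵥ v := by
  have e : ∀ i, A i i = φ i * v i := fun i => by
    simpa using congrFun (h (Pi.single i 1)) i
  simp [trace, dotProduct, e]

/-- A matrix of square zero has rank at most one. -/
theorem exists_vec_of_sq_zero {N : Matrix (Fin 3) (Fin 3) F} (h : N * N = 0) :
    ∃ v φ : Fin 3 → F, φ ⬝ᵥ v = 0 ∧ ∀ x, N *ᵥ x = (φ ⬝ᵥ x) • v := by
  by_cases h0 : N = 0
  · exact ⟨0, 0, by simp, by simp [h0]⟩
  have h1 := cayley_three N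
  rw [h, zero_mul, smul_zero, zero_sub] at h1
  have h2 : N.det = 0 := by
    have := congrArg det h
    rwa [det_mul, det_zero, mul_self_eq_zero] at this
  rw [h2, zero_smul, add_zero, eq_comm, neg_eq_zero, smul_eq_zero] at h1
  have h3 := h1.resolve_right h0
  have h4 := trace_mul_self_three N
  rw [h, h3, trace_zero, mul_zero, sub_zero, eq_comm, pow_eq_zero_iff two_ne_zero] at h4
  obtain ⟨v, φ, e⟩ := exists_vecMulVec_of_adjugate (A := N)
    (by rw [adjugate_three, h, h3, h4]; simp)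
  exact ⟨v, φ, by rw [← trace_of_vec e, h4], e⟩

theorem smul_one_inj {a b : F}
    (h : a • (1 : Matrix (Fin 3) (Fin 3) F) = b • (1 : Matrix (Fin 3) (Fin 3) F)) : a = b := by
  simpa using congrFun (congrFun h 0) 0

theorem eq_zero_of_notMem_scalars {g : GL (Fin 3) F} (hg : g ∉ scalars (Fin 3) F) {a b : F}
    (h : a • (g : Matrix (Fin 3) (Fin 3) F) = b • (1 : Matrix (Fin 3) (Fin 3) F)) :
    a = 0 ∧ b = 0 := by
  have ha : a = 0 := by
    by_contra ha
    exact hg (mem_scalars_of_eq_smul (c := a⁻¹ * b)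
      (by rw [mul_smul, ← h, inv_smul_smul₀ ha]))
  rw [ha, zero_smul, ← zero_smul F (1 : Matrix (Fin 3) (Fin 3) F)] at h
  exact ⟨ha, (smul_one_inj h).symm⟩

theorem cube_eq_one_of_det {g h : GL (Fin 3) F} (hg : g ∈ specialLinear (Fin 3) F)
    (hh : h ∈ specialLinear (Fin 3) F) {c : F}
    (e : (g : Matrix (Fin 3) (Fin 3) F) = c • (h : Matrix (Fin 3) (Fin 3) F)) : c ^ 3 = 1 := by
  have := congrArg det e
  rw [det_smul, (mem_specialLinear_iff g).1 hg, (mem_specialLinear_iff h).1 hh] at this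
  simpa using this.symm

theorem eq_one_of_cube {c : F} (h3 : c ^ 3 = 1) {n : ℕ} (hn : ¬ 3 ∣ n ∨ (3 : F) = 0)
    (h : c ^ n = 1) : c = 1 := by
  rcases hn with hn | hn
  · have := (pow_gcd_eq_one.2 ⟨h3, h⟩)
    rwa [(Nat.prime_three.coprime_iff_not_dvd.2 hn).gcd_eq_one, pow_one] at this
  · have : (c - 1) ^ 3 = 0 := by linear_combination h3 + (c - c ^ 2) * hn
    exact sub_eq_zero.1 (pow_eq_zero_iff three_ne_zero |>.1 this)

/-! ### Covers -/

theorem Cov.comp (hπ : Cov P π) {G' : Type*} [Group G'] (e : G ≃* G') :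
    Cov P ((e : G →* G').comp π) :=
  ⟨hπ.sl, e.surjective.comp hπ.surj, fun g => by
    rw [← hπ.ker, MonoidHom.comp_apply, MonoidHom.coe_coe, map_eq_one_iff _ e.injective]⟩

theorem Cov.map_eq_iff (hπ : Cov P π) (g h : P) : π g = π h ↔ ∃ c : F, c ^ 3 = 1 ∧
    ((g : GL (Fin 3) F) : Matrix (Fin 3) (Fin 3) F) =
      c • ((h : GL (Fin 3) F) : Matrix (Fin 3) (Fin 3) F) := by
  rw [← mul_inv_eq_one, ← map_inv, ← map_mul, hπ.ker]
  constructor
  · intro h1
    obtain ⟨c, -, hc⟩ := coe_eq_smul_of_mem_scalars h1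
    have e : ((g : GL (Fin 3) F) : Matrix (Fin 3) (Fin 3) F) =
        c • ((h : GL (Fin 3) F) : Matrix (Fin 3) (Fin 3) F) := by
      rw [← one_mul ((h : GL (Fin 3) F) : Matrix (Fin 3) (Fin 3) F), ← smul_mul_assoc, ← hc,
        ← Units.val_mul]
      simp
    exact ⟨c, cube_eq_one_of_det (hπ.sl g.2) (hπ.sl h.2) e, e⟩
  · rintro ⟨c, -, e⟩
    refine mem_scalars_of_eq_smul (c := c) ?_
    rw [Subgroup.coe_mul, Units.val_mul, e, smul_mul_assoc, Subgroup.coe_inv, Units.mul_inv]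

theorem coe_coe_pow (g : P) (n : ℕ) : (((g ^ n : P) : GL (Fin 3) F) : Matrix (Fin 3) (Fin 3) F) =
    ((g : GL (Fin 3) F) : Matrix (Fin 3) (Fin 3) F) ^ n := by
  rw [Subgroup.coe_pow, Units.val_pow_eq_pow_val]

theorem sub_ext {g h : P} (e : ((g : GL (Fin 3) F) : Matrix (Fin 3) (Fin 3) F) =
    ((h : GL (Fin 3) F) : Matrix (Fin 3) (Fin 3) F)) : g = h := Subtype.ext (Units.ext e)

theorem Cov.lift_unique (hπ : Cov P π) {n : ℕ} (hn : ¬ 3 ∣ n ∨ (3 : F) = 0) {g h : P}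
    (e : π g = π h) (hg : g ^ n = 1) (hh : h ^ n = 1) : g = h := by
  obtain ⟨c, h3, e⟩ := (hπ.map_eq_iff g h).1 e
  have h1 := coe_coe_pow g n
  rw [e, smul_pow, ← coe_coe_pow, hg, hh] at h1
  have h2 : c ^ n = 1 := (smul_one_inj (a := 1) (by simpa using h1)).symm
  rw [eq_one_of_cube h3 hn h2, one_smul] at e
  exact sub_ext e

theorem Cov.cube_of_ker (hπ : Cov P π) {g : P} (h : π g = 1) : g ^ 3 = 1 := by
  obtain ⟨c, h3, e⟩ := (hπ.map_eq_iff g 1).1 (by rw [h, map_one])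
  refine sub_ext ?_
  rw [coe_coe_pow, e, smul_pow, h3]
  simp

theorem Cov.commute_of_ker (hπ : Cov P π) {g : P} (h : π g = 1) (k : P) : Commute g k :=
  Subtype.ext (mul_comm_of_mem_scalars ((hπ.ker g).1 h) k)

theorem Cov.exists_lift (hπ : Cov P π) {n : ℕ} (hn : ¬ 3 ∣ n ∨ (3 : F) = 0) {x : G}
    (hx : x ^ n = 1) : ∃ g : P, π g = x ∧ g ^ n = 1 := by
  obtain ⟨g, rfl⟩ := hπ.surj x
  have h1 : π (g ^ n) = 1 := by rw [map_pow, hx]
  have h3 := hπ.cube_of_ker h1
  rcases hn with hn | hn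
  · obtain ⟨k, hk⟩ : ∃ k, 3 ∣ 1 + n * k := by
      have : n % 3 = 1 ∨ n % 3 = 2 := by omega
      rcases this with h | h
      exacts [⟨2, by omega⟩, ⟨1, by omega⟩]
    obtain ⟨j, hj⟩ := hk
    refine ⟨g ^ (1 + n * k), by rw [map_pow, pow_add, pow_mul, hx, one_pow, mul_one, pow_one], ?_⟩
    rw [← pow_mul, mul_comm, pow_mul, hj, pow_mul, h3, one_pow]
  · exact ⟨g, rfl, hπ.lift_unique (n := 3) (Or.inr hn) (by rw [h1, map_one]) h3 (one_pow _)⟩

/-- Conjugacy of elements of order prime to `3` lifts. -/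
theorem Cov.isConj_lift (hπ : Cov P π) {n : ℕ} (hn : ¬ 3 ∣ n ∨ (3 : F) = 0) {g h : P}
    (hg : g ^ n = 1) (hh : h ^ n = 1) (e : IsConj (π g) (π h)) : IsConj g h := by
  obtain ⟨y, hy⟩ := isConj_iff.1 e
  obtain ⟨y, rfl⟩ := hπ.surj y
  exact isConj_iff.2 ⟨y, hπ.lift_unique hn (by rw [← hy]; simp) (by rw [conj_pow, hg]; simp) hh⟩

theorem Cov.commute_lift (hπ : Cov P π) {n : ℕ} (hn : ¬ 3 ∣ n ∨ (3 : F) = 0) {g h : P}
    (hg : g ^ n = 1) (e : Commute (π g) (π h)) : Commute g h := by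
  have : h * g * h⁻¹ = g := hπ.lift_unique hn
    (by rw [map_mul, map_mul, ← e.eq, map_inv, mul_inv_cancel_right])
    (by rw [conj_pow, hg]; simp) hg
  exact (mul_inv_eq_iff_eq_mul.1 this).symm

theorem trace_eq_of_isConj {g h : P} (e : IsConj g h) :
    ((g : GL (Fin 3) F) : Matrix (Fin 3) (Fin 3) F).trace =
      ((h : GL (Fin 3) F) : Matrix (Fin 3) (Fin 3) F).trace := by
  obtain ⟨y, rfl⟩ := isConj_iff.1 e
  exact (trace_cj (y : GL (Fin 3) F) _).symm

theorem card_le_three_of_isConj {l : ℕ} (hl : l.Prime) (hlp : (l : F) ≠ 0) {x : GL (Fin 3) F}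
    (hx : orderOf x = l) {S : Finset ℕ} (hS : ∀ k ∈ S, k < l ∧ IsConj x (x ^ k)) :
    S.card ≤ 3 := by
  classical
  let K := AlgebraicClosure F
  have h1 : (x : Matrix (Fin 3) (Fin 3) F) ^ l = 1 := by
    rw [← Units.val_pow_eq_pow_val, ← hx, pow_orderOf_eq_one, Units.val_one]
  have hss := Cls.isSS_of_pow_eq_one hlp h1
  obtain ⟨μ, hμ, hμ1⟩ : ∃ μ ∈ Cls.evM K (x : Matrix (Fin 3) (Fin 3) F), μ ≠ 1 := by
    by_contra h
    push Not at h
    have h2 := (hss.pow_eq_one_iff (K := K) 1).2 (by simpa using h)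
    rw [pow_one, Units.val_eq_one] at h2
    rw [h2, orderOf_one] at hx
    exact hl.one_lt.ne hx
  have := Fact.mk hl
  have ho : orderOf μ = l := orderOf_eq_prime ((hss.pow_eq_one_iff (K := K) l).1 h1 μ hμ) hμ1
  calc S.card ≤ (Cls.evM K (x : Matrix (Fin 3) (Fin 3) F)).toFinset.card :=
        Finset.card_le_card_of_injOn (fun k => μ ^ k) (fun k hk => ?_) fun a ha b hb e =>
          pow_injOn_Iio_orderOf (ho ▸ (hS a ha).1) (ho ▸ (hS b hb).1) e
    _ ≤ _ := (Multiset.toFinset_card_le _).trans (by rw [Cls.card_evM]; simp)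
  have h3 := (Units.coeHom (Matrix (Fin 3) (Fin 3) F)).map_isConj (hS k hk).2
  simp only [Units.coeHom_apply, Units.val_pow_eq_pow_val] at h3
  rw [Finset.mem_coe, Multiset.mem_toFinset, Cls.evM_eq_of_isConj h3, Cls.evM_pow]
  exact Multiset.mem_map_of_mem _ hμ

theorem Cov.not_four (hπ : Cov P π) {l : ℕ} (hl : l.Prime) (hlp : (l : F) ≠ 0) (h3 : l ≠ 3)
    (x : G) : ¬ Four l x := by
  rintro ⟨hx, S, h4, hS⟩
  have hn : ¬ 3 ∣ l ∨ (3 : F) = 0 :=
    Or.inl fun h => h3 ((Nat.prime_dvd_prime_iff_eq Nat.prime_three hl).1 h).symm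
  obtain ⟨g, rfl, hg⟩ := hπ.exists_lift hn (x := x) (by rw [← hx, pow_orderOf_eq_one])
  have := Fact.mk hl
  have hg1 : g ≠ 1 := fun h => hl.one_lt.ne (by rw [← hx, h, map_one, orderOf_one])
  have := card_le_three_of_isConj hl hlp (x := (g : GL (Fin 3) F)) (S := S)
    (by rw [Subgroup.orderOf_coe]; exact orderOf_eq_prime hg hg1) fun k hk =>
      ⟨(hS k hk).1, P.subtype.map_isConj (hπ.isConj_lift (h := g ^ k) hn hg
        (by rw [← pow_mul, mul_comm, pow_mul, hg, one_pow]) (by rw [map_pow]; exact (hS k hk).2))⟩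
  omega

theorem Cov.real_three' (hπ : Cov P π) {g : P} (h1 : π g ≠ 1)
    (hg : π g ^ 3 = 1) (hr : IsConj (π g) (π g)⁻¹) :
    ((g : GL (Fin 3) F) : Matrix (Fin 3) (Fin 3) F).trace = 0 ∧ g ^ 3 = 1 := by
  obtain ⟨c, hc, e⟩ := (hπ.map_eq_iff (g ^ 3) 1).1 (by rw [map_pow, hg, map_one])
  obtain ⟨y, hy⟩ := isConj_iff.1 hr
  obtain ⟨y, rfl⟩ := hπ.surj y
  obtain ⟨u, hu, e'⟩ := (hπ.map_eq_iff g⁻¹ (y * g * y⁻¹)).1 (by rw [map_inv, ← hy]; simp)
  have hs := congrArg trace e'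
  rw [trace_smul, ← trace_eq_of_isConj (isConj_iff.2 ⟨y, rfl⟩), smul_eq_mul,
    Subgroup.coe_inv] at hs
  have ch := cayley_sl (hπ.sl g.2)
  rw [coe_coe_pow, pow_three', OneMemClass.coe_one, Units.val_one] at e
  rw [hs, e] at ch
  set A := ((g : GL (Fin 3) F) : Matrix (Fin 3) (Fin 3) F)
  set t := A.trace
  have hns : (g : GL (Fin 3) F) ∉ scalars (Fin 3) F := fun h => h1 ((hπ.ker g).2 h)
  have ht : t = 0 := by
    by_contra ht
    have h2 : t • (A * A) = (u * t) • A + (c - 1) • (1 : Matrix (Fin 3) (Fin 3) F) := by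
      linear_combination (norm := module) -ch
    have h4 : t • (A * A * A) = (u * t) • (A * A) + (c - 1) • A := by
      rw [← smul_mul_assoc, h2, add_mul, smul_mul_assoc, smul_mul_assoc, one_mul]
    obtain ⟨h5, h6⟩ := eq_zero_of_notMem_scalars hns (a := u ^ 2 * t + (c - 1))
      (b := t * c - u * (c - 1)) (by
        rw [e] at h4
        linear_combination (norm := module) -h4 - u • h2)
    have h7 : c = -1 := by
      have : t * (c + 1) = 0 := by linear_combination h6 + u * h5 - t * hu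
      exact eq_neg_of_add_eq_zero_left ((mul_eq_zero.1 this).resolve_left ht)
    have h8 : u ^ 2 * t = 0 := by rw [h7] at hc h5; linear_combination h5 - hc
    rcases mul_eq_zero.1 h8 with h | h
    · rw [pow_eq_zero_iff two_ne_zero] at h
      simp [h] at hu
    · exact ht h
  refine ⟨ht, sub_ext ?_⟩
  rw [coe_coe_pow, pow_three', e, ch, ht]
  simp

theorem Cov.real_three (hπ : Cov P π) (h3 : (3 : F) ≠ 0) {g : P} (h1 : π g ≠ 1)
    (hg : π g ^ 3 = 1) (hr : IsConj (π g) (π g)⁻¹) :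
    ((g : GL (Fin 3) F) : Matrix (Fin 3) (Fin 3) F).trace = 0 ∧ g ^ 3 = 1 :=
  hπ.real_three' h1 hg hr

theorem linearIndependent_of_trace (h3 : (3 : F) ≠ 0) {ι : Type*} (s : ι → GL (Fin 3) F)
    (h : ∀ i j, i ≠ j → (((s i)⁻¹ * s j : GL (Fin 3) F) : Matrix (Fin 3) (Fin 3) F).trace = 0) :
    LinearIndependent F fun i => (s i : Matrix (Fin 3) (Fin 3) F) := by
  classical
  refine linearIndependent_iff'.2 fun S c hc i hi => ?_
  have h1 := congrArg (fun X => ((((s i)⁻¹ : GL (Fin 3) F) : Matrix (Fin 3) (Fin 3) F) * X).trace) hc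
  simp only [Finset.mul_sum, mul_smul_comm, trace_sum, trace_smul, mul_zero, trace_zero] at h1
  rw [Finset.sum_eq_single_of_mem i hi fun j _ hj => by
    rw [← Units.val_mul, h i j hj.symm, smul_zero]] at h1
  simpa [h3] using h1

theorem card_le_nine_of_trace (h3 : (3 : F) ≠ 0) {ι : Type*} [Fintype ι] (s : ι → GL (Fin 3) F)
    (h : ∀ i j, i ≠ j → (((s i)⁻¹ * s j : GL (Fin 3) F) : Matrix (Fin 3) (Fin 3) F).trace = 0) :
    Fintype.card ι ≤ 9 := by
  simpa [Module.finrank_matrix] using (linearIndependent_of_trace h3 s h).fintype_card_le_finrank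

/-- An elementary abelian group of order `9` of real elements lifts to a non-abelian group. -/
theorem Cov.not_commute (hπ : Cov P π) (h3 : (3 : F) ≠ 0) {a b : P} (ha : π a ^ 3 = 1)
    (hb : π b ^ 3 = 1) (hab : Commute (π a) (π b))
    (hr : ∀ i j : ℕ, i < 3 → j < 3 → i ≠ 0 ∨ j ≠ 0 →
      π a ^ i * π b ^ j ≠ 1 ∧ IsConj (π a ^ i * π b ^ j) (π a ^ i * π b ^ j)⁻¹) :
    ¬ Commute a b := by
  intro hc
  let s : Fin 3 × Fin 3 → GL (Fin 3) F := fun i => ((a ^ (i.1 : ℕ) * b ^ (i.2 : ℕ) : P) : GL _ F)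
  have hinv : ∀ x : G, x ^ 3 = 1 → ∀ i k : ℕ, (x ^ i)⁻¹ * x ^ k = x ^ ((2 * i + k) % 3) := by
    intro x hx i k
    rw [← pow_eq_pow_mod _ hx, inv_mul_eq_iff_eq_mul, ← pow_add,
      show i + (2 * i + k) = 3 * i + k by ring, pow_add, pow_mul, hx, one_pow, one_mul]
  have hli := linearIndependent_of_trace h3 s fun i j hij => by
    have e : π ((a ^ (i.1 : ℕ) * b ^ (i.2 : ℕ))⁻¹ * (a ^ (j.1 : ℕ) * b ^ (j.2 : ℕ))) =
        π a ^ ((2 * i.1 + j.1 : ℕ) % 3) * π b ^ ((2 * i.2 + j.2 : ℕ) % 3) := by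
      rw [← hinv _ ha, ← hinv _ hb]
      simp only [map_mul, map_inv, map_pow, _root_.mul_inv_rev]
      have h1 : Commute (π b ^ (i.2 : ℕ))⁻¹ ((π a ^ (i.1 : ℕ))⁻¹ * π a ^ (j.1 : ℕ)) :=
        ((hab.symm.pow_pow _ _).inv_inv).mul_right (hab.symm.pow_pow _ _).inv_left
      calc _ = (π b ^ (i.2 : ℕ))⁻¹ * ((π a ^ (i.1 : ℕ))⁻¹ * π a ^ (j.1 : ℕ)) * π b ^ (j.2 : ℕ) := by
            group
        _ = _ := by rw [h1.eq]; group
    obtain ⟨h1, h2⟩ := hr ((2 * i.1 + j.1) % 3) ((2 * i.2 + j.2) % 3) (Nat.mod_lt _ (by norm_num))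
      (Nat.mod_lt _ (by norm_num)) (by
        by_contra h
        refine hij (Prod.ext (Fin.ext ?_) (Fin.ext ?_)) <;> omega)
    rw [← e] at h1 h2
    refine (hπ.real_three' h1 ?_ h2).1
    rw [e, (hab.pow_pow _ _).mul_pow, ← pow_mul, ← pow_mul, mul_comm _ 3, mul_comm _ 3, pow_mul,
      pow_mul, ha, hb]
    simp
  have hsp := hli.span_eq_top_of_card_eq_finrank' (by simp [Module.finrank_matrix])
  refine (hr 1 0 (by norm_num) (by norm_num) (Or.inl one_ne_zero)).1 ?_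
  rw [pow_one, pow_zero, mul_one, hπ.ker]
  refine mem_scalars_of_commute fun y => ?_
  have hy : y ∈ Submodule.span F (Set.range fun i => (s i : Matrix (Fin 3) (Fin 3) F)) :=
    hsp ▸ Submodule.mem_top
  induction hy using Submodule.span_induction with
  | mem x hx =>
    obtain ⟨i, rfl⟩ := hx
    have : Commute a (a ^ (i.1 : ℕ) * b ^ (i.2 : ℕ)) :=
      ((Commute.refl a).pow_right _).mul_right (hc.pow_right _)
    exact congrArg (fun z : P => ((z : GL (Fin 3) F) : Matrix (Fin 3) (Fin 3) F)) this.eq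
  | zero => simp
  | add x y _ _ hx hy => rw [mul_add, add_mul, hx, hy]
  | smul c x _ hx => rw [mul_smul_comm, smul_mul_assoc, hx]

theorem Cov.injective [Finite F] (hπ : Cov P π) (hP : ⁅P, P⁆ = P)
    (h : ∀ Q : Subgroup G, IsPGroup 3 Q → IsCyclic Q) : Function.Injective π := by
  rw [injective_iff_map_eq_one]
  intro z hz
  have := Fact.mk Nat.prime_three
  have hk : IsPGroup 3 π.ker := fun g => ⟨1, Subtype.ext (by simpa using hπ.cube_of_ker g.2)⟩
  obtain ⟨S, hS⟩ := hk.exists_le_sylow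
  have := h _ (S.isPGroup'.map π)
  have hcomm : ∀ a b : (S : Subgroup P), a * b = b * a :=
    ((π.subgroupMap S).isMulCommutative_of_isCyclic_of_ker_le_center fun g hg =>
      Subgroup.mem_center_iff.2 fun k => Subtype.ext
        (hπ.commute_of_ker (congrArg Subtype.val hg) k).eq.symm).is_comm.comm
  have h1 : z ∈ commutator P := by
    have h2 : (commutator P).map P.subtype = P := by
      rw [commutator_def, Subgroup.map_commutator, ← MonoidHom.range_eq_map,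
        Subgroup.range_subtype, hP]
    exact (Subgroup.mem_map_iff_mem P.subtype_injective).1 (h2.symm ▸ z.2)
  have h2 := GT.Tr.sylow_inf_commutator_inf_center_le S
    ⟨⟨hS hz, h1⟩, Subgroup.mem_center_iff.2 fun k => (hπ.commute_of_ker hz k).eq.symm⟩
  have h3 : ⁅(S : Subgroup P), (S : Subgroup P)⁆ = ⊥ :=
    Subgroup.commutator_eq_bot_iff_le_centralizer.2 fun a ha b hb =>
      congrArg Subtype.val (hcomm ⟨b, hb⟩ ⟨a, ha⟩)
  rwa [h3, Subgroup.mem_bot] at h2

/-! ### Elements of order `2` and `4` -/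

theorem trace_of_sq (h2 : (2 : F) ≠ 0) {g : GL (Fin 3) F} (hd : g ∈ specialLinear (Fin 3) F)
    (h : g * g = 1) (h1 : g ≠ 1) : (g : Matrix (Fin 3) (Fin 3) F).trace = -1 := by
  have ch := cayley_sl hd
  rw [inv_eq_of_mul_eq_one_right h, ← Units.val_mul, h, Units.val_one, one_mul] at ch
  by_contra ht
  refine h1 (Units.ext (smul_right_injective _ (r := (g : Matrix (Fin 3) (Fin 3) F).trace + 1)
    (fun e => ht (eq_neg_of_add_eq_zero_left e)) ?_))
  simp only [Units.val_one]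
  linear_combination (norm := module) ch

theorem exists_vec_of_sq (h2 : (2 : F) ≠ 0) {g : GL (Fin 3) F} (hd : g ∈ specialLinear (Fin 3) F)
    (h : g * g = 1) (h1 : g ≠ 1) : ∃ v φ : Fin 3 → F, φ ⬝ᵥ v = 1 ∧
      ∀ x, (g : Matrix (Fin 3) (Fin 3) F) *ᵥ x = -x + (2 * φ ⬝ᵥ x) • v := by
  have ht := trace_of_sq h2 hd h h1
  have hh : (g : Matrix (Fin 3) (Fin 3) F) * g = 1 := by rw [← Units.val_mul, h, Units.val_one]
  set A : Matrix (Fin 3) (Fin 3) F := 1 + (g : Matrix (Fin 3) (Fin 3) F) with hA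
  have h3 : A * A = (2 : F) • A := by
    rw [hA, add_mul, mul_add, mul_add, hh]
    simp only [one_mul, mul_one]
    module
  have h4 : A.trace = 2 := by rw [hA, trace_add, ht, trace_one]; simp; norm_num
  have h5 : A.adjugate.trace = 0 := by
    have := trace_mul_self_three A
    rw [h3, trace_smul, h4, smul_eq_mul] at this
    exact (mul_eq_zero.1 (show 2 * A.adjugate.trace = 0 by linear_combination this)).resolve_left h2
  obtain ⟨v, φ, e⟩ := exists_vecMulVec_of_adjugate (A := A)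
    (by rw [adjugate_three, h3, h4, h5]; simp)
  refine ⟨v, (2 : F)⁻¹ • φ, ?_, fun x => ?_⟩
  · rw [smul_dotProduct, ← trace_of_vec e, h4, smul_eq_mul, inv_mul_cancel₀ h2]
  · have := e x
    rw [hA, add_mulVec, one_mulVec] at this
    rw [smul_dotProduct, smul_eq_mul, mul_inv_cancel_left₀ h2, ← this]
    abel

theorem trace_of_four (h2 : (2 : F) ≠ 0) {g : GL (Fin 3) F} (hd : g ∈ specialLinear (Fin 3) F)
    (h : g ^ 4 = 1) (h1 : g ^ 2 ≠ 1) (hr : (g : Matrix (Fin 3) (Fin 3) F).trace =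
      ((g⁻¹ : GL (Fin 3) F) : Matrix (Fin 3) (Fin 3) F).trace) :
    (g : Matrix (Fin 3) (Fin 3) F).trace = 1 := by
  have h3 := trace_of_sq h2 (Subgroup.pow_mem _ hd 2) (by rw [← pow_add, h]) h1
  rw [pow_two, Units.val_mul, trace_sq_sl hd, ← hr] at h3
  have : ((g : Matrix (Fin 3) (Fin 3) F).trace - 1) ^ 2 = 0 := by linear_combination h3
  exact sub_eq_zero.1 (pow_eq_zero_iff two_ne_zero |>.1 this)

/-! ### Invariant forms -/

theorem exists_form_of_trace (hP : Spans P) {σ : F →+* F} (hσ : ∀ a, σ (σ a) = a)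
    (h : ∀ g ∈ P, σ (g : Matrix (Fin 3) (Fin 3) F).trace =
      ((g⁻¹ : GL (Fin 3) F) : Matrix (Fin 3) (Fin 3) F).trace) :
    ∃ (ε : F) (f : (Fin 3 → F) → (Fin 3 → F) → F), HForm σ ε f ∧ P ≤ isoG f ∧
      ((∃ a, σ a ≠ a) → ε = 1) := by
  let R : Matrix (Fin 3) (Fin 3) F → Matrix (Fin 3) (Fin 3) F → Prop := fun X Y => ∀ k ∈ P,
    (Y * ((k⁻¹ : GL (Fin 3) F) : Matrix (Fin 3) (Fin 3) F)).trace =
      σ ((k : Matrix (Fin 3) (Fin 3) F) * X).trace
  have hu : ∀ X Y Y', R X Y → R X Y' → Y = Y' := fun X Y Y' h1 h2 =>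
    ext_iff_trace_mul_right.2 fun Z => spanAlg_induction
      (p := fun Z => (Y * Z).trace = (Y' * Z).trace)
      (fun k hk => by simpa using (h1 _ (P.inv_mem hk)).trans (h2 _ (P.inv_mem hk)).symm)
      (by simp) (fun a b ha hb => by rw [mul_add, mul_add, trace_add, trace_add, ha, hb])
      (fun c a ha => by rw [mul_smul_comm, mul_smul_comm, trace_smul, trace_smul, ha]) (hP Z)
  have rg : ∀ g ∈ P, R g (g⁻¹ : GL (Fin 3) F) := fun g hg k hk => by
    rw [← Units.val_mul, ← Units.val_mul, h _ (P.mul_mem hk hg), _root_.mul_inv_rev]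
  have radd : ∀ X Y X' Y', R X Y → R X' Y' → R (X + X') (Y + Y') := fun X Y X' Y' h1 h2 k hk => by
    rw [add_mul, mul_add, trace_add, trace_add, map_add, h1 k hk, h2 k hk]
  have rsmul : ∀ (c : F) X Y, R X Y → R (c • X) (σ c • Y) := fun c X Y h1 k hk => by
    rw [smul_mul_assoc, mul_smul_comm, trace_smul, trace_smul, smul_eq_mul, smul_eq_mul, map_mul,
      h1 k hk]
  have hex : ∀ X, ∃ Y, R X Y := fun X => spanAlg_induction (p := fun X => ∃ Y, R X Y)
    (fun g hg => ⟨_, rg g hg⟩) ⟨0, fun k _ => by simp⟩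
    (fun a b ⟨_, ha⟩ ⟨_, hb⟩ => ⟨_, radd _ _ _ _ ha hb⟩)
    (fun c a ⟨_, ha⟩ => ⟨_, rsmul c _ _ ha⟩) (hP X)
  choose s hs using hex
  have hadd : ∀ X Y, s (X + Y) = s X + s Y := fun X Y =>
    hu _ _ _ (hs _) (radd _ _ _ _ (hs X) (hs Y))
  have hsmul : ∀ (c : F) X, s (c • X) = σ c • s X := fun c X =>
    hu _ _ _ (hs _) (rsmul c _ _ (hs X))
  have h0 : s 0 = 0 := by simpa using hsmul 0 0
  have hN : ∀ g ∈ P, s g = (g⁻¹ : GL (Fin 3) F) := fun g hg => hu _ _ _ (hs _) (rg g hg)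
  obtain ⟨ε, f, h1, h2, h3⟩ := exists_form_of_star hσ s hadd hsmul (fun X Y => by
      refine spanAlg_induction (p := fun X => s (X * Y) = s Y * s X) (fun g hg => ?_)
        (by rw [zero_mul, h0, mul_zero]) (fun a b ha hb => by rw [add_mul, hadd, ha, hb, hadd,
          mul_add]) (fun c a ha => by rw [smul_mul_assoc, hsmul, ha, hsmul, mul_smul_comm])
        (hP X)
      refine spanAlg_induction
        (p := fun Y => s ((g : Matrix (Fin 3) (Fin 3) F) * Y) = s Y * s g) (fun k hk => ?_)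
        (by rw [mul_zero, h0, zero_mul]) (fun a b ha hb => by rw [mul_add, hadd, ha, hb, hadd,
          add_mul]) (fun c a ha => by rw [mul_smul_comm, hsmul, ha, hsmul, smul_mul_assoc])
        (hP Y)
      rw [← Units.val_mul, hN _ (P.mul_mem hg hk), hN g hg, hN k hk, _root_.mul_inv_rev,
        Units.val_mul])
    (by simpa using hN 1 P.one_mem) fun X =>
      spanAlg_induction (p := fun X => s (s X) = X)
        (fun g hg => by rw [hN g hg, hN _ (P.inv_mem hg), inv_inv]) (by rw [h0, h0])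
        (fun a b ha hb => by rw [hadd, hadd, ha, hb])
        (fun c a ha => by rw [hsmul, hsmul, ha, hσ]) (hP X)
  exact ⟨ε, f, h1, fun g hg => h1.mem_isoG_of_adj (by rw [h2, hN g hg, Units.inv_mul]), h3⟩

end Cfsg.Agent.Cl.D3
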