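/-
Unipotent elements, four-groups and elementary abelian subgroups of `SL₃(F)` modulo scalars.
-/
import Mathlib
import Cfsg.Agent.Cl.D3Basic
import Cfsg.Agent.Cl.ClassDiag

set_option autoImplicit false

namespace Cfsg.Agent.Cl.D3

open Matrix Cfsg.Geo Cfsg.Agent.Cl.Max Cfsg.Agent.Cl.Mx

variable {F : Type*} [Field F] {P : Subgroup (GL (Fin 3) F)} {G : Type*} [Group G] {π : P →* G}

/-! ### Unipotent matrices -/

theorem uni_of_pow {l : ℕ} (hl : l.Prime) (h0 : (l : F) = 0) {A : Matrix (Fin 3) (Fin 3) F}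
    {k : ℕ} (h : A ^ l ^ k = 1) : IsNilpotent (A - 1) := by
  have := Fact.mk hl
  have : CharP F l := (CharP.charP_iff_prime_eq_zero hl).2 h0
  exact ⟨l ^ k, by rw [sub_pow_char_pow_of_commute _ _ (Commute.one_right A), h, one_pow, sub_self]⟩

theorem uni_trace {A : Matrix (Fin 3) (Fin 3) F} (h : IsNilpotent (A - 1)) : A.trace = 3 := by
  have := (isNilpotent_trace_of_isNilpotent h).eq_zero
  rw [trace_sub, trace_one, sub_eq_zero] at this
  simpa using this

theorem cube_eq_zero {N : Matrix (Fin 3) (Fin 3) F} (h : IsNilpotent N) : N * N * N = 0 := by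
  have h1 := (isNilpotent_charpoly_sub_pow_of_isNilpotent h).eq_zero
  have h2 := aeval_self_charpoly N
  rw [sub_eq_zero.1 h1] at h2
  simpa [pow_three'] using h2

theorem eig_eq_zero {N : Matrix (Fin 3) (Fin 3) F} (h : IsNilpotent N) {w : Fin 3 → F}
    (hw : w ≠ 0) {c : F} (e : N *ᵥ w = c • w) : c = 0 := by
  have h1 : (N * N * N) *ᵥ w = c ^ 3 • w := by
    simp only [← mulVec_mulVec, e, mulVec_smul, smul_smul, pow_three]
  rw [cube_eq_zero h, zero_mulVec, eq_comm, smul_eq_zero] at h1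
  exact (pow_eq_zero_iff three_ne_zero).1 (h1.resolve_right hw)

theorem uni_eig {A : Matrix (Fin 3) (Fin 3) F} (h : IsNilpotent (A - 1)) {w : Fin 3 → F}
    (hw : w ≠ 0) {c : F} (e : A *ᵥ w = c • w) : c = 1 :=
  sub_eq_zero.1 (eig_eq_zero h hw (by rw [sub_mulVec, e, one_mulVec, sub_smul, one_smul]))

theorem uni_transpose {A : Matrix (Fin 3) (Fin 3) F} (h : IsNilpotent (A - 1)) :
    IsNilpotent (Aᵀ - 1) := by
  obtain ⟨n, hn⟩ := h
  exact ⟨n, by rw [← transpose_one, ← transpose_sub, ← transpose_pow, hn, transpose_zero]⟩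

theorem exists_comb {a b c : Fin 3 → F} (h : LinearIndependent F ![a, b, c]) (w : Fin 3 → F) :
    ∃ x y z : F, w = x • a + y • b + z • c := by
  have h1 := h.span_eq_top_of_card_eq_finrank' (by simp)
  obtain ⟨t, ht⟩ := (Submodule.mem_span_range_iff_exists_fun F).1 (h1 ▸ Submodule.mem_top (x := w))
  exact ⟨t 0, t 1, t 2, by rw [← ht, Fin.sum_univ_three]; rfl⟩

theorem poly_of_commute {N : Matrix (Fin 3) (Fin 3) F} (h3 : N * N * N = 0) (h2 : N * N ≠ 0)
    {M : Matrix (Fin 3) (Fin 3) F} (hM : M * N = N * M) :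
    ∃ a b c : F, M = a • (1 : Matrix (Fin 3) (Fin 3) F) + b • N + c • (N * N) := by
  obtain ⟨u, hu⟩ : ∃ u, N *ᵥ (N *ᵥ u) ≠ 0 := by
    by_contra h
    push Not at h
    exact h2 (Matrix.ext_iff_mulVec.2 fun u => by rw [← mulVec_mulVec, h, zero_mulVec])
  have h0 : ∀ u, N *ᵥ (N *ᵥ (N *ᵥ u)) = 0 := fun u => by
    rw [mulVec_mulVec, mulVec_mulVec, h3, zero_mulVec]
  have hli : LinearIndependent F ![u, N *ᵥ u, N *ᵥ (N *ᵥ u)] := by
    refine Fintype.linearIndependent_iff.2 fun g hg => ?_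
    rw [Fin.sum_univ_three] at hg
    change g 0 • u + g 1 • (N *ᵥ u) + g 2 • (N *ᵥ (N *ᵥ u)) = 0 at hg
    have e1 := congrArg (N *ᵥ ·) hg
    have e2 := congrArg (N *ᵥ ·) e1
    simp only [mulVec_add, mulVec_smul, h0, mulVec_zero, smul_zero, add_zero] at e1 e2
    have g0 := (smul_eq_zero.1 e2).resolve_right hu
    rw [g0, zero_smul, zero_add] at e1 hg
    have g1 := (smul_eq_zero.1 e1).resolve_right hu
    rw [g1, zero_smul, zero_add] at hg
    have g2 := (smul_eq_zero.1 hg).resolve_right hu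
    intro i
    fin_cases i <;> assumption
  obtain ⟨a, b, c, e⟩ := exists_comb hli (M *ᵥ u)
  have hc : ∀ w, M *ᵥ (N *ᵥ w) = N *ᵥ (M *ᵥ w) := fun w => by
    rw [mulVec_mulVec, mulVec_mulVec, hM]
  refine ⟨a, b, c, Matrix.ext_iff_mulVec.2 fun w => ?_⟩
  obtain ⟨x, y, z, rfl⟩ := exists_comb hli w
  simp only [mulVec_add, mulVec_smul, hc, e, add_mulVec, smul_mulVec, one_mulVec,
    ← mulVec_mulVec, h0, mulVec_zero]

theorem sq_eq_zero_of_commute {N X Y : Matrix (Fin 3) (Fin 3) F} (h : IsNilpotent N)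
    (hX : X * N = N * X) (hY : Y * N = N * Y) (hne : X * Y ≠ Y * X) : N * N = 0 := by
  by_contra h2
  obtain ⟨a, b, c, rfl⟩ := poly_of_commute (cube_eq_zero h) h2 hX
  refine hne ?_
  have : Commute N Y := hY.symm
  exact ((((Commute.one_left Y).smul_left a).add_left (this.smul_left b)).add_left
    ((this.mul_left this).smul_left c)).eq

theorem exists_third {v v' : Fin 3 → F} (hv : v ≠ 0) (h : ∀ c : F, c • v ≠ v') :
    ∃ u, LinearIndependent F ![u, v, v'] :=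
  exists_linearIndependent_cons_of_lt_finrank ((LinearIndependent.pair_iff' hv).2 h) (by simp)

theorem parallel_of_fix {A B : Matrix (Fin 3) (Fin 3) F} (hA : IsNilpotent (A - 1))
    (hB : IsNilpotent (B - 1)) (hne : A * B ≠ B * A) {v v' : Fin 3 → F} (hv : v ≠ 0)
    (a1 : A *ᵥ v = v) (a2 : A *ᵥ v' = v') (b1 : B *ᵥ v = v) (b2 : B *ᵥ v' = v') :
    ∃ c : F, c • v = v' := by
  by_contra h
  push Not at h
  obtain ⟨u, hu⟩ := exists_third hv h
  have key : ∀ M N : Matrix (Fin 3) (Fin 3) F, IsNilpotent N → M *ᵥ v = 0 → M *ᵥ v' = 0 →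
      N *ᵥ v = 0 → N *ᵥ v' = 0 → M * N = 0 := fun M N hN m1 m2 n1 n2 => by
    obtain ⟨x, y, z, e⟩ := exists_comb hu (N *ᵥ u)
    have h1 : M *ᵥ (N *ᵥ u) = 0 := by
      by_cases h0 : N *ᵥ u = 0
      · rw [h0, mulVec_zero]
      have hx : x = 0 := eig_eq_zero hN h0 (by
        conv_lhs => rw [e]
        simp only [mulVec_add, mulVec_smul, n1, n2, smul_zero, add_zero])
      rw [e, hx]
      simp only [mulVec_add, mulVec_smul, m1, m2, smul_zero, zero_smul, add_zero, mulVec_zero]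
    refine Matrix.ext_iff_mulVec.2 fun w => ?_
    obtain ⟨x, y, z, rfl⟩ := exists_comb hu w
    simp only [← mulVec_mulVec, mulVec_add, mulVec_smul, h1, n1, n2, mulVec_zero, smul_zero,
      add_zero, zero_mulVec]
  have s : ∀ (M : Matrix (Fin 3) (Fin 3) F) w, M *ᵥ w = w → (M - 1) *ᵥ w = 0 := fun M w e => by
    rw [sub_mulVec, e, one_mulVec, sub_self]
  have h1 := key _ _ hB (s _ _ a1) (s _ _ a2) (s _ _ b1) (s _ _ b2)
  have h2 := key _ _ hA (s _ _ b1) (s _ _ b2) (s _ _ a1) (s _ _ a2)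
  refine hne ?_
  calc A * B = (A - 1) * (B - 1) + (A + B - 1) := by noncomm_ring
    _ = (B - 1) * (A - 1) + (A + B - 1) := by rw [h1, h2]
    _ = B * A := by noncomm_ring

theorem exists_dot_ne_zero {φ : Fin 3 → F} (hφ : φ ≠ 0) : ∃ x, φ ⬝ᵥ x ≠ 0 := by
  by_contra hx
  push Not at hx
  exact hφ (dotProduct_eq_zero _ hx)

theorem fix_of_commute {X N : Matrix (Fin 3) (Fin 3) F} (hX : IsNilpotent (X - 1))
    (h : X * N = N * X) {v φ : Fin 3 → F} (hv : v ≠ 0) (hφ : φ ≠ 0)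
    (e : ∀ x, N *ᵥ x = (φ ⬝ᵥ x) • v) : X *ᵥ v = v ∧ Xᵀ *ᵥ φ = φ := by
  have h1 : ∀ w, (φ ⬝ᵥ w) • X *ᵥ v = (φ ⬝ᵥ X *ᵥ w) • v := fun w => by
    rw [← e, ← mulVec_smul, ← e, mulVec_mulVec, mulVec_mulVec, h]
  obtain ⟨w, hw⟩ := exists_dot_ne_zero hφ
  have h2 : X *ᵥ v = ((φ ⬝ᵥ w)⁻¹ * (φ ⬝ᵥ X *ᵥ w)) • v := by
    rw [mul_smul, ← h1, inv_smul_smul₀ hw]
  rw [uni_eig hX hv h2, one_smul] at h2
  refine ⟨h2, dotProduct_eq _ _ fun w => ?_⟩
  have h3 := h1 w
  rw [h2] at h3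
  rw [mulVec_transpose, ← dotProduct_mulVec, smul_left_injective F hv h3]

/-- Unipotent elements centralised by two non-commuting unipotent elements lie in one root
group. -/
theorem exists_flag {X Y Z Z' : Matrix (Fin 3) (Fin 3) F} (hX : IsNilpotent (X - 1))
    (hY : IsNilpotent (Y - 1)) (hZ : IsNilpotent (Z - 1)) (hZ' : IsNilpotent (Z' - 1))
    (hne : X * Y ≠ Y * X) (h1 : Z ≠ 1) (zx : Commute Z X) (zy : Commute Z Y) (zx' : Commute Z' X)
    (zy' : Commute Z' Y) : ∃ (v φ : Fin 3 → F) (a : F), v ≠ 0 ∧ φ ≠ 0 ∧ φ ⬝ᵥ v = 0 ∧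
      (∀ x, Z *ᵥ x = x + (φ ⬝ᵥ x) • v) ∧ ∀ x, Z' *ᵥ x = x + ((a • φ) ⬝ᵥ x) • v := by
  have c : ∀ {A B : Matrix (Fin 3) (Fin 3) F}, Commute A B → B * (A - 1) = (A - 1) * B :=
    fun h => ((h.sub_left (Commute.one_left _)).symm).eq
  have s : ∀ {A : Matrix (Fin 3) (Fin 3) F} {v φ : Fin 3 → F},
      (∀ x, (A - 1) *ᵥ x = (φ ⬝ᵥ x) • v) → ∀ x, A *ᵥ x = x + (φ ⬝ᵥ x) • v := fun e x => by
    rw [← e, sub_mulVec, one_mulVec, add_sub_cancel]
  obtain ⟨v, φ, h0, e⟩ := exists_vec_of_sq_zero (sq_eq_zero_of_commute hZ (c zx) (c zy) hne)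
  obtain ⟨v', φ', -, e'⟩ := exists_vec_of_sq_zero (sq_eq_zero_of_commute hZ' (c zx') (c zy') hne)
  have hv : v ≠ 0 := fun h => h1 (Matrix.ext_iff_mulVec.2 fun x => by simp [s e, h])
  have hφ : φ ≠ 0 := fun h => h1 (Matrix.ext_iff_mulVec.2 fun x => by simp [s e, h])
  by_cases h' : v' = 0 ∨ φ' = 0
  · refine ⟨v, φ, 0, hv, hφ, h0, s e, fun x => ?_⟩
    rcases h' with h | h <;> simp [s e', h]
  push Not at h'
  obtain ⟨x1, x2⟩ := fix_of_commute hX (c zx) hv hφ e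
  obtain ⟨y1, y2⟩ := fix_of_commute hY (c zy) hv hφ e
  obtain ⟨x1', x2'⟩ := fix_of_commute hX (c zx') h'.1 h'.2 e'
  obtain ⟨y1', y2'⟩ := fix_of_commute hY (c zy') h'.1 h'.2 e'
  obtain ⟨a, rfl⟩ := parallel_of_fix hX hY hne hv x1 x1' y1 y1'
  obtain ⟨b, rfl⟩ := parallel_of_fix (uni_transpose hX) (uni_transpose hY) (fun h => hne (by
    rw [← transpose_mul, ← transpose_mul] at h
    exact (transpose_injective h).symm)) hφ x2 x2' y2 y2'
  refine ⟨v, φ, a * b, hv, hφ, h0, s e, fun x => ?_⟩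
  simp only [s e', smul_dotProduct, smul_eq_mul, smul_smul]
  congr 2
  ring

/-! ### Four-groups -/

theorem mul_one_add_of_commute (h2 : (2 : F) ≠ 0) {t : GL (Fin 3) F}
    (hd : t ∈ specialLinear (Fin 3) F) (h : t * t = 1) (h1 : t ≠ 1)
    {X : Matrix (Fin 3) (Fin 3) F} (hX : Commute X t) :
    ∃ c : F, X * (1 + (t : Matrix (Fin 3) (Fin 3) F)) = c • (1 + (t : Matrix (Fin 3) (Fin 3) F)) := by
  obtain ⟨v, φ, h0, e⟩ := exists_vec_of_sq h2 hd h h1
  have e' : ∀ x, (1 + (t : Matrix (Fin 3) (Fin 3) F)) *ᵥ x = (2 * φ ⬝ᵥ x) • v := fun x => by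
    rw [add_mulVec, one_mulVec, e, add_neg_cancel_left]
  have h3 : (2 : F) • X *ᵥ v = (2 : F) • (φ ⬝ᵥ X *ᵥ v) • v := by
    have := congrArg (· *ᵥ v) ((Commute.one_right X).add_right hX).eq
    simp only [← mulVec_mulVec, e', h0, mul_one, mulVec_smul] at this
    rw [this, mul_smul]
  refine ⟨φ ⬝ᵥ X *ᵥ v, Matrix.ext_iff_mulVec.2 fun w => ?_⟩
  rw [← mulVec_mulVec, smul_mulVec, e', mulVec_smul, smul_comm]
  exact congrArg _ (smul_right_injective _ h2 h3)

theorem commute_of_four_group (h2 : (2 : F) ≠ 0) {s t : GL (Fin 3) F}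
    (ds : s ∈ specialLinear (Fin 3) F) (dt : t ∈ specialLinear (Fin 3) F) (hs : s * s = 1)
    (ht : t * t = 1) (hst : Commute s t) (s1 : s ≠ 1) (t1 : t ≠ 1) (hne : s ≠ t)
    {X Y : Matrix (Fin 3) (Fin 3) F} (xs : Commute X s) (xt : Commute X t) (ys : Commute Y s)
    (yt : Commute Y t) : X * Y = Y * X := by
  have hu : s * t * (s * t) = 1 := by
    rw [mul_assoc, ← mul_assoc t, ← hst.eq, mul_assoc, ht, mul_one, hs]
  have u1 : s * t ≠ 1 := fun h => hne (mul_left_cancel (hs.trans h.symm))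
  have du := Subgroup.mul_mem _ ds dt
  obtain ⟨c, hc⟩ := mul_one_add_of_commute h2 dt ht t1 (X := s) (congrArg Units.val hst.eq)
  have h3 := congrArg trace hc
  rw [mul_add, mul_one, trace_add, trace_smul, trace_add, ← Units.val_mul, trace_of_sq h2 ds hs s1,
    trace_of_sq h2 du hu u1, trace_of_sq h2 dt ht t1, trace_one] at h3
  have h4 : c = -1 := mul_left_cancel₀ h2 (by
    simp only [Fintype.card_fin, Nat.cast_ofNat, smul_eq_mul] at h3
    linear_combination -h3)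
  have h5 : (1 + (s : Matrix (Fin 3) (Fin 3) F)) + (1 + (t : Matrix (Fin 3) (Fin 3) F)) +
      (1 + ((s * t : GL (Fin 3) F) : Matrix (Fin 3) (Fin 3) F)) = (2 : F) • 1 := by
    rw [h4, mul_add, mul_one] at hc
    rw [Units.val_mul]
    linear_combination (norm := module) hc
  have key : ∀ r : GL (Fin 3) F, r ∈ specialLinear (Fin 3) F → r * r = 1 → r ≠ 1 → Commute X r →
      Commute Y r → X * Y * (1 + (r : Matrix (Fin 3) (Fin 3) F)) =
        Y * X * (1 + (r : Matrix (Fin 3) (Fin 3) F)) := fun r dr hr r1 xr yr => by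
    obtain ⟨a, ha⟩ := mul_one_add_of_commute h2 dr hr r1 xr
    obtain ⟨b, hb⟩ := mul_one_add_of_commute h2 dr hr r1 yr
    rw [mul_assoc, mul_assoc, ha, hb, mul_smul_comm, mul_smul_comm, ha, hb, smul_comm]
  have h6 : X * Y * ((2 : F) • 1) = Y * X * ((2 : F) • 1) := by
    rw [← h5, mul_add, mul_add, key s ds hs s1 xs ys, key t dt ht t1 xt yt,
      key _ du hu u1 (xs.mul_right xt) (ys.mul_right yt), ← mul_add, ← mul_add]
  rw [mul_smul_comm, mul_smul_comm, mul_one, mul_one] at h6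
  exact smul_right_injective _ h2 h6

/-! ### Elementary abelian subgroups -/

theorem trace_eq_zero_of_conj {g h : GL (Fin 3) F} {c : F} (hc : c ≠ 1)
    (e : ((h * g * h⁻¹ : GL (Fin 3) F) : Matrix (Fin 3) (Fin 3) F) =
      c • (g : Matrix (Fin 3) (Fin 3) F)) : (g : Matrix (Fin 3) (Fin 3) F).trace = 0 := by
  have h1 := trace_cj h (g : Matrix (Fin 3) (Fin 3) F)
  rw [cj_coe, e, trace_smul, smul_eq_mul] at h1
  exact (mul_eq_zero.1 (show (c - 1) * _ = 0 by linear_combination h1)).resolve_left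
    (sub_ne_zero.2 hc)

/-- An extraspecial pair has only scalars in its centraliser. -/
theorem scalar_of_pair (h3 : (3 : F) ≠ 0) {a b : GL (Fin 3) F} {ω : Fˣ} (h1 : ω ≠ 1)
    (hω : ω ^ 3 = 1) (e : a * b * a⁻¹ = sc (Fin 3) ω * b) {y : GL (Fin 3) F} (ya : Commute y a)
    (yb : Commute y b) : y ∈ scalars (Fin 3) F := by
  have hc : ∀ (u : Fˣ) (g : GL (Fin 3) F), Commute (sc (Fin 3) u) g := fun u g =>
    mul_comm_of_mem_scalars (sc_mem u) g
  have e' : b * a * b⁻¹ = sc (Fin 3) ω⁻¹ * a := by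
    rw [map_inv, eq_inv_mul_iff_mul_eq, ← mul_assoc, ← mul_assoc, ← e]
    group
  have ho : orderOf ω = 3 := by
    have := Fact.mk Nat.prime_three
    exact orderOf_eq_prime hω h1
  have key : ∀ m n : ℤ, ¬ ((3 : ℤ) ∣ m ∧ (3 : ℤ) ∣ n) →
      ((a ^ m * b ^ n : GL (Fin 3) F) : Matrix (Fin 3) (Fin 3) F).trace = 0 := fun m n h => by
    by_cases hn : (3 : ℤ) ∣ n
    · refine trace_eq_zero_of_conj (h := b) (c := ((ω⁻¹ ^ m : Fˣ) : F)) (fun h0 => h ⟨?_, hn⟩) ?_
      · have := orderOf_dvd_iff_zpow_eq_one.2 (Units.val_eq_one.1 h0)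
        rwa [orderOf_inv, ho] at this
      · rw [show b * (a ^ m * b ^ n) * b⁻¹ = (b * a * b⁻¹) ^ m * b ^ n by
          rw [conj_zpow]; group, e', (hc _ _).mul_zpow, ← map_zpow, mul_assoc, Units.val_mul,
          coe_sc, smul_mul_assoc, one_mul]
    · refine trace_eq_zero_of_conj (h := a) (c := ((ω ^ n : Fˣ) : F)) (fun h0 => hn ?_) ?_
      · have := orderOf_dvd_iff_zpow_eq_one.2 (Units.val_eq_one.1 h0)
        rwa [ho] at this
      · rw [show a * (a ^ m * b ^ n) * a⁻¹ = a ^ m * (a * b * a⁻¹) ^ n by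
          rw [conj_zpow]; group, e, (hc _ _).mul_zpow, ← map_zpow, ← mul_assoc, ← (hc _ _).eq,
          mul_assoc, Units.val_mul, coe_sc, smul_mul_assoc, one_mul]
  let s : Fin 3 × Fin 3 → GL (Fin 3) F := fun i => a ^ (i.1 : ℤ) * b ^ (i.2 : ℤ)
  have hli := linearIndependent_of_trace h3 s fun i j hij => by
    rw [← key (j.1 - i.1) (j.2 - i.2) fun h => hij (Prod.ext (Fin.ext ?_) (Fin.ext ?_)),
      ← trace_cj (b ^ (i.2 : ℤ)), cj_coe]
    · congr 2
      simp only [s]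
      group
    all_goals omega
  have hsp := hli.span_eq_top_of_card_eq_finrank' (by simp [Module.finrank_matrix])
  refine mem_scalars_of_commute fun x => ?_
  have hx : x ∈ Submodule.span F (Set.range fun i => (s i : Matrix (Fin 3) (Fin 3) F)) :=
    hsp ▸ Submodule.mem_top
  induction hx using Submodule.span_induction with
  | mem x hx =>
    obtain ⟨i, rfl⟩ := hx
    exact congrArg Units.val ((ya.zpow_right _).mul_right (yb.zpow_right _)).eq
  | zero => simp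
  | add x y _ _ hx hy => rw [mul_add, add_mul, hx, hy]
  | smul c x _ hx => rw [mul_smul_comm, smul_mul_assoc, hx]

theorem card_le_sq_of_commute {l : ℕ} (hl : l.Prime) (hlp : (l : F) ≠ 0) {A : Type*} [Group A]
    (φ : A →* GL (Fin 3) F) (hφ : Function.Injective φ) (hd : ∀ a, φ a ∈ specialLinear (Fin 3) F)
    (hc : ∀ a b : A, Commute a b) (hA : ∀ a : A, a ^ l = 1) : Nat.card A ≤ l ^ 2 := by
  let K := AlgebraicClosure F
  have : NeZero (l : K) := ⟨by rwa [← map_natCast (algebraMap F K), _root_.map_ne_zero]⟩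
  have : NeZero l := ⟨hl.ne_zero⟩
  obtain ⟨ζ, hζ⟩ := HasEnoughRootsOfUnity.exists_primitiveRoot K l
  exact Cls.card_le_pow_of_commute_of_det
    ((algebraMap F K).mapMatrix.toMonoidHom.comp ((Units.coeHom _).comp φ))
    (fun a b h => hφ (Units.ext (Matrix.map_injective (algebraMap F K).injective h))) hc hl.pos hζ
    hA fun a => by
      change ((algebraMap F K).mapMatrix (φ a : Matrix (Fin 3) (Fin 3) F)).det = 1
      rw [← RingHom.map_det, (mem_specialLinear_iff _).1 (hd a), map_one]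

theorem Cov.card_le_sq [Finite F] (hπ : Cov P π) {l : ℕ} (hl : l.Prime) (hlp : (l : F) ≠ 0)
    {E : Subgroup G} (hc : ∀ x ∈ E, ∀ y ∈ E, x * y = y * x) (hE : ∀ x ∈ E, x ^ l = 1) :
    Nat.card E ≤ l ^ 2 := by
  by_cases h : ∀ a ∈ E.comap π, ∀ b ∈ E.comap π, a * b = b * a
  · have h' : ∀ a b : E.comap π, Commute a b := fun a b => Subtype.ext (h a a.2 b b.2)
    let ψ : E.comap π →* E.comap π := MonoidHom.mk' (· ^ l) fun a b => (h' a b).mul_pow l
    let ρ := π.subgroupComap E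
    have h1 := ψ.ker.card_mul_index
    have h2 := ρ.ker.card_mul_index
    rw [Subgroup.index_ker] at h1 h2
    rw [MonoidHom.range_eq_top.2 (π.subgroupComap_surjective_of_surjective E hπ.surj),
      Subgroup.card_top] at h2
    have h3 : Nat.card ψ.range ≤ Nat.card ρ.ker := Subgroup.card_le_of_le (by
      rintro _ ⟨a, rfl⟩
      exact Subtype.ext ((map_pow π a.1 l).trans (hE _ a.2)))
    have h4 : Nat.card ψ.ker ≤ l ^ 2 := card_le_sq_of_commute hl hlp
      (P.subtype.comp ((E.comap π).subtype.comp ψ.ker.subtype))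
      (P.subtype_injective.comp ((E.comap π).subtype_injective.comp ψ.ker.subtype_injective))
      (fun a => hπ.sl a.1.1.2) (fun a b => Subtype.ext (h' a b)) fun a => Subtype.ext a.2
    have h5 : 0 < Nat.card ρ.ker := Nat.card_pos
    refine Nat.le_of_mul_le_mul_left ?_ h5
    rw [h2, ← h1, mul_comm (Nat.card ρ.ker)]
    exact Nat.mul_le_mul h4 h3
  push Not at h
  obtain ⟨a, ha, b, hb, hab⟩ := h
  have conj : ∀ g ∈ E.comap π, ∀ k ∈ E.comap π, ∃ c : F, c ^ 3 = 1 ∧ (c = 1 → g * k = k * g) ∧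
      (((g * k * g⁻¹ : P) : GL (Fin 3) F) : Matrix (Fin 3) (Fin 3) F) =
        c • ((k : GL (Fin 3) F) : Matrix (Fin 3) (Fin 3) F) := fun g hg k hk => by
    obtain ⟨c, h1, h2⟩ := (hπ.map_eq_iff (g * k * g⁻¹) k).1
      (by rw [map_mul, map_mul, hc _ hg _ hk, map_inv, mul_inv_cancel_right])
    exact ⟨c, h1, fun h => mul_inv_eq_iff_eq_mul.1 (sub_ext (by rw [h2, h, one_smul])), h2⟩
  obtain ⟨ω, h1, h2, h3⟩ := conj a ha b hb
  have hω : ω ≠ 1 := fun h => hab (h2 h)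
  obtain rfl : l = 3 := by
    by_contra h4
    refine hω (eq_one_of_cube h1 (n := l) (Or.inl fun h =>
      h4 ((Nat.prime_dvd_prime_iff_eq Nat.prime_three hl).1 h).symm) ?_)
    have h5 := congrArg (· ^ l) h3
    simp only [smul_pow] at h5
    rw [← coe_coe_pow, ← coe_coe_pow, conj_pow,
      ← (hπ.commute_of_ker (g := b ^ l) ((map_pow π b l).trans (hE _ hb)) a).eq,
      mul_inv_cancel_right] at h5
    nth_rewrite 1 [← one_smul F (((b ^ l : P) : GL (Fin 3) F) : Matrix (Fin 3) (Fin 3) F)] at h5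
    exact (smul_left_injective F (Units.ne_zero _) h5).symm
  have h0 : ω ≠ 0 := fun h => by simp [h] at h1
  have := Finite.of_surjective π hπ.surj
  have := Fintype.ofFinite E
  choose s hs using fun x : E => hπ.surj x
  rw [Nat.card_eq_fintype_card]
  refine card_le_nine_of_trace (by exact_mod_cast hlp) (fun x => (s x : GL (Fin 3) F))
    fun x y hxy => ?_
  have hg : (s x)⁻¹ * s y ∈ E.comap π := by
    change π _ ∈ E
    rw [map_mul, map_inv, hs, hs]
    exact E.mul_mem (E.inv_mem x.2) y.2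
  obtain ⟨c, -, c1, c2⟩ := conj a ha _ hg
  obtain ⟨d, -, d1, d2⟩ := conj b hb _ hg
  by_contra ht
  have e1 : c = 1 := by_contra fun h => ht (trace_eq_zero_of_conj h c2)
  have e2 : d = 1 := by_contra fun h => ht (trace_eq_zero_of_conj h d2)
  have h6 := (hπ.ker ((s x)⁻¹ * s y)).2 (scalar_of_pair (by exact_mod_cast hlp)
    (a := (a : GL (Fin 3) F)) (b := (b : GL (Fin 3) F)) (ω := Units.mk0 ω h0)
    (fun h => hω (congrArg Units.val h)) (Units.ext h1)
    (Units.ext (by rw [Units.val_mul (sc _ _), coe_sc, smul_mul_assoc, one_mul]; exact h3))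
    (congrArg Subtype.val (c1 e1)).symm (congrArg Subtype.val (d1 e2)).symm)
  rw [map_mul, map_inv, hs, hs, inv_mul_eq_one] at h6
  exact hxy (Subtype.ext h6)

end Cfsg.Agent.Cl.D3
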