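/-
Heisenberg subgroups of covers in `SL₃(F)`; traces and the field of definition.
-/
import Mathlib
import Cfsg.Agent.Cl.D3MasterA

set_option autoImplicit false

namespace Cfsg.Agent.Cl.D3

open Matrix Cfsg.Geo Cfsg.Agent.Cl.Max Cfsg.Agent.Cl.Mx

variable {F : Type*} [Field F] {P : Subgroup (GL (Fin 3) F)} {G : Type*} [Group G] {π : P →* G}

/-! ### Heisenberg groups -/

/-- Normal form of the elements of a Heisenberg group. -/
def hE (x y z : G) (a b c : ℤ) : G := x ^ a * y ^ b * z ^ c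

namespace Heis

variable {l : ℕ} {x y z d : G}

theorem swap (h : Heis l x y z d) (a b : ℤ) : x ^ a * y ^ b = y ^ b * x ^ a * z ^ (a * b) := by
  have h1 : x * y * x⁻¹ = y * z := by rw [h.comm, mul_assoc y, ← h.zx.eq]; group
  have h2 : x * y ^ b * x⁻¹ = y ^ b * z ^ b := by rw [← conj_zpow, h1, h.zy.symm.mul_zpow]
  have h3 : (y ^ b)⁻¹ * x * (y ^ b)⁻¹⁻¹ = x * z ^ b := by
    rw [inv_inv, mul_assoc, mul_inv_eq_iff_eq_mul.1 h2, ← (h.zx.zpow_left b).eq]
    group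
  have h4 := congrArg (· ^ a) h3
  simp only [conj_zpow] at h4
  rw [(h.zx.zpow_left b).symm.mul_zpow, ← _root_.zpow_mul, mul_comm b] at h4
  rw [mul_assoc, ← h4]
  group

theorem mul (h : Heis l x y z d) (a b c a' b' c' : ℤ) :
    hE x y z a b c * hE x y z a' b' c' = hE x y z (a + a') (b + b') (c + c' - a' * b) := by
  have h1 : y ^ b * x ^ a' = x ^ a' * y ^ b * z ^ (-(a' * b)) := by rw [h.swap]; group
  have h2 : ∀ e : ℤ, z ^ e * y ^ b' = y ^ b' * z ^ e := fun e => (h.zy.zpow_zpow _ _).eq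
  calc _ = x ^ a * y ^ b * (z ^ c * x ^ a') * y ^ b' * z ^ c' := by simp only [hE, mul_assoc]
    _ = x ^ a * (y ^ b * x ^ a') * (z ^ c * y ^ b') * z ^ c' := by
      rw [(h.zx.zpow_zpow _ _).eq]; simp only [mul_assoc]
    _ = x ^ a * x ^ a' * y ^ b * (z ^ (-(a' * b)) * y ^ b') * z ^ c * z ^ c' := by
      rw [h1, h2]; simp only [mul_assoc]
    _ = _ := by rw [h2, hE]; group

theorem inv (h : Heis l x y z d) (a b c : ℤ) :
    (hE x y z a b c)⁻¹ = hE x y z (-a) (-b) (-c - a * b) :=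
  inv_eq_of_mul_eq_one_right (by rw [h.mul, hE]; group)

theorem conj (h : Heis l x y z d) (i j a b c : ℤ) :
    hE x y z i j 0 * hE x y z a b c * (hE x y z i j 0)⁻¹ = hE x y z a b (c - a * j + i * b) := by
  rw [mul_inv_eq_iff_eq_mul, h.mul, h.mul]
  congr 1 <;> ring

theorem conj_d (h : Heis l x y z d) (a b c : ℤ) :
    d * hE x y z a b c * d⁻¹ = hE x y z (-a) (-b) c := by
  have h1 : d * z * d⁻¹ = z := by rw [← h.zd.eq, mul_inv_cancel_right]
  calc _ = (d * x * d⁻¹) ^ a * (d * y * d⁻¹) ^ b * (d * z * d⁻¹) ^ c := by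
        simp only [conj_zpow, hE]; group
    _ = _ := by rw [h.dx, h.dy, h1, hE]; group

theorem zpow_eq (h : Heis l x y z d) {c c' : ℤ} : z ^ c = z ^ c' ↔ (l : ℤ) ∣ c' - c := by
  rw [zpow_eq_zpow_iff_modEq, h.zl, Int.modEq_iff_dvd]

theorem per (h : Heis l x y z d) (a b : ℤ) {c c' : ℤ} (e : (l : ℤ) ∣ c' - c) :
    hE x y z a b c = hE x y z a b c' := by rw [hE, hE, h.zpow_eq.2 e]

theorem eq_zpow (h : Heis l x y z d) {a b : ℤ} (ha : (l : ℤ) ∣ a) (hb : (l : ℤ) ∣ b) (c : ℤ) :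
    hE x y z a b c = z ^ c := by
  obtain ⟨a, rfl⟩ := ha
  obtain ⟨b, rfl⟩ := hb
  rw [hE, _root_.zpow_mul, _root_.zpow_mul, zpow_natCast, zpow_natCast, h.xl, h.yl]
  simp

theorem dvd_of_eq_one (h : Heis l x y z d) {a b c : ℤ} (e : hE x y z a b c = 1) :
    (l : ℤ) ∣ a ∧ (l : ℤ) ∣ b ∧ (l : ℤ) ∣ c := by
  have k : ∀ i j : ℤ, (l : ℤ) ∣ a * j - i * b := fun i j => by
    have h1 := h.conj i j a b c
    rw [e, mul_one, mul_inv_cancel, ← e, hE, hE, mul_right_inj, eq_comm, h.zpow_eq] at h1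
    convert h1 using 1
    ring
  have ha : (l : ℤ) ∣ a := by simpa using k 0 1
  have hb : (l : ℤ) ∣ b := by simpa using k 1 0
  rw [h.eq_zpow ha hb, ← zpow_zero z, eq_comm, h.zpow_eq, sub_zero] at e
  exact ⟨ha, hb, e⟩

theorem cube (h : Heis 3 x y z d) (a b c : ℤ) : hE x y z a b c ^ 3 = 1 := by
  rw [pow_three, h.mul, h.mul, h.eq_zpow ⟨a, by push_cast; ring⟩ ⟨b, by push_cast; ring⟩,
    ← zpow_zero z, h.zpow_eq]
  exact ⟨a * b - c, by push_cast; ring⟩

theorem real (h : Heis 3 x y z d) (a b c : ℤ) : IsConj (hE x y z a b c) (hE x y z a b c)⁻¹ := by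
  have k : ∀ i j : ℤ, (3 : ℤ) ∣ -c - a * b - (c - -a * j + i * -b) →
      IsConj (hE x y z a b c) (hE x y z a b c)⁻¹ := fun i j e =>
    (isConj_iff.2 ⟨d, h.conj_d a b c⟩).trans
      (isConj_iff.2 ⟨_, (h.conj i j _ _ _).trans ((h.per _ _ e).trans (h.inv a b c).symm)⟩)
  have sq : ∀ a : ℤ, ¬ (3 : ℤ) ∣ a → ∃ t, a * a = 3 * t + 1 := fun a ha => by
    obtain ⟨t, ht | ht⟩ : ∃ t, a = 3 * t + 1 ∨ a = 3 * t + 2 := ⟨a / 3, by omega⟩
    · exact ⟨3 * t * t + 2 * t, by rw [ht]; ring⟩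
    · exact ⟨3 * t * t + 4 * t + 1, by rw [ht]; ring⟩
  by_cases ha : (3 : ℤ) ∣ a
  · by_cases hb : (3 : ℤ) ∣ b
    · obtain ⟨u, hu⟩ := isConj_iff.1 (h.zconj 2 (by norm_num))
      rw [h.eq_zpow ha hb]
      refine isConj_iff.2 ⟨u, ?_⟩
      rw [← conj_zpow, hu, ← zpow_natCast, ← _root_.zpow_mul, ← _root_.zpow_neg, h.zpow_eq]
      exact ⟨-c, by push_cast; ring⟩
    · obtain ⟨t, ht⟩ := sq b hb
      exact k (b * (2 * c + a * b)) 0 ⟨t * (2 * c + a * b), by
        linear_combination (2 * c + a * b) * ht⟩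
  · obtain ⟨t, ht⟩ := sq a ha
    exact k 0 (a * (c - a * b)) ⟨-c - t * (c - a * b), by linear_combination -(c - a * b) * ht⟩

theorem ne (h : Heis l x y z d) (hl : l.Prime) : x * y ≠ y * x := fun e => by
  have h1 := h.comm
  rw [e, left_eq_mul] at h1
  exact hl.one_lt.ne (by rw [← h.zl, h1, orderOf_one])

theorem four (h : Heis l x y z d) (h5 : 5 ≤ l) : Four l z :=
  ⟨h.zl, {1, 2, 3, 4}, by simp, fun k hk => by
    have : 1 ≤ k ∧ k ≤ 4 := by simp only [Finset.mem_insert, Finset.mem_singleton] at hk; omega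
    exact ⟨by omega, h.zconj k fun e => by have := Nat.le_of_dvd (by omega) e; omega⟩⟩

end Heis

theorem Cov.not_heis_three (hπ : Cov P π) (h3 : (3 : F) ≠ 0) {x y z d : G} :
    ¬ Heis 3 x y z d := fun h => by
  choose s hs using fun i : Fin 3 × Fin 3 × Fin 3 => hπ.surj (hE x y z i.1 i.2.1 i.2.2)
  have := card_le_nine_of_trace h3 (fun i => (s i : GL (Fin 3) F)) fun i j hij => by
    have e := map_mul π (s i)⁻¹ (s j)
    rw [map_inv, hs, hs, h.inv, h.mul] at e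
    refine (hπ.real_three' (g := (s i)⁻¹ * s j) (fun h1 => hij ?_) (e ▸ h.cube _ _ _)
      (e ▸ h.real _ _ _)).1
    obtain ⟨h1, h2, h4⟩ := h.dvd_of_eq_one (e ▸ h1)
    obtain ⟨a, b, c⟩ := i
    obtain ⟨a', b', c'⟩ := j
    dsimp only at h1 h2 h4
    obtain rfl : a = a' := Fin.ext (by omega)
    obtain rfl : b = b' := Fin.ext (by omega)
    ring_nf at h4
    obtain rfl : c = c' := Fin.ext (by omega)
    rfl
  simp at this

theorem not_three_dvd {l : ℕ} (hl : l.Prime) (h0 : (l : F) = 0) (k : ℕ) :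
    ¬ 3 ∣ l ^ k ∨ (3 : F) = 0 := by
  by_cases h : l = 3
  · exact Or.inr (by simpa [h] using h0)
  · exact Or.inl fun e => h ((Nat.prime_dvd_prime_iff_eq Nat.prime_three hl).1
      (Nat.prime_three.dvd_of_dvd_pow e)).symm

theorem uni_of_pow' {l : ℕ} (hl : l.Prime) (h0 : (l : F) = 0) {g : P} {k : ℕ}
    (h : g ^ l ^ k = 1) : IsNilpotent (((g : GL (Fin 3) F) : Matrix (Fin 3) (Fin 3) F) - 1) :=
  uni_of_pow hl h0 (k := k) (by rw [← coe_coe_pow, h]; rfl)

theorem coe_commute {g h : P} (e : Commute g h) :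
    Commute ((g : GL (Fin 3) F) : Matrix (Fin 3) (Fin 3) F)
      ((h : GL (Fin 3) F) : Matrix (Fin 3) (Fin 3) F) :=
  congrArg (fun z : P => ((z : GL (Fin 3) F) : Matrix (Fin 3) (Fin 3) F)) e.eq

theorem Cov.exists_flag (hπ : Cov P π) {l : ℕ} (hl : l.Prime) (h0 : (l : F) = 0) {x y z z' : G}
    (hx : x ^ l ^ 2 = 1) (hy : y ^ l ^ 2 = 1) (hz : z ^ l ^ 1 = 1) (hz' : z' ^ l ^ 1 = 1)
    (hne : x * y ≠ y * x) (h1 : z ≠ 1) (zx : Commute z x) (zy : Commute z y) (zx' : Commute z' x)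
    (zy' : Commute z' y) : ∃ (v φ : Fin 3 → F) (a : F), v ≠ 0 ∧ φ ≠ 0 ∧ MT P v φ ∧
      MT P v (a • φ) ∧ (a = 0 → z' = 1) ∧ (a = 1 → z' = z) ∧ (a = -1 → z' = z⁻¹) := by
  obtain ⟨x, rfl, gx⟩ := hπ.exists_lift (not_three_dvd hl h0 2) hx
  obtain ⟨y, rfl, gy⟩ := hπ.exists_lift (not_three_dvd hl h0 2) hy
  obtain ⟨z, rfl, gz⟩ := hπ.exists_lift (not_three_dvd hl h0 1) hz
  obtain ⟨z', rfl, gz'⟩ := hπ.exists_lift (not_three_dvd hl h0 1) hz'
  have c := fun {g h : P} (hg : g ^ l ^ 1 = 1) (e : Commute (π g) (π h)) =>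
    coe_commute (hπ.commute_lift (not_three_dvd hl h0 1) hg e)
  obtain ⟨v, φ, a, hv, hφ, h2, e, e'⟩ := D3.exists_flag (uni_of_pow' hl h0 gx)
    (uni_of_pow' hl h0 gy) (uni_of_pow' hl h0 gz) (uni_of_pow' hl h0 gz')
    (fun h => hne (by rw [← map_mul, ← map_mul, sub_ext (g := x * y) (h := y * x) h]))
    (fun h => h1 (by rw [sub_ext (g := z) (h := 1) h, map_one])) (c gz zx) (c gz zy) (c gz' zx')
    (c gz' zy')
  refine ⟨v, φ, a, hv, hφ, ⟨h2, z, z.2, e⟩, ⟨by rw [smul_dotProduct, h2, smul_zero], z', z'.2, e'⟩,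
    fun h => ?_, fun h => ?_, fun h => ?_⟩
  · rw [show z' = 1 from Subtype.ext (gl_ext fun w => by simp [e', h]), map_one]
  · rw [show z' = z from Subtype.ext (gl_ext fun w => by simp [e, e', h])]
  · rw [show z' = z⁻¹ from Subtype.ext (gl_ext fun w => by
      rw [Subgroup.coe_inv, MT.inv_mulVec h2 e, e', h]; simp [sub_eq_add_neg]), map_inv]

theorem Cov.root_of_heis (hπ : Cov P π) {l : ℕ} (hl : l.Prime) (h0 : (l : F) = 0) {x y z d : G}
    (h : Heis l x y z d) : Root P l := by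
  classical
  have hz : z ^ l ^ 1 = 1 := by rw [pow_one, ← h.zl, pow_orderOf_eq_one]
  obtain ⟨v, φ, -, hv, hφ, h1, -⟩ := hπ.exists_flag hl h0 (by rw [pow_two, pow_mul, h.xl, one_pow])
    (by rw [pow_two, pow_mul, h.yl, one_pow]) hz hz (h.ne hl)
    (fun e => hl.one_lt.ne (by rw [← h.zl, e, orderOf_one])) h.zx h.zy h.zx h.zy
  have : CharP F l := (CharP.charP_iff_prime_eq_zero hl).2 h0
  refine ⟨v, φ, hv, hφ, (Finset.range l).image Nat.cast, ?_, fun a ha => ?_⟩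
  · rw [Finset.card_image_of_injOn (by simpa using CharP.natCast_injOn_Iio F l), Finset.card_range]
  · obtain ⟨n, -, rfl⟩ := Finset.mem_image.1 ha
    exact h1.nsmul n

theorem Cov.root_of_ttd (hπ : Cov P π) {l : ℕ} (hl : l.Prime) (h0 : (l : F) = 0) {x y z z' : G}
    (h : TTD l x y z z') : Root P 4 := by
  classical
  obtain ⟨v, φ, a, hv, hφ, h1, h2, a0, a1, a2⟩ := hπ.exists_flag hl h0 h.xl h.yl
    (by rw [pow_one, ← h.zl, pow_orderOf_eq_one]) (by rw [pow_one, h.zl']) h.ne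
    (fun e => hl.one_lt.ne (by rw [← h.zl, e, orderOf_one])) h.zx h.zy h.zx' h.zy'
  have b0 : a ≠ 0 := fun e => h.notMem (a0 e ▸ Subgroup.one_mem _)
  have b1 : a ≠ 1 := fun e => h.notMem (a1 e ▸ Subgroup.mem_zpowers _)
  have b2 : a + 1 ≠ 0 := fun e => h.notMem
    (a2 (eq_neg_of_add_eq_zero_left e) ▸ Subgroup.inv_mem _ (Subgroup.mem_zpowers _))
  refine ⟨v, φ, hv, hφ, {0, 1, a, a + 1}, ?_, fun c hc => ?_⟩
  · rw [Finset.card_eq_four.2 ⟨_, _, _, _, zero_ne_one, b0.symm, b2.symm, b1.symm,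
      by simpa using b0, by simp, rfl⟩]
  · simp only [Finset.mem_insert, Finset.mem_singleton] at hc
    rcases hc with rfl | rfl | rfl | rfl
    · simpa using MT.zero P v
    · simpa using h1
    · exact h2
    · rw [add_smul, one_smul]; exact h2.add h1

theorem Cov.not_ttd_two (hπ : Cov P π) (h2 : (2 : F) ≠ 0) {x y z z' : G} : ¬ TTD 2 x y z z' := by
  intro h
  obtain ⟨x, rfl⟩ := hπ.surj x
  obtain ⟨y, rfl⟩ := hπ.surj y
  have hn : ¬ 3 ∣ 2 ∨ (3 : F) = 0 := Or.inl (by norm_num)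
  obtain ⟨z, rfl, hz⟩ := hπ.exists_lift hn (x := z) (by rw [← h.zl, pow_orderOf_eq_one])
  obtain ⟨z', rfl, hz'⟩ := hπ.exists_lift hn h.zl'
  have c := fun {g h : P} (hg : g ^ 2 = 1) (e : Commute (π g) (π h)) =>
    (coe_commute (hπ.commute_lift hn hg e)).symm
  refine h.ne ?_
  rw [← map_mul, ← map_mul, sub_ext (g := x * y) (h := y * x) (commute_of_four_group h2
    (hπ.sl z.2) (hπ.sl z'.2) (congrArg Subtype.val (pow_two z ▸ hz))
    (congrArg Subtype.val (pow_two z' ▸ hz'))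
    (congrArg Subtype.val (hπ.commute_lift hn hz h.zz).eq) (fun e => ?_) (fun e => ?_)
    (fun e => ?_) (c hz h.zx) (c hz' h.zx') (c hz h.zy) (c hz' h.zy'))]
  · have := h.zl
    rw [show z = 1 from Subtype.ext e, map_one, orderOf_one] at this
    omega
  · exact h.notMem (by rw [show z' = 1 from Subtype.ext e, map_one]; exact Subgroup.one_mem _)
  · exact h.notMem (by rw [← show z = z' from Subtype.ext e]; exact Subgroup.mem_zpowers _)

/-! ### Traces -/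

theorem trace_pow_char (p : ℕ) [Fact p.Prime] [CharP F p] (A : Matrix (Fin 3) (Fin 3) F) :
    (A ^ p).trace = A.trace ^ p := by
  let K := AlgebraicClosure F
  have : CharP K p := charP_of_injective_algebraMap (algebraMap F K).injective p
  have h : ∀ B : Matrix (Fin 3) (Fin 3) F, algebraMap F K B.trace = (Cls.evM K B).sum := fun B => by
    rw [Cls.evM, Polynomial.aroots_def, ← Matrix.charpoly_map, ← trace_eq_sum_roots_charpoly,
      AddMonoidHom.map_trace]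
  apply (algebraMap F K).injective
  rw [map_pow, h, h, Cls.evM_pow, ← frobenius_def, map_multiset_sum]
  rfl

/-- The trace of an element of `P`. -/
abbrev tr (g : P) : F := ((g : GL (Fin 3) F) : Matrix (Fin 3) (Fin 3) F).trace

theorem tr_pow_char (p : ℕ) [Fact p.Prime] [CharP F p] (g : P) : tr g ^ p = tr (g ^ p) := by
  rw [tr, tr, coe_coe_pow, trace_pow_char]

theorem tr_uni {l : ℕ} (hl : l.Prime) (h0 : (l : F) = 0) {g : P} {k : ℕ} (h : g ^ l ^ k = 1) :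
    tr g = 3 := uni_trace (uni_of_pow' hl h0 h)

theorem orth_of_real [Finite F] (hP : QS P) (h : ∀ g : P, tr g = tr g⁻¹) : (2 : F) ≠ 0 ∧
    ∃ f : (Fin 3 → F) → (Fin 3 → F) → F, HForm (RingHom.id F) 1 f ∧ P ≤ isoG f := by
  obtain ⟨ε, f, h1, h2, -⟩ := exists_form_of_trace hP.spans (σ := RingHom.id F) (fun _ => rfl)
    fun g hg => h ⟨g, hg⟩
  have h0 : (2 : F) ≠ 0 := fun h0 => by
    have := h1.even_of_alt (h1.alt_of_irr h0 hP.spans.irr hP.two_le
      (h2.trans (isoG_le_similarityGroup f)))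
    revert this
    decide
  rcases h1.eps with rfl | rfl
  · exact ⟨h0, f, h1, h2⟩
  · exact absurd (h1.even_card_of_neg h0) (by decide)

theorem card_dvd_of_pow [Fintype F] (p : ℕ) [Fact p.Prime] [CharP F p] (ht : TrGen P) {k : ℕ}
    (h : ∀ g : P, tr g ^ p ^ k = tr g) :
    (∀ a : F, a ^ p ^ k = a) ∧ ∃ n, 0 < n ∧ n ∣ k ∧ Fintype.card F = p ^ n := by
  have h1 := ht ((iterateFrobenius F p k).eqLocusField (RingHom.id F)) fun g hg => h ⟨g, hg⟩
  have h2 : ∀ a : F, a ^ p ^ k = a := fun a =>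
    show a ∈ (iterateFrobenius F p k).eqLocusField (RingHom.id F) from h1 ▸ trivial
  obtain ⟨n, hp, hn⟩ := FiniteField.card F p
  refine ⟨h2, n, n.pos, ?_, hn⟩
  have h3 := FiniteField.forall_pow_eq_one_iff F (p ^ k - 1) |>.1 fun x => by
    have h4 := h2 x
    rw [← Nat.sub_add_cancel (Nat.one_le_pow k p hp.pos), pow_succ, mul_eq_right₀ x.ne_zero] at h4
    exact Units.ext (by simpa using h4)
  rw [hn] at h3
  have h5 := Nat.gcd_eq_left h3
  rw [Nat.pow_sub_one_gcd_pow_sub_one] at h5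
  have h6 := Nat.one_le_pow (Nat.gcd n k) p hp.pos
  have h7 := Nat.one_le_pow n p hp.pos
  exact Nat.gcd_eq_left_iff_dvd.1 (Nat.pow_right_injective hp.two_le (by simp only; omega))

theorem card_eq_of_fix [Fintype F] (p : ℕ) [Fact p.Prime] [CharP F p] (ht : TrGen P)
    (h : ∀ g : P, tr g ^ p = tr g) : Fintype.card F = p := by
  obtain ⟨-, n, -, h1, h2⟩ := card_dvd_of_pow p ht (k := 1) (by simpa using h)
  rw [h2, Nat.dvd_one.1 h1, pow_one]

theorem card_of_sq [Fintype F] (p : ℕ) [Fact p.Prime] [CharP F p] (ht : TrGen P)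
    (h : ∀ g : P, tr g ^ p ^ 2 = tr g) {a : F} (ha : a ^ p ≠ a) : Fintype.card F = p ^ 2 := by
  obtain ⟨-, n, -, h1, h2⟩ := card_dvd_of_pow p ht h
  rcases (Nat.dvd_prime Nat.prime_two).1 h1 with rfl | rfl
  · exact absurd (by rw [← pow_one p, ← h2, FiniteField.pow_card]) ha
  · exact h2

theorem orth_or_uni [Fintype F] (p : ℕ) [Fact p.Prime] [CharP F p] (hP : QS P) (ht : TrGen P)
    (h : ∀ g : P, tr g ^ p = tr g⁻¹) :
    ((2 : F) ≠ 0 ∧ ∃ f : (Fin 3 → F) → (Fin 3 → F) → F, HForm (RingHom.id F) 1 f ∧ P ≤ isoG f) ∨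
      ∃ (σ : F →+* F) (f : (Fin 3 → F) → (Fin 3 → F) → F),
        UField σ p ∧ HForm σ 1 f ∧ P ≤ isoG f := by
  have h1 : ∀ g : P, tr g ^ p ^ 2 = tr g := fun g => by rw [pow_two, pow_mul, h, h, inv_inv]
  by_cases h2 : ∀ a : F, a ^ p = a
  · exact Or.inl (orth_of_real hP fun g => by rw [← h, h2])
  push Not at h2
  obtain ⟨a, ha⟩ := h2
  obtain ⟨ε, f, h3, h4, h5⟩ := exists_form_of_trace hP.spans (σ := frobenius F p)
    (fun a => by rw [frobenius_def, frobenius_def, ← pow_mul, ← pow_two,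
      (card_dvd_of_pow p ht h1).1]) fun g hg => h ⟨g, hg⟩
  obtain rfl := h5 ⟨a, ha⟩
  exact Or.inr ⟨_, f, ⟨by rw [Nat.card_eq_fintype_card, card_of_sq p ht h1 ha], fun _ => rfl⟩,
    h3, h4⟩

theorem tr_sq_ne (h5 : (5 : F) ≠ 0) (hP : P ≤ specialLinear (Fin 3) F) {g : P} (hg : g ^ 5 = 1)
    (h1 : g ≠ 1) (hr : tr g = tr g⁻¹) : tr (g ^ 2) ≠ tr g := fun e => by
  have h2 := trace_sq_sl (hP g.2)
  have ch := cayley_sl (hP g.2)
  change _ = tr g ^ 2 - 2 * tr g⁻¹ at h2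
  change _ = tr g • _ - tr g⁻¹ • _ + _ at ch
  rw [← pow_two, ← coe_coe_pow] at h2
  change tr (g ^ 2) = _ at h2
  rw [e, ← hr] at h2
  rw [← hr] at ch
  have h6 := coe_coe_pow g 5
  rw [hg, OneMemClass.coe_one, Units.val_one] at h6
  set A := ((g : GL (Fin 3) F) : Matrix (Fin 3) (Fin 3) F) with hA
  rcases mul_eq_zero.1 (show tr g * (tr g - 3) = 0 by linear_combination -h2) with h | h
  · rw [h, zero_smul, zero_smul, sub_self, zero_add] at ch
    have h3 : g ^ 3 = 1 := sub_ext (by rw [coe_coe_pow, pow_three', ch]; rfl)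
    exact h1 (by simpa using pow_gcd_eq_one.2 ⟨h3, hg⟩)
  · rw [sub_eq_zero.1 h] at ch
    obtain ⟨N, hN⟩ : ∃ N, A = N + 1 := ⟨A - 1, by simp⟩
    rw [hN] at ch h6
    have h3 : N * N * N = 0 := by
      have : (N + 1) * (N + 1) * (N + 1) - ((3 : F) • ((N + 1) * (N + 1)) - (3 : F) • (N + 1) + 1)
          = N * N * N := by
        simp only [mul_add, add_mul, mul_one, one_mul]
        module
      rw [← this, ch, sub_self]
    have h4 : (N + 1) ^ 5 = (N * N + (5 : F) • N + (10 : F) • 1) * (N * N * N) +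
        ((5 : F) • N + (10 : F) • (N * N)) + 1 := by
      simp only [pow_succ, pow_zero, mul_add, add_mul, mul_one, one_mul, smul_mul_assoc, mul_assoc]
      module
    rw [← h6, h3, mul_zero, zero_add, right_eq_add] at h4
    have h7 : (5 : F) • (N * N) = 0 := by
      have := congrArg (· * N) h4
      simpa only [add_mul, smul_mul_assoc, h3, smul_zero, add_zero, zero_mul] using this
    rw [(smul_eq_zero.1 h7).resolve_left h5, smul_zero, add_zero] at h4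
    exact h1 (sub_ext (by rw [← hA, hN, (smul_eq_zero.1 h4).resolve_left h5, zero_add]; rfl))

end Cfsg.Agent.Cl.D3
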