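/-
Dickson's lemma: subgroups of `GL₂(F)` with large unitriangular parts.
-/
import Mathlib
import Cfsg.Agent.Cl.D3Base
import Cfsg.Agent.Cl.PSL2Max

set_option autoImplicit false

namespace Cfsg.Agent.Cl.D3

open Matrix Cfsg.Geo Cfsg.Agent.Cl.Max Cfsg.Agent.Cl.Mx
open scoped MatrixGroups

variable {F : Type*} [Field F]

theorem dl_pow {N : Matrix (Fin 2) (Fin 2) F} (hN : N * N = 0) (n : ℕ) :
    (1 + N) ^ n = 1 + (n : F) • N := by
  induction n with
  | zero => simp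
  | succ n ih =>
    rw [pow_succ, ih, add_mul, mul_add, mul_add, smul_mul_assoc, smul_mul_assoc, hN]
    simp only [one_mul, mul_one, smul_zero, add_zero, Nat.cast_succ, add_smul, one_smul]
    abel

/-- A unipotent class modulo scalars lifts to a unipotent element of the subgroup. -/
theorem dl_lift [Finite F] {L : Subgroup (GL (Fin 2) F)} {N : Matrix (Fin 2) (Fin 2) F}
    (hN : N * N = 0) (hd : (1 + N).det ≠ 0) :
    L2.pm (1 + N) ∈ L.map ProjGenLinGroup.mk ↔ ∃ g ∈ L, (g : Matrix (Fin 2) (Fin 2) F) = 1 + N := by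
  have := Fintype.ofFinite F
  refine ⟨?_, fun ⟨g, hg, e⟩ => ⟨g, hg, by rw [← e, L2.pm_coe]⟩⟩
  rintro ⟨g, hg, e⟩
  rw [← L2.pm_coe, eq_comm, L2.pm_eq_iff hd g.det_ne_zero] at e
  obtain ⟨c, hc, e⟩ := e
  refine ⟨g ^ ((Fintype.card F - 1) * (Fintype.card F - 1)), L.pow_mem hg _, ?_⟩
  have h1 : ((Fintype.card F - 1 : ℕ) : F) = -1 := by
    rw [Nat.cast_pred Fintype.card_pos, FiniteField.cast_card_eq_zero, zero_sub]
  rw [Units.val_pow_eq_pow_val, e, _root_.smul_pow, pow_mul,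
    FiniteField.pow_card_sub_one_eq_one c hc, one_pow, one_smul, dl_pow hN, Nat.cast_mul, h1]
  simp

theorem aff_mem_iff [Finite F] {L : Subgroup (GL (Fin 2) F)} {a : F} :
    L2.aff 1 a ∈ L.map ProjGenLinGroup.mk ↔ a ∈ upS L := by
  have e : (!![1, a; 0, 1] : Matrix (Fin 2) (Fin 2) F) = 1 + !![0, a; 0, 0] := by
    ext i j; fin_cases i <;> fin_cases j <;> simp
  rw [L2.aff, upS, Set.mem_ofPred_eq, e]
  exact dl_lift (by ext i j; fin_cases i <;> fin_cases j <;> simp) (e ▸ L2.aff_det one_ne_zero a)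

theorem low_mem_iff [Finite F] {L : Subgroup (GL (Fin 2) F)} {a : F} :
    L2.low a ∈ L.map ProjGenLinGroup.mk ↔ a ∈ loS L := by
  have e : (!![1, 0; a, 1] : Matrix (Fin 2) (Fin 2) F) = 1 + !![0, 0; a, 0] := by
    ext i j; fin_cases i <;> fin_cases j <;> simp
  rw [L2.low, loS, Set.mem_ofPred_eq, e]
  exact dl_lift (by ext i j; fin_cases i <;> fin_cases j <;> simp) (e ▸ L2.low_det a)

open L2 in
theorem exists_swap [Finite F] {H : Subgroup PGL(2, F)} {x y : P1 F} {u v : PGL(2, F)}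
    (hu : u ∈ H) (hux : u ∈ uni x) (hu1 : u ≠ 1) (hv : v ∈ H) (hvy : v ∈ uni y) (hv1 : v ≠ 1) :
    ∃ s ∈ H, s • x = y := by
  have := Fintype.ofFinite F
  obtain ⟨p, hp⟩ := CharP.exists F
  have : Fact p.Prime := ⟨CharP.char_is_prime F p⟩
  have key : ∀ {x : P1 F} {u : PGL(2, F)} (hu : u ∈ H), u ∈ uni x →
      ∃ P : Sylow p H, (⟨u, hu⟩ : H) ∈ P := fun {x u} hu hux => by
    obtain ⟨P, hP⟩ := ((isPGroup_uni p x).comap_subtype (K := H)).exists_le_sylow
    exact ⟨P, hP hux⟩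
  obtain ⟨P, hP⟩ := key hu hux
  obtain ⟨Q, hQ⟩ := key hv hvy
  obtain ⟨s, rfl⟩ := MulAction.exists_smul_eq H P Q
  obtain ⟨z, hz⟩ := exists_le_uni p ((s • P).2.map H.subtype)
  have h1 : y = z := eq_of_unip_fix hv1 hvy.2 hvy.1 (hz ⟨_, hQ, rfl⟩).1
  subst h1
  have h2 : s.1 * u * s.1⁻¹ ∈ uni y := hz ⟨s * ⟨u, hu⟩ * s⁻¹, by
    rw [Sylow.smul_def]
    exact Subgroup.smul_mem_pointwise_smul _ (MulAut.conj s) _ hP, rfl⟩
  refine ⟨s, s.2, eq_of_unip_fix (g := s.1 * u * s.1⁻¹) (by simpa using hu1) h2.2 ?_ h2.1⟩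
  rw [mul_smul, mul_smul, inv_smul_smul, hux.1]

open L2 in
theorem dl [Finite F] {L : Subgroup (GL (Fin 2) F)}
    (h : 4 ≤ (upS L).ncard ∨ (3 ≤ (upS L).ncard ∧ ∃ n : ℕ, ¬ 5 ∣ n ∧ ∀ g ∈ L, g ^ n = 1))
    {b : F} (hb : b ∈ loS L) (hb0 : b ≠ 0) :
    ∃ k : Subfield F, (∀ x, x ∈ upS L ↔ x * b ∈ k) ∧ ∀ x, x ∈ loS L ↔ x * b⁻¹ ∈ k := by
  have := Fintype.ofFinite F
  obtain ⟨p, hp⟩ := CharP.exists F
  have : Fact p.Prime := ⟨CharP.char_is_prime F p⟩
  have h3 : 3 ≤ (upS L).ncard := by omega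
  obtain ⟨a, a', ha, ha', haa, ha0, ha0'⟩ : ∃ a a', a ∈ upS L ∧ a' ∈ upS L ∧ a ≠ a' ∧ a ≠ 0 ∧
      a' ≠ 0 := by
    have h4 : 1 < (upS L \ {0}).ncard := by
      have := Set.ncard_le_ncard_sdiff_add_ncard (upS L) ({0} : Set F)
      rw [Set.ncard_singleton] at this
      omega
    obtain ⟨a, a', h5, h6, h7⟩ := (Set.one_lt_ncard_iff (Set.toFinite _)).1 h4
    exact ⟨a, a', h5.1, h6.1, h7, h5.2, h6.2⟩
  let H := cj (aff a⁻¹ 0) (L.map ProjGenLinGroup.mk)
  have hai := inv_ne_zero ha0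
  have e1 : ∀ x, aff 1 (a⁻¹ * x) ∈ H ↔ x ∈ upS L := fun x => by
    rw [← aff_conj_one hai 0, conj_mem_cj, aff_mem_iff]
  have e2 : ∀ x, low (a * x) ∈ H ↔ x ∈ loS L := fun x => by
    rw [low, ← pm_conj (low_det x) (aff_det hai 0) (B := !![1, 0; a * x, 1]) (by
      ext i j; fin_cases i <;> fin_cases j <;> simp [mul_apply, Fin.sum_univ_two]; field_simp)]
    exact conj_mem_cj.trans low_mem_iff
  have u1 : ∀ x : F, aff 1 x ∈ uni (inf : P1 F) := fun x => mem_uni_inf.2 ⟨x, rfl⟩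
  have u2 : ∀ x : F, x ≠ 0 → aff (1 : F) x ≠ 1 := fun x hx => by
    rw [Ne, aff_eq_one_iff one_ne_zero]; simpa
  have h1 : aff 1 1 ∈ H := by simpa [ha0] using (e1 a).2 ha
  obtain ⟨s, hs, hs0⟩ := exists_swap h1 (u1 1) (u2 1 one_ne_zero) ((e2 b).2 hb) (low_mem_uni _)
    (by rw [Ne, low_eq_one_iff]; exact mul_ne_zero ha0 hb0)
  rcases dickson_irregular_std p H h1 hs hs0 with ⟨-, g, -, ht, hle⟩ | ⟨rfl, ⟨e⟩⟩ | ⟨k, -, k1, k2⟩
  · exfalso
    have n1 : ∀ x : F, x ≠ 0 → aff 1 x ∉ tor g := fun x hx hm =>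
      tau_ne_four_of_mem_tor ht hm (u2 x hx) (u1 x).2
    have h5 := (e1 a').2 ha'
    have h6 := mul_mem_tor_of_not_mem ht (hle (H.inv_mem h1))
      (fun hm => n1 1 one_ne_zero (by simpa using inv_mem hm)) (hle h5)
      (n1 _ (mul_ne_zero hai ha0'))
    rw [aff_inv one_ne_zero, inv_one, aff_mul one_ne_zero one_ne_zero, one_mul] at h6
    refine n1 _ (fun e => haa ?_) h6
    field_simp at e
    linear_combination -e
  · exfalso
    rcases h with h | ⟨-, n, hn, h⟩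
    · let S : Subgroup (Multiplicative F) := H.comap transHom
      have h4 : Nat.card S ∣ 60 := by
        rw [← card_of_A5 e, ← Subgroup.card_map_of_injective transHom_injective]
        exact Subgroup.card_dvd_of_le (Subgroup.map_comap_le _ _)
      obtain ⟨m, -, hm⟩ := FiniteField.card F 3
      have h5 : Nat.card S ∣ 3 ^ (m : ℕ) := by
        rw [← hm, ← Nat.card_eq_fintype_card]
        exact S.card_subgroup_dvd_card
      have h6 : (upS L).ncard ≤ Nat.card S := by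
        rw [← Nat.card_coe_set_eq]
        exact Nat.card_le_card_of_injective
          (fun x : upS L => (⟨Multiplicative.ofAdd (a⁻¹ * x.1), (e1 x).2 x.2⟩ : S)) fun x y e =>
            Subtype.ext (mul_left_cancel₀ hai (congrArg (fun z : S => z.1.toAdd) e))
      obtain ⟨j, -, hj⟩ := (Nat.dvd_prime_pow Nat.prime_three).1 h5
      rw [hj] at h4 h6
      match j with
      | 0 => omega
      | 1 => omega
      | j + 2 => exact absurd ((pow_dvd_pow 3 (by omega : 2 ≤ j + 2)).trans h4) (by norm_num)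
    · refine hn (orderOf_a5ab ▸ orderOf_dvd_of_pow_eq_one ?_)
      obtain ⟨⟨_, _, ⟨g, hg, rfl⟩, rfl⟩, e'⟩ := e.surjective (a5a * a5b)
      rw [← e', ← map_pow, map_eq_one_iff _ e.injective]
      refine Subtype.ext ?_
      rw [Subgroup.coe_pow, ← map_pow, ← map_pow, h g hg, map_one, map_one]
      rfl
  · have f1 : ∀ x, aff 1 x ∈ H ↔ x ∈ k := fun x =>
      ⟨fun hx => ((aff_mem_subPGL one_ne_zero).1 (k2 hx)).2, fun hx => k1 (pm_mem_subPSL (by simp)
        fun i j => by fin_cases i <;> fin_cases j <;> simp [hx])⟩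
    have f2 : ∀ x, low x ∈ H ↔ x ∈ k := fun x => by
      refine ⟨fun hx => ?_, fun hx => k1 (pm_mem_subPSL (by simp)
        fun i j => by fin_cases i <;> fin_cases j <;> simp [hx])⟩
      by_cases h0 : x = 0
      · simp [h0]
      · have := (mem_subPGL_iff.1 (k2 hx)).1
        rw [low_smul_inf h0, pt_mem_line] at this
        simpa using this
    have hab := (f2 _).1 ((e2 b).2 hb)
    have hab0 := mul_ne_zero ha0 hb0
    refine ⟨k, fun x => ?_, fun x => ?_⟩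
    · rw [← e1, f1]
      refine ⟨fun hx => ?_, fun hx => ?_⟩
      · convert k.mul_mem hx hab using 1; field_simp
      · convert k.div_mem hx hab using 1; field_simp
    · rw [← e2, f2]
      refine ⟨fun hx => ?_, fun hx => ?_⟩
      · convert k.div_mem hx hab using 1; field_simp
      · convert k.mul_mem hx hab using 1; field_simp

end Cfsg.Agent.Cl.D3
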