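/-
Transvection groups in a quasisimple subgroup of `SL₃(F)`: the field of the root groups.
-/
import Mathlib
import Cfsg.Agent.Cl.D3DL

set_option autoImplicit false

namespace Cfsg.Agent.Cl.D3

open Matrix Cfsg.Geo Cfsg.Agent.Cl.Max Cfsg.Agent.Cl.Mx
open scoped MatrixGroups

variable {F : Type*} [Field F] {P : Subgroup (GL (Fin 3) F)} {v w φ ψ : Fin 3 → F}

/-- The parameters of the transvections with given centre and axis. -/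
def tvA (P : Subgroup (GL (Fin 3) F)) (v φ : Fin 3 → F) : Set F := {a | MT P v (a • φ)}

/-- The elements of `P` fixing the common kernel of two functionals. -/
def fixK (P : Subgroup (GL (Fin 3) F)) (φ ψ : Fin 3 → F) : Subgroup (GL (Fin 3) F) where
  carrier := {g | g ∈ P ∧ ∀ y, φ ⬝ᵥ y = 0 → ψ ⬝ᵥ y = 0 → (g : Matrix (Fin 3) (Fin 3) F) *ᵥ y = y}
  one_mem' := ⟨P.one_mem, fun y _ _ => by simp⟩
  mul_mem' := fun ha hb => ⟨P.mul_mem ha.1 hb.1, fun y h1 h2 => by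
    rw [mul_mulVec, hb.2 y h1 h2, ha.2 y h1 h2]⟩
  inv_mem' := fun {a} ha => ⟨P.inv_mem ha.1, fun y h1 h2 => mulVec_injective a (by
    simp only [mulVec_inv_mulVec, ha.2 y h1 h2])⟩

theorem fixK_apply {g : GL (Fin 3) F} (hg : g ∈ fixK P φ ψ) (h1 : φ ⬝ᵥ v = 0) (h2 : ψ ⬝ᵥ w = 0)
    (h3 : φ ⬝ᵥ w ≠ 0) (h4 : ψ ⬝ᵥ v ≠ 0) (y : Fin 3 → F) :
    (g : Matrix (Fin 3) (Fin 3) F) *ᵥ y = y +
      (φ ⬝ᵥ y / φ ⬝ᵥ w) • ((g : Matrix (Fin 3) (Fin 3) F) *ᵥ w - w) +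
      (ψ ⬝ᵥ y / ψ ⬝ᵥ v) • ((g : Matrix (Fin 3) (Fin 3) F) *ᵥ v - v) := by
  have h := hg.2 (y - (φ ⬝ᵥ y / φ ⬝ᵥ w) • w - (ψ ⬝ᵥ y / ψ ⬝ᵥ v) • v)
    (by simp only [dotProduct_sub, dotProduct_smul, h1, smul_eq_mul]; field_simp; ring)
    (by simp only [dotProduct_sub, dotProduct_smul, h2, smul_eq_mul]; field_simp; ring)
  simp only [mulVec_sub, mulVec_smul] at h
  linear_combination (norm := module) h

theorem mem_upS_plane (h1 : φ ⬝ᵥ v = 0) (h2 : ψ ⬝ᵥ w = 0) (h3 : φ ⬝ᵥ w ≠ 0) (h4 : ψ ⬝ᵥ v ≠ 0)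
    {a : F} : a * φ ⬝ᵥ w ∈ upS (planeL (fixK P φ ψ) v w) ↔ a ∈ tvA P v φ := by
  constructor
  · rintro ⟨M, ⟨g, hg, e1, e2⟩, hM⟩
    refine ⟨by simp [h1], g, hg.1, fun y => ?_⟩
    rw [hM] at e1 e2
    simp only [of_apply, cons_val', cons_val_zero, cons_val_one, cons_val_fin_one, one_smul,
      zero_smul, add_zero] at e1 e2
    rw [fixK_apply hg h1 h2 h3 h4, e1, e2, smul_dotProduct, smul_eq_mul,
      show a * φ ⬝ᵥ y = φ ⬝ᵥ y / φ ⬝ᵥ w * (a * φ ⬝ᵥ w) by field_simp]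
    module
  · rintro ⟨-, g, hg, e⟩
    refine ⟨GeneralLinearGroup.mkOfDetNeZero !![1, a * φ ⬝ᵥ w; 0, 1] (by simp),
      ⟨g, ⟨hg, fun y hy _ => by simp [e, hy]⟩, ?_, ?_⟩, rfl⟩
    · simp [e, h1, GeneralLinearGroup.mkOfDetNeZero]
    · simp [e, GeneralLinearGroup.mkOfDetNeZero, add_comm]

theorem mem_loS_plane (h1 : φ ⬝ᵥ v = 0) (h2 : ψ ⬝ᵥ w = 0) (h3 : φ ⬝ᵥ w ≠ 0) (h4 : ψ ⬝ᵥ v ≠ 0)
    {a : F} : a * ψ ⬝ᵥ v ∈ loS (planeL (fixK P φ ψ) v w) ↔ a ∈ tvA P w ψ := by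
  constructor
  · rintro ⟨M, ⟨g, hg, e1, e2⟩, hM⟩
    refine ⟨by simp [h2], g, hg.1, fun y => ?_⟩
    rw [hM] at e1 e2
    simp only [of_apply, cons_val', cons_val_zero, cons_val_one, cons_val_fin_one, one_smul,
      zero_smul, zero_add] at e1 e2
    rw [fixK_apply hg h1 h2 h3 h4, e1, e2, smul_dotProduct, smul_eq_mul,
      show a * ψ ⬝ᵥ y = ψ ⬝ᵥ y / ψ ⬝ᵥ v * (a * ψ ⬝ᵥ v) by field_simp]
    module
  · rintro ⟨-, g, hg, e⟩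
    refine ⟨GeneralLinearGroup.mkOfDetNeZero !![1, 0; a * ψ ⬝ᵥ v, 1] (by simp),
      ⟨g, ⟨hg, fun y _ hy => by simp [e, hy]⟩, ?_, ?_⟩, rfl⟩
    · simp [e, GeneralLinearGroup.mkOfDetNeZero]
    · simp [e, h2, GeneralLinearGroup.mkOfDetNeZero]

theorem planeL_pow [Finite F] {N : Subgroup (GL (Fin 3) F)} (hN : N ≤ P) (h1 : φ ⬝ᵥ v = 0)
    (h2 : ψ ⬝ᵥ w = 0) (h3 : φ ⬝ᵥ w ≠ 0) (h4 : ψ ⬝ᵥ v ≠ 0) {M : GL (Fin 2) F}
    (hM : M ∈ planeL N v w) : M ^ Nat.card P = 1 := by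
  obtain ⟨g, hg, e1, e2⟩ := hM
  have key : ∀ n : ℕ, ((g ^ n : GL (Fin 3) F) : Matrix (Fin 3) (Fin 3) F) *ᵥ v =
      ((M ^ n : GL (Fin 2) F) : Matrix (Fin 2) (Fin 2) F) 0 0 • v +
        ((M ^ n : GL (Fin 2) F) : Matrix (Fin 2) (Fin 2) F) 1 0 • w ∧
      ((g ^ n : GL (Fin 3) F) : Matrix (Fin 3) (Fin 3) F) *ᵥ w =
      ((M ^ n : GL (Fin 2) F) : Matrix (Fin 2) (Fin 2) F) 0 1 • v +
        ((M ^ n : GL (Fin 2) F) : Matrix (Fin 2) (Fin 2) F) 1 1 • w := by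
    intro n
    induction n with
    | zero => simp
    | succ n ih =>
      rw [pow_succ, pow_succ, mul_mulVec, mul_mulVec, e1, e2]
      simp only [mulVec_add, mulVec_smul, ih.1, ih.2, Units.val_mul, mul_apply,
        Fin.sum_univ_two]
      constructor <;> module
  have h0 : g ^ Nat.card P = 1 :=
    congrArg Subtype.val (pow_card_eq_one' (G := P) (x := ⟨g, hN hg⟩))
  obtain ⟨k1, k2⟩ := key (Nat.card P)
  rw [h0, Units.val_one, one_mulVec] at k1 k2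
  have a1 := congrArg (φ ⬝ᵥ ·) k1
  have a2 := congrArg (ψ ⬝ᵥ ·) k1
  have a3 := congrArg (φ ⬝ᵥ ·) k2
  have a4 := congrArg (ψ ⬝ᵥ ·) k2
  simp only [dotProduct_add, dotProduct_smul, h1, h2, smul_eq_mul, mul_zero, zero_add,
    add_zero] at a1 a2 a3 a4
  refine Units.ext (Matrix.ext fun i j => ?_)
  rw [Units.val_one]
  fin_cases i <;> fin_cases j
  · exact mul_right_cancel₀ h4 (a2.symm.trans (one_mul _).symm)
  · exact (mul_eq_zero.1 a4.symm).resolve_right h4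
  · exact (mul_eq_zero.1 a1.symm).resolve_right h3
  · exact mul_right_cancel₀ h3 (a3.symm.trans (one_mul _).symm)

theorem ncard_eq_of_mul {A B : Set F} {c : F} (hc : c ≠ 0) (h : ∀ a, a * c ∈ B ↔ a ∈ A) :
    A.ncard = B.ncard :=
  Set.ncard_congr (fun a _ => a * c) (fun a ha => (h a).2 ha)
    (fun _ _ _ _ e => mul_right_cancel₀ hc e)
    fun b hb => ⟨b / c, (h _).1 (by rwa [div_mul_cancel₀ _ hc]), div_mul_cancel₀ _ hc⟩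

theorem pair_field [Finite F] (h1 : φ ⬝ᵥ v = 0) (h2 : ψ ⬝ᵥ w = 0) (h3 : φ ⬝ᵥ w ≠ 0)
    (h4 : ψ ⬝ᵥ v ≠ 0) (h5 : MT P w ψ)
    (h : 4 ≤ (tvA P v φ).ncard ∨ (3 ≤ (tvA P v φ).ncard ∧ ¬ 5 ∣ Nat.card P)) :
    ∃ k : Subfield F, (∀ a, a ∈ tvA P v φ ↔ a * (φ ⬝ᵥ w * ψ ⬝ᵥ v) ∈ k) ∧
      ∀ a, a ∈ tvA P w ψ ↔ a ∈ k := by
  rw [ncard_eq_of_mul h3 fun a => mem_upS_plane h1 h2 h3 h4] at h
  obtain ⟨k, e1, e2⟩ := dl (L := planeL (fixK P φ ψ) v w) (h.imp_right fun h => ⟨h.1, _, h.2,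
    fun g hg => planeL_pow (N := fixK P φ ψ) (fun _ hx => hx.1) h1 h2 h3 h4 hg⟩) (b := ψ ⬝ᵥ v)
    (by simpa using (mem_loS_plane (a := 1) h1 h2 h3 h4).2 (by simpa [tvA] using h5)) h4
  refine ⟨k, fun a => ?_, fun a => ?_⟩
  · rw [← mem_upS_plane h1 h2 h3 h4, e1, mul_assoc]
  · rw [← mem_loS_plane h1 h2 h3 h4, e2, mul_inv_cancel_right₀ h4]

theorem tvA_conj {g : GL (Fin 3) F} (hg : g ∈ P) : tvA P v φ ⊆
    tvA P ((g : Matrix (Fin 3) (Fin 3) F) *ᵥ v)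
      (φ ᵥ* ((g⁻¹ : GL (Fin 3) F) : Matrix (Fin 3) (Fin 3) F)) := fun a ha => by
  have := MT.conj ha hg
  rwa [smul_vecMul] at this

theorem vecMul_gl_ne_zero (hφ : φ ≠ 0) (g : GL (Fin 3) F) :
    φ ᵥ* (g : Matrix (Fin 3) (Fin 3) F) ≠ 0 := fun h => hφ (by
  have := congrArg (· ᵥ* ((g⁻¹ : GL (Fin 3) F) : Matrix (Fin 3) (Fin 3) F)) h
  simpa using this)

theorem mulVec_gl_ne_zero (hv : v ≠ 0) (g : GL (Fin 3) F) :
    (g : Matrix (Fin 3) (Fin 3) F) *ᵥ v ≠ 0 := fun h =>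
  hv (mulVec_injective g (by simpa using h))

theorem exists_dot_ne_zero (hφ : φ ≠ 0) : ∃ x, φ ⬝ᵥ x ≠ 0 := by
  by_contra hx
  push Not at hx
  exact hφ (dotProduct_eq_zero _ hx)

/-- An invariant family of non-trivial transvections. -/
structure Fam (P : Subgroup (GL (Fin 3) F)) (T : (Fin 3 → F) → (Fin 3 → F) → Prop) : Prop where
  mt : ∀ v φ, T v φ → MT P v φ
  ne : ∀ v φ, T v φ → v ≠ 0 ∧ φ ≠ 0
  conj : ∀ v φ, T v φ → ∀ g ∈ P, T ((g : Matrix (Fin 3) (Fin 3) F) *ᵥ v)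
      (φ ᵥ* ((g⁻¹ : GL (Fin 3) F) : Matrix (Fin 3) (Fin 3) F))

/-- The common kernel of a family of functionals. -/
def kerS (S : (Fin 3 → F) → Prop) : Submodule F (Fin 3 → F) where
  carrier := {x | ∀ φ, S φ → φ ⬝ᵥ x = 0}
  zero_mem' := fun _ _ => by simp
  add_mem' := fun ha hb φ h => by rw [dotProduct_add, ha φ h, hb φ h, add_zero]
  smul_mem' := fun c x hx φ h => by rw [dotProduct_smul, hx φ h, smul_zero]

theorem kerS_ne_top {S : (Fin 3 → F) → Prop} (h : S φ) (hφ : φ ≠ 0) : kerS S ≠ ⊤ := fun e =>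
  hφ (dotProduct_eq_zero _ fun x => (show x ∈ kerS S by rw [e]; trivial) φ h)

namespace Fam

variable {T : (Fin 3 → F) → (Fin 3 → F) → Prop}

theorem move (hT : Fam P T) (h : T v φ) (h' : MT P w ψ) :
    T (v + (ψ ⬝ᵥ v) • w) (φ - (φ ⬝ᵥ w) • ψ) := by
  obtain ⟨h1, k, hk, e⟩ := h'
  have h2 := hT.conj v φ h k hk
  rw [e] at h2
  convert h2 using 1
  refine dotProduct_eq _ _ fun x => ?_
  rw [← dotProduct_mulVec, MT.inv_mulVec h1 e]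
  simp only [sub_dotProduct, smul_dotProduct, dotProduct_sub, dotProduct_smul, smul_eq_mul]
  ring

theorem le (hT : Fam P T) (hP : QS P) (h : T v φ) {M : Subgroup (GL (Fin 3) F)}
    (hM : ∀ v φ, T v φ → ∀ g : GL (Fin 3) F,
      (∀ x, (g : Matrix (Fin 3) (Fin 3) F) *ᵥ x = x + (φ ⬝ᵥ x) • v) → g ∈ M) : P ≤ M :=
  le_of_tv hP T hT.mt hT.conj ⟨v, φ, h, hT.ne v φ h⟩ hM

theorem bot_or_top (hT : Fam P T) (hP : QS P) (h : T v φ) (W : Submodule F (Fin 3 → F))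
    (hW : ∀ v φ, T v φ → ∀ x ∈ W, (φ ⬝ᵥ x) • v ∈ W) : W = ⊥ ∨ W = ⊤ :=
  hP.irr W (inv_iff_le.2 (hT.le hP h fun v φ h g e =>
    mem_subspaceStabilizer_of_maps fun x hx => by
      rw [e]; exact W.add_mem hx (hW v φ h x hx)))

theorem exists_pair (hT : Fam P T) (hP : QS P) (h : T v φ) {χ u : Fin 3 → F} (hχ : χ ≠ 0)
    (hu : u ≠ 0) : ∃ w ψ, T w ψ ∧ χ ⬝ᵥ w ≠ 0 ∧ ψ ⬝ᵥ u ≠ 0 := by
  by_contra hn
  push Not at hn
  obtain ⟨v', φ', h', h1⟩ : ∃ v' φ', T v' φ' ∧ χ ⬝ᵥ v' ≠ 0 := by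
    by_contra h1
    push Not at h1
    refine (hT.bot_or_top hP h (kerS (· = χ)) fun w ψ hw x _ _ e => ?_).elim
      (fun e => (hT.ne v φ h).1 ?_) (kerS_ne_top rfl hχ)
    · rw [e, dotProduct_smul, h1 w ψ hw, smul_zero]
    · rw [← Submodule.mem_bot F, ← e]
      exact fun _ e' => by rw [e', h1 v φ h]
  refine (hT.bot_or_top hP h (kerS fun ψ => ∃ w, T w ψ ∧ χ ⬝ᵥ w ≠ 0) ?_).elim
    (fun e => hu ?_) (kerS_ne_top ⟨v', h', h1⟩ (hT.ne _ _ h').2)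
  · rintro w ψ hw x hx φ' ⟨v', h', h1⟩
    rw [dotProduct_smul, smul_eq_mul]
    by_cases h0 : χ ⬝ᵥ w = 0
    · have := hx _ ⟨_, hT.move h' (hT.mt _ _ hw), by simpa [h0] using h1⟩
      rw [sub_dotProduct, hx φ' ⟨v', h', h1⟩, smul_dotProduct, smul_eq_mul] at this
      linear_combination -this
    · rw [hx ψ ⟨w, hw, h0⟩, zero_mul]
  · rw [← Submodule.mem_bot F, ← e]
    rintro ψ ⟨w, hw, h0⟩
    exact hn w ψ hw h0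

end Fam

/-- Pairs with many transvections. -/
def T0 (P : Subgroup (GL (Fin 3) F)) (m : ℕ) (v φ : Fin 3 → F) : Prop :=
  v ≠ 0 ∧ φ ≠ 0 ∧ MT P v φ ∧ m ≤ (tvA P v φ).ncard

theorem fam_T0 [Finite F] (m : ℕ) : Fam P (T0 P m) where
  mt _ _ h := h.2.2.1
  ne _ _ h := ⟨h.1, h.2.1⟩
  conj _ _ h g hg := ⟨mulVec_gl_ne_zero h.1 g, vecMul_gl_ne_zero h.2.1 _, h.2.2.1.conj hg,
    h.2.2.2.trans (Set.ncard_le_ncard (tvA_conj hg))⟩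

/-- Pairs carrying a full `k`-group of transvections. -/
def TK (P : Subgroup (GL (Fin 3) F)) (k : Subfield F) (v φ : Fin 3 → F) : Prop :=
  v ≠ 0 ∧ φ ≠ 0 ∧ ∀ c ∈ k, MT P v (c • φ)

theorem fam_TK (k : Subfield F) : Fam P (TK P k) where
  mt _ _ h := by simpa using h.2.2 1 k.one_mem
  ne _ _ h := ⟨h.1, h.2.1⟩
  conj _ _ h g hg := ⟨mulVec_gl_ne_zero h.1 g, vecMul_gl_ne_zero h.2.1 _,
    fun c hc => tvA_conj hg (h.2.2 c hc)⟩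

theorem exists_field [Finite F] (hP : QS P)
    (hr : Root P 4 ∨ (Root P 3 ∧ ¬ 5 ∣ Nat.card P)) : ∃ k : Subfield F, 3 ≤ (k : Set F).ncard ∧
      (∃ v φ, TK P k v φ) ∧ ∀ v φ w ψ, TK P k v φ → TK P k w ψ → φ ⬝ᵥ w * ψ ⬝ᵥ v ∈ k := by
  classical
  have hroot : ∀ n, 2 ≤ n → Root P n → ∃ v φ, T0 P n v φ := by
    rintro n hn ⟨v, φ, hv, hφ, A, hA, e⟩
    obtain ⟨a, ha, ha0⟩ := Finset.exists_mem_ne (s := A) (by omega) 0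
    refine ⟨v, a • φ, hv, smul_ne_zero ha0 hφ, e a ha, hA.trans ?_⟩
    rw [ncard_eq_of_mul (B := tvA P v φ) ha0 fun b => by simp [tvA, smul_smul],
      ← Set.ncard_coe_finset]
    exact Set.ncard_le_ncard fun b hb => e b hb
  obtain ⟨v₀, φ₀, h₀⟩ := hroot 3 (by omega) (hr.elim (fun h => h.mono (by omega)) And.left)
  obtain ⟨⟨v₁, φ₁⟩, h₁, hmax⟩ := Set.exists_max_image
    {p : (Fin 3 → F) × (Fin 3 → F) | T0 P 0 p.1 p.2} (fun p => (tvA P p.1 p.2).ncard)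
    (Set.toFinite _) ⟨(v₀, φ₀), h₀.1, h₀.2.1, h₀.2.2.1, Nat.zero_le _⟩
  set m := (tvA P v₁ φ₁).ncard
  have hm : ∀ {n v φ}, T0 P n v φ → (tvA P v φ).ncard ≤ m := fun {n v φ} h =>
    hmax (v, φ) ⟨h.1, h.2.1, h.2.2.1, Nat.zero_le _⟩
  have hm' : 4 ≤ m ∨ (3 ≤ m ∧ ¬ 5 ∣ Nat.card P) := by
    refine hr.imp (fun h => ?_) fun h => ⟨h₀.2.2.2.trans (hm h₀), h.2⟩
    obtain ⟨v, φ, h⟩ := hroot 4 (by omega) h
    exact h.2.2.2.trans (hm h)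
  have hpf : ∀ {v φ w ψ}, T0 P m v φ → MT P w ψ → φ ⬝ᵥ w ≠ 0 → ψ ⬝ᵥ v ≠ 0 →
      ∃ k : Subfield F, (∀ a, a ∈ tvA P v φ ↔ a * (φ ⬝ᵥ w * ψ ⬝ᵥ v) ∈ k) ∧
        ∀ a, a ∈ tvA P w ψ ↔ a ∈ k := fun h h' h3 h4 =>
    pair_field h.2.2.1.1 h'.1 h3 h4 h' (hm'.imp (fun e => e.trans h.2.2.2)
      fun e => ⟨e.1.trans h.2.2.2, e.2⟩)
  have h1 : T0 P m v₁ φ₁ := ⟨h₁.1, h₁.2.1, h₁.2.2.1, le_rfl⟩
  obtain ⟨w, ψ, h2, h3, h4⟩ := (fam_T0 m).exists_pair hP h1 h1.2.1 h1.1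
  obtain ⟨k, -, e⟩ := hpf h1 h2.2.2.1 h3 h4
  have hk : m ≤ (k : Set F).ncard := h2.2.2.2.trans (Set.ncard_le_ncard fun a ha => (e a).1 ha)
  have hT : ∀ {v φ}, TK P k v φ → T0 P m v φ := fun h => ⟨h.1, h.2.1,
    by simpa using h.2.2 1 k.one_mem, hk.trans (Set.ncard_le_ncard fun a ha => h.2.2 a ha)⟩
  refine ⟨k, (hm'.elim (fun h => by omega) And.left).trans hk,
    ⟨w, ψ, h2.1, h2.2.1, fun c hc => (e c).2 hc⟩, fun v φ w ψ h1 h2 => ?_⟩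
  by_cases h3 : φ ⬝ᵥ w = 0
  · rw [h3, zero_mul]; exact k.zero_mem
  by_cases h4 : ψ ⬝ᵥ v = 0
  · rw [h4, mul_zero]; exact k.zero_mem
  obtain ⟨k', e1, e2⟩ := hpf (hT h1) (hT h2).2.2.1 h3 h4
  have h5 : (k : Set F) = tvA P w ψ :=
    Set.eq_of_subset_of_ncard_le (fun a ha => h2.2.2 a ha) ((hm (hT h2)).trans hk)
  have h6 := (e2 _).2 ((e1 1).1 (h1.2.2 1 k.one_mem))
  rwa [← h5, one_mul] at h6

end Cfsg.Agent.Cl.D3
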