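/-
Transvection groups in a quasisimple subgroup of `SL₃(F)`: frames and the field of definition.
-/
import Mathlib
import Cfsg.Agent.Cl.D3TVA
import Cfsg.Agent.Cl.MaxSLCore

set_option autoImplicit false

namespace Cfsg.Agent.Cl.D3

open Matrix Cfsg.Geo Cfsg.Agent.Cl.Max Cfsg.Agent.Cl.Mx
open scoped MatrixGroups

variable {F : Type*} [Field F] {P : Subgroup (GL (Fin 3) F)} {k : Subfield F}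
  {v w φ ψ v₁ v₂ v₃ φ₁ φ₂ φ₃ : Fin 3 → F} {x y : F}

theorem gram_det (v₁ v₂ v₃ φ₁ φ₂ φ₃ : Fin 3 → F) :
    (φ₃ ⬝ᵥ φ₁ ⨯₃ φ₂) * (v₁ ⨯₃ v₂ ⬝ᵥ v₃) =
      φ₁ ⬝ᵥ v₁ * (φ₂ ⬝ᵥ v₂ * φ₃ ⬝ᵥ v₃ - φ₂ ⬝ᵥ v₃ * φ₃ ⬝ᵥ v₂) -
      φ₁ ⬝ᵥ v₂ * (φ₂ ⬝ᵥ v₁ * φ₃ ⬝ᵥ v₃ - φ₂ ⬝ᵥ v₃ * φ₃ ⬝ᵥ v₁) +
      φ₁ ⬝ᵥ v₃ * (φ₂ ⬝ᵥ v₁ * φ₃ ⬝ᵥ v₂ - φ₂ ⬝ᵥ v₂ * φ₃ ⬝ᵥ v₁) := by
  simp_rw [cross_apply, vec3_dotProduct]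
  dsimp only [Matrix.cons_val]
  ring

theorem eq_zero_of_three (h : φ₃ ⬝ᵥ φ₁ ⨯₃ φ₂ ≠ 0) {z : Fin 3 → F} (h1 : φ₁ ⬝ᵥ z = 0)
    (h2 : φ₂ ⬝ᵥ z = 0) (h3 : φ₃ ⬝ᵥ z = 0) : z = 0 := by
  have e : (φ₃ ⬝ᵥ φ₁ ⨯₃ φ₂) • z = (φ₁ ⬝ᵥ z) • φ₂ ⨯₃ φ₃ + (φ₂ ⬝ᵥ z) • φ₃ ⨯₃ φ₁ +
      (φ₃ ⬝ᵥ z) • φ₁ ⨯₃ φ₂ := by
    simp_rw [cross_apply, vec3_dotProduct]
    ext i
    fin_cases i <;> simp <;> ring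
  rw [h1, h2, h3] at e
  simpa [h] using e

theorem exists_avoid [Finite F] (hk : 3 ≤ (k : Set F).ncard) {a b c d : F} (h1 : a ≠ 0 ∨ b ≠ 0)
    (h2 : c ≠ 0 ∨ d ≠ 0) : ∃ t ∈ k, a + t * b ≠ 0 ∧ c + t * d ≠ 0 := by
  have key : ∀ {a b t : F}, a ≠ 0 ∨ b ≠ 0 → t ≠ -a / b → a + t * b ≠ 0 := by
    intro a b t h ht e
    by_cases hb : b = 0
    · rw [hb, mul_zero, add_zero] at e
      exact h.elim (· e) (· hb)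
    · exact ht (by field_simp; linear_combination e)
  obtain ⟨t, ht, hn⟩ := Set.exists_mem_notMem_of_ncard_lt_ncard (s := {-a / b, -c / d})
    (t := (k : Set F)) (lt_of_le_of_lt ((Set.ncard_insert_le _ _).trans (by simp)) hk)
  simp only [Set.mem_insert_iff, Set.mem_singleton_iff, not_or] at hn
  exact ⟨t, ht, key h1 hn.1, key h2 hn.2⟩

theorem exists_frob_fix [Finite F] (k : Subfield F) : ∃ τ : F →+* F, ∀ a, τ a = a ↔ a ∈ k := by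
  classical
  have := Fintype.ofFinite k
  refine ⟨(FiniteField.frobeniusAlgHom k F).toRingHom, fun a => ⟨fun h => ?_, fun h =>
    congrArg Subtype.val (FiniteField.pow_card (⟨a, h⟩ : k))⟩⟩
  replace h : a ^ Fintype.card k = a := h
  have hs : (Polynomial.X ^ Fintype.card k - Polynomial.X : Polynomial k).Splits := by
    rw [Polynomial.splits_iff_card_roots, FiniteField.roots_X_pow_card_sub_X,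
      FiniteField.X_pow_card_sub_X_natDegree_eq k Fintype.one_lt_card]
    simp
  obtain ⟨b, rfl⟩ := hs.mem_range_of_isRoot (i := algebraMap k F) (x := a)
    (FiniteField.X_pow_card_sub_X_ne_zero k Fintype.one_lt_card) (by simp [h])
  exact b.2

namespace TK

theorem mt (h : TK P k v φ) : MT P v φ := (fam_TK k).mt v φ h

theorem dot (h : TK P k v φ) : φ ⬝ᵥ v = 0 := h.mt.1

theorem smul (h : TK P k v φ) {c d : F} (hc : c ≠ 0) (hd : d ≠ 0) (hk : c * d ∈ k) :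
    TK P k (c • v) (d • φ) :=
  ⟨smul_ne_zero hc h.1, smul_ne_zero hd h.2.1, fun a ha => by
    rw [MT.smul_iff, smul_smul, smul_smul, mul_right_comm]
    exact h.2.2 _ (k.mul_mem hk ha)⟩

theorem move (h : TK P k v φ) (h' : TK P k w ψ) {c : F} (hc : c ∈ k) :
    TK P k (v + (c * ψ ⬝ᵥ v) • w) (φ - (c * φ ⬝ᵥ w) • ψ) := by
  have := (fam_TK k).move h (h'.2.2 c hc)
  rwa [smul_dotProduct, smul_eq_mul, smul_smul, mul_comm (φ ⬝ᵥ w)] at this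

end TK

/-- The standing hypotheses. -/
structure TF (P : Subgroup (GL (Fin 3) F)) (k : Subfield F) : Prop where
  qs : QS P
  three : 3 ≤ (k : Set F).ncard
  ex : ∃ v φ, TK P k v φ
  two : ∀ {v φ w ψ}, TK P k v φ → TK P k w ψ → φ ⬝ᵥ w * ψ ⬝ᵥ v ∈ k

theorem TF.cyc_sub (H : TF P k) (h₁ : TK P k v₁ φ₁) (h₂ : TK P k v₂ φ₂) (h₃ : TK P k v₃ φ₃) :
    φ₁ ⬝ᵥ v₃ * φ₃ ⬝ᵥ v₂ * φ₂ ⬝ᵥ v₁ - φ₁ ⬝ᵥ v₂ * φ₂ ⬝ᵥ v₃ * φ₃ ⬝ᵥ v₁ ∈ k := by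
  have := k.add_mem (k.sub_mem (H.two (h₁.move h₂ k.one_mem) h₃) (H.two h₁ h₃))
    (k.mul_mem (H.two h₁ h₂) (H.two h₂ h₃))
  convert this using 1
  simp only [sub_dotProduct, smul_dotProduct, dotProduct_add, dotProduct_smul, smul_eq_mul]
  ring

theorem TF.cyc_mul (H : TF P k) (h₁ : TK P k v₁ φ₁) (h₂ : TK P k v₂ φ₂) (h₃ : TK P k v₃ φ₃) :
    φ₁ ⬝ᵥ v₃ * φ₃ ⬝ᵥ v₂ * φ₂ ⬝ᵥ v₁ * (φ₁ ⬝ᵥ v₂ * φ₂ ⬝ᵥ v₃ * φ₃ ⬝ᵥ v₁) ∈ k := by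
  have := k.mul_mem (k.mul_mem (H.two h₁ h₂) (H.two h₂ h₃)) (H.two h₁ h₃)
  convert this using 1
  ring

theorem frob_root {τ : F →+* F} (hτ : ∀ a, τ a = a ↔ a ∈ k) {a b : F} (h1 : b - a ∈ k)
    (h2 : b * a ∈ k) : τ a = a ∨ (τ a = -b ∧ τ b = -a) := by
  rw [← hτ, map_sub] at h1
  rw [← hτ, map_mul] at h2
  have : (τ a - a) * (τ a + b) = 0 := by linear_combination h2 - τ a * h1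
  refine (mul_eq_zero.1 this).imp sub_eq_zero.1 fun h => ⟨?_, ?_⟩
  · linear_combination h
  · linear_combination h + h1

/-- A normalised triple of transvection groups. -/
structure Frame (P : Subgroup (GL (Fin 3) F)) (k : Subfield F) (v₁ v₂ v₃ φ₁ φ₂ φ₃ : Fin 3 → F)
    (x y : F) : Prop where
  t₁ : TK P k v₁ φ₁
  t₂ : TK P k v₂ φ₂
  t₃ : TK P k v₃ φ₃
  g12 : φ₁ ⬝ᵥ v₂ = 1
  g13 : φ₁ ⬝ᵥ v₃ = 1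
  g21 : φ₂ ⬝ᵥ v₁ = -1
  g31 : φ₃ ⬝ᵥ v₁ = -1
  g23 : φ₂ ⬝ᵥ v₃ = x
  g32 : φ₃ ⬝ᵥ v₂ = y
  x0 : x ≠ 0
  y0 : y ≠ 0
  xy : x + y ≠ 0

theorem TF.frame_of (H : TF P k) (h₁ : TK P k v₁ φ₁) (h₂ : TK P k v₂ φ₂) (h₃ : TK P k v₃ φ₃)
    (ha : φ₁ ⬝ᵥ v₂ * φ₂ ⬝ᵥ v₃ * φ₃ ⬝ᵥ v₁ ≠ 0) (hb : φ₁ ⬝ᵥ v₃ * φ₃ ⬝ᵥ v₂ * φ₂ ⬝ᵥ v₁ ≠ 0)
    (hd : φ₁ ⬝ᵥ v₂ * φ₂ ⬝ᵥ v₃ * φ₃ ⬝ᵥ v₁ + φ₁ ⬝ᵥ v₃ * φ₃ ⬝ᵥ v₂ * φ₂ ⬝ᵥ v₁ ≠ 0) :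
    ∃ v₂' v₃' φ₂' φ₃' x y, Frame P k v₁ v₂' v₃' φ₁ φ₂' φ₃' x y ∧
      (x ∈ k → φ₁ ⬝ᵥ v₂ * φ₂ ⬝ᵥ v₃ * φ₃ ⬝ᵥ v₁ ∈ k) := by
  simp only [ne_eq, mul_eq_zero, not_or] at ha hb
  obtain ⟨⟨a1, a2⟩, a3⟩ := ha
  obtain ⟨⟨b1, b2⟩, b3⟩ := hb
  refine ⟨(φ₁ ⬝ᵥ v₂)⁻¹ • v₂, (φ₁ ⬝ᵥ v₃)⁻¹ • v₃, (-(φ₂ ⬝ᵥ v₁)⁻¹) • φ₂, (-(φ₃ ⬝ᵥ v₁)⁻¹) • φ₃, _, _,
    ⟨h₁, h₂.smul (inv_ne_zero a1) (by simpa) ?_, h₃.smul (inv_ne_zero b1) (by simpa) ?_,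
      by simp [a1], by simp [b1], by simp [b3], by simp [a3], rfl, rfl, by simp [*], by simp [*],
      fun e => hd ?_⟩, fun hx => ?_⟩
  · rw [mul_neg, ← mul_inv]
    exact k.neg_mem (k.inv_mem (H.two h₁ h₂))
  · rw [mul_neg, ← mul_inv]
    exact k.neg_mem (k.inv_mem (H.two h₁ h₃))
  · simp only [smul_dotProduct, dotProduct_smul, smul_eq_mul] at e
    field_simp at e
    linear_combination -e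
  · convert k.neg_mem (k.mul_mem (k.mul_mem hx (H.two h₁ h₂)) (H.two h₁ h₃)) using 1
    simp only [smul_dotProduct, dotProduct_smul, smul_eq_mul]
    field_simp

theorem TF.exists_frame [Finite F] (H : TF P k) :
    ∃ v₁ v₂ v₃ φ₁ φ₂ φ₃ x y, Frame P k v₁ v₂ v₃ φ₁ φ₂ φ₃ x y := by
  obtain ⟨v₁, φ₁, h₁⟩ := H.ex
  obtain ⟨v₂, φ₂, h₂, a12, a21⟩ := (fam_TK k).exists_pair H.qs h₁ h₁.2.1 h₁.1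
  have h0 : φ₁ ⨯₃ φ₂ ⬝ᵥ v₁ ⨯₃ v₂ ≠ 0 := by
    rw [cross_dot_cross, h₁.dot]
    simp [a12, a21]
  obtain ⟨v₃, φ₃, h₃, b1, b2⟩ := (fam_TK k).exists_pair H.qs h₁ (χ := v₁ ⨯₃ v₂) (u := φ₁ ⨯₃ φ₂)
    (fun e => h0 (by rw [e, dotProduct_zero])) (fun e => h0 (by rw [e, zero_dotProduct]))
  have hd := mul_ne_zero b2 b1
  rw [gram_det, h₁.dot, h₂.dot, h₃.dot] at hd
  obtain ⟨s, hs, c1, c2⟩ := exists_avoid H.three (a := φ₁ ⬝ᵥ v₃) (b := φ₂ ⬝ᵥ v₃ * φ₁ ⬝ᵥ v₂)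
    (c := φ₃ ⬝ᵥ v₁) (d := -(φ₃ ⬝ᵥ v₂ * φ₂ ⬝ᵥ v₁))
    (by by_contra h; push Not at h; exact hd (by
      linear_combination φ₃ ⬝ᵥ v₁ * h.2 + φ₂ ⬝ᵥ v₁ * φ₃ ⬝ᵥ v₂ * h.1))
    (by by_contra h; push Not at h; exact hd (by
      linear_combination φ₁ ⬝ᵥ v₂ * φ₂ ⬝ᵥ v₃ * h.1 - φ₁ ⬝ᵥ v₃ * h.2))
  have h₄ := h₃.move h₂ hs
  obtain ⟨v₄, φ₄, h₄, d1, d2, hd'⟩ : ∃ v₄ φ₄, TK P k v₄ φ₄ ∧ φ₁ ⬝ᵥ v₄ ≠ 0 ∧ φ₄ ⬝ᵥ v₁ ≠ 0 ∧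
      φ₁ ⬝ᵥ v₂ * φ₂ ⬝ᵥ v₄ * φ₄ ⬝ᵥ v₁ + φ₁ ⬝ᵥ v₄ * φ₄ ⬝ᵥ v₂ * φ₂ ⬝ᵥ v₁ ≠ 0 := by
    refine ⟨_, _, h₄, fun e => c1 ?_, fun e => c2 ?_, fun e => hd ?_⟩ <;>
      simp only [sub_dotProduct, smul_dotProduct, dotProduct_add, dotProduct_smul, smul_eq_mul,
        h₂.dot] at e <;> linear_combination e
  obtain ⟨t, ht, c3, c4⟩ := exists_avoid H.three (a := φ₂ ⬝ᵥ v₄) (b := φ₁ ⬝ᵥ v₄ * φ₂ ⬝ᵥ v₁)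
    (c := φ₄ ⬝ᵥ v₂) (d := -(φ₄ ⬝ᵥ v₁ * φ₁ ⬝ᵥ v₂)) (Or.inr (mul_ne_zero d1 a21))
    (Or.inr (neg_ne_zero.2 (mul_ne_zero d2 a12)))
  refine (H.frame_of h₁ h₂ (h₄.move h₁ ht)
    (mul_ne_zero (mul_ne_zero a12 fun e => c3 ?_) fun e => d2 ?_)
    (mul_ne_zero (mul_ne_zero (fun e => d1 ?_) fun e => c4 ?_) a21) fun e => hd' ?_).elim
    fun _ ⟨_, _, _, _, _, h, _⟩ => ⟨_, _, _, _, _, _, _, _, h⟩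
  all_goals
    simp only [sub_dotProduct, smul_dotProduct, dotProduct_add, dotProduct_smul, smul_eq_mul,
      h₁.dot] at e
    linear_combination e

namespace Frame

theorem eq_zero (h : Frame P k v₁ v₂ v₃ φ₁ φ₂ φ₃ x y) {z : Fin 3 → F} (h1 : φ₁ ⬝ᵥ z = 0)
    (h2 : φ₂ ⬝ᵥ z = 0) (h3 : φ₃ ⬝ᵥ z = 0) : z = 0 := by
  refine eq_zero_of_three (fun e => h.xy ?_) h1 h2 h3
  have := gram_det v₁ v₂ v₃ φ₁ φ₂ φ₃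
  rw [e, h.t₁.dot, h.t₂.dot, h.t₃.dot, h.g12, h.g13, h.g21, h.g31, h.g23, h.g32] at this
  linear_combination this

theorem decomp (h : Frame P k v₁ v₂ v₃ φ₁ φ₂ φ₃ x y) (z : Fin 3 → F) :
    z = ((x * y * φ₁ ⬝ᵥ z - y * φ₂ ⬝ᵥ z - x * φ₃ ⬝ᵥ z) / (x + y)) • v₁ +
      ((x * φ₁ ⬝ᵥ z - φ₂ ⬝ᵥ z + φ₃ ⬝ᵥ z) / (x + y)) • v₂ +
      ((y * φ₁ ⬝ᵥ z + φ₂ ⬝ᵥ z - φ₃ ⬝ᵥ z) / (x + y)) • v₃ := by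
  have := h.xy
  refine sub_eq_zero.1 (h.eq_zero ?_ ?_ ?_) <;>
    simp only [dotProduct_sub, dotProduct_add, dotProduct_smul, smul_eq_mul, h.t₁.dot, h.t₂.dot,
      h.t₃.dot, h.g12, h.g13, h.g21, h.g31, h.g23, h.g32] <;> field_simp <;> ring

theorem dot_eq (h : Frame P k v₁ v₂ v₃ φ₁ φ₂ φ₃ x y) (ψ z : Fin 3 → F) :
    ψ ⬝ᵥ z = (x * y * φ₁ ⬝ᵥ z - y * φ₂ ⬝ᵥ z - x * φ₃ ⬝ᵥ z) / (x + y) * ψ ⬝ᵥ v₁ +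
      (x * φ₁ ⬝ᵥ z - φ₂ ⬝ᵥ z + φ₃ ⬝ᵥ z) / (x + y) * ψ ⬝ᵥ v₂ +
      (y * φ₁ ⬝ᵥ z + φ₂ ⬝ᵥ z - φ₃ ⬝ᵥ z) / (x + y) * ψ ⬝ᵥ v₃ := by
  conv_lhs => rw [h.decomp z]
  simp only [dotProduct_add, dotProduct_smul, smul_eq_mul]

theorem trace_eq (h : Frame P k v₁ v₂ v₃ φ₁ φ₂ φ₃ x y) (A : Matrix (Fin 3) (Fin 3) F) :
    A.trace = (x * y * φ₁ ⬝ᵥ A *ᵥ v₁ - y * φ₂ ⬝ᵥ A *ᵥ v₁ - x * φ₃ ⬝ᵥ A *ᵥ v₁) / (x + y) +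
      (x * φ₁ ⬝ᵥ A *ᵥ v₂ - φ₂ ⬝ᵥ A *ᵥ v₂ + φ₃ ⬝ᵥ A *ᵥ v₂) / (x + y) +
      (y * φ₁ ⬝ᵥ A *ᵥ v₃ + φ₂ ⬝ᵥ A *ᵥ v₃ - φ₃ ⬝ᵥ A *ᵥ v₃) / (x + y) := by
  have e : A = vecMulVec (A *ᵥ v₁) ((x + y)⁻¹ • ((x * y) • φ₁ - y • φ₂ - x • φ₃)) +
      vecMulVec (A *ᵥ v₂) ((x + y)⁻¹ • (x • φ₁ - φ₂ + φ₃)) +
      vecMulVec (A *ᵥ v₃) ((x + y)⁻¹ • (y • φ₁ + φ₂ - φ₃)) := by
    refine ext_of_mulVec_single fun i => ?_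
    generalize (Pi.single i 1 : Fin 3 → F) = z
    conv_lhs => rw [h.decomp z]
    simp only [mulVec_add, mulVec_smul, add_mulVec, vecMulVec_mulVec, op_smul_eq_smul,
      smul_dotProduct, add_dotProduct, sub_dotProduct, smul_eq_mul, div_eq_inv_mul]
  conv_lhs => rw [e]
  simp only [trace_add, trace_vecMulVec, dotProduct_comm (A *ᵥ _), smul_dotProduct,
    add_dotProduct, sub_dotProduct, smul_eq_mul, div_eq_inv_mul]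

end Frame

/-- The stabiliser of a set of vectors. -/
def stabS (S : Set (Fin 3 → F)) : Subgroup (GL (Fin 3) F) where
  carrier := {g | ∀ z, z ∈ S ↔ (g : Matrix (Fin 3) (Fin 3) F) *ᵥ z ∈ S}
  one_mem' := fun z => by simp
  mul_mem' := fun {a b} ha hb z => by rw [mul_mulVec, ← ha, ← hb]
  inv_mem' := fun {a} ha z => by rw [ha (_ *ᵥ z), mulVec_inv_mulVec]

theorem Frame.eq_top (h : Frame P k v₁ v₂ v₃ φ₁ φ₂ φ₃ x y) (H : TF P k) (ht : TrGen P)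
    {K : Subfield F} (hk : k ≤ K) (hK : ∀ {v₁ φ₁ v₂ φ₂ v₃ φ₃}, TK P k v₁ φ₁ → TK P k v₂ φ₂ →
      TK P k v₃ φ₃ → φ₁ ⬝ᵥ v₂ * φ₂ ⬝ᵥ v₃ * φ₃ ⬝ᵥ v₁ ∈ K) : K = ⊤ := by
  have hx : x ∈ K := by simpa [h.g12, h.g23, h.g31] using hK h.t₁ h.t₂ h.t₃
  have hy : y ∈ K := by simpa [h.g13, h.g32, h.g21] using hK h.t₁ h.t₃ h.t₂
  let S : Set (Fin 3 → F) := {z | φ₁ ⬝ᵥ z ∈ K ∧ φ₂ ⬝ᵥ z ∈ K ∧ φ₃ ⬝ᵥ z ∈ K}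
  have hc : ∀ z ∈ S, (x * y * φ₁ ⬝ᵥ z - y * φ₂ ⬝ᵥ z - x * φ₃ ⬝ᵥ z) / (x + y) ∈ K ∧
      (x * φ₁ ⬝ᵥ z - φ₂ ⬝ᵥ z + φ₃ ⬝ᵥ z) / (x + y) ∈ K ∧
      (y * φ₁ ⬝ᵥ z + φ₂ ⬝ᵥ z - φ₃ ⬝ᵥ z) / (x + y) ∈ K := by
    rintro z ⟨a, b, c⟩
    clear hK hk
    refine ⟨?_, ?_, ?_⟩ <;> apply_rules [div_mem, sub_mem, add_mem, mul_mem]
  have key : ∀ {v φ u χ}, TK P k v φ → TK P k u χ → ∀ {u' χ'}, TK P k u' χ' →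
      χ' ⬝ᵥ u ∈ K → χ' ⬝ᵥ u ≠ 0 → φ ⬝ᵥ u' * χ ⬝ᵥ v ∈ K := by
    intro v φ u χ h1 h2 u' χ' h3 h4 h5
    have := K.div_mem (hK h1 h3 h2) h4
    rwa [mul_right_comm, mul_div_cancel_right₀ _ h5] at this
  have hS : ∀ v φ, TK P k v φ → ∀ z ∈ S, ∀ c : F, c = 1 ∨ c = -1 → z + (c * φ ⬝ᵥ z) • v ∈ S := by
    intro v φ hv z hz c hc'
    have hcK : c ∈ K := by rcases hc' with rfl | rfl <;> simp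
    obtain ⟨c1, c2, c3⟩ := hc z hz
    have aux : ∀ χ, χ ⬝ᵥ z ∈ K → φ ⬝ᵥ v₁ * χ ⬝ᵥ v ∈ K → φ ⬝ᵥ v₂ * χ ⬝ᵥ v ∈ K →
        φ ⬝ᵥ v₃ * χ ⬝ᵥ v ∈ K → χ ⬝ᵥ (z + (c * φ ⬝ᵥ z) • v) ∈ K := by
      intro χ e0 e1 e2 e3
      convert K.add_mem e0 (K.mul_mem hcK (K.add_mem (K.add_mem (K.mul_mem c1 e1)
        (K.mul_mem c2 e2)) (K.mul_mem c3 e3))) using 1
      rw [dotProduct_add, dotProduct_smul, smul_eq_mul, h.dot_eq φ z]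
      ring
    exact ⟨aux _ hz.1 (hk (H.two hv h.t₁)) (key hv h.t₁ h.t₂ (by simp [h.g21]) (by simp [h.g21]))
        (key hv h.t₁ h.t₃ (by simp [h.g31]) (by simp [h.g31])),
      aux _ hz.2.1 (key hv h.t₂ h.t₁ (by simp [h.g12]) (by simp [h.g12])) (hk (H.two hv h.t₂))
        (key hv h.t₂ h.t₃ (h.g32 ▸ hy) (h.g32 ▸ h.y0)),
      aux _ hz.2.2 (key hv h.t₃ h.t₁ (by simp [h.g13]) (by simp [h.g13]))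
        (key hv h.t₃ h.t₂ (h.g23 ▸ hx) (h.g23 ▸ h.x0)) (hk (H.two hv h.t₃))⟩
  have hle : P ≤ stabS S := (fam_TK k).le H.qs h.t₁ fun v φ hv g e z => by
    rw [e]
    refine ⟨fun hz => by simpa using hS v φ hv z hz 1 (Or.inl rfl), fun hz => ?_⟩
    simpa [hv.dot] using hS v φ hv _ hz (-1) (Or.inr rfl)
  refine ht K fun g hg => ?_
  rw [h.trace_eq]
  exact K.add_mem (K.add_mem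
    (hc _ ((hle hg v₁).1 ⟨by simp [h.t₁.dot], by simp [h.g21], by simp [h.g31]⟩)).1
    (hc _ ((hle hg v₂).1 ⟨by simp [h.g12], by simp [h.t₂.dot], h.g32 ▸ hy⟩)).2.1)
    (hc _ ((hle hg v₃).1 ⟨by simp [h.g13], h.g23 ▸ hx, by simp [h.t₃.dot]⟩)).2.2

theorem tv_map_iff : MSL.TV (P.map (MSL.toE (LinearEquiv.refl F (Fin 3 → F)))) v
    (dotProductEquiv F (Fin 3) φ) ↔ MT P v φ :=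
  and_congr Iff.rfl ⟨fun ⟨_, ⟨g, hg, rfl⟩, e⟩ => ⟨g, hg, e⟩,
    fun ⟨g, hg, e⟩ => ⟨_, ⟨g, hg, rfl⟩, e⟩⟩

theorem Frame.eq_sl (h : Frame P ⊤ v₁ v₂ v₃ φ₁ φ₂ φ₃ x y) (hP : QS P) :
    P = specialLinear (Fin 3) F := by
  have hy := h.y0
  have hxy := h.xy
  have h1 : v₁ ∈ MSL.cen (P.map (MSL.toE (LinearEquiv.refl F (Fin 3 → F)))) := by
    intro χ hχ
    obtain ⟨ψ, rfl⟩ := (dotProductEquiv F (Fin 3)).surjective χ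
    replace hχ : ψ ⬝ᵥ v₁ = 0 := hχ
    have h2 := (h.t₃.move h.t₂ (c := y⁻¹) trivial).mt
    rw [h.g32, inv_mul_cancel₀ hy, one_smul, h.g23] at h2
    have h3 := (h.t₁.2.2 ((ψ ⬝ᵥ v₂ - ψ ⬝ᵥ v₃) * y / (x + y) ^ 2) trivial).comm h2
      (by simp [h.g31, h.g21])
    rw [tv_map_iff]
    convert (h.t₁.2.2 ((x * ψ ⬝ᵥ v₂ + y * ψ ⬝ᵥ v₃) / (x + y)) trivial).add h3 using 1
    refine dotProduct_eq _ _ fun z => ?_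
    rw [h.dot_eq ψ z, hχ]
    simp only [add_dotProduct, sub_dotProduct, smul_dotProduct, dotProduct_add, dotProduct_smul,
      smul_eq_mul, h.g12, h.g13]
    field_simp
    ring
  refine le_antisymm (qs_le_sl hP) (MSL.specialLinear_le_of_cen (LinearEquiv.refl F _) ?_)
  refine (hP.irr _ fun g hg z hz => ?_).resolve_left fun e => h.t₁.1 ?_
  · exact (MSL.has_of_mem (Subgroup.mem_map_of_mem _ hg)).mem_cen hz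
  · rwa [e] at h1

end Cfsg.Agent.Cl.D3
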