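import Mathlib
import Cfsg.Agent.Cl.MaxSLCore
import Cfsg.Agent.Cl.UForm

/-!
# Maximality in `SL(V)` of the similarity groups of symplectic and unitary forms
-/

set_option autoImplicit false
set_option linter.unusedSectionVars false
set_option linter.unusedVariables false

namespace Cfsg.Agent.Cl.MSL

open Module

variable {F V : Type*} [Field F] [AddCommGroup V] [Module F V]
variable {M : Subgroup (V ≃ₗ[F] V)}

section Sp

variable {B : V →ₗ[F] V →ₗ[F] F}

theorem sp_skew (halt : ∀ x, B x x = 0) (x y : V) : B x y = -B y x := by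
  have := halt (x + y)
  simp only [map_add, LinearMap.add_apply, halt] at this
  linear_combination this

theorem exists_apply_ne_zero_of_nd (hnd : ∀ x, (∀ y, B x y = 0) → x = 0) {x : V} (hx : x ≠ 0) :
    ∃ y, B x y ≠ 0 := by
  by_contra! H
  exact hx (hnd x H)

theorem eq_smul_of_perp (hnd : ∀ x, (∀ y, B x y = 0) → x = 0) {x w : V}
    (h : ∀ y, B w y = 0 → B x y = 0) : ∃ c : F, x = c • w := by
  obtain ⟨c, hc⟩ := exists_smul_of_ker h
  refine ⟨c, sub_eq_zero.1 (hnd _ fun y => ?_)⟩
  rw [map_sub, map_smul, hc, sub_self, LinearMap.zero_apply]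

theorem sp_cen_eq_top_of_mem (hnd : ∀ x, (∀ y, B x y = 0) → x = 0) (halt : ∀ x, B x x = 0)
    (hM : ∀ v (c : F), TV M v (c • B v)) {w : V} (hw : w ∈ cen M) (h0 : w ≠ 0) : cen M = ⊤ := by
  obtain ⟨y, hy⟩ := exists_apply_ne_zero_of_nd hnd h0
  refine eq_top_iff.2 fun x _ => le_of_compl_ker (W := ⊤) (φ := B w) Submodule.mem_top hy
    (fun z _ hz => (hM z 1).mem_cen hw ?_) x Submodule.mem_top
  rw [one_smul, sp_skew halt]
  exact neg_ne_zero.2 hz

theorem sp_mem_cen [FiniteDimensional F V] (hnd : ∀ x, (∀ y, B x y = 0) → x = 0)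
    (halt : ∀ x, B x x = 0) (hM : ∀ v (c : F), TV M v (c • B v)) {w y : V} {φ : Dual F V}
    (h : TV M w φ) (h1 : B w y = 0) (h2 : φ y ≠ 0) : w ∈ cen M := by
  have key : ∀ z ∈ LinearMap.ker (B w), z ∈ (axes M w).comap B := by
    refine le_of_compl_ker (φ := φ) (show y ∈ LinearMap.ker (B w) from h1) h2 fun z hz h3 c => ?_
    have := h.comm (hM z (c * (φ z)⁻¹)) (by
      rw [LinearMap.smul_apply, sp_skew halt, show B w z = 0 from hz]; simp)
    rwa [smul_smul, mul_comm c, mul_inv_cancel_left₀ h3] at this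
  refine mem_cen_of_axes fun x hx => eq_smul_of_perp hnd fun z hz => ?_
  rw [sp_skew halt, hx _ (key z hz), neg_zero]

theorem cen_eq_top_sp [FiniteDimensional F V] (hnd : ∀ x, (∀ y, B x y = 0) → x = 0)
    (halt : ∀ x, B x x = 0) (hM : ∀ v (c : F), TV M v (c • B v)) {g : V ≃ₗ[F] V} (hg : g ∈ M)
    (hn : ¬ ∃ c : Fˣ, ∀ x y, B (g x) (g y) = c * B x y) : cen M = ⊤ := by
  by_contra hc
  have H : ∀ v, ∃ c : F, ∀ y, B v y = c * B (g v) (g y) := fun v => by
    have h1 := (hM v 1).conj_mem hg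
    by_cases h0 : g v = 0
    · exact ⟨0, fun y => by simp [g.map_eq_zero_iff.1 h0]⟩
    obtain ⟨c, h2⟩ := exists_smul_of_ker (ψ := B (g v)) (φ := (1 : F) • B v ∘ₗ (g.symm : V →ₗ[F] V))
      fun y hy => by
        by_contra h3
        exact hc (sp_cen_eq_top_of_mem hnd halt hM (sp_mem_cen hnd halt hM h1 hy h3) h0)
    exact ⟨c, fun y => by simpa using LinearMap.congr_fun h2 (g y)⟩
  choose c hc' using H
  rcases subsingleton_or_nontrivial V with hV | hV
  · exact hc (Subsingleton.elim _ _)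
  obtain ⟨v, hv⟩ := exists_ne (0 : V)
  obtain ⟨y, hy⟩ := exists_apply_ne_zero_of_nd hnd hv
  have hc0 : c v ≠ 0 := fun h => hy (by rw [hc', h, zero_mul])
  refine hn ⟨(Units.mk0 _ hc0)⁻¹, fun x => ?_⟩
  let S : Submodule F V := LinearMap.ker (B - c v • B.compl₁₂ (g : V →ₗ[F] V) (g : V →ₗ[F] V))
  have hS : x ∈ S := le_of_compl_ker (W := ⊤) (φ := B v) Submodule.mem_top hy
    (fun z _ hz => by
      have e : c z = c v := by
        have h1 := hc' v z
        have h2 := hc' z v
        rw [sp_skew halt z, sp_skew halt (g z)] at h2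
        have h3 : B (g v) (g z) ≠ 0 := fun h => hz (by rw [h1, h, mul_zero])
        exact mul_right_cancel₀ h3 (by linear_combination h2 + h1)
      refine LinearMap.mem_ker.2 (LinearMap.ext fun u => ?_)
      simp [hc' z u, e]) x Submodule.mem_top
  intro u
  have := LinearMap.congr_fun (LinearMap.mem_ker.1 hS) u
  simp only [LinearMap.sub_apply, LinearMap.smul_apply, LinearMap.compl₁₂_apply,
    LinearEquiv.coe_coe, smul_eq_mul, LinearMap.zero_apply, sub_eq_zero] at this
  rw [this, Units.val_inv_eq_inv_val, Units.val_mk0, inv_mul_cancel_left₀ hc0]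

theorem exists_not_sim_sp [FiniteDimensional F V] (h3 : 3 ≤ finrank F V)
    (hnd : ∀ x, (∀ y, B x y = 0) → x = 0) (halt : ∀ x, B x x = 0) :
    ∃ T : V →ₗ[F] V, LinearMap.det T = 1 ∧ ¬ ∃ c : Fˣ, ∀ x y, B (T x) (T y) = c * B x y := by
  have : Nontrivial V := Module.nontrivial_of_finrank_pos (R := F) (by omega)
  obtain ⟨v, hv⟩ := exists_ne (0 : V)
  obtain ⟨y, hy⟩ := exists_apply_ne_zero_of_nd hnd hv
  obtain ⟨x, hx, hx'⟩ := exists_notMem_of_finrank_lt (W := Submodule.span F {v})
    (U := LinearMap.ker (B v)) (by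
      have := LinearMap.finrank_range_add_finrank_ker (B v)
      have h2 := Submodule.finrank_le (LinearMap.range (B v))
      rw [finrank_span_singleton hv]
      rw [Module.finrank_self] at h2
      omega)
  obtain ⟨φ, h1, h2⟩ := exists_dual_of_notMem (v := x) (W := Submodule.span F {v, y}) (by
    rw [Submodule.mem_span_pair]
    rintro ⟨a, b, rfl⟩
    have hb : b = 0 := by simpa [halt, hy] using hx
    exact hx' (Submodule.mem_span_singleton.2 ⟨a, by simp [hb]⟩))
  have hφv := h2 v (Submodule.subset_span (by simp))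
  have hφy := h2 y (Submodule.subset_span (by simp))
  refine ⟨LinearMap.transvection φ y, det_tv_one hφy, fun ⟨c, hc⟩ => hy ?_⟩
  have := hc v x
  simpa [LinearMap.transvection.apply, h1, hφv, show B v x = 0 from hx] using this

open Cfsg.Geo Cfsg.Agent.Cl.Max in
theorem isMaximalIn_symplectic {ι : Type} [Fintype ι] [DecidableEq ι] (h3 : 3 ≤ Fintype.card ι)
    {f : (ι → F) → (ι → F) → F} (hf : IsSymplecticForm f) :
    IsMaximalIn (specialLinear ι F) (similarityGroup f ⊓ specialLinear ι F) := by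
  let B : (ι → F) →ₗ[F] (ι → F) →ₗ[F] F := LinearMap.mk₂ F f hf.bilinear.add_left
    hf.bilinear.smul_left hf.bilinear.add_right fun c x y => hf.bilinear.smul_right c x y
  have hnd : ∀ x, (∀ y, B x y = 0) → x = 0 := fun x hx => by
    by_contra h
    obtain ⟨y, hy⟩ := (hf.nondegenerate x h).2
    exact hy (hx y)
  have halt : ∀ x, B x x = 0 := hf.alternating
  refine isMaximalIn_of_abs (LinearEquiv.refl F _) _
    (fun T => ∃ c : Fˣ, ∀ x y, B (T x) (T y) = c * B x y) (fun g => Iff.rfl)
    (exists_not_sim_sp (by simpa using h3) hnd halt) fun M hM _ g hg hn =>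
      cen_eq_top_sp hnd halt (fun v c => tv_of_has (by simp [halt])
        (hM _ (det_tv_one (by simp [halt])) ⟨1, fun x y => ?_⟩)) hg hn
  simp only [LinearMap.transvection.apply, map_add, map_smul, LinearMap.add_apply,
    LinearMap.smul_apply, smul_eq_mul, halt, sp_skew halt x v, Units.val_one]
  ring

end Sp

section U

variable {σ : F →+* F} {B : V →ₗ[F] V →ₛₗ[σ] F}

theorem herm_exists_iso (h : IsHerm B) {e f p : V} (he : B e e = 0) (hf : B f f = 0)
    (hef : B e f = 1) (h1 : B p e = 0) (h2 : B p f = 0) :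
    ∃ t : F, t + σ t = -B p p ∧ B (f + p + t • e) (f + p + t • e) = 0 ∧
      B e (f + p + t • e) = 1 := by
  obtain ⟨t, ht⟩ := h.exists_trace_eq (a := -B p p) (by rw [map_neg, h.fixed])
  refine ⟨t, ht, ?_, ?_⟩
  · simp only [map_add, map_smul, LinearMap.map_smulₛₗ, LinearMap.add_apply, LinearMap.smul_apply,
      smul_eq_mul, he, hf, hef, h1, h2, h.eq_zero_symm h1, h.eq_zero_symm h2, h.eq_one_symm hef]
    linear_combination ht
  · simp [LinearMap.map_smulₛₗ, he, hef, h.eq_zero_symm h1]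

theorem herm_span (h : IsHerm B) {e : V} (he0 : e ≠ 0) (he : B e e = 0) {T : Submodule F V}
    (h1 : e ∈ T) (h2 : ∀ y, B y y = 0 → B e y ≠ 0 → y ∈ T) : T = ⊤ := by
  obtain ⟨f, hf, hef⟩ := h.exists_partner he0 he
  have hfT := h2 f hf (by simp [hef])
  refine eq_top_iff.2 fun z _ => ?_
  obtain ⟨t, -, h3, h4⟩ := herm_exists_iso h he hf hef (p := z - B z f • e - B z e • f)
    (by simp [he, h.eq_one_symm hef]) (by simp [hf, hef])
  have := h2 _ h3 (by simp [h4])
  have e1 : z = (f + (z - B z f • e - B z e • f) + t • e) + (B z f - t) • e + (B z e - 1) • f := by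
    module
  rw [e1]
  exact T.add_mem (T.add_mem this (T.smul_mem _ h1)) (T.smul_mem _ hfT)

theorem herm_exists_iso_ne [Finite F] [FiniteDimensional F V] (h : IsHerm B)
    (h2 : 2 ≤ finrank F V) {φ : Dual F V} (hφ : φ ≠ 0) : ∃ x, B x x = 0 ∧ φ x ≠ 0 := by
  by_contra! H
  obtain ⟨e, f, he, hf, hef⟩ := h.exists_hyperbolic_pair h2
  have := herm_span h (e := e) (by rintro rfl; simp at hef) he (T := LinearMap.ker φ) (H e he)
    fun y hy _ => H y hy
  exact hφ (LinearMap.ker_eq_top.1 this)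

/-- The unitary transvections act irreducibly on the additive group in dimension at least 3. -/
theorem herm_addSubgroup_eq_top [Finite F] [FiniteDimensional F V] (h : IsHerm B)
    (h3 : 3 ≤ finrank F V) (S : AddSubgroup V)
    (hS : ∀ u ∈ S, ∀ x, B x x = 0 → ∀ c : F, σ c = -c → (c * B u x) • x ∈ S) {u : V} (hu : u ∈ S)
    (hu0 : u ≠ 0) (z : V) : z ∈ S := by
  obtain ⟨θ, hθ0, hθ⟩ := h.exists_trace_zero
  obtain ⟨x, hx, hux⟩ := herm_exists_iso_ne h (by omega) (φ := B.flip u) (fun H => hu0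
    (h.nondeg' u fun x => LinearMap.congr_fun H x))
  have hux' : B u x ≠ 0 := fun H => hux (h.eq_zero_symm H)
  obtain ⟨e, heS, he0, he⟩ : ∃ e ∈ S, e ≠ 0 ∧ B e e = 0 :=
    ⟨_, hS u hu x hx θ hθ, smul_ne_zero (mul_ne_zero hθ0 hux') (by rintro rfl; simp at hux),
      by simp [LinearMap.map_smulₛₗ, hx]⟩
  obtain ⟨f, hf, hef⟩ := h.exists_partner he0 he
  have hfe := h.eq_one_symm hef
  obtain ⟨p, hp, hpp⟩ := h.exists_perp_nonisotropic (h.disjoint_span_pair he hf hef)
    (by rw [h.finrank_span_pair he hf hef]; omega)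
  obtain ⟨hep, hfp⟩ := mem_uPerp_span_pair.1 hp
  obtain ⟨t, ht, h4, h5⟩ := herm_exists_iso h he hf hef (h.eq_zero_symm hep) (h.eq_zero_symm hfp)
  have h6 := hS e heS f hf θ hθ
  have h7 := hS _ h6 _ h4 θ hθ
  have ht0 : t + σ t ≠ 0 := by rw [ht]; exact neg_ne_zero.2 hpp
  have heF : ∀ a : F, a • e ∈ S := fun a => by
    have h8 := hS _ h7 e he ((a - σ a) / (θ ^ 2 * (t + σ t))) (by
      rw [map_div₀, map_sub, map_mul, map_pow, hθ, h.invol, h.trace_fixed]
      ring)
    have h9 := hS _ h6 e he ((a * t + σ a * σ t) / (θ * (t + σ t))) (by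
      rw [map_div₀, map_add, map_mul, map_mul, map_mul, hθ, h.invol, h.invol, h.trace_fixed]
      field_simp
      ring)
    convert S.add_mem h8 h9 using 1
    rw [← add_smul]
    congr 1
    simp only [map_add, map_smul, LinearMap.map_smulₛₗ, LinearMap.add_apply, LinearMap.smul_apply,
      smul_eq_mul, he, hf, hef, hfe, hfp, h.eq_zero_symm hep]
    field_simp
    ring
  let T : Submodule F V :=
    { carrier := {y | ∀ a : F, a • y ∈ S}
      zero_mem' := fun a => by rw [smul_zero]; exact S.zero_mem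
      add_mem' := fun h1 h2 a => by rw [smul_add]; exact S.add_mem (h1 a) (h2 a)
      smul_mem' := fun c y h1 a => by rw [smul_smul]; exact h1 _ }
  have hT : T = ⊤ := herm_span h he0 he heF fun y hy h1 a => by
    have := hS _ (heF (a / (θ * B e y))) y hy θ hθ
    convert this using 2
    simp only [map_smul, LinearMap.smul_apply, smul_eq_mul]
    field_simp
  have : z ∈ T := hT ▸ Submodule.mem_top
  simpa using this 1

theorem herm_exists_eq_mul [Finite F] [FiniteDimensional F V] (h : IsHerm B)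
    (h2 : 2 ≤ finrank F V) {K : V →ₗ[F] V →ₛₗ[σ] F} (hK : ∀ x y, σ (K x y) = K y x)
    (h0 : ∀ x, B x x = 0 → K x x = 0) : ∃ c : F, ∀ x y, K x y = c * B x y := by
  obtain ⟨θ, hθ0, hθ⟩ := h.exists_trace_zero
  obtain ⟨μ, hμ⟩ := h.exists_ne
  have fix : ∀ e y, B e e = 0 → B y y = 0 → B e y = 1 → σ (K e y) = K e y := fun e y he hy hey => by
    have := h0 (e + θ • y) (by
      simp [LinearMap.map_smulₛₗ, he, hy, hey, h.eq_one_symm hey, hθ])
    simp only [map_add, map_smul, LinearMap.map_smulₛₗ, LinearMap.add_apply, LinearMap.smul_apply,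
      smul_eq_mul, h0 e he, h0 y hy, hθ, ← hK e y] at this
    exact mul_left_cancel₀ hθ0 (by linear_combination this)
  have key : ∀ e, e ≠ 0 → B e e = 0 → ∃ c : F, σ c = c ∧ ∀ y, K e y = c * B e y := fun e he0 he => by
    obtain ⟨f, hf, hef⟩ := h.exists_partner he0 he
    have h1 : ∀ p, B p e = 0 → B p f = 0 → σ (K e p) = K e p := fun p h1 h2 => by
      obtain ⟨t, -, h3, h4⟩ := herm_exists_iso h he hf hef h1 h2
      have := fix e _ he h3 h4
      simpa [LinearMap.map_smulₛₗ, h0 e he, fix e f he hf hef] using this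
    refine ⟨K e f, fix e f he hf hef, fun z => ?_⟩
    have h3 : B (z - B z f • e - B z e • f) e = 0 := by simp [he, h.eq_one_symm hef]
    have h4 : B (z - B z f • e - B z e • f) f = 0 := by simp [hf, hef]
    have h5 := h1 _ h3 h4
    have h6 := h1 (μ • (z - B z f • e - B z e • f)) (by rw [map_smul, LinearMap.smul_apply, h3,
      smul_zero]) (by rw [map_smul, LinearMap.smul_apply, h4, smul_zero])
    rw [LinearMap.map_smulₛₗ, smul_eq_mul, map_mul, h5, h.invol] at h6
    have h7 : K e (z - B z f • e - B z e • f) = 0 := by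
      by_contra h7
      exact hμ (mul_right_cancel₀ h7 h6).symm
    simp only [map_sub, LinearMap.map_smulₛₗ, smul_eq_mul, h0 e he, h.symm] at h7
    linear_combination h7
  obtain ⟨e, f, he, hf, hef⟩ := h.exists_hyperbolic_pair h2
  have he0 : e ≠ 0 := by rintro rfl; simp at hef
  obtain ⟨c, hc, hc'⟩ := key e he0 he
  have hT := herm_span h he0 he (T := LinearMap.ker (K - c • B))
    (LinearMap.mem_ker.2 (LinearMap.ext fun y => by simp [hc'])) fun y hy h1 => by
      obtain ⟨d, -, hd⟩ := key y (by rintro rfl; simp at h1) hy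
      have h3 := hd e
      rw [← hK, hc', map_mul, hc, h.symm] at h3
      have h4 : c = d := mul_right_cancel₀ (fun H => h1 (h.eq_zero_symm H)) h3
      exact LinearMap.mem_ker.2 (LinearMap.ext fun y => by simp [hd, h4])
  refine ⟨c, fun x y => ?_⟩
  have := LinearMap.congr_fun (LinearMap.congr_fun (LinearMap.ker_eq_top.1 hT) x) y
  simpa [sub_eq_zero] using this

theorem cen_eq_top_herm [Finite F] [FiniteDimensional F V] (h : IsHerm B) (h4 : 4 ≤ finrank F V)
    (hM : ∀ v (c : F), B v v = 0 → σ c = -c → TV M v (c • B.flip v)) {g : V ≃ₗ[F] V} (hg : g ∈ M)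
    (hn : ¬ ∃ c : Fˣ, ∀ x y, B (g x) (g y) = c * B x y) : cen M = ⊤ := by
  obtain ⟨θ, hθ0, hθ⟩ := h.exists_trace_zero
  obtain ⟨v, hv, hw⟩ : ∃ v, B v v = 0 ∧ B (g v) (g v) ≠ 0 := by
    by_contra! H
    obtain ⟨c, hc⟩ := herm_exists_eq_mul h (by omega)
      (K := (B.comp (g : V →ₗ[F] V)).compl₂ (g : V →ₗ[F] V)) (fun x y => h.symm _ _) H
    obtain ⟨e, f, -, -, hef⟩ := h.exists_hyperbolic_pair (by omega)
    have hc0 : c ≠ 0 := by
      rintro rfl
      have := hc (g.symm e) (g.symm f)
      simp [hef] at this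
    exact hn ⟨Units.mk0 c hc0, hc⟩
  have h1 := (hM v θ hv hθ).conj_mem hg
  set w := g v
  set φ : Dual F V := (θ • B.flip v) ∘ₗ (g.symm : V →ₗ[F] V)
  have hw0 : w ≠ 0 := by rintro H; simp [H] at hw
  let W := uPerp B (F ∙ w)
  have hW : IsHerm (uRes B W) := h.restrict_uPerp (h.disjoint_span_singleton hw)
  have hdim : 3 ≤ finrank F W := by
    rw [h.finrank_uPerp, finrank_span_singleton hw0]; omega
  have hwW : ∀ x : W, B w x = 0 := fun x => mem_uPerp_span_singleton.1 x.2
  have hdec : ∀ x, x - (B x w / B w w) • w ∈ W := fun x =>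
    mem_uPerp_span_singleton.2 (h.eq_zero_symm (by simp [hw]))
  obtain ⟨x, hx, hφx⟩ := herm_exists_iso_ne hW (by omega) (φ := φ ∘ₗ W.subtype) (fun H => by
    have hv0 : v ≠ 0 := fun H => hw0 (by simp [w, H])
    obtain ⟨y, hy⟩ := h.exists_ne_zero hv0
    have := LinearMap.congr_fun H ⟨_, hdec (g y)⟩
    simp only [LinearMap.comp_apply, Submodule.subtype_apply, map_sub, map_smul, h1.1, smul_zero,
      sub_zero, LinearMap.zero_apply] at this
    simp only [φ, LinearMap.comp_apply, LinearEquiv.coe_coe, g.symm_apply_apply,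
      LinearMap.smul_apply, LinearMap.flip_apply, smul_eq_mul, mul_eq_zero, hθ0, false_or] at this
    exact hy (h.eq_zero_symm this))
  let S : AddSubgroup W :=
    { carrier := {u | TV M w (B.flip u)}
      zero_mem' := by simpa using tv_zero_right w
      add_mem' := fun h1 h2 => by simpa using TV.add_right h1 h2
      neg_mem' := fun h1 => by simpa using TV.neg_right h1 }
  have hS : ∀ z, z ∈ S := by
    refine herm_addSubgroup_eq_top hW hdim S (fun u hu x hx c hc => ?_)
      (u := σ (φ x * θ) • x) ?_ (smul_ne_zero (by simpa [hθ0] using hφx)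
        (by rintro rfl; simp at hφx))
    · have := TV.comm hu (hM x (-c) hx (by rw [map_neg, hc])) (by simp [hwW])
      refine this.congr_right fun y => ?_
      simp [LinearMap.map_smulₛₗ, uRes_apply, hc, h.symm, mul_comm, mul_left_comm]
    · have := h1.comm (hM x θ hx hθ) (by simp [hwW])
      refine this.congr_right fun y => ?_
      simp [LinearMap.map_smulₛₗ, h.invol, mul_assoc]
  have hcen : w ∈ cen M := mem_cen_of_axes fun x hx => ⟨B x w / B w w, sub_eq_zero.1
    (h.nondeg _ fun y => by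
      have h2 := hx (B.flip (y - (B y w / B w w) • w)) fun c => by
        have := hS (σ c • ⟨_, hdec y⟩)
        refine TV.congr_right this fun z => ?_
        simp only [SetLike.val_smul, LinearMap.map_smulₛₗ, h.invol]
      have h3 := mem_uPerp_span_singleton.1 (hdec y)
      have h5 := h.eq_zero_symm (mem_uPerp_span_singleton.1 (hdec x))
      generalize B y w / B w w = b at h2 h3
      obtain ⟨y', rfl⟩ : ∃ y', y = y' + b • w := ⟨_, (sub_add_cancel _ _).symm⟩
      rw [add_sub_cancel_right] at h2 h3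
      rw [map_add, LinearMap.map_smulₛₗ (B _), h5, smul_zero, add_zero, map_sub, map_smul,
        LinearMap.sub_apply, LinearMap.smul_apply, h3, smul_zero, sub_zero]
      exact h2)⟩
  refine eq_top_iff.2 fun z _ => herm_addSubgroup_eq_top h (by omega) (cen M).toAddSubgroup
    (fun u hu x hx c hc => ?_) hcen hw0 z
  by_cases e : B u x = 0
  · simp [e]
  · exact (cen M).smul_mem _ ((hM x θ hx hθ).mem_cen hu (by simpa [hθ0] using e))

theorem exists_sl_apply_eq [FiniteDimensional F V] (h2 : 2 ≤ finrank F V) {v w : V} (hv : v ≠ 0)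
    (hw : ∀ c : F, w ≠ c • v) : ∃ T : V →ₗ[F] V, LinearMap.det T = 1 ∧ T v = w := by
  obtain ⟨φ, h1, h3⟩ := exists_dual_pair (F := F) (v := v) (w := w - v) fun c hc => by
    have hc0 : c ≠ 0 := by rintro rfl; simp [hv] at hc
    refine hw (c⁻¹ + 1) ?_
    rw [add_smul, one_smul, ← sub_eq_iff_eq_add, eq_inv_smul_iff₀ hc0, ← hc]
  exact ⟨LinearMap.transvection φ (w - v), det_tv_one h3, by simp [LinearMap.transvection.apply, h1]⟩

open Cfsg.Geo Cfsg.Agent.Cl.Max in
theorem isMaximalIn_unitary [Finite F] {ι : Type} [Fintype ι] [DecidableEq ι]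
    (h4 : 4 ≤ Fintype.card ι) {τ : F ≃+* F} {f : (ι → F) → (ι → F) → F}
    (hf : IsUnitaryForm τ f) :
    IsMaximalIn (specialLinear ι F) (similarityGroup f ⊓ specialLinear ι F) := by
  let B : (ι → F) →ₗ[F] (ι → F) →ₛₗ[(τ : F →+* F)] F :=
    LinearMap.mk₂'ₛₗ (RingHom.id F) (τ : F →+* F) f hf.add_left hf.smul_left
      (fun x y z => by rw [hf.herm, hf.add_left, map_add, ← hf.herm, ← hf.herm])
      (fun c x y => by rw [hf.herm, hf.smul_left, map_mul, ← hf.herm]; rfl)
  have h : IsHerm B :=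
    { invol := hf.involutive
      exists_ne := by
        by_contra! H
        exact hf.ne_refl (RingEquiv.ext H)
      symm := fun x y => (hf.herm y x).symm
      nondeg := fun x hx => by
        by_contra h
        obtain ⟨y, hy⟩ := (hf.nondegenerate x h).2
        exact hy (hx y) }
  have hd : finrank F (ι → F) = Fintype.card ι := by simp
  refine isMaximalIn_of_abs (LinearEquiv.refl F _) _
    (fun T => ∃ c : Fˣ, ∀ x y, B (T x) (T y) = c * B x y) (fun g => Iff.rfl) ?_
    fun M hM _ g hg hn => cen_eq_top_herm h (by omega) (fun v c hv hc => tv_of_has (by simp [hv])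
        (hM _ (det_tv_one (by simp [hv])) ⟨1, fun x y => ?_⟩)) hg hn
  · obtain ⟨e, e', he, -, hee⟩ := h.exists_hyperbolic_pair (by omega)
    have he0 : e ≠ 0 := by rintro rfl; simp at hee
    have : Nontrivial (ι → F) := ⟨e, 0, he0⟩
    obtain ⟨p, hp⟩ := h.exists_norm_one
    obtain ⟨T, hT, hTe⟩ := exists_sl_apply_eq (F := F) (by omega) he0 (w := p) (by
      rintro c rfl
      simp [LinearMap.map_smulₛₗ, he] at hp)
    refine ⟨T, hT, fun ⟨c, hc⟩ => ?_⟩
    have := hc e e
    simp [hTe, hp, he] at this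
  · simp only [LinearMap.transvection.apply, map_add, map_smul, LinearMap.add_apply,
      LinearMap.smul_apply, smul_eq_mul, LinearMap.map_smulₛₗ, hv, LinearMap.flip_apply, map_mul, hc,
      h.symm, Units.val_one]
    ring

end U

end Cfsg.Agent.Cl.MSL
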