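/-
Quasisimple subgroups of `SL₃(F)` with a large group of transvections.
-/
import Mathlib
import Cfsg.Agent.Cl.D3TVB
import Cfsg.Agent.Cl.MaxSLForm

set_option autoImplicit false

namespace Cfsg.Agent.Cl.D3

open Matrix Cfsg.Geo Cfsg.Agent.Cl.Max Cfsg.Agent.Cl.Mx
open scoped MatrixGroups

variable {F : Type*} [Field F] {P : Subgroup (GL (Fin 3) F)}

section Unitary

variable {k : Subfield F} {v₁ v₂ v₃ φ₁ φ₂ φ₃ : Fin 3 → F} {x y : F} {τ : F →+* F}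
  {f : (Fin 3 → F) → (Fin 3 → F) → F}

theorem TF.le_suG [Finite F] (H : TF P k) (hτ : ∀ a, τ a = a ↔ a ∈ k) (hσ : UInvol τ)
    (hf : HForm τ 1 f) (hle : suG f ≤ P) : P ≤ suG f := by
  have hB := hf.isHerm hσ
  obtain ⟨θ, hθ0, hθ⟩ := hσ.exists_trace_zero
  obtain ⟨v₀, φ₀, h₀⟩ := H.ex
  refine (fam_TK k).le H.qs h₀ fun v φ hv g e => ?_
  obtain ⟨u, hu⟩ := hB.exists_rep (dotProductEquiv F (Fin 3) φ)
  replace hu : ∀ z, hf.toB z u = φ ⬝ᵥ z := hu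
  obtain ⟨c, hc⟩ := MSL.herm_exists_eq_mul hB (by simp)
    (K := (hf.toB.flip v).smulRight (hf.toB u) + (hf.toB.flip u).smulRight (hf.toB v))
    (fun a b => by simp [hB.symm]; ring) fun z hz => by
      rcases eq_or_ne z 0 with rfl | hz0
      · simp
      obtain ⟨ψ, hψ⟩ := (dotProductEquiv F (Fin 3)).surjective (θ • hf.toB.flip z)
      replace hψ : ∀ a, ψ ⬝ᵥ a = θ * hf.toB a z := fun a => LinearMap.congr_fun hψ a
      have h1 : TK P k z ψ := by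
        refine ⟨hz0, fun h0 => hz0 (hB.nondeg' z fun a => ?_), fun c hc =>
          ⟨by simp [hψ, hz], _, hle (uTv_mem hf (c := c * θ) ?_ hz), fun a => ?_⟩⟩
        · simpa [h0, hθ0] using hψ a
        · rw [map_mul, (hτ c).2 hc, hθ]; ring
        · refine (uTv_mulVec hf _ hz a).trans ?_
          rw [smul_dotProduct, hψ, smul_eq_mul, mul_assoc]; rfl
      have h2 := (hτ _).2 (H.two hv h1)
      rw [hψ, ← hu, map_mul, map_mul, hθ, hB.symm, hB.symm] at h2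
      simp only [LinearMap.add_apply, LinearMap.smulRight_apply, LinearMap.flip_apply,
        LinearMap.smul_apply, smul_eq_mul]
      refine mul_left_cancel₀ hθ0 ?_
      linear_combination -h2
  simp only [LinearMap.add_apply, LinearMap.smulRight_apply, LinearMap.flip_apply,
    LinearMap.smul_apply, smul_eq_mul] at hc
  have hc0 : c = 0 := by
    obtain ⟨a, -, ha0, h1, h2⟩ := hB.exists_ne_zero_perp_two (W := ⊤) (by simp) v u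
    obtain ⟨b, hb⟩ := hB.exists_ne_zero ha0
    simpa [h1, h2, hb] using hc a b
  obtain ⟨b, hb⟩ := hB.exists_ne_zero hv.1
  obtain ⟨μ, hμ⟩ : ∃ μ, ∀ a, hf.toB a u = μ * hf.toB a v :=
    ⟨-hf.toB u b / hf.toB v b, fun a => by
      field_simp
      linear_combination hc a b + hf.toB a b * hc0⟩
  have hμ0 : μ ≠ 0 := fun h0 => hv.2.1 (dotProduct_eq_zero _ fun a => by rw [← hu, hμ, h0, zero_mul])
  have hvv : f v v = 0 := (mul_eq_zero.1 ((hμ v).symm.trans ((hu v).trans hv.dot))).resolve_left hμ0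
  have hμ1 : μ + τ μ = 0 := by
    have h1 := hc b b
    rw [← hB.symm b u, hμ, map_mul, hB.symm, hc0] at h1
    refine mul_left_cancel₀ (mul_ne_zero hb fun h0 => hb (hB.eq_zero_symm h0)) ?_
    linear_combination h1
  rw [gl_ext (g := g) (h := uTv hf μ hvv) fun a => by rw [e, uTv_mulVec, ← hu, hμ]; rfl]
  exact uTv_mem hf hμ1 hvv

/-- The hermitian form attached to a frame. -/
def frameForm (τ : F →+* F) (φ₁ φ₂ φ₃ : Fin 3 → F) (x y : F) (a b : Fin 3 → F) : F :=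
  φ₁ ⬝ᵥ a * (x * y * τ (φ₁ ⬝ᵥ b) + x * τ (φ₂ ⬝ᵥ b) + y * τ (φ₃ ⬝ᵥ b)) +
    φ₂ ⬝ᵥ a * (-y * τ (φ₁ ⬝ᵥ b) - τ (φ₂ ⬝ᵥ b) + τ (φ₃ ⬝ᵥ b)) +
    φ₃ ⬝ᵥ a * (-x * τ (φ₁ ⬝ᵥ b) + τ (φ₂ ⬝ᵥ b) - τ (φ₃ ⬝ᵥ b))

theorem Frame.form_apply (h : Frame P k v₁ v₂ v₃ φ₁ φ₂ φ₃ x y) (hx : τ x = -y) (hy : τ y = -x)
    (a : Fin 3 → F) : frameForm τ φ₁ φ₂ φ₃ x y a v₁ = -(x + y) * φ₁ ⬝ᵥ a ∧
      frameForm τ φ₁ φ₂ φ₃ x y a v₂ = -(x + y) * φ₂ ⬝ᵥ a ∧
      frameForm τ φ₁ φ₂ φ₃ x y a v₃ = -(x + y) * φ₃ ⬝ᵥ a := by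
  simp only [frameForm, h.t₁.dot, h.t₂.dot, h.t₃.dot, h.g12, h.g13, h.g21, h.g31, h.g23, h.g32,
    map_zero, map_one, map_neg, hx, hy]
  refine ⟨?_, ?_, ?_⟩ <;> ring

theorem Frame.hForm (h : Frame P k v₁ v₂ v₃ φ₁ φ₂ φ₃ x y) (hσ : ∀ a, τ (τ a) = a) (hx : τ x = -y)
    (hy : τ y = -x) : HForm τ 1 (frameForm τ φ₁ φ₂ φ₃ x y) := by
  have herm : ∀ a b, frameForm τ φ₁ φ₂ φ₃ x y a b = 1 * τ (frameForm τ φ₁ φ₂ φ₃ x y b a) := by
    intro a b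
    simp only [frameForm, map_add, map_sub, map_mul, map_neg, hσ, hx, hy]
    ring
  refine ⟨hσ, Or.inl rfl, fun a b c => ?_, fun c a b => ?_, herm, fun a ha => ?_⟩
  · simp only [frameForm, dotProduct_add]; ring
  · simp only [frameForm, dotProduct_smul, smul_eq_mul]; ring
  · obtain ⟨h1, h2, h3⟩ := h.form_apply hx hy a
    rw [herm, ha, map_zero, mul_zero, eq_comm, mul_eq_zero] at h1 h2 h3
    have h0 := neg_ne_zero.2 h.xy
    exact h.eq_zero (h1.resolve_left h0) (h2.resolve_left h0) (h3.resolve_left h0)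

theorem Frame.suG_le (h : Frame P k v₁ v₂ v₃ φ₁ φ₂ φ₃ x y) (hτ : ∀ a, τ a = a ↔ a ∈ k) {q : ℕ}
    (hq : UField τ q) (hq2 : q ≠ 2) (hf : HForm τ 1 f) (hθ : τ (x + y) = -(x + y))
    (e : ∀ a, f a v₁ = -(x + y) * φ₁ ⬝ᵥ a ∧ f a v₂ = -(x + y) * φ₂ ⬝ᵥ a ∧
      f a v₃ = -(x + y) * φ₃ ⬝ᵥ a) : suG f ≤ P := by
  have hB := hf.isHerm hq.invol
  have hxy := h.xy
  let M := P.map (glEquiv (Fin 3) F).toMonoidHom ⊓ UG hf.toB
  have hM : M ≤ UG hf.toB := inf_le_right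
  have hT : ∀ {v φ}, TK P k v φ → (∀ a, hf.toB a v = -(x + y) * φ ⬝ᵥ a) →
      hf.toB v v = 0 ∧ UTv hf.toB M v := by
    intro v φ hv e
    have h0 : hf.toB v v = 0 := by rw [e, hv.dot, mul_zero]
    refine ⟨h0, fun c hc => ⟨?_, (hB.uRefl_mem_USG h0 hc).1⟩⟩
    obtain ⟨-, g, hg, e'⟩ := hv.2.2 (c * -(x + y)) ((hτ _).1 (by
      rw [map_mul, map_neg, hθ]; linear_combination (x + y) * hc))
    refine ⟨g, hg, LinearEquiv.ext fun a => ?_⟩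
    rw [uRefl_apply_of_isotropic h0, e, ← mul_assoc]
    exact (e' a).trans (by rw [smul_dotProduct, smul_eq_mul])
  have e1 : ∀ a, hf.toB a v₁ = -(x + y) * φ₁ ⬝ᵥ a := fun a => (e a).1
  have e2 : ∀ a, hf.toB a v₂ = -(x + y) * φ₂ ⬝ᵥ a := fun a => (e a).2.1
  have e3 : ∀ a, hf.toB a v₃ = -(x + y) * φ₃ ⬝ᵥ a := fun a => (e a).2.2
  obtain ⟨a1, b1⟩ := hT h.t₁ e1
  obtain ⟨a2, b2⟩ := hT h.t₂ e2
  obtain ⟨a3, b3⟩ := hT h.t₃ e3
  have c1 : hf.toB ((x + y)⁻¹ • v₁) ((x + y)⁻¹ • v₁) = 0 := by simp [a1]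
  have c2 : hf.toB ((x + y)⁻¹ • v₁) v₂ = 1 := by simp [e2, h.g21, hxy]
  have hW := hB.disjoint_span_pair c1 a2 c2
  have hn := hB.finrank_span_pair c1 a2 c2
  set W := Submodule.span F {(x + y)⁻¹ • v₁, v₂}
  have m0 : (x + y)⁻¹ • v₁ ∈ W := Submodule.subset_span (by simp)
  have m1 : v₁ ∈ W := by simpa [smul_smul, hxy] using W.smul_mem (x + y) m0
  have m2 : v₂ ∈ W := Submodule.subset_span (by simp)
  have hS : USub hf.toB M W := by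
    refine hB.uSub_of_uEich hq hM hW m0 c1 (b1.smul hB _) (fun u hu h0 => ?_) m2 a2 hxy
      (b2 _ (by rw [hθ, add_neg_cancel])) (by rw [c2]; exact one_ne_zero)
    obtain ⟨s, t, rfl⟩ := Submodule.mem_span_pair.1 hu
    have : t = 0 := by
      rwa [map_add, map_smul hf.toB s, map_smul hf.toB t, LinearMap.add_apply,
        LinearMap.smul_apply, LinearMap.smul_apply, c1, hB.eq_one_symm c2, smul_zero, zero_add, smul_eq_mul,
        mul_one] at h0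
    rw [this, zero_smul, add_zero]
    exact hB.smul_self_mem_uYadd c1 s
  have d1 : hf.toB (v₃ + x • v₁ - v₂) v₁ = 0 := by rw [e1]; simp [h.g12, h.g13, h.t₁.dot]
  have d2 : hf.toB (v₃ + x • v₁ - v₂) v₂ = 0 := by rw [e2]; simp [h.g21, h.g23, h.t₂.dot]
  have d3 : hf.toB (v₃ + x • v₁ - v₂) v₃ = (x + y) ^ 2 := by
    simp only [e3, dotProduct_sub, dotProduct_add, dotProduct_smul, h.g31, h.g32, h.t₃.dot,
      smul_eq_mul]
    ring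
  have d4 : v₂ - x • v₁ + (v₃ + x • v₁ - v₂) = v₃ := by module
  have h3 := hB.uSub_sup_singleton hq hM hW hn.ge (fun h => hq2 h.2) hS
    (W.sub_mem m2 (W.smul_mem x m1)) (w' := v₃ + x • v₁ - v₂)
    (mem_uPerp_span_pair.2 ⟨hB.eq_zero_symm (by rw [LinearMap.map_smulₛₗ, d1, smul_zero]),
      hB.eq_zero_symm d2⟩)
    (by rw [map_sub, map_add, LinearMap.map_smulₛₗ, d1, d2, d3]; simp [hxy])
    (by rw [d4, a3]) (by rw [d4]; exact b3)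
  have h4 : W ⊔ F ∙ (v₃ + x • v₁ - v₂) = ⊤ := by
    refine eq_top_iff.2 fun z _ => ?_
    rw [h.decomp z]
    refine Submodule.add_mem _ (Submodule.mem_sup_left (W.add_mem (W.smul_mem _ m1)
      (W.smul_mem _ m2))) (Submodule.smul_mem _ _ ?_)
    have := Submodule.add_mem_sup (W.sub_mem m2 (W.smul_mem x m1))
      (Submodule.mem_span_singleton_self (R := F) (v₃ + x • v₁ - v₂))
    rwa [d4] at this
  rw [h4] at h3
  intro g hg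
  obtain ⟨g', hg', e'⟩ := (h3.top hB (x := glEquiv (Fin 3) F g)
    ⟨hg.1, (glEquiv_mem_slAut g).2 (mem_suG.1 hg).2⟩).1
  rwa [← (glEquiv (Fin 3) F).injective e']

end Unitary

theorem tv [Fintype F] (hP : QS P) (ht : TrGen P)
    (hr : Root P 4 ∨ (Root P 3 ∧ ¬ 5 ∣ Nat.card P)) :
    P = specialLinear (Fin 3) F ∨ ∃ (σ : F →+* F) (q : ℕ) (f : (Fin 3 → F) → (Fin 3 → F) → F),
      UField σ q ∧ HForm σ 1 f ∧ P = suG f := by
  obtain ⟨k, h3, hex, h2⟩ := exists_field hP hr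
  have H : TF P k := ⟨hP, h3, hex, fun h h' => h2 _ _ _ _ h h'⟩
  by_cases hc : ∀ {v₁ φ₁ v₂ φ₂ v₃ φ₃}, TK P k v₁ φ₁ → TK P k v₂ φ₂ →
      TK P k v₃ φ₃ → φ₁ ⬝ᵥ v₂ * φ₂ ⬝ᵥ v₃ * φ₃ ⬝ᵥ v₁ ∈ k
  · obtain ⟨v₁, v₂, v₃, φ₁, φ₂, φ₃, x, y, h⟩ := H.exists_frame
    obtain rfl := h.eq_top H ht le_rfl hc
    exact Or.inl (h.eq_sl hP)
  push Not at hc
  obtain ⟨v₁, φ₁, w₂, ψ₂, w₃, ψ₃, h₁, h₂, h₃, hc⟩ := hc
  obtain ⟨τ, hτ⟩ := exists_frob_fix k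
  have hroot : ∀ {v₁ φ₁ v₂ φ₂ v₃ φ₃}, TK P k v₁ φ₁ → TK P k v₂ φ₂ → TK P k v₃ φ₃ → _ :=
    fun h₁ h₂ h₃ => frob_root hτ (H.cyc_sub h₁ h₂ h₃) (H.cyc_mul h₁ h₂ h₃)
  obtain ⟨v₂, v₃, φ₂, φ₃, x, y, h, hx⟩ := H.frame_of h₁ h₂ h₃
    (fun e => hc (e ▸ k.zero_mem))
    (fun e => hc (by simpa [e] using H.cyc_sub h₁ h₂ h₃))
    fun e => hc ((hτ _).1 ((hroot h₁ h₂ h₃).elim id fun e' => by linear_combination e'.1 - e))
  have hxk : τ x ≠ x := fun e => hc (hx ((hτ x).1 e))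
  obtain ⟨hx1, hy1⟩ : τ x = -y ∧ τ y = -x := by
    have := hroot h.t₁ h.t₂ h.t₃
    simp only [h.g12, h.g13, h.g21, h.g31, h.g23, h.g32, one_mul, mul_neg, mul_one, map_neg,
      neg_inj, neg_neg] at this
    exact ((this.resolve_left hxk).imp neg_eq_iff_eq_neg.1 neg_eq_iff_eq_neg.1)
  have hK := h.eq_top H ht (K := uFix (τ.comp τ))
    (fun a ha => show τ (τ a) = a by rw [(hτ a).2 ha, (hτ a).2 ha]) fun h₁ h₂ h₃ =>
      (hroot h₁ h₂ h₃).elim (fun e => (congrArg τ e).trans e) fun e =>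
        (congrArg τ e.1).trans (by rw [map_neg, e.2, neg_neg]; rfl)
  have hσ : UInvol τ := ⟨fun a => show a ∈ uFix (τ.comp τ) by rw [hK]; trivial, x, hxk⟩
  obtain ⟨q, hq⟩ := hσ.exists_uField
  have hf := h.hForm hσ.invol hx1 hy1
  have hq2 : q ≠ 2 := by
    have h1 : uFix τ = k := Subfield.ext hτ
    have h2 := hq.card_uFix
    rw [h1] at h2
    have h4 : (k : Set F).ncard = q := h2
    omega
  have hle := h.suG_le hτ hq hq2 hf (by rw [map_add, hx1, hy1]; ring) (h.form_apply hx1 hy1)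
  exact Or.inr ⟨τ, q, _, hq, hf, le_antisymm (H.le_suG hτ hσ hf hle) hle⟩

end Cfsg.Agent.Cl.D3
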