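/-
Quasisimple subgroups of `SL₃(2^a)` of `2`-rank at least `3`.
-/
import Mathlib
import Cfsg.Agent.Cl.D3Basic
import Cfsg.Agent.Cl.D3DL

set_option autoImplicit false

namespace Cfsg.Agent.Cl.D3

open Matrix Cfsg.Geo Cfsg.Agent.Cl.Max Cfsg.Agent.Cl.Mx
open scoped MatrixGroups

variable {F : Type*} [Field F] {P : Subgroup (GL (Fin 3) F)}

namespace Two

/-! ### Cross products -/

theorem par_of_cross {x y : Fin 3 → F} (h : x ⨯₃ y = 0) (hy : y ≠ 0) : ∃ c : F, x = c • y := by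
  obtain ⟨i, hi⟩ : ∃ i, y i ≠ 0 := Function.ne_iff.1 hy
  have e0 := congrFun h 0
  have e1 := congrFun h 1
  have e2 := congrFun h 2
  simp [cross_apply] at e0 e1 e2
  refine ⟨x i / y i, funext fun j => ?_⟩
  simp only [Pi.smul_apply, smul_eq_mul]
  field_simp
  fin_cases i <;> fin_cases j <;> simp <;> grind

theorem eq_smul_cross {φ v w : Fin 3 → F} (hv : φ ⬝ᵥ v = 0) (hw : φ ⬝ᵥ w = 0)
    (h : v ⨯₃ w ≠ 0) : ∃ c : F, φ = c • (v ⨯₃ w) :=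
  par_of_cross (by rw [cross_cross_eq_smul_sub_smul', hw, dotProduct_comm, hv]; simp) h

theorem cramer3 (v w u x : Fin 3 → F) : ((v ⨯₃ w) ⬝ᵥ u) • x =
    ((w ⨯₃ u) ⬝ᵥ x) • v + ((u ⨯₃ v) ⬝ᵥ x) • w + ((v ⨯₃ w) ⬝ᵥ x) • u := by
  ext i
  fin_cases i <;> simp [cross_apply, dotProduct, Fin.sum_univ_three] <;> ring

theorem exists_dot_eq_one {φ : Fin 3 → F} (hφ : φ ≠ 0) : ∃ u, φ ⬝ᵥ u = 1 := by
  obtain ⟨i, hi⟩ : ∃ i, φ i ≠ 0 := Function.ne_iff.1 hφ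
  exact ⟨Pi.single i (φ i)⁻¹, by simp [hi]⟩

theorem cross_dot_left (v w : Fin 3 → F) : (v ⨯₃ w) ⬝ᵥ v = 0 := by
  rw [dotProduct_comm, dot_self_cross]

theorem cross_dot_right (v w : Fin 3 → F) : (v ⨯₃ w) ⬝ᵥ w = 0 := by
  rw [dotProduct_comm, dot_cross_self]

theorem cross_cyc (v w u : Fin 3 → F) : (u ⨯₃ v) ⬝ᵥ w = (v ⨯₃ w) ⬝ᵥ u := by
  simp [cross_apply, dotProduct, Fin.sum_univ_three]; ring

theorem cross_swap (v w u : Fin 3 → F) : (v ⨯₃ u) ⬝ᵥ w = -((v ⨯₃ w) ⬝ᵥ u) := by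
  simp [cross_apply, dotProduct, Fin.sum_univ_three]; ring

/-! ### Irreducibility and transposition -/

/-- A symmetric form of irreducibility. -/
def Ir (P : Subgroup (GL (Fin 3) F)) : Prop :=
  ∀ v ξ : Fin 3 → F, v ≠ 0 → ξ ≠ 0 → ∃ g ∈ P, ξ ⬝ᵥ (g : Matrix (Fin 3) (Fin 3) F) *ᵥ v ≠ 0

theorem ir_of_irr (h : Irr P) : Ir P := by
  intro v ξ hv hξ
  by_contra hn
  push Not at hn
  let W : Submodule F (Fin 3 → F) :=
    { carrier := {x | ∀ g ∈ P, ξ ⬝ᵥ (g : Matrix (Fin 3) (Fin 3) F) *ᵥ x = 0}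
      zero_mem' := fun g _ => by simp
      add_mem' := fun {a b} ha hb g hg => by rw [mulVec_add, dotProduct_add, ha g hg, hb g hg,
        add_zero]
      smul_mem' := fun c x hx g hg => by rw [mulVec_smul, dotProduct_smul, hx g hg, smul_zero] }
  have hW : Inv P W := fun g hg w hw k hk => by
    rw [← mul_mulVec]; exact hw _ (P.mul_mem hk hg)
  have := h.eq_top_of_mem hW (v := v) hn hv
  obtain ⟨u, hu⟩ := exists_dot_eq_one hξ
  have h1 : u ∈ W := this ▸ Submodule.mem_top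
  simpa [hu] using h1 1 P.one_mem

/-- The transposes of the elements of `P`. -/
def tP (P : Subgroup (GL (Fin 3) F)) : Subgroup (GL (Fin 3) F) where
  carrier := {g | ∃ h ∈ P, (g : Matrix (Fin 3) (Fin 3) F) = (h : Matrix (Fin 3) (Fin 3) F)ᵀ}
  one_mem' := ⟨1, P.one_mem, by simp⟩
  mul_mem' := by
    rintro a b ⟨g, hg, e⟩ ⟨h, hh, e'⟩
    exact ⟨h * g, P.mul_mem hh hg, by rw [Units.val_mul, Units.val_mul, e, e', transpose_mul]⟩
  inv_mem' := by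
    rintro a ⟨g, hg, e⟩
    refine ⟨g⁻¹, P.inv_mem hg, ?_⟩
    rw [Units.inv_eq_of_mul_eq_one_right]
    rw [e, ← transpose_mul, Units.inv_mul, transpose_one]

/-- The transpose as an invertible matrix. -/
def trG' (g : GL (Fin 3) F) : GL (Fin 3) F where
  val := (g : Matrix (Fin 3) (Fin 3) F)ᵀ
  inv := ((g⁻¹ : GL (Fin 3) F) : Matrix (Fin 3) (Fin 3) F)ᵀ
  val_inv := by rw [← transpose_mul, Units.inv_mul, transpose_one]
  inv_val := by rw [← transpose_mul, Units.mul_inv, transpose_one]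

theorem Ir.tP (h : Ir P) : Ir (tP P) := by
  intro v ξ hv hξ
  obtain ⟨g, hg, e⟩ := h ξ v hξ hv
  refine ⟨trG' g, ⟨g, hg, rfl⟩, ?_⟩
  change ξ ⬝ᵥ (g : Matrix (Fin 3) (Fin 3) F)ᵀ *ᵥ v ≠ 0
  rwa [mulVec_transpose, dotProduct_comm, ← dotProduct_mulVec]

theorem transpose_tv {A : Matrix (Fin 3) (Fin 3) F} {v φ : Fin 3 → F}
    (e : ∀ x, A *ᵥ x = x + (φ ⬝ᵥ x) • v) (x : Fin 3 → F) : Aᵀ *ᵥ x = x + (v ⬝ᵥ x) • φ := by
  refine dotProduct_eq _ _ fun y => ?_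
  rw [mulVec_transpose, ← dotProduct_mulVec, e]
  simp only [dotProduct_add, dotProduct_smul, add_dotProduct, smul_dotProduct, smul_eq_mul,
    dotProduct_comm v x]
  ring

theorem mt_tP {v φ : Fin 3 → F} : MT (tP P) v φ ↔ MT P φ v := by
  constructor
  · rintro ⟨h0, g, ⟨h, hh, e⟩, e'⟩
    refine ⟨by rw [dotProduct_comm, h0], h, hh, fun x => ?_⟩
    rw [← transpose_tv e', e, transpose_transpose]
  · rintro ⟨h0, g, hg, e⟩
    exact ⟨by rw [dotProduct_comm, h0], trG' g, ⟨g, hg, rfl⟩, transpose_tv e⟩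

theorem root_of_tP {n : ℕ} (h : Root (tP P) n) : Root P n := by
  obtain ⟨v, φ, hv, hφ, A, hA, e⟩ := h
  exact ⟨φ, v, hφ, hv, A, hA, fun a ha => (MT.smul_iff a).1 (mt_tP.1 (e a ha))⟩

/-! ### Small root groups -/

theorem small (h2 : (2 : F) = 0) (hn : ¬ Root P 4) {v φ : Fin 3 → F} (hv : v ≠ 0) (hφ : φ ≠ 0)
    (h1 : MT P v φ) {a : F} (ha : MT P v (a • φ)) : a = 0 ∨ a = 1 := by
  classical
  by_contra hc
  push Not at hc
  refine hn ⟨v, φ, hv, hφ, {0, 1, a, 1 + a}, ?_, fun b hb => ?_⟩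
  · have h3 : (1 : F) + a ≠ 0 := fun e => hc.2 (by linear_combination e - h2)
    rw [Finset.card_insert_of_notMem, Finset.card_insert_of_notMem, Finset.card_pair]
    · simp
    · simp [hc.1, hc.2.symm]
    · simp [hc.1.symm, h3.symm]
  · simp only [Finset.mem_insert, Finset.mem_singleton] at hb
    rcases hb with rfl | rfl | rfl | rfl
    · simpa using MT.zero P v
    · simpa using h1
    · exact ha
    · rw [add_smul, one_smul]; exact h1.add ha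

theorem small' (h2 : (2 : F) = 0) (hn : ¬ Root P 4) {v φ : Fin 3 → F} (hv : v ≠ 0) (hφ : φ ≠ 0)
    {a b : F} (ha : MT P v (a • φ)) (hb : MT P v (b • φ)) (ha0 : a ≠ 0) (hb0 : b ≠ 0) :
    a = b := by
  have := small h2 hn hv (smul_ne_zero ha0 hφ) ha (a := b / a) (by
    rwa [smul_smul, div_mul_cancel₀ _ ha0])
  rcases this with h | h
  · exact absurd h (div_ne_zero hb0 ha0)
  · exact (eq_of_div_eq_one h).symm

/-- The axes of the transvections of `P` with centre `v`. -/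
def Phi (P : Subgroup (GL (Fin 3) F)) (v : Fin 3 → F) : Set (Fin 3 → F) := {φ | MT P v φ}

theorem ncard_le_phi [Finite F] {g : GL (Fin 3) F} (hg : g ∈ P) (v : Fin 3 → F) :
    (Phi P v).ncard ≤ (Phi P ((g : Matrix (Fin 3) (Fin 3) F) *ᵥ v)).ncard :=
  Set.ncard_le_ncard_of_injOn
    (fun φ => φ ᵥ* ((g⁻¹ : GL (Fin 3) F) : Matrix (Fin 3) (Fin 3) F)) (fun _ h => MT.conj h hg)
    fun φ _ ψ _ e => by
      have := congrArg (fun x => x ᵥ* (g : Matrix (Fin 3) (Fin 3) F)) e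
      simpa only [vecMul_vecMul, Units.inv_mul, vecMul_one] using this

theorem ncard_phi [Finite F] {g : GL (Fin 3) F} (hg : g ∈ P) (v : Fin 3 → F) :
    (Phi P ((g : Matrix (Fin 3) (Fin 3) F) *ᵥ v)).ncard = (Phi P v).ncard := by
  refine le_antisymm ?_ (ncard_le_phi hg v)
  have := ncard_le_phi (P.inv_mem hg) ((g : Matrix (Fin 3) (Fin 3) F) *ᵥ v)
  rwa [inv_mulVec_mulVec] at this

theorem no_axis_aux [Finite F] (h2 : (2 : F) = 0) (hn : ¬ Root P 4) {v x χ : Fin 3 → F}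
    (hv : v ≠ 0) (h8 : 8 ≤ (Phi P v).ncard) (hχ : χ ≠ 0) (h0 : χ ⬝ᵥ v = 0) (hx : MT P x χ)
    (hvx : v ⨯₃ x ≠ 0) : False := by
  classical
  have h1 : ∀ φ ∈ Phi P v, MT P v ((φ ⬝ᵥ x) • χ) := fun φ hφ => by
    have h3 := hx.move hφ
    rw [h0, zero_smul, sub_zero] at h3
    have h4 := h3.add_left ((MT.smul_iff (-1 : F)).2 (by simpa using hx.neg))
    rw [← MT.smul_iff]
    convert h4 using 1
    module
  let S := (Set.toFinite (Phi P v)).toFinset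
  have hS : ∀ φ, φ ∈ S ↔ MT P v φ := fun φ => Set.Finite.mem_toFinset _
  have h3 : S.card ≤ 2 * (S.image fun φ => φ ⬝ᵥ x).card := by
    refine Finset.card_le_mul_card_image _ _ fun a _ => ?_
    by_contra hc
    obtain ⟨φ₁, φ₂, φ₃, m1, m2, m3, n12, n13, n23⟩ := Finset.two_lt_card_iff.1 (not_le.1 hc)
    rw [Finset.mem_filter, hS] at m1 m2 m3
    obtain ⟨c, hc⟩ := eq_smul_cross (φ := φ₂ - φ₁) (m2.1.sub m1.1).1
      (by rw [sub_dotProduct, m1.2, m2.2, sub_self]) hvx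
    obtain ⟨d, hd⟩ := eq_smul_cross (φ := φ₃ - φ₁) (m3.1.sub m1.1).1
      (by rw [sub_dotProduct, m1.2, m3.2, sub_self]) hvx
    have := small' h2 hn hv hvx (hc ▸ m2.1.sub m1.1) (hd ▸ m3.1.sub m1.1)
      (fun e => n12 (by rw [e, zero_smul, sub_eq_zero] at hc; exact hc.symm))
      (fun e => n13 (by rw [e, zero_smul, sub_eq_zero] at hd; exact hd.symm))
    rw [this, ← hd, sub_left_inj] at hc
    exact n23 hc
  have h4 : (S.image fun φ => φ ⬝ᵥ x).card ≤ 3 := by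
    by_contra hc
    refine hn ⟨v, χ, hv, hχ, S.image fun φ => φ ⬝ᵥ x, by omega, fun a ha => ?_⟩
    obtain ⟨φ, hφ, rfl⟩ := Finset.mem_image.1 ha
    exact h1 φ ((hS φ).1 hφ)
  rw [Set.ncard_eq_toFinset_card _ (Set.toFinite _)] at h8
  change 8 ≤ S.card at h8
  omega

theorem no_axis [Finite F] (h2 : (2 : F) = 0) (hn : ¬ Root P 4) {v w x : Fin 3 → F}
    (h8 : 8 ≤ (Phi P v).ncard) (h8' : 8 ≤ (Phi P w).ncard) (hvw : v ⨯₃ w ≠ 0)
    (hx : MT P x (v ⨯₃ w)) : x = 0 := by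
  by_contra hx0
  have hv : v ≠ 0 := fun e => hvw (by simp [e])
  have hw : w ≠ 0 := fun e => hvw (by simp [e])
  by_cases h1 : v ⨯₃ x = 0
  · by_cases h3 : w ⨯₃ x = 0
    · obtain ⟨a, rfl⟩ := par_of_cross h1 hx0
      obtain ⟨b, rfl⟩ := par_of_cross h3 hx0
      exact hvw (by simp)
    · exact no_axis_aux h2 hn hw h8' hvw (cross_dot_right v w) hx h3
  · exact no_axis_aux h2 hn hv h8 hvw (cross_dot_left v w) hx h1

theorem ev_inj [Finite F] (h2 : (2 : F) = 0) (hn : ¬ Root P 4) {v w : Fin 3 → F}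
    (h8 : 8 ≤ (Phi P v).ncard) (h8' : 8 ≤ (Phi P w).ncard) (hvw : v ⨯₃ w ≠ 0)
    {φ ψ : Fin 3 → F} (hφ : MT P v φ) (hψ : MT P v ψ) (e : φ ⬝ᵥ w = ψ ⬝ᵥ w) : φ = ψ := by
  obtain ⟨c, hc⟩ := eq_smul_cross (φ := φ - ψ) (hφ.sub hψ).1
    (by rw [sub_dotProduct, e, sub_self]) hvw
  have h1 := no_axis h2 hn h8 h8' hvw ((MT.smul_iff c).2 (hc ▸ hφ.sub hψ))
  have hv : v ≠ 0 := fun e => hvw (by simp [e])
  rw [(smul_eq_zero.1 h1).resolve_right hv, zero_smul, sub_eq_zero] at hc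
  exact hc

theorem exists_ne_zero [Finite F] {v : Fin 3 → F} (h8 : 8 ≤ (Phi P v).ncard) :
    ∃ φ, MT P v φ ∧ φ ≠ 0 := by
  obtain ⟨φ, hφ, h⟩ := Set.exists_ne_of_one_lt_ncard (s := Phi P v) (by omega) 0
  exact ⟨φ, hφ, h⟩

/-- The stabiliser of a linear form. -/
def fixF (P : Subgroup (GL (Fin 3) F)) (χ : Fin 3 → F) : Subgroup (GL (Fin 3) F) where
  carrier := {g | g ∈ P ∧ ∀ x, χ ⬝ᵥ (g : Matrix (Fin 3) (Fin 3) F) *ᵥ x = χ ⬝ᵥ x}
  one_mem' := ⟨P.one_mem, by simp⟩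
  mul_mem' := fun {a b} ha hb => ⟨P.mul_mem ha.1 hb.1, fun x => by rw [mul_mulVec, ha.2, hb.2]⟩
  inv_mem' := fun {a} ha => ⟨P.inv_mem ha.1, fun x => by rw [← ha.2, mulVec_inv_mulVec]⟩

theorem mem_upS [Finite F] (h2 : (2 : F) = 0) (hn : ¬ Root P 4) {v w : Fin 3 → F}
    (h8 : 8 ≤ (Phi P v).ncard) (h8' : 8 ≤ (Phi P w).ncard) (hvw : v ⨯₃ w ≠ 0) (a : F) :
    a ∈ upS (planeL (fixF P (v ⨯₃ w)) v w) ↔ ∃ φ, MT P v φ ∧ φ ⬝ᵥ w = a := by
  constructor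
  · rintro ⟨M, ⟨g, ⟨hg, hχ⟩, e1, e2⟩, hM⟩
    by_cases ha : a = 0
    · exact ⟨0, MT.zero P v, by simp [ha]⟩
    rw [hM] at e1 e2
    simp only [of_apply, cons_val', cons_val_zero, cons_val_one, cons_val_fin_one, one_smul,
      zero_smul, add_zero] at e1 e2
    obtain ⟨u, hu⟩ := exists_dot_eq_one hvw
    have hx : ∀ x : Fin 3 → F, x = ((w ⨯₃ u) ⬝ᵥ x) • v + ((u ⨯₃ v) ⬝ᵥ x) • w +
        ((v ⨯₃ w) ⬝ᵥ x) • u := fun x => by rw [← cramer3, hu, one_smul]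
    obtain ⟨y₁, y₂, e3⟩ : ∃ y₁ y₂ : F, (g : Matrix (Fin 3) (Fin 3) F) *ᵥ u = u + y₁ • v + y₂ • w := by
      refine ⟨(w ⨯₃ u) ⬝ᵥ (g : Matrix (Fin 3) (Fin 3) F) *ᵥ u,
        (u ⨯₃ v) ⬝ᵥ (g : Matrix (Fin 3) (Fin 3) F) *ᵥ u, ?_⟩
      have := hx ((g : Matrix (Fin 3) (Fin 3) F) *ᵥ u)
      rw [hχ, hu] at this
      linear_combination (norm := module) this
    have e4 : ∀ x, (g : Matrix (Fin 3) (Fin 3) F) *ᵥ x = x + (((u ⨯₃ v) ⬝ᵥ x) * a) • v +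
        ((v ⨯₃ w) ⬝ᵥ x) • (y₁ • v + y₂ • w) := fun x => by
      have := congrArg (fun z => (g : Matrix (Fin 3) (Fin 3) F) *ᵥ z) (hx x)
      simp only [mulVec_add, mulVec_smul, e1, e2, e3] at this
      rw [this]
      linear_combination (norm := module) -hx x
    have h5 : MT P ((a * y₂) • v) (v ⨯₃ w) := by
      refine ⟨by rw [dotProduct_smul, cross_dot_left, smul_zero], g * g, P.mul_mem hg hg,
        fun x => ?_⟩
      rw [mul_mulVec, e4 x]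
      simp only [mulVec_add, mulVec_smul, e1, e2]
      rw [e4 x]
      linear_combination (norm := module) (h2 * (((u ⨯₃ v) ⬝ᵥ x) * a + ((v ⨯₃ w) ⬝ᵥ x) * y₁)) • v +
        (h2 * (((v ⨯₃ w) ⬝ᵥ x) * y₂)) • w
    have hv : v ≠ 0 := fun e => hvw (by simp [e])
    have h6 := (mul_eq_zero.1 ((smul_eq_zero.1 (no_axis h2 hn h8 h8' hvw h5)).resolve_right
      hv)).resolve_left ha
    refine ⟨a • (u ⨯₃ v) + y₁ • (v ⨯₃ w), ⟨?_, g, hg, fun x => ?_⟩, ?_⟩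
    · simp [add_dotProduct, cross_dot_left, cross_dot_right]
    · rw [e4, h6]
      simp only [add_dotProduct, smul_dotProduct, smul_eq_mul]
      module
    · simp [add_dotProduct, cross_dot_right, cross_cyc v w u, hu]
  · rintro ⟨φ, ⟨h0, g, hg, e⟩, rfl⟩
    refine ⟨Matrix.GeneralLinearGroup.mkOfDetNeZero !![1, φ ⬝ᵥ w; 0, 1] (by simp),
      ⟨g, ⟨hg, fun x => ?_⟩, ?_, ?_⟩, rfl⟩
    · rw [e, dotProduct_add, dotProduct_smul, cross_dot_left, smul_zero, add_zero]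
    · simp [e, h0]
    · simp [e, add_comm]

theorem mem_loS {v w ψ : Fin 3 → F} (h : MT P w ψ) :
    ψ ⬝ᵥ v ∈ loS (planeL (fixF P (v ⨯₃ w)) v w) := by
  obtain ⟨h0, g, hg, e⟩ := h
  refine ⟨Matrix.GeneralLinearGroup.mkOfDetNeZero !![1, 0; ψ ⬝ᵥ v, 1] (by simp),
    ⟨g, ⟨hg, fun x => ?_⟩, ?_, ?_⟩, rfl⟩
  · rw [e, dotProduct_add, dotProduct_smul, cross_dot_right, smul_zero, add_zero]
  · simp [e]
  · simp [e, h0]

theorem exists_field [Finite F] (h2 : (2 : F) = 0) (hn : ¬ Root P 4) {v w : Fin 3 → F}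
    (h8 : 8 ≤ (Phi P v).ncard) (h8' : 8 ≤ (Phi P w).ncard) (hvw : v ⨯₃ w ≠ 0) :
    ∃ (k : Subfield F) (b : F), b ≠ 0 ∧ Nat.card k = (Phi P v).ncard ∧
      ∀ φ, MT P v φ → φ ⬝ᵥ w * b ∈ k := by
  obtain ⟨ψ, hψ, hψ0⟩ := exists_ne_zero h8'
  have hwv : w ⨯₃ v ≠ 0 := by rw [← cross_anticomm]; exact neg_ne_zero.2 hvw
  have hb : ψ ⬝ᵥ v ≠ 0 := fun e =>
    hψ0 (ev_inj h2 hn h8' h8 hwv hψ (MT.zero P w) (by simp [e]))
  have hU : upS (planeL (fixF P (v ⨯₃ w)) v w) = (fun φ => φ ⬝ᵥ w) '' Phi P v :=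
    Set.ext fun a => mem_upS h2 hn h8 h8' hvw a
  have hc : (upS (planeL (fixF P (v ⨯₃ w)) v w)).ncard = (Phi P v).ncard := by
    rw [hU]
    exact Set.InjOn.ncard_image fun φ hφ φ' hφ' e => ev_inj h2 hn h8 h8' hvw hφ hφ' e
  obtain ⟨k, hk, -⟩ := dl (L := planeL (fixF P (v ⨯₃ w)) v w) (Or.inl (by omega)) (mem_loS hψ) hb
  refine ⟨k, ψ ⬝ᵥ v, hb, ?_, fun φ hφ => (hk _).1 ((mem_upS h2 hn h8 h8' hvw _).2 ⟨φ, hφ, rfl⟩)⟩
  rw [← hc, ← Nat.card_coe_set_eq]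
  exact Nat.card_congr
    { toFun := fun x => ⟨x.1 / (ψ ⬝ᵥ v), (hk _).2 (by rw [div_mul_cancel₀ _ hb]; exact x.2)⟩
      invFun := fun x => ⟨x.1 * (ψ ⬝ᵥ v), (hk _).1 x.2⟩
      left_inv := fun x => Subtype.ext (div_mul_cancel₀ _ hb)
      right_inv := fun x => Subtype.ext (mul_div_cancel_right₀ _ hb) }

theorem sum_ratio [Finite F] (h2 : (2 : F) = 0) (hn : ¬ Root P 4) {v w u : Fin 3 → F}
    (h8 : 8 ≤ (Phi P v).ncard) (h8' : 8 ≤ (Phi P w).ncard) (h8'' : 8 ≤ (Phi P u).ncard)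
    (hd : (v ⨯₃ w) ⬝ᵥ u ≠ 0) {S : Finset (Fin 3 → F)} (hS : ∀ φ, φ ∈ S ↔ MT P v φ ∧ φ ≠ 0) :
    ∑ φ ∈ S, φ ⬝ᵥ u / φ ⬝ᵥ w = 0 ∧ (S.card : F) = -1 ∧ ∀ φ ∈ S, φ ⬝ᵥ w ≠ 0 := by
  classical
  have := Fintype.ofFinite F
  have hvw : v ⨯₃ w ≠ 0 := fun e => hd (by simp [e])
  have hvu : v ⨯₃ u ≠ 0 := fun e => hd (by rw [← neg_eq_zero, ← cross_swap, e]; simp)
  have hv : v ≠ 0 := fun e => hvw (by simp [e])
  obtain ⟨k, b, hb, hk, e⟩ := exists_field h2 hn h8 h8' hvw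
  obtain ⟨k', b', hb', hk', e'⟩ := exists_field h2 hn h8 h8'' hvu
  obtain rfl : k' = k := le_antisymm (L2.subfield_le_of_card_pow (m := 1) (by rw [pow_one, hk, hk']))
    (L2.subfield_le_of_card_pow (m := 1) (by rw [pow_one, hk, hk']))
  have n1 : ∀ φ ∈ S, φ ⬝ᵥ w ≠ 0 := fun φ hφ e0 => ((hS φ).1 hφ).2
    (ev_inj h2 hn h8 h8' hvw ((hS φ).1 hφ).1 (MT.zero P v) (by simp [e0]))
  have n2 : ∀ φ ∈ S, φ ⬝ᵥ u ≠ 0 := fun φ hφ e0 => ((hS φ).1 hφ).2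
    (ev_inj h2 hn h8 h8'' hvu ((hS φ).1 hφ).1 (MT.zero P v) (by simp [e0]))
  let f : (Fin 3 → F) → F := fun φ => φ ⬝ᵥ u / φ ⬝ᵥ w * (b' / b)
  have hf : Set.InjOn f S := fun φ hφ ψ hψ e0 => by
    have e1 := mul_right_cancel₀ (div_ne_zero hb' hb) e0
    have a1 := n1 φ hφ
    have a2 := n1 ψ hψ
    have e2 : ψ = (ψ ⬝ᵥ w / φ ⬝ᵥ w) • φ := by
      refine dotProduct_eq _ _ fun x => mul_left_cancel₀ hd ?_
      have c1 := congrArg (fun z => φ ⬝ᵥ z) (cramer3 v w u x)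
      have c2 := congrArg (fun z => ψ ⬝ᵥ z) (cramer3 v w u x)
      simp only [dotProduct_add, dotProduct_smul, smul_eq_mul, ((hS φ).1 hφ).1.1,
        ((hS ψ).1 hψ).1.1] at c1 c2
      rw [smul_dotProduct, smul_eq_mul, mul_left_comm, c1, c2]
      field_simp at e1 ⊢
      linear_combination ((v ⨯₃ w) ⬝ᵥ x) * e1.symm
    rcases small h2 hn hv ((hS φ).1 hφ).2 ((hS φ).1 hφ).1 (e2 ▸ ((hS ψ).1 hψ).1) with h | h
    · exact absurd h (div_ne_zero a2 a1)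
    · rw [e2, h, one_smul]
  let T : Finset F := (Finset.univ.filter (· ∈ k')).erase 0
  have cK : (Finset.univ.filter (· ∈ k')).card = Fintype.card k' := (Fintype.card_subtype _).symm
  have cT : T.card = Fintype.card k' - 1 := by
    rw [Finset.card_erase_of_mem (by simp), cK]
  have cS : S.card = Fintype.card k' - 1 := by
    have : S = (Set.toFinite (Phi P v)).toFinset.erase 0 := by
      ext φ
      rw [hS, Finset.mem_erase, Set.Finite.mem_toFinset, and_comm]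
      rfl
    rw [this, Finset.card_erase_of_mem (a := 0) ((Set.Finite.mem_toFinset _).2 (MT.zero P v)),
      ← Set.ncard_eq_toFinset_card, ← hk, Nat.card_eq_fintype_card]
  have hT : S.image f = T := by
    refine Finset.eq_of_subset_of_card_le (fun a ha => ?_)
      (by rw [Finset.card_image_of_injOn hf, cT, cS])
    obtain ⟨φ, hφ, rfl⟩ := Finset.mem_image.1 ha
    have a1 := n1 φ hφ
    refine Finset.mem_erase.2 ⟨mul_ne_zero (div_ne_zero (n2 φ hφ) a1) (div_ne_zero hb' hb), ?_⟩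
    simp only [Finset.mem_filter, Finset.mem_univ, true_and]
    convert k'.div_mem (e' φ ((hS φ).1 hφ).1) (e φ ((hS φ).1 hφ).1) using 1
    simp only [f]
    field_simp
  have h8k : 8 ≤ Fintype.card k' := by rw [← Nat.card_eq_fintype_card, hk]; exact h8
  have s1 : ∑ a ∈ T, a = 0 := by
    rw [Finset.sum_erase (f := fun a : F => a) _ rfl, Finset.sum_subtype (p := (· ∈ k')) _ (by simp)]
    have := congrArg k'.subtype (FiniteField.sum_pow_lt_card_sub_one k' 1 (by omega))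
    simpa using this
  refine ⟨?_, ?_, n1⟩
  · rw [← hT, Finset.sum_image hf, ← Finset.sum_mul] at s1
    exact (mul_eq_zero.1 s1).resolve_right (div_ne_zero hb' hb)
  · rw [cS, Nat.cast_pred (by omega)]
    have := congrArg k'.subtype (FiniteField.cast_card_eq_zero k')
    rw [map_natCast, map_zero] at this
    rw [this, zero_sub]

theorem main [Finite F] (h2 : (2 : F) = 0) (hI : Ir P) {v : Fin 3 → F} (hv : v ≠ 0)
    (h8 : 8 ≤ (Phi P v).ncard) : Root P 4 := by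
  classical
  by_contra hn
  obtain ⟨ξ, hξ, hξ0⟩ := exists_ne_zero h8
  obtain ⟨g, hg, e⟩ := hI v ξ hv hξ0
  set w := (g : Matrix (Fin 3) (Fin 3) F) *ᵥ v with hw
  have h8' : 8 ≤ (Phi P w).ncard := by rwa [hw, ncard_phi hg]
  have hvw : v ⨯₃ w ≠ 0 := fun e0 => by
    obtain ⟨c, hc⟩ := par_of_cross (x := w) (y := v) (by rw [← cross_anticomm, e0, neg_zero]) hv
    exact e (by rw [hc, dotProduct_smul, hξ.1, smul_zero])
  obtain ⟨g', hg', hd⟩ := hI v _ hv hvw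
  set u := (g' : Matrix (Fin 3) (Fin 3) F) *ᵥ v with hu
  have h8'' : 8 ≤ (Phi P u).ncard := by rwa [hu, ncard_phi hg']
  have hwu : w ⨯₃ u ≠ 0 := fun e0 => hd (by rw [← cross_cyc, ← cross_cyc, e0]; simp)
  obtain ⟨ψ, hψ, hψ0⟩ := exists_ne_zero h8'
  have hc : ψ ⬝ᵥ u ≠ 0 := fun e0 =>
    hψ0 (ev_inj h2 hn h8' h8'' hwu hψ (MT.zero P w) (by simp [e0]))
  obtain ⟨-, t, ht, et⟩ := hψ
  have h8t : 8 ≤ (Phi P (u + (ψ ⬝ᵥ u) • w)).ncard := by rwa [← et, ncard_phi ht]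
  let S := (Set.toFinite (Phi P v)).toFinset.erase 0
  have hS : ∀ φ, φ ∈ S ↔ MT P v φ ∧ φ ≠ 0 := fun φ => by
    rw [Finset.mem_erase, Set.Finite.mem_toFinset, and_comm]
    rfl
  obtain ⟨s1, s2, s3⟩ := sum_ratio h2 hn h8 h8' h8'' hd hS
  obtain ⟨s4, -, -⟩ := sum_ratio h2 hn h8 h8' h8t
    (by rwa [dotProduct_add, dotProduct_smul, cross_dot_right, smul_zero, add_zero]) hS
  rw [Finset.sum_congr rfl (g := fun φ => φ ⬝ᵥ u / φ ⬝ᵥ w + ψ ⬝ᵥ u) fun φ hφ => by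
    have := s3 φ hφ
    rw [dotProduct_add, dotProduct_smul, smul_eq_mul]
    field_simp] at s4
  rw [Finset.sum_add_distrib, s1, Finset.sum_const, nsmul_eq_mul, s2] at s4
  exact hc (by linear_combination -s4)

theorem exists_tv (h2 : (2 : F) = 0) {g : GL (Fin 3) F} (hg : g * g = 1) :
    ∃ v φ : Fin 3 → F, φ ⬝ᵥ v = 0 ∧
      ∀ x, (g : Matrix (Fin 3) (Fin 3) F) *ᵥ x = x + (φ ⬝ᵥ x) • v := by
  have h1 : (g : Matrix (Fin 3) (Fin 3) F) * g = 1 := by rw [← Units.val_mul, hg, Units.val_one]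
  obtain ⟨v, φ, h0, e⟩ := exists_vec_of_sq_zero (N := (g : Matrix (Fin 3) (Fin 3) F) - 1) (by
    rw [sub_mul, mul_sub, mul_sub, h1]
    simp only [mul_one, one_mul]
    linear_combination (norm := module) h2 • ((1 : Matrix (Fin 3) (Fin 3) F) - g))
  refine ⟨v, φ, h0, fun x => ?_⟩
  rw [← e, sub_mulVec, one_mulVec]
  abel

theorem dot_eq_zero_of_comm {v w φ ψ : Fin 3 → F} (h0 : φ ⬝ᵥ v = 0) (hv : v ≠ 0) (hψ : ψ ≠ 0)
    (e : ∀ x, ((ψ ⬝ᵥ x) * (φ ⬝ᵥ w)) • v = ((φ ⬝ᵥ x) * (ψ ⬝ᵥ v)) • w) : φ ⬝ᵥ w = 0 := by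
  by_contra h
  have h1 := e v
  rw [h0, zero_mul, zero_smul, smul_eq_zero, mul_eq_zero] at h1
  have h3 : ψ ⬝ᵥ v = 0 := by tauto
  obtain ⟨u, hu⟩ := exists_dot_eq_one hψ
  have h4 := e u
  rw [h3, mul_zero, zero_smul, hu, one_mul, smul_eq_zero] at h4
  tauto

theorem share (h2 : (2 : F) = 0) {g h : GL (Fin 3) F} (hc : g * h = h * g)
    (hs : g * h * (g * h) = 1) {v w φ ψ : Fin 3 → F} (h0 : φ ⬝ᵥ v = 0)
    (hv : v ≠ 0) (hψ : ψ ≠ 0)
    (e : ∀ x, (g : Matrix (Fin 3) (Fin 3) F) *ᵥ x = x + (φ ⬝ᵥ x) • v)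
    (e' : ∀ x, (h : Matrix (Fin 3) (Fin 3) F) *ᵥ x = x + (ψ ⬝ᵥ x) • w) :
    w ⨯₃ v = 0 ∨ ψ ⨯₃ φ = 0 := by
  have c1 : ∀ x, ((ψ ⬝ᵥ x) * (φ ⬝ᵥ w)) • v = ((φ ⬝ᵥ x) * (ψ ⬝ᵥ v)) • w := fun x => by
    have := congrArg (fun k : GL (Fin 3) F => (k : Matrix (Fin 3) (Fin 3) F) *ᵥ x) hc
    simp only [mul_mulVec, e, e', dotProduct_add, dotProduct_smul, smul_eq_mul] at this
    linear_combination (norm := module) this
  have a1 := dot_eq_zero_of_comm h0 hv hψ c1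
  obtain ⟨z, χ, -, e''⟩ := exists_tv h2 hs
  have c2 : ∀ x, (φ ⬝ᵥ x) • v + (ψ ⬝ᵥ x) • w = (χ ⬝ᵥ x) • z := fun x => by
    have := e'' x
    simp only [mul_mulVec, e, e', dotProduct_add, dotProduct_smul, smul_eq_mul, a1] at this
    linear_combination (norm := module) this
  by_contra hn
  push Not at hn
  have c3 : ∀ x y, (ψ ⬝ᵥ x) * (φ ⬝ᵥ y) - (φ ⬝ᵥ x) * (ψ ⬝ᵥ y) = 0 := fun x y => by
    have : ((φ ⬝ᵥ x) • v + (ψ ⬝ᵥ x) • w) ⨯₃ ((φ ⬝ᵥ y) • v + (ψ ⬝ᵥ y) • w) = 0 := by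
      rw [c2, c2]; simp
    simp only [map_add, map_smul, LinearMap.add_apply, LinearMap.smul_apply, cross_self,
      ← cross_anticomm w v] at this
    refine (smul_eq_zero.1 ?_).resolve_right hn.1
    linear_combination (norm := module) this
  refine hn.2 (funext fun i => ?_)
  have d1 := c3 (Pi.single 1 1) (Pi.single 2 1)
  have d2 := c3 (Pi.single 2 1) (Pi.single 0 1)
  have d3 := c3 (Pi.single 0 1) (Pi.single 1 1)
  simp only [dotProduct_single, mul_one] at d1 d2 d3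
  fin_cases i <;> simp [cross_apply] <;> grind

theorem card_le_phi [Finite F] {E Q : Subgroup (GL (Fin 3) F)} {v : Fin 3 → F}
    (R : GL (Fin 3) F → (Fin 3 → F) → Prop) (hR : ∀ g h φ, R g φ → R h φ → g = h)
    (h : ∀ g ∈ E, ∃ φ, MT Q v φ ∧ R g φ) : Nat.card E ≤ (Phi Q v).ncard := by
  choose f h1 h2 using h
  rw [← Nat.card_coe_set_eq]
  exact Nat.card_le_card_of_injective (fun g : E => (⟨f g g.2, h1 g g.2⟩ : Phi Q v))
    fun a b e => Subtype.ext (hR _ _ _ (h2 a a.2)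
      (by rw [show f a a.2 = f b b.2 from congrArg Subtype.val e]; exact h2 b b.2))

end Two

open Two in
theorem root_four_of_eight [Finite F] (h2 : (2 : F) = 0) (hP : QS P)
    {E : Subgroup (GL (Fin 3) F)} (hE : E ≤ P) (hc : ∀ x ∈ E, x * x = 1) (h8 : 8 ≤ Nat.card E) :
    Root P 4 := by
  have hI := ir_of_irr hP.irr
  have hcomm : ∀ g ∈ E, ∀ h ∈ E, g * h = h * g := fun g hg h hh => by
    rw [← inv_eq_of_mul_eq_one_right (hc _ (E.mul_mem hg hh)), _root_.mul_inv_rev,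
      inv_eq_of_mul_eq_one_right (hc g hg), inv_eq_of_mul_eq_one_right (hc h hh)]
  have hex : ∀ g ∈ E, g ≠ 1 → ∃ v φ : Fin 3 → F, v ≠ 0 ∧ φ ≠ 0 ∧ φ ⬝ᵥ v = 0 ∧
      ∀ x, (g : Matrix (Fin 3) (Fin 3) F) *ᵥ x = x + (φ ⬝ᵥ x) • v := fun g hg h1 => by
    obtain ⟨v, φ, h0, e⟩ := exists_tv h2 (hc g hg)
    exact ⟨v, φ, fun e0 => h1 (gl_ext fun x => by simp [e, e0]),
      fun e0 => h1 (gl_ext fun x => by simp [e, e0]), h0, e⟩
  choose! v φ hv hφ h0 e using hex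
  have hsh : ∀ g ∈ E, g ≠ 1 → ∀ h ∈ E, h ≠ 1 → v h ⨯₃ v g = 0 ∨ φ h ⨯₃ φ g = 0 :=
    fun g hg g1 h hh h1 => share h2 (hcomm g hg h hh) (hc _ (E.mul_mem hg hh)) (h0 g hg g1)
      (hv g hg g1) (hφ h hh h1) (e g hg g1) (e h hh h1)
  obtain ⟨g, hg, g1⟩ : ∃ g ∈ E, g ≠ 1 := by
    by_contra hn
    push Not at hn
    rw [(Subgroup.eq_bot_iff_forall E).2 hn, Subgroup.card_bot] at h8
    omega
  by_cases hall : ∀ h ∈ E, h ≠ 1 → v h ⨯₃ v g = 0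
  · refine main h2 hI (hv g hg g1) (h8.trans (card_le_phi (fun k ψ => ∀ x,
      (k : Matrix (Fin 3) (Fin 3) F) *ᵥ x = x + (ψ ⬝ᵥ x) • v g)
      (fun a b ψ ea eb => gl_ext fun x => by rw [ea, eb]) fun h hh => ?_))
    by_cases h1 : h = 1
    · exact ⟨0, MT.zero P _, by simp [h1]⟩
    obtain ⟨c, hc⟩ := par_of_cross (hall h hh h1) (hv g hg g1)
    refine ⟨c • φ h, (MT.smul_iff c).1 (hc ▸ ⟨h0 h hh h1, h, hE hh, e h hh h1⟩), fun x => ?_⟩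
    rw [e h hh h1, hc, smul_dotProduct, smul_smul, smul_eq_mul, mul_comm]
  · push Not at hall
    obtain ⟨h, hh, h1, hne⟩ := hall
    have hall : ∀ k ∈ E, k ≠ 1 → φ k ⨯₃ φ g = 0 := fun k hk k1 => by
      refine (hsh g hg g1 k hk k1).elim (fun a => ?_) id
      obtain ⟨c, hc⟩ := par_of_cross ((hsh g hg g1 h hh h1).resolve_left hne) (hφ g hg g1)
      rcases hsh h hh h1 k hk k1 with b | b
      · exfalso
        obtain ⟨c₁, e₁⟩ := par_of_cross (x := v g) (by rw [← cross_anticomm, a, neg_zero])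
          (hv k hk k1)
        obtain ⟨c₂, e₂⟩ := par_of_cross (x := v h) (by rw [← cross_anticomm, b, neg_zero])
          (hv k hk k1)
        exact hne (by rw [e₁, e₂]; simp)
      · obtain ⟨d, hd⟩ := par_of_cross b (hφ h hh h1)
        rw [hd, hc]; simp
    refine root_of_tP (main h2 hI.tP (hφ g hg g1) (h8.trans (card_le_phi (fun k ψ => ∀ x,
      (k : Matrix (Fin 3) (Fin 3) F) *ᵥ x = x + (φ g ⬝ᵥ x) • ψ)
      (fun a b ψ ea eb => gl_ext fun x => by rw [ea, eb]) fun k hk => ?_)))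
    by_cases k1 : k = 1
    · exact ⟨0, MT.zero _ _, by simp [k1]⟩
    obtain ⟨c, hc⟩ := par_of_cross (hall k hk k1) (hφ g hg g1)
    refine ⟨c • v k, mt_tP.2 ((MT.smul_iff c).2 (hc ▸ ⟨h0 k hk k1, k, hE hk, e k hk k1⟩)),
      fun x => ?_⟩
    rw [e k hk k1, hc, smul_dotProduct, smul_smul, smul_eq_mul, mul_comm]

end Cfsg.Agent.Cl.D3
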