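/-
Automorphisms of `P / Z(P)` induced by the normaliser of `P` in `GL₃(F)`.
-/
import Mathlib
import Cfsg.Agent.Cl.D3Basic

set_option autoImplicit false

namespace Cfsg.Agent.Cl.D3

open Matrix Cfsg.Geo Cfsg.Agent.Cl.Max Cfsg.Agent.Cl.Mx

variable {F : Type*} [Field F] {P : Subgroup (GL (Fin 3) F)} {h : GL (Fin 3) F}
variable {G : Type*} [Group G] {π : P →* G}

/-- `h` normalises `P`, acts on it as `c` and on `G` as `α`. -/
structure NInd (π : P →* G) (h : GL (Fin 3) F) (c : P →* P) (α : MulAut G) : Prop where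
  coe : ∀ x : P, (c x : GL (Fin 3) F) = h * x * h⁻¹
  map : ∀ x : P, α (π x) = π (c x)

theorem conj_mem_scalars_iff (h : GL (Fin 3) F) {x : GL (Fin 3) F} :
    h * x * h⁻¹ ∈ scalars (Fin 3) F ↔ x ∈ scalars (Fin 3) F := by
  constructor
  · intro e
    have e2 := conj_of_mem_scalars e h⁻¹
    have e3 : x = h * x * h⁻¹ := by rw [← e2]; group
    rw [e3]; exact e
  · intro e
    rw [conj_of_mem_scalars e]; exact e

theorem Cov.exists_nInd [Finite F] (hπ : Cov P π) (hh : ∀ x ∈ P, h * x * h⁻¹ ∈ P) :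
    ∃ (c : P →* P) (α : MulAut G), NInd π h c α := by
  let c : P →* P :=
    { toFun := fun x => ⟨h * x * h⁻¹, hh x x.2⟩
      map_one' := Subtype.ext (by simp)
      map_mul' := fun x y => Subtype.ext (by simp) }
  have hc : ∀ x : P, (c x : GL (Fin 3) F) = h * x * h⁻¹ := fun _ => rfl
  have hk : π.ker ≤ (π.comp c).ker := fun x hx => by
    rw [MonoidHom.mem_ker] at hx ⊢
    rw [MonoidHom.comp_apply, hπ.ker, hc, conj_mem_scalars_iff, ← hπ.ker]
    exact hx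
  let β : G →* G := π.liftOfSurjective hπ.surj ⟨π.comp c, hk⟩
  have hβ : ∀ x, β (π x) = π (c x) := fun x =>
    π.liftOfRightInverse_comp_apply _ _ ⟨π.comp c, hk⟩ x
  have hi : Function.Injective β := by
    rw [injective_iff_map_eq_one]
    intro g hg
    obtain ⟨x, rfl⟩ := hπ.surj g
    rw [hβ, hπ.ker, hc, conj_mem_scalars_iff, ← hπ.ker] at hg
    exact hg
  haveI : Finite G := Finite.of_surjective π hπ.surj
  exact ⟨c, MulEquiv.ofBijective β hi.bijective_of_finite, hc, hβ⟩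

variable {c : P →* P} {α : MulAut G}

theorem NInd.mem_of_inner (hi : NInd π h c α) (hP : QS P) (hπ : Cov P π) {g : G}
    (hg : ∀ x, α x = g * x * g⁻¹) : h ∈ P ⊔ scalars (Fin 3) F := by
  obtain ⟨y, rfl⟩ := hπ.surj g
  have h1 : ∀ x ∈ P, ((y : GL (Fin 3) F)⁻¹ * h) * x * ((y : GL (Fin 3) F)⁻¹ * h)⁻¹ * x⁻¹ ∈
      scalars (Fin 3) F := fun x hx => by
    have e : π (y⁻¹ * c ⟨x, hx⟩ * y * (⟨x, hx⟩ : P)⁻¹) = 1 := by
      simp only [map_mul, map_inv, ← hi.map, hg]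
      group
    rw [hπ.ker] at e
    simp only [Subgroup.coe_mul, Subgroup.coe_inv, hi.coe] at e
    convert e using 1
    group
  have h2 := hP.spans.mem_scalars (commute_of_perfect hP.perfect h1)
  have e : h = y * ((y : GL (Fin 3) F)⁻¹ * h) := by group
  rw [e]
  exact Subgroup.mul_mem_sup y.2 h2

theorem NInd.card_le_three (hi : NInd π h c α) (hπ : Cov P π) {l : ℕ} (hl : l.Prime)
    (hlp : (l : F) ≠ 0) (h3 : l ≠ 3) {x : G} (h1 : x ≠ 1) (hx : x ^ l = 1) {S : Finset ℕ}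
    (hS : ∀ k ∈ S, k < l ∧ (IsConj x (x ^ k) ∨ IsConj (α x) (x ^ k))) : S.card ≤ 3 := by
  have hn : ¬ 3 ∣ l ∨ (3 : F) = 0 :=
    Or.inl fun e => h3 ((Nat.prime_dvd_prime_iff_eq Nat.prime_three hl).1 e).symm
  obtain ⟨a, rfl, ha⟩ := hπ.exists_lift hn hx
  haveI := Fact.mk hl
  have ha1 : a ≠ 1 := fun e => h1 (by rw [e, map_one])
  have ho : orderOf (a : GL (Fin 3) F) = l := by
    rw [Subgroup.orderOf_coe]; exact orderOf_eq_prime ha ha1
  refine card_le_three_of_isConj hl hlp ho fun k hk => ⟨(hS k hk).1, ?_⟩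
  have hak : (a ^ k) ^ l = 1 := by rw [← pow_mul, mul_comm, pow_mul, ha, one_pow]
  rcases (hS k hk).2 with e | e
  · rw [← map_pow] at e
    exact P.subtype.map_isConj (hπ.isConj_lift hn ha hak e)
  · rw [← map_pow, hi.map] at e
    have e2 := P.subtype.map_isConj
      (hπ.isConj_lift hn (by rw [← map_pow, ha, map_one]) hak e)
    refine IsConj.trans (isConj_iff.2 ⟨h, (hi.coe a).symm⟩) e2

theorem Cov.comm_eq_of_map_eq (hπ : Cov P π) {a b a' b' : P} (ea : π a = π a') (eb : π b = π b') :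
    a * b * a⁻¹ * b⁻¹ = a' * b' * a'⁻¹ * b'⁻¹ := by
  have hz : π (a'⁻¹ * a) = 1 := by rw [map_mul, map_inv, ea, inv_mul_cancel]
  have hw : π (b'⁻¹ * b) = 1 := by rw [map_mul, map_inv, eb, inv_mul_cancel]
  obtain ⟨z, rfl⟩ : ∃ z, a = a' * z := ⟨a'⁻¹ * a, by group⟩
  obtain ⟨w, rfl⟩ : ∃ w, b = b' * w := ⟨b'⁻¹ * b, by group⟩
  rw [inv_mul_cancel_left] at hz hw
  have c1 := fun k => (hπ.commute_of_ker hz k).eq
  have c2 := fun k => (hπ.commute_of_ker hw k).eq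
  calc a' * z * (b' * w) * (a' * z)⁻¹ * (b' * w)⁻¹
      = a' * (z * (b' * w)) * z⁻¹ * a'⁻¹ * w⁻¹ * b'⁻¹ := by group
    _ = a' * b' * (w * a'⁻¹) * w⁻¹ * b'⁻¹ := by rw [c1]; group
    _ = a' * b' * a'⁻¹ * b'⁻¹ := by rw [c2]; group

/-- The commutator pairing is invariant under the normaliser. -/
theorem NInd.comm_eq (hi : NInd π h c α) (hπ : Cov P π) {a b a' b' : P}
    (hab : Commute (π a) (π b)) {g : G} (ea : α (π a) = g * π a' * g⁻¹)
    (eb : α (π b) = g * π b' * g⁻¹) : a * b * a⁻¹ * b⁻¹ = a' * b' * a'⁻¹ * b'⁻¹ := by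
  obtain ⟨y, rfl⟩ := hπ.surj g
  have hw : π (a * b * a⁻¹ * b⁻¹) = 1 := by
    simp only [map_mul, map_inv, hab.eq]; group
  have e1 : c (a * b * a⁻¹ * b⁻¹) = a * b * a⁻¹ * b⁻¹ :=
    Subtype.ext (by rw [hi.coe, conj_of_mem_scalars ((hπ.ker _).1 hw)])
  rw [hi.map, ← map_inv, ← map_mul, ← map_mul] at ea eb
  have e2 := hπ.comm_eq_of_map_eq ea eb
  rw [← map_inv c, ← map_inv c, ← map_mul c, ← map_mul c, ← map_mul c, e1] at e2
  have e3 := (hπ.commute_of_ker hw y).eq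
  calc a * b * a⁻¹ * b⁻¹ = y⁻¹ * (a * b * a⁻¹ * b⁻¹ * y) := by rw [e3]; group
    _ = a' * b' * a'⁻¹ * b'⁻¹ := by rw [e2]; group

theorem Cov.commute_of_sq (hπ : Cov P π) {a b : P} (hab : Commute (π a) (π b))
    (e : a * b * a⁻¹ * b⁻¹ * (a * b * a⁻¹ * b⁻¹) = 1) : Commute a b := by
  have hw : π (a * b * a⁻¹ * b⁻¹) = 1 := by
    simp only [map_mul, map_inv, hab.eq]; group
  have h3 := hπ.cube_of_ker hw
  rw [pow_three, e, mul_one] at h3
  calc a * b = a * b * a⁻¹ * b⁻¹ * (b * a) := by group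
    _ = b * a := by rw [h3, one_mul]

/-- An automorphism inverting `π a` and fixing `π b` modulo inner automorphisms. -/
theorem NInd.commute_of_inv (hi : NInd π h c α) (hπ : Cov P π) {a b : P}
    (hab : Commute (π a) (π b)) {g : G} (ea : α (π a) = g * (π a)⁻¹ * g⁻¹)
    (eb : α (π b) = g * π b * g⁻¹) : Commute a b := by
  rw [← map_inv] at ea
  have e := hi.comm_eq hπ hab ea eb
  have hw : π (a * b * a⁻¹ * b⁻¹) = 1 := by
    simp only [map_mul, map_inv, hab.eq]; group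
  have e3 := (hπ.commute_of_ker hw a⁻¹).eq
  refine hπ.commute_of_sq hab ?_
  calc a * b * a⁻¹ * b⁻¹ * (a * b * a⁻¹ * b⁻¹)
      = a * b * a⁻¹ * b⁻¹ * (a⁻¹ * b * a⁻¹⁻¹ * b⁻¹) := by rw [← e]
    _ = (a * b * a⁻¹ * b⁻¹ * a⁻¹) * (b * a * b⁻¹) := by group
    _ = 1 := by rw [e3]; group

/-- An automorphism with `π a ↦ π b ↦ π a * (π b)⁻¹` modulo inner automorphisms. -/
theorem NInd.commute_of_rot (hi : NInd π h c α) (hπ : Cov P π) {a b : P}
    (hab : Commute (π a) (π b)) {g : G} (ea : α (π a) = g * π b * g⁻¹)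
    (eb : α (π b) = g * (π a * (π b)⁻¹) * g⁻¹) : Commute a b := by
  rw [← map_inv, ← map_mul] at eb
  have e := hi.comm_eq hπ hab ea eb
  refine hπ.commute_of_sq hab ?_
  calc a * b * a⁻¹ * b⁻¹ * (a * b * a⁻¹ * b⁻¹)
      = a * b * a⁻¹ * b⁻¹ * (b * (a * b⁻¹) * b⁻¹ * (a * b⁻¹)⁻¹) := by rw [← e]
    _ = 1 := by group

end Cfsg.Agent.Cl.D3
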