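/-
Normalisers in `GL₃(F)` of the covers of `PSL₂(7)`, `A₆` and `A₇`.
-/
import Mathlib
import Cfsg.Agent.Cl.D3NormA
import Cfsg.Agent.Cl.PGammaL2
import Cfsg.Agent.Sym.Aut

set_option autoImplicit false

namespace Cfsg.Agent.Cl.D3

open Matrix Cfsg.Geo Cfsg.Agent.Cl.Max Cfsg.Agent.Cl.Mx Cfsg.Agent.Cl.L2
open scoped MatrixGroups

variable {F : Type*} [Field F] [Fintype F] {P : Subgroup (GL (Fin 3) F)} {h h' : GL (Fin 3) F}
variable {K : Type*} [Field K] [Fintype K]

omit [Fintype K] in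
theorem exists_uS : ∃ u : K → PSL(2, K), ∀ b, emb (u b) = aff 1 b := by
  have : ∀ b : K, ∃ x : PSL(2, K), emb x = aff 1 b := fun b =>
    exists_emb_of_mem ((aff_mem_psl one_ne_zero b).2 IsSquare.one)
  exact ⟨fun b => (this b).choose, fun b => (this b).choose_spec⟩

section U

variable {u : K → PSL(2, K)} (hu : ∀ b, emb (u b) = aff 1 b)
include hu

omit [Fintype K] in
theorem uS_mul (a b : K) : u a * u b = u (a + b) := by
  apply emb_injective
  rw [map_mul, hu, hu, hu, aff_mul one_ne_zero one_ne_zero, one_mul, one_mul, add_comm]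

omit [Fintype K] in
theorem uS_pow (a : K) (n : ℕ) : u a ^ n = u (n * a) := by
  apply emb_injective
  rw [map_pow, hu, hu, aff_one_pow]

omit [Fintype K] in
theorem uS_eq_one {a : K} : u a = 1 ↔ a = 0 := by
  rw [← emb_eq_one, hu, aff_eq_one_iff one_ne_zero]
  simp

omit [Fintype K] in
theorem uS_inv (a : K) : (u a)⁻¹ = u (-a) := by
  rw [inv_eq_iff_mul_eq_one, uS_mul hu, uS_eq_one hu, add_neg_cancel]

omit [Fintype K] in
theorem uS_conj {c : PGL(2, K)} {a : K} (ha : a ≠ 0) (hc : c * (aff a 0)⁻¹ ∈ psl K) :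
    ∃ g : PSL(2, K), ∀ b, c * emb (u b) * c⁻¹ = emb (g * u (a * b) * g⁻¹) := by
  obtain ⟨g, hg⟩ := exists_emb_of_mem hc
  refine ⟨g, fun b => ?_⟩
  rw [map_mul, map_mul, map_inv, hg, hu, hu, ← aff_conj_one ha 0 b]
  group

omit [Fintype K] in
theorem uS_isConj {s : K} (hs : s ≠ 0) (b : K) : IsConj (u b) (u (s * s * b)) := by
  have ha : s * s ≠ 0 := mul_ne_zero hs hs
  obtain ⟨g, hg⟩ := exists_emb_of_mem ((aff_mem_psl ha 0).2 ⟨s, rfl⟩)
  refine isConj_iff.2 ⟨g, emb_injective ?_⟩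
  rw [map_mul, map_mul, map_inv, hg, hu, hu, aff_conj_one ha]

end U

variable {G : Type*} [Group G]

omit [Fintype F] in
theorem NInd.cases_of_left {π : P →* PSL(2, K)} {c : P →* P} {α : MulAut PSL(2, K)}
    (hi : NInd π h c α) (hP : QS P) (hπ : Cov P π) {d : PGL(2, K)}
    (hd : ∀ g, emb (α g) = d * emb g * d⁻¹) {u : K → PSL(2, K)} (hu : ∀ b, emb (u b) = aff 1 b)
    {a : K} (ha : ¬ IsSquare a) :
    h ∈ P ⊔ scalars (Fin 3) F ∨ ∃ g : PSL(2, K), ∀ b, α (u b) = g * u (a * b) * g⁻¹ := by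
  have ha0 : a ≠ 0 := by rintro rfl; exact ha IsSquare.zero
  by_cases h1 : d ∈ psl K
  · obtain ⟨g, rfl⟩ := exists_emb_of_mem h1
    exact Or.inl (hi.mem_of_inner hP hπ (g := g) fun x => emb_injective (by
      rw [hd, map_mul, map_mul, map_inv]))
  · have h2 : (aff a 0)⁻¹ ∉ psl K := by rw [inv_mem_iff, aff_mem_psl ha0]; exact ha
    obtain ⟨g, hg⟩ := uS_conj hu ha0 (mul_mem_psl_of_not_mem h1 h2)
    exact Or.inr ⟨g, fun b => emb_injective (by rw [hd, hg])⟩

theorem cast_card_eq_zero {n : ℕ} (hK : Fintype.card K = n) : (n : K) = 0 := by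
  rw [← hK]; exact FiniteField.cast_card_eq_zero K

theorem norm_seven (hP : QS P) (hK : Fintype.card K = 7) {π : P →* PSL(2, K)} (hπ : Cov P π)
    (h7 : (7 : F) ≠ 0) (hh : ∀ x ∈ P, h * x * h⁻¹ ∈ P) : h ∈ P ⊔ scalars (Fin 3) F := by
  obtain ⟨c, α, hi⟩ := hπ.exists_nInd hh
  obtain ⟨γ, hγ⟩ := exists_pga α
  have h0 : (7 : K) = 0 := by exact_mod_cast cast_card_eq_zero hK
  have hσ : γ.right = 1 := by
    ext a
    obtain ⟨b, rfl⟩ := (ZMod.ringEquivOfPrime K (by norm_num : Nat.Prime 7) hK).surjective a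
    obtain ⟨n, rfl⟩ := ZMod.natCast_zmod_surjective b
    simp
  have hd : ∀ g, emb (α g) = γ.left * emb g * γ.left⁻¹ := fun g => by
    rw [hγ, eq_inl hσ, act_inl]; rfl
  obtain ⟨u, hu⟩ := exists_uS (K := K)
  have hns : ¬ IsSquare (-1 : K) := by
    rw [FiniteField.isSquare_neg_one_iff, hK]; norm_num
  rcases hi.cases_of_left hP hπ hd hu hns with e | ⟨g, hg⟩
  · exact e
  exfalso
  have h2 : (2 : K) ≠ 0 := fun e => one_ne_zero (α := K) (by linear_combination h0 - 3 * e)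
  have h3 : (3 : K) ≠ 0 := fun e => one_ne_zero (α := K) (by linear_combination h0 - 2 * e)
  have key := hi.card_le_three hπ (l := 7) (by norm_num) (by exact_mod_cast h7) (by norm_num)
    (x := u 1) (by rw [Ne, uS_eq_one hu]; exact one_ne_zero)
    (by rw [uS_pow hu, uS_eq_one hu]; exact_mod_cast (by rw [h0, zero_mul] : (7 : K) * 1 = 0))
    (S := {1, 2, 4, 6}) (by
      intro k hk
      simp only [Finset.mem_insert, Finset.mem_singleton] at hk
      rcases hk with rfl | rfl | rfl | rfl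
      · exact ⟨by norm_num, Or.inl (by rw [pow_one])⟩
      · refine ⟨by norm_num, Or.inl ?_⟩
        rw [uS_pow hu]
        convert uS_isConj hu h3 1 using 2
        push_cast; linear_combination -h0
      · refine ⟨by norm_num, Or.inl ?_⟩
        rw [uS_pow hu]
        convert uS_isConj hu h2 1 using 2
        push_cast; ring
      · refine ⟨by norm_num, Or.inr ?_⟩
        rw [uS_pow hu, hg]
        refine (isConj_iff.2 ⟨g, ?_⟩).symm
        congr 3
        push_cast; linear_combination h0)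
  exact absurd key (by decide)

theorem three_eq_zero_of_nine (hK : Fintype.card K = 9) : (3 : K) = 0 := by
  have h0 : (9 : K) = 0 := by exact_mod_cast cast_card_eq_zero hK
  have : (3 : K) ^ 2 = 0 := by linear_combination h0
  exact pow_eq_zero_iff two_ne_zero |>.1 this

theorem exists_theta (hK : Fintype.card K = 9) : ∃ θ : K, θ * θ = 1 - θ := by
  have h3 := three_eq_zero_of_nine hK
  have hc : ringChar K ≠ 2 := by
    intro e
    have := FiniteField.even_card_of_char_two e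
    omega
  obtain ⟨a, ha⟩ := FiniteField.exists_nonsquare hc
  have ha0 : a ≠ 0 := by rintro rfl; exact ha IsSquare.zero
  have h1 := FiniteField.pow_dichotomy hc ha0
  rw [FiniteField.isSquare_iff hc ha0] at ha
  have h4 := h1.resolve_left ha
  rw [hK] at h4
  norm_num at h4
  have : (a * a + a - 1) * (a * a - a - 1) = 0 := by linear_combination h4 - a ^ 2 * h3
  rcases mul_eq_zero.1 this with e | e
  · exact ⟨a, by linear_combination e⟩
  · exact ⟨-a, by linear_combination e⟩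

section Nine

variable (hK : Fintype.card K = 9) {θ : K} (hθ : θ * θ = 1 - θ)
include hK hθ

theorem theta_four : θ ^ 4 = -1 := by
  have h3 := three_eq_zero_of_nine hK
  linear_combination (θ ^ 2 - θ + 2) * hθ + (1 - θ) * h3

theorem theta_ne_zero : θ ≠ 0 := by
  rintro rfl
  have := theta_four hK hθ
  norm_num at this

theorem two_ne_zero_of_nine : (2 : K) ≠ 0 := fun e =>
  one_ne_zero (α := K) (by linear_combination three_eq_zero_of_nine hK - e)

theorem theta_not_isSquare : ¬ IsSquare θ := by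
  rintro ⟨s, hs⟩
  have hs0 : s ≠ 0 := by rintro rfl; exact theta_ne_zero hK hθ (by rw [hs, mul_zero])
  have h8 := FiniteField.pow_card_sub_one_eq_one s hs0
  rw [hK] at h8
  norm_num at h8
  have h4 := theta_four hK hθ
  rw [hs] at h4
  exact two_ne_zero_of_nine hK hθ (by linear_combination h4 - h8)

theorem aut_eq_one_of_theta {σ : RingAut K} (hσ : σ θ = θ) : σ = 1 := by
  have h4 := theta_four hK hθ
  have ho : orderOf θ = 2 ^ (2 + 1) := orderOf_eq_prime_pow
    (fun e => two_ne_zero_of_nine hK hθ (by norm_num at e; linear_combination h4 - e))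
    (by norm_num; linear_combination (θ ^ 4 - 1) * h4)
  have hp : IsPrimitiveRoot θ 8 := by
    have := IsPrimitiveRoot.orderOf θ
    rwa [ho] at this
  ext a
  by_cases ha : a = 0
  · simp [ha]
  have h8 := FiniteField.pow_card_sub_one_eq_one a ha
  rw [hK] at h8
  obtain ⟨i, -, rfl⟩ := hp.eq_pow_of_pow_eq_one h8
  simp [hσ]

theorem exists_five : ∃ x : PSL(2, K), x ≠ 1 ∧ x ^ 5 = 1 ∧ tau (emb x) = 1 - θ ∧
    tau (emb (x ^ 2)) = θ - 1 := by
  have h3 := three_eq_zero_of_nine hK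
  let A : SL(2, K) := ⟨!![θ, -1; 1, 0], by simp [det_fin_two]⟩
  have hA : (A : Matrix (Fin 2) (Fin 2) K) = !![θ, -1; 1, 0] := rfl
  have hA2 : ((A ^ 2 : SL(2, K)) : Matrix (Fin 2) (Fin 2) K) = !![-θ, -θ; θ, -1] := by
    rw [Matrix.SpecialLinearGroup.coe_pow, pow_two, hA]
    ext i j
    fin_cases i <;> fin_cases j <;> simp [mul_apply, Fin.sum_univ_two]
    linear_combination hθ
  have hA5 : A ^ 5 = 1 := by
    have e : ((A ^ 5 : SL(2, K)) : Matrix (Fin 2) (Fin 2) K) =
        ((A ^ 2 : SL(2, K)) : Matrix (Fin 2) (Fin 2) K) *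
          ((A ^ 2 : SL(2, K)) : Matrix (Fin 2) (Fin 2) K) * (A : Matrix (Fin 2) (Fin 2) K) := by
      simp only [Matrix.SpecialLinearGroup.coe_pow, ← pow_add, ← pow_succ]
    ext i j
    rw [e, hA2, hA]
    fin_cases i <;> fin_cases j <;> simp [mul_apply, Fin.sum_univ_two] <;>
      grind
  have t1 : tau (emb (A : PSL(2, K))) = 1 - θ := by
    rw [tauS_mk, hA, trace_fin_two_of]; linear_combination hθ
  refine ⟨A, ne_one_of_tauS ?_, by rw [← QuotientGroup.mk_pow, hA5]; rfl, t1, ?_⟩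
  · rw [t1]
    intro e
    exact theta_ne_zero hK hθ (by linear_combination -e - h3)
  · rw [← QuotientGroup.mk_pow, tauS_mk, hA2, trace_fin_two_of]
    linear_combination hθ + h3

omit [Fintype F] in
theorem NInd.mem_of_tau (hP : QS P) {π : P →* PSL(2, K)} (hπ : Cov P π) (h3 : (3 : F) ≠ 0)
    {c : P →* P} {α : MulAut PSL(2, K)} (hi : NInd π h c α) {x : PSL(2, K)}
    (hx : tau (emb x) = 1 - θ) (e : tau (emb (α x)) = 1 - θ) : h ∈ P ⊔ scalars (Fin 3) F := by
  obtain ⟨γ, hγ⟩ := exists_pga α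
  have hσ : γ.right = 1 := by
    refine aut_eq_one_of_theta hK hθ ?_
    rw [hγ, tau_act, hx, map_sub, map_one] at e
    linear_combination -e
  have hd : ∀ g, emb (α g) = γ.left * emb g * γ.left⁻¹ := fun g => by
    rw [hγ, eq_inl hσ, act_inl]; rfl
  obtain ⟨u, hu⟩ := exists_uS (K := K)
  rcases hi.cases_of_left hP hπ hd hu (theta_not_isSquare hK hθ) with e | ⟨g, hg⟩
  · exact e
  exfalso
  obtain ⟨a, ha⟩ := hπ.surj (u 1)
  obtain ⟨b, hb⟩ := hπ.surj (u θ)
  have k3 := three_eq_zero_of_nine hK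
  have hc : ∀ z, u z ^ 3 = 1 := fun z => by
    rw [uS_pow hu, uS_eq_one hu]; push_cast; rw [k3, zero_mul]
  have hab : Commute (π a) (π b) := by
    rw [ha, hb, Commute, SemiconjBy, uS_mul hu, uS_mul hu, add_comm]
  refine hπ.not_commute h3 (by rw [ha, hc]) (by rw [hb, hc]) hab (fun i j hi hj hij => ?_)
    (hi.commute_of_rot hπ hab (g := g) (by rw [ha, hb, hg, mul_one])
      (by rw [ha, hb, hg, uS_inv hu, uS_mul hu, hθ, sub_eq_add_neg]))
  rw [ha, hb, uS_pow hu, uS_pow hu, uS_mul hu, uS_inv hu]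
  have h0 := theta_ne_zero hK hθ
  have h4 := theta_four hK hθ
  have h2 := two_ne_zero_of_nine hK hθ
  refine ⟨?_, ?_⟩
  · rw [Ne, uS_eq_one hu]
    intro e
    interval_cases i <;> interval_cases j <;> push_cast at e <;> grind
  · convert uS_isConj hu (mul_ne_zero h0 h0) _ using 2
    linear_combination (-(i : K) - j * θ) * h4

theorem tau_aut_nine (α : MulAut PSL(2, K)) {x : PSL(2, K)} (hx : tau (emb x) = 1 - θ) :
    tau (emb (α x)) = 1 - θ ∨ tau (emb (α x)) = θ - 1 := by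
  obtain ⟨γ, hγ⟩ := exists_pga α
  rw [hγ, tau_act, hx, map_sub, map_one]
  have e := congrArg γ.right hθ
  rw [map_mul, map_sub, map_one] at e
  have h3 := three_eq_zero_of_nine hK
  have : (γ.right θ - θ) * (γ.right θ + θ + 1) = 0 := by linear_combination e - hθ
  rcases mul_eq_zero.1 this with e | e
  · left; linear_combination -e
  · right; linear_combination -e + h3

theorem theta_sub_ne_four : θ - 1 ≠ 4 := by
  have h3 := three_eq_zero_of_nine hK
  intro e
  exact one_ne_zero (α := K) (by linear_combination (θ + 6) * e - hθ + 10 * h3)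

theorem one_sub_theta_ne_four : 1 - θ ≠ 4 := fun e =>
  theta_ne_zero hK hθ (by linear_combination -e - three_eq_zero_of_nine hK)

end Nine

theorem norm_nine (hP : QS P) (hK : Fintype.card K = 9) {π : P →* PSL(2, K)} (hπ : Cov P π)
    (h3 : (3 : F) ≠ 0) (h5 : (5 : F) ≠ 0) (hh : ∀ x ∈ P, h * x * h⁻¹ ∈ P) :
    h ∈ P ⊔ scalars (Fin 3) F := by
  obtain ⟨c, α, hi⟩ := hπ.exists_nInd hh
  obtain ⟨θ, hθ⟩ := exists_theta hK
  obtain ⟨x, h1, hx, t1, t2⟩ := exists_five hK hθ
  rcases tau_aut_nine hK hθ α t1 with e | e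
  · exact hi.mem_of_tau hK hθ hP hπ h3 t1 e
  exfalso
  have e4 : x ^ 4 = x⁻¹ := by rw [eq_inv_iff_mul_eq_one, ← pow_succ, hx]
  have e3 : x ^ 3 = (x ^ 2)⁻¹ := by rw [eq_inv_iff_mul_eq_one, ← pow_add, hx]
  have key := hi.card_le_three hπ (l := 5) (by norm_num) (by exact_mod_cast h5) (by norm_num)
    h1 hx (S := {1, 2, 3, 4}) (by
      intro k hk
      simp only [Finset.mem_insert, Finset.mem_singleton] at hk
      rcases hk with rfl | rfl | rfl | rfl
      · exact ⟨by norm_num, Or.inl (by rw [pow_one])⟩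
      · exact ⟨by norm_num, Or.inr (isConjS_of_tau (by rw [e]; exact theta_sub_ne_four hK hθ)
          (by rw [e, t2]))⟩
      · exact ⟨by norm_num, Or.inr (isConjS_of_tau (by rw [e]; exact theta_sub_ne_four hK hθ)
          (by rw [e, e3, map_inv, tau_inv, t2]))⟩
      · exact ⟨by norm_num, Or.inl (isConjS_of_tau (by rw [t1]; exact one_sub_theta_ne_four hK hθ)
          (by rw [e4, map_inv, tau_inv]))⟩)
  exact absurd key (by decide)

theorem norm_nine' (hP : QS P) (hK : Fintype.card K = 9) {π : P →* PSL(2, K)} (hπ : Cov P π)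
    (h3 : (3 : F) ≠ 0) (hh : ∀ x ∈ P, h * x * h⁻¹ ∈ P) (hh' : ∀ x ∈ P, h' * x * h'⁻¹ ∈ P)
    (h1 : h ∉ P ⊔ scalars (Fin 3) F) (h2 : h' ∉ P ⊔ scalars (Fin 3) F) :
    h⁻¹ * h' ∈ P ⊔ scalars (Fin 3) F := by
  obtain ⟨c, α, hi⟩ := hπ.exists_nInd hh
  obtain ⟨c', α', hi'⟩ := hπ.exists_nInd hh'
  have hc : Function.Surjective c := by
    refine Finite.surjective_of_injective fun x y e => Subtype.ext ?_
    have := congrArg Subtype.val e
    rw [hi.coe, hi.coe] at this
    simpa using this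
  have hh'' : ∀ x ∈ P, h⁻¹ * h' * x * (h⁻¹ * h')⁻¹ ∈ P := fun x hx => by
    obtain ⟨y, hy⟩ := hc ⟨_, hh' x hx⟩
    have e := congrArg Subtype.val hy
    rw [hi.coe] at e
    change _ = h' * x * h'⁻¹ at e
    have : h⁻¹ * h' * x * (h⁻¹ * h')⁻¹ = y := by
      calc _ = h⁻¹ * (h' * x * h'⁻¹) * h := by group
        _ = y := by rw [← e]; group
    rw [this]; exact y.2
  obtain ⟨c'', α'', hi''⟩ := hπ.exists_nInd hh''
  obtain ⟨θ, hθ⟩ := exists_theta hK
  obtain ⟨x, -, -, t1, -⟩ := exists_five hK hθ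
  have e := (tau_aut_nine hK hθ α t1).resolve_left fun e => h1 (hi.mem_of_tau hK hθ hP hπ h3 t1 e)
  have e' := (tau_aut_nine hK hθ α' t1).resolve_left
    fun e => h2 (hi'.mem_of_tau hK hθ hP hπ h3 t1 e)
  refine hi''.mem_of_tau hK hθ hP hπ h3 t1 ?_
  have e1 : α (α'' x) = α' x := by
    obtain ⟨a, rfl⟩ := hπ.surj x
    rw [hi''.map, hi.map, hi'.map]
    congr 1
    apply Subtype.ext
    rw [hi.coe, hi''.coe, hi'.coe]
    group
  have e2 : IsConj (α x) (α (α'' x)) := by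
    rw [e1]
    exact isConjS_of_tau (by rw [e]; exact theta_sub_ne_four hK hθ) (by rw [e, e'])
  have e3 := (α.symm : PSL(2, K) →* PSL(2, K)).map_isConj e2
  simp only [MonoidHom.coe_coe, MulEquiv.symm_apply_apply] at e3
  rw [← tauS_eq_of_isConj e3, t1]

theorem norm_alt (hP : QS P) {π : P →* alternatingGroup (Fin 7)} (hπ : Cov P π)
    (h3 : (3 : F) ≠ 0) (hh : ∀ x ∈ P, h * x * h⁻¹ ∈ P) : h ∈ P ⊔ scalars (Fin 3) F := by
  obtain ⟨c, α, hi⟩ := hπ.exists_nInd hh
  obtain ⟨σ, hσ⟩ := Sym.exists_conj_of_aut_alternating (by simp) (by simp) α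
  rcases Int.units_eq_one_or (Equiv.Perm.sign σ) with e | e
  · exact hi.mem_of_inner hP hπ (g := ⟨σ, e⟩) fun x => Subtype.ext (hσ x)
  exfalso
  let x : alternatingGroup (Fin 7) := ⟨Equiv.swap 0 2 * Equiv.swap 0 1, by
    rw [Equiv.Perm.mem_alternatingGroup]; decide⟩
  let y : alternatingGroup (Fin 7) := ⟨Equiv.swap 3 5 * Equiv.swap 3 4, by
    rw [Equiv.Perm.mem_alternatingGroup]; decide⟩
  let d : alternatingGroup (Fin 7) := ⟨Equiv.swap 0 1 * Equiv.swap 3 4, by
    rw [Equiv.Perm.mem_alternatingGroup]; decide⟩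
  let g : alternatingGroup (Fin 7) := ⟨σ * Equiv.swap 0 1, by
    rw [Equiv.Perm.mem_alternatingGroup, map_mul, e]; decide⟩
  obtain ⟨a, ha⟩ := hπ.surj x
  obtain ⟨b, hb⟩ := hπ.surj y
  have hab : Commute (π a) (π b) := by
    rw [ha, hb, Commute, SemiconjBy]; decide
  have hg : ∀ z w : alternatingGroup (Fin 7),
      (z : Equiv.Perm (Fin 7)) = Equiv.swap 0 1 * (w : Equiv.Perm (Fin 7)) * (Equiv.swap 0 1)⁻¹ →
        α z = g * w * g⁻¹ := fun z w e => Subtype.ext (by
    rw [hσ, e]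
    change _ = σ * Equiv.swap 0 1 * (w : Equiv.Perm (Fin 7)) * (σ * Equiv.swap 0 1)⁻¹
    group)
  refine hπ.not_commute h3 (by rw [ha]; decide) (by rw [hb]; decide) hab (fun i j hi hj hij => ?_)
    (hi.commute_of_inv hπ hab (g := g) (by rw [ha]; exact hg _ _ (by decide))
      (by rw [hb]; exact hg _ _ (by decide)))
  rw [ha, hb]
  refine ⟨?_, isConj_iff.2 ⟨d, ?_⟩⟩ <;> interval_cases i <;> interval_cases j <;>
    first | decide | simp at hij

end Cfsg.Agent.Cl.D3
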