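import Mathlib
import Cfsg.Agent.Cl.DerSL3
import Cfsg.Agent.Cl.ClassSpOMisc

/-! Orthogonal subgroups of symplectic groups in characteristic two. -/

set_option autoImplicit false
set_option linter.unusedSectionVars false

namespace Cfsg.Agent.Cl.Der

open Polynomial Module Cfsg.Agent.Cl.Cls
open QuadraticMap hiding sq

section Glue

variable {F A : Type*} [Field F] {ι : Type} [Fintype ι] [DecidableEq ι] {H S : Subgroup (GL ι F)}
  [AddCommGroup A] {τ : F →+ A} {Q : (ι → F) → A} {σ : F →+* F}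
  {B : (ι → F) →ₛₗ[σ] (ι → F) →ₗ[F] F}

variable (ι F) in
/-- Matrices and automorphisms. -/
noncomputable def glEquiv : GL ι F ≃* ((ι → F) ≃ₗ[F] (ι → F)) :=
  Matrix.GeneralLinearGroup.toLin.trans (LinearMap.GeneralLinearGroup.generalLinearEquiv F (ι → F))

theorem coe_glEquiv (x : GL ι F) : (glEquiv F ι x : End F (ι → F)) = glRep x := rfl

theorem card_eq_of_glEquiv {K : Subgroup ((ι → F) ≃ₗ[F] (ι → F))}
    (h : ∀ x, x ∈ S ↔ glEquiv F ι x ∈ K) : Nat.card S = Nat.card K :=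
  Nat.card_congr ((glEquiv F ι).toEquiv.subtypeEquiv h)

/-- The isometry group as a group of matrices. -/
noncomputable def isoGL (B : (ι → F) →ₛₗ[σ] (ι → F) →ₗ[F] F) (Q : (ι → F) → A) :
    Subgroup (GL ι F) := (isoFix B Q ⊥).comap (glEquiv F ι).toMonoidHom

theorem mem_isoGL {x : GL ι F} : x ∈ isoGL B Q ↔ Iso B Q (glRep x) := mem_isoFix_bot

theorem card_isoGL : Nat.card (isoGL B Q) = Nat.card (isoFix B Q ⊥) :=
  card_eq_of_glEquiv fun _ => Iff.rfl

theorem spGL_eq (d : ℕ) : Cfsg.spGL d F = isoGL (σ := RingHom.id F) (spB d F) fun _ => (0 : F) :=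
  Subgroup.ext fun _ => Iff.trans ⟨fun h => ⟨fun u v => by rw [spB_apply, spB_apply]; exact h u v,
    fun _ => rfl⟩, fun h u v => by rw [← spB_apply, ← spB_apply]; exact h.mapB u v⟩ mem_isoGL.symm

end Glue

variable {F V : Type*} [Field F] [AddCommGroup V] [Module F V] [FiniteDimensional F V]
  {f g : End F V} {Q Q' : QuadraticForm F V} {W : Submodule F V}

/-- `f` preserves a quadratic form of the same type with the same polar form. -/
def FixQ (Q : QuadraticForm F V) (f : End F V) : Prop :=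
  ∃ Q' : QuadraticForm F V, polarBilin Q' = polarBilin Q ∧ (PlusQ Q' ⊤ ↔ PlusQ Q ⊤) ∧ IsoQ Q' f

theorem GeomQ.of_polar (hG : GeomQ Q) (h : polarBilin Q' = polarBilin Q) : GeomQ Q' :=
  geom_quad (h ▸ hG.nondegenerate)

theorem GeomQ.geomA (hG : GeomQ Q) (h2 : (2 : F) = 0) : GeomA (polarBilin Q) :=
  geom_alt hG.nondegenerate fun x => by rw [polarBilin_self, h2, zero_mul]

theorem plusQ_congr (h : ∀ v ∈ W, Q' v = Q v) : PlusQ Q' W ↔ PlusQ Q W :=
  exists_congr fun _ => and_congr_right fun hU => and_congr_left fun _ => by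
    rw [tsQ_iff, tsQ_iff]
    exact forall₂_congr fun v hv => by rw [h v (hU hv)]

variable [Fintype F]

theorem GeomQ.exists_change (hG : GeomQ Q) (h2 : (2 : F) = 0) (hn : 2 < finrank F V) {l : V}
    (hl : Q l ≠ 0) : ∃ (c : F) (Q' : QuadraticForm F V), polarBilin Q' = polarBilin Q ∧
      (PlusQ Q' ⊤ ↔ ¬ PlusQ Q ⊤) ∧ ∀ v, Q' v = Q v + polarBilin Q (c • l) v ^ 2 := by
  obtain ⟨ζ, hζ⟩ := quad_exists_aniso F
  have : CharP F 2 := ringChar.of_eq (by
    by_contra h
    exact Ring.two_ne_zero h h2)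
  obtain ⟨c, hc⟩ := exists_pow_char_eq (p := 2) (ζ / Q l)
  have h1 : Q (c • l) = ζ := by rw [QuadraticMap.map_smul, ← sq, hc, smul_eq_mul, div_mul_cancel₀ _ hl]
  refine ⟨c, ?_⟩
  generalize c • l = x at h1
  have h0 : x ≠ 0 := fun h => hζ 0 (by simp [← h1, h])
  obtain ⟨y, h3, h4⟩ : ∃ y, Q y = 0 ∧ polarBilin Q x y = 1 := by
    by_contra! H
    refine h0 (hG.nondeg x fun y => hG.eq_zero_of_sing hG.nd_top (hG.hasQ_of_lt hG.nd_top
      (by simpa using hn)) (φ := polarBilin Q x) (fun _ _ _ _ => map_add _ _ _)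
      (fun y _ hy => by_contra fun h => H ((polarBilin Q x y)⁻¹ • y)
        (by rw [QuadraticMap.map_smul, hy, smul_zero])
        (by rw [map_smul, smul_eq_mul, inv_mul_cancel₀ h])) y trivial)
  let Q' := Q + linMulLin (polarBilin Q x) (polarBilin Q x)
  have h5 : ∀ v, Q' v = Q v + polarBilin Q x v ^ 2 := fun v => by simp [Q', sq]
  have h6 : polarBilin Q' = polarBilin Q := LinearMap.ext₂ fun u v => by
    have : polar Q' u v = polar Q u v + 2 * (polarBilin Q x u * polarBilin Q x v) := by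
      simp only [polar, h5, map_add]
      ring
    rw [polarBilin_apply_apply, this, h2, zero_mul, add_zero, polarBilin_apply_apply]
  have hG' := hG.of_polar h6
  have h7 : polarBilin Q x x = 0 := (hG.geomA h2).isAlt x
  obtain ⟨h8, -, h9⟩ := (hG.geomA h2).hyp_plane (u := x) (w := y) rfl rfl (h4 ▸ one_ne_zero)
  have h10 : PlusQ Q ((F ∙ x) ⊔ F ∙ y) := ⟨_, le_sup_right, hG.ts_span_singleton h3, by
    rw [h9, finrank_span_singleton fun h => by simp [h] at h4]⟩
  have h11 : ¬ PlusQ Q' ((F ∙ x) ⊔ F ∙ y) := fun ⟨U, u1, u2, u3⟩ => by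
    obtain ⟨v, hv, v0⟩ := Submodule.exists_mem_ne_zero_of_ne_bot
      (Submodule.one_le_finrank_iff.1 (show 1 ≤ finrank F U by omega))
    obtain ⟨_, ha, _, hb, rfl⟩ := Submodule.mem_sup.1 (u1 hv)
    obtain ⟨a, rfl⟩ := Submodule.mem_span_singleton.1 ha
    obtain ⟨b, rfl⟩ := Submodule.mem_span_singleton.1 hb
    have h12 := tsQ_iff.1 u2 _ hv
    rw [h5, QuadraticMap.map_add Q, ← polarBilin_apply_apply] at h12
    simp only [map_add, map_smul, QuadraticMap.map_smul, LinearMap.smul_apply, h1, h3, h4, h7,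
      smul_eq_mul] at h12
    by_cases ha : a = 0
    · simp [ha] at h12
      simp [ha, h12] at v0
    · refine hζ (b / a) ?_
      field_simp
      linear_combination h12
  have h12 := hG.nd_perp h8
  have h13 := hG.even_of_two h2 h12
  refine ⟨Q', h6, ?_, h5⟩
  rw [← (hG.isCompl_perp h8).sup_eq_top, hG.plus_sup_iff_iff h8 h12 le_rfl (h9 ▸ even_two) h13,
    hG'.plus_sup_iff_iff (h6 ▸ h8) (h6 ▸ h12) (h6 ▸ le_rfl) (h9 ▸ even_two) h13,
    plusQ_congr (Q := Q) (Q' := Q') (W := perpQ Q _) fun v hv => by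
      rw [h5, hv x (Submodule.mem_sup_left (Submodule.mem_span_singleton_self x))]
      simp]
  tauto

theorem GeomQ.fixQ_of_sq (hG : GeomQ Q) (h2 : (2 : F) = 0) {d : ℕ} (hd : finrank F V = 2 * d)
    (hd' : 1 < d) (H : PlusQ Q ⊤ ∨ Odd d) (h : IsoA (polarBilin Q) f) (hf : f ^ 2 = 1) :
    FixQ Q f := by
  have : CharP F 2 := ringChar.of_eq (by
    by_contra h
    exact Ring.two_ne_zero h h2)
  obtain ⟨P, h1, h3⟩ := SpO.exists_quad_of_isometry Q f h.mapB
  replace h1 : polarBilin P = polarBilin Q := LinearMap.ext₂ h1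
  have hP := hG.of_polar h1
  have f1 := isoQ_iff.2 h3
  by_cases h4 : PlusQ P ⊤ ↔ PlusQ Q ⊤
  · exact ⟨P, h1, h4, f1⟩
  by_cases h5 : TSQ P (fixS f)
  · have h6 := hP.two_mul_le_of_ts h5
    have h7 := hP.finrank_add_perp (fixS f)
    have h8 : perpQ P (fixS f) ≤ fixS f := by
      rw [hP.perp_fixS f1]
      rintro _ ⟨w, rfl⟩
      have := LinearMap.congr_fun (sub_one_sq_of_sq_eq_one h2 hf) w
      rw [mem_fixS, ← sub_eq_zero]
      simpa [sq] using this
    have h9 := Submodule.finrank_mono h8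
    have h10 : AType (polarBilin P) P (perpQ P (fixS f)) f := ⟨f1, h5.mono h8, fun v => by
      have h10 : P (f v - v) = 0 := tsQ_iff.1 h5 _ (h8 
        ((hP.perp_fixS f1).ge (LinearMap.mem_range_self _ v)))
      have h11 := QuadraticMap.map_add P (f v - v) v
      rw [sub_add_cancel, h3] at h11
      rw [polarBilin_apply_apply]
      linear_combination -h11 - h10, (hP.perp_perp _).symm⟩
    have h11 := h10.even_map hP (fun _ _ => Submodule.mem_top) hP.nd_top
    rw [Submodule.map_top, ← hP.perp_fixS f1, Nat.even_iff] at h11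
    rcases H with H | H
    · exact absurd (iff_of_true ⟨fixS f, le_top, h5, by rw [finrank_top]; omega⟩ H) h4
    · rw [Nat.odd_iff] at H
      omega
  · obtain ⟨l, h6, h7⟩ : ∃ l ∈ fixS f, P l ≠ 0 := by simpa [tsQ_iff] using h5
    obtain ⟨c, P', h8, h9, h10⟩ := hP.exists_change h2 (by omega) h7
    refine ⟨P', h8.trans h1, by tauto, isoQ_iff.2 fun v => ?_⟩
    rw [h10, h10, h3, ← f1.mapB (c • l) v, map_smul f, mem_fixS.1 h6]

variable {r : ℕ} [hr : Fact r.Prime] {p : ℕ} [hp : Fact p.Prime] [CharP F p]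

theorem GeomQ.forall_fixQ_iff (hG : GeomQ Q) (hp2 : p = 2) {d : ℕ} (hd : finrank F V = 2 * d)
    (hd' : 1 < d) {a : ℕ} (ha : r ∣ a) (h : a * Nat.card (isoFix (σ := RingHom.id F)
      (polarBilin Q) Q ⊥) ∣ Nat.card (isoFix (σ := RingHom.id F) (polarBilin Q)
        (fun _ => (0 : F)) ⊥)) :
    (∀ f, IsoA (polarBilin Q) f → f ^ r = 1 → f ≠ 1 → FixQ Q f) ↔ r = 2 ∧ (PlusQ Q ⊤ ∨ Odd d) := by
  classical
  have h2 : (2 : F) = 0 := two_eq_zero_of_eq hp2
  have hA := hG.geomA h2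
  have he : Even (finrank F (⊤ : Submodule F V)) := by rw [finrank_top, hd]; exact even_two_mul d
  refine ⟨fun H => ?_, fun ⟨h1, h3⟩ f f1 f2 _ => hG.fixQ_of_sq h2 hd hd' h3 f1 (h1 ▸ f2)⟩
  by_cases hr2 : r = 2
  · subst hr2 hp2
    refine ⟨rfl, by_contra fun h1 => ?_⟩
    obtain ⟨U, -, u1, u2⟩ := hA.plus hA.nd_top
    rw [finrank_top] at u2
    obtain ⟨f, hf⟩ := hA.exists_aType (hA.symm_of_two h2) u1
      (by rw [show finrank F U = d by omega]; exact Nat.not_odd_iff_even.1 (mt Or.inr h1))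
    obtain ⟨P, p1, p2, p3⟩ := H f hf.iso (hf.pow_char hA) fun h =>
      hf.ne_smul hA (by omega) 1 (by rw [h, one_smul])
    refine h1 (Or.inl (p2.1 ⟨U, le_top, tsQ_iff.2 ?_, by rw [finrank_top, u2]⟩))
    rw [← hf.range_eq hA]
    rintro _ ⟨v, rfl⟩
    have h11 := QuadraticMap.map_add P (f v - v) v
    rw [sub_add_cancel, isoQ_iff.1 p3, ← polarBilin_apply_apply, p1, hf.alt] at h11
    show P (f v - v) = 0
    linear_combination -h11
  exfalso
  have hrp : r ≠ p := hp2 ▸ hr2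
  obtain ⟨m, rfl⟩ : ∃ k, d = k + 1 := ⟨d - 1, by omega⟩
  have h7 := Nat.one_lt_pow (n := m + 1) (by omega) (Fintype.one_lt_card (α := F))
  have h8 : r ∣ if tp Q ⊤ = 1 then Fintype.card F ^ (m + 1) + 1
      else Fintype.card F ^ (m + 1) - 1 := by
    rw [isoFix_eq_OG, hG.card_OG_even hd, hA.card_isoFix hd, Nat.card_eq_fintype_card,
      Finset.prod_range_succ, pow_two_mul_sub_one, mul_assoc _ (ite _ _ _)] at h
    refine dvd_of_index (N := (m + 1) ^ 2) (mt (dvd_card_iff (F := F)).1 hrp)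
      (Nat.mul_pos (by split_ifs <;> omega)
      (prod_pow_sub_one_pos Fintype.one_lt_card m)) ha (h.trans (dvd_of_eq ?_))
    split_ifs <;> ring
  obtain ⟨k, hk⟩ : cOf (orderOf ((Fintype.card F : ℕ) : ZMod r)) ∣ finrank F V := by
    rw [hd, ← dvd_pow_two_mul_sub_one_iff Fintype.card_pos, pow_two_mul_sub_one]
    split_ifs at h8
    · exact h8.mul_left _
    · exact h8.mul_right _
  obtain ⟨f, f1, f2, f3⟩ := hA.exists_blocks hrp hr2 (s := k) (by rw [hk, mul_comm])
  obtain ⟨P, p1, p2, p3⟩ := H f f1 f2 (ne_one_of_finrank_fixS (by rw [mul_comm] at hk; omega))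
  have g5 := (hG.of_polar p1).tp_top_of_fpf p3 hrp hr2 f2
    (Submodule.finrank_eq_zero.1 (by rw [mul_comm] at hk; omega))
  have g6 : tp Q ⊤ = 1 ↔ ((Fintype.card F : ℕ) : ZMod r) ^ (m + 1) = 1 := by
    rw [tp_eq_one_iff he, ← p2, ← tp_eq_one_iff he, g5, tq_eq_one_iff, hd,
      Nat.mul_dvd_mul_iff_left two_pos, orderOf_dvd_iff_pow_eq_one]
  split_ifs at h8 with h9
  · exact neg_one_ne_one_zmod hr2 (((dvd_pow_add_one_iff _ _).1 h8).symm.trans (g6.1 h9))
  · exact h9 (g6.2 (orderOf_dvd_iff_pow_eq_one.1 ((dvd_pow_sub_one_iff Fintype.card_pos _).1 h8)))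

theorem GeomQ.fixQ_iff {ι : Type} [Fintype ι] [DecidableEq ι] {Q : QuadraticForm F (ι → F)}
    (hG : GeomQ Q) (h2 : (2 : F) = 0) {x : GL ι F} (hx : IsoA (polarBilin Q) (glRep x)) :
    (∃ g ∈ isoGL (σ := RingHom.id F) (polarBilin Q) fun _ => (0 : F),
      g⁻¹ * x * g ∈ Cfsg.Geo.quadSimilarityGroup Q) ↔ FixQ Q (glRep x) := by
  have key : ∀ (g : GL ι F) v, glRep g (glRep g⁻¹ v) = v := fun g v => by
    rw [← End.mul_apply, ← map_mul, mul_inv_cancel, map_one, End.one_apply]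
  constructor
  · rintro ⟨g, h1, c, h3⟩
    have h4 := mem_isoGL.1 (inv_mem h1)
    replace h3 : ∀ v, Q (glRep (g⁻¹ * x * g) v) = c * Q v := h3
    have h5 : ∀ v, Q (glRep (g⁻¹ * x * g) v) = Q v := by
      rcases subsingleton_or_nontrivial (ι → F) with h | h
      · exact fun v => congrArg Q (Subsingleton.elim _ _)
      have h6 : (c : F) = 1 := hG.eq_of_sim (g := glRep (g⁻¹ * x * g)) (fun u v => by
        simp only [polarBilin_apply_apply, polar, ← map_add, h3]
        ring) (by simpa only [map_mul] using ((h4.mul hx).mul (mem_isoGL.1 h1)).simB)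
      simpa [h6] using h3
    refine ⟨Q.comp (glRep g⁻¹), LinearMap.ext₂ fun u v => ?_, ⟨plusQ_of_equiv (glEquiv F ι g⁻¹)
      fun _ => rfl, plusQ_of_equiv (glEquiv F ι g⁻¹).symm fun v => ?_⟩, isoQ_iff.2 fun v => ?_⟩
    · rw [← h4.mapB, polarBilin_comp]
      rfl
    · exact congrArg Q ((glEquiv F ι g⁻¹).apply_symm_apply v)
    · simpa [key] using h5 (glRep g⁻¹ v)
  · rintro ⟨P, h1, h3, h4⟩
    obtain ⟨e, he⟩ := exists_equiv_of_plus_iff hG (hG.of_polar h1)
      (finrank_top F (ι → F) ▸ hG.even_of_two h2 hG.nd_top) rfl h3.symm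
    obtain ⟨g, rfl⟩ := (glEquiv F ι).surjective e
    replace he : ∀ v, P (glRep g v) = Q v := he
    refine ⟨g, mem_isoGL.2 ⟨fun u v => ?_, fun _ => rfl⟩, 1, fun v => ?_⟩
    · conv_lhs => rw [← h1]
      simp only [polarBilin_apply_apply, polar, ← map_add, he]
    · show Q (glRep (g⁻¹ * x * g) v) = _
      rw [← he, map_mul, map_mul, End.mul_apply, End.mul_apply, key, isoQ_iff.1 h4, he]
      simp

end Cfsg.Agent.Cl.Der
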