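import Mathlib
import Cfsg.Agent.Cl.DerSL3
import Cfsg.Agent.Cl.MaxSubfield
import Cfsg.Agent.Cl.ClassSpOSS

/-! Elements of prime order of `PSL_n(q)` and subfield subgroups. -/

set_option autoImplicit false
set_option linter.unusedSectionVars false

namespace Cfsg.Agent.Cl.Der

open Polynomial Module Cfsg.Agent.Cl.Cls

section Arith

theorem pow_sub_one_eq (x k : ℕ) (hx : 0 < x) :
    x ^ k - 1 = (x - 1) * ∑ i ∈ Finset.range k, x ^ i := by
  obtain ⟨x, rfl⟩ := Nat.exists_eq_add_one.2 hx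
  rw [← geom_sum_mul_add, Nat.add_sub_cancel, Nat.add_sub_cancel, mul_comm]

variable {r : ℕ} [hr : Fact r.Prime]

theorem dvd_of_dvd_geom {x k : ℕ} (hx : (x : ZMod r) = 1) (h : r ∣ ∑ i ∈ Finset.range k, x ^ i) :
    r ∣ k := by
  rw [← ZMod.natCast_eq_zero_iff] at h ⊢
  simpa [hx] using h

theorem orderOf_eq_mul {a : ZMod r} (ha : a ≠ 0) {j k : ℕ} (hk : k.Prime) (h1 : (a ^ j) ^ k = 1)
    (h2 : a ^ j ≠ 1) : orderOf a = orderOf (a ^ k) * k := by
  rw [← pow_mul, ← orderOf_dvd_iff_pow_eq_one] at h1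
  have h3 : k ∣ orderOf a := by_contra fun h => h2 (orderOf_dvd_iff_pow_eq_one.1
    (((Nat.Prime.coprime_iff_not_dvd hk).2 h).symm.dvd_of_dvd_mul_right h1))
  rw [orderOf_pow_of_dvd hk.ne_zero h3, Nat.div_mul_cancel h3]

theorem padicValNat_sq_sub_one' (h2 : r ≠ 2) {q : ℕ} (hq : 1 < q) (h : r ∣ q + 1) :
    padicValNat r (q ^ 2 - 1) = padicValNat r (q + 1) := by
  have h1 : ¬ r ∣ q - 1 := fun h1 => h2 ((Nat.prime_dvd_prime_iff_eq hr.1 Nat.prime_two).1
    ((Nat.dvd_add_right h1).1 (by rwa [show q - 1 + 2 = q + 1 by omega])))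
  rw [show q ^ 2 - 1 = (q + 1) * (q - 1) by simpa using Nat.sq_sub_sq q 1,
    padicValNat.mul (by omega) (by omega), padicValNat.eq_zero_of_not_dvd h1, add_zero]

end Arith

section Lin

variable {F V : Type*} [Field F] [AddCommGroup V] [Module F V] [FiniteDimensional F V]
  {f : End F V}

theorem isSquare_det_of_commute {N c : End F V} (hN : LinearMap.ker N = LinearMap.range N)
    (h : Commute N c) : IsSquare (LinearMap.det c) := by
  have h0 : ∀ v, N (c v) = c (N v) := LinearMap.congr_fun h.eq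
  have h1 : LinearMap.ker N ≤ (LinearMap.ker N).comap c := fun v hv => by
    rw [Submodule.mem_comap, LinearMap.mem_ker, h0, LinearMap.mem_ker.1 hv, map_zero]
  refine ⟨LinearMap.det (c.restrict h1), ?_⟩
  rw [LinearMap.det_eq_det_mul_det _ c h1]
  refine congrArg _ (Sim.det_eq ⟨N.quotKerEquivRange.trans (LinearEquiv.ofEq _ _ hN.symm), ?_⟩)
  exact fun v => Submodule.Quotient.induction_on _ v fun v => Subtype.ext (by simpa using h0 v)

theorem evs_of_ed_eq_dg (K : Type*) [Field K] [Algebra F K] {t : Multiset F} (h : ed f = dg t) :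
    evs K f = t.map (algebraMap F K) := by
  rw [evs, charpoly_eq_prod_ed, h, dg, aroots_def, Polynomial.map_multiset_prod, Multiset.map_map]
  refine Eq.trans ?_ (roots_multiset_prod_X_sub_C _)
  simp

theorem exists_mul_sq [Fintype F] (h2 : (2 : F) ≠ 0) {a t : F} (ha : ¬ IsSquare a)
    (ht : ¬ IsSquare t) : ∃ b, b ^ 2 * t = a := by
  classical
  have h0 : t ≠ 0 := fun h => ht (h ▸ IsSquare.zero)
  obtain ⟨b, hb⟩ := (quadraticChar_one_iff_isSquare (a := a * t) (mul_ne_zero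
    (fun h => ha (h ▸ IsSquare.zero)) h0)).1 (by
      rw [map_mul, quadraticChar_neg_one_iff_not_isSquare.2 ha,
        quadraticChar_neg_one_iff_not_isSquare.2 ht]
      rfl)
  exact ⟨b / t, by field_simp; linear_combination -hb⟩

end Lin

variable {F : Type*} [Field F] {ι : Type} [Fintype ι] [DecidableEq ι] {F₀ : Subfield F}
  {f : End F (ι → F)}

/-- `f` is similar to a matrix over `F₀`. -/
def RatE (F₀ : Subfield F) (f : End F (ι → F)) : Prop :=
  ∃ Y : Matrix ι ι F₀, Sim (Matrix.toLin' (Y.map F₀.subtype)) f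

theorem mem_subfield_iff {x : GL ι F} : x ∈ Cfsg.Geo.subfieldSubgroup F₀ 1 ↔
    ∃ c : F, c ≠ 0 ∧ ∃ Y : Matrix ι ι F₀, c • (x : Matrix ι ι F) = Y.map F₀.subtype := by
  simp only [Max.mem_subfieldSubgroup_iff, Max.rat_iff, Max.cj_one]

theorem scalars_le_subfield : Cfsg.Geo.scalars ι F ≤ Cfsg.Geo.subfieldSubgroup F₀ 1 := fun x hx => by
  obtain ⟨c, hc⟩ := (Cfsg.Geo.mem_scalars_iff x).1 hx
  exact mem_subfield_iff.2 ⟨c⁻¹, by simp, 1, by simp [hc, smul_smul]⟩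

theorem RatE.fixG (h : RatE F₀ f) (hf : IsUnit f) : FixG (Cfsg.Geo.subfieldSubgroup F₀ 1) f := by
  obtain ⟨Y, h⟩ := h
  refine fixG_of_ed_eq ((isUnit_iff_ed _).2 (h.ed_eq ▸ (isUnit_iff_ed f).1 hf))
    (fun y hy => mem_subfield_iff.2 ⟨1, one_ne_zero, Y, ?_⟩) h.ed_eq
  rw [one_smul, Matrix.toLin'.injective hy]

theorem FixG.exists_rat (h : FixG (Cfsg.Geo.subfieldSubgroup F₀ 1) f) :
    ∃ c : F, c ≠ 0 ∧ RatE F₀ (c • f) := by
  obtain ⟨y, h1, h⟩ := h
  obtain ⟨c, hc, Y, hY⟩ := mem_subfield_iff.1 h1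
  exact ⟨c, hc, Y, by rw [← hY, map_smul]; exact sim_smul h c⟩

theorem map_smul_subtype (c : F₀) (Y : Matrix ι ι F₀) :
    (c • Y).map F₀.subtype = (c : F) • Y.map F₀.subtype := rfl

theorem RatE.smul (h : RatE F₀ f) {c : F} (hc : c ∈ F₀) : RatE F₀ (c • f) := by
  obtain ⟨Y, h⟩ := h
  exact ⟨(⟨c, hc⟩ : F₀) • Y, by rw [map_smul_subtype, map_smul]; exact sim_smul h c⟩

theorem mem_of_map_pow [Nonempty ι] {Y : Matrix ι ι F₀} {k : ℕ} {z : F}
    (h : Y.map F₀.subtype ^ k = z • 1) : z ∈ F₀ := by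
  obtain ⟨i⟩ := ‹Nonempty ι›
  have h1 := congrFun₂ ((Matrix.map_pow Y F₀.subtype k).trans h) i i
  simp only [Matrix.map_apply, Matrix.smul_apply, Matrix.one_apply_eq, smul_eq_mul, mul_one] at h1
  exact h1 ▸ ((Y ^ k) i i).2

theorem RatE.mem_of_pow [Nonempty ι] (h : RatE F₀ f) {k : ℕ} {z : F} (hz : f ^ k = z • 1) :
    z ∈ F₀ := by
  obtain ⟨Y, h⟩ := h
  exact mem_of_map_pow (toLin'_pow_eq_smul.1 (sim_pow_eq h.symm hz))

theorem mult_toLin'_add (A : Matrix ι ι F) (a : F) :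
    mult (Matrix.toLin' A) a + (A - a • 1).rank = Fintype.card ι := by
  rw [mult_eq_nul, ← aeval_X_sub_C', nul_toLin'_add_rank]

theorem RatE.mult_eq (h : RatE F₀ f) {φ : F →+* F} (hφ : ∀ a ∈ F₀, φ a = a) (a : F) :
    mult f (φ a) = mult f a := by
  obtain ⟨Y, h⟩ := h
  have h1 := mult_toLin'_add (Y.map F₀.subtype) a
  have h2 := mult_toLin'_add (Y.map F₀.subtype) (φ a)
  rw [← rank_map φ, show (Y.map F₀.subtype - a • 1).map φ = Y.map F₀.subtype - φ a • 1 from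
    Matrix.ext fun i j => by by_cases e : i = j <;> simp [e, hφ]] at h1
  rw [← sim_mult h, ← sim_mult h]
  omega

theorem edM_map_jt {Y : Matrix ι ι F₀} {s : Multiset ℕ} (h : edM Y = jt 1 s) :
    edM (Y.map F₀.subtype) = jt 1 s := by
  obtain ⟨A, hA⟩ := exists_edM_eq_jt_of_sum (n := ι) (1 : F) (fun _ => pos_of_edM_eq_jt h)
    (sum_eq_of_edM_eq_jt h)
  refine edM_eq_jt_of_rank rfl hA fun k => ?_
  have h1 := rank_pow_of_edM_eq_jt h k
  rw [← map_pow, ← rank_aeval_map_map F₀.subtype Y, Polynomial.map_pow,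
    Polynomial.map_sub, map_X, map_C, map_one F₀.subtype, map_pow] at h1
  exact Nat.add_right_cancel (h1.trans (rank_pow_of_edM_eq_jt hA k).symm)

theorem ratE_of_unip {p : ℕ} [Fact p.Prime] [CharP F p] [Fintype F] (h : f ^ p = 1) :
    RatE F₀ f := by
  obtain ⟨s, h1, h2⟩ := exists_ed_eq_unip h
  obtain ⟨Y, hY⟩ := exists_edM_eq_jt_of_sum (n := ι) (1 : F₀) (fun a ha => (h1 a ha).1)
    (by rw [← degs_of_ed_eq_map h2, sum_degs, finrank_fintype_fun_eq_card])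
  exact ⟨Y, sim_iff_ed_eq.2 ((edM_map_jt hY).trans h2.symm)⟩

theorem exists_mem_subfield_det [Nonempty ι] {t : F₀} (ht : t ≠ 0) :
    ∃ k ∈ Cfsg.Geo.subfieldSubgroup F₀ (1 : GL ι F), LinearMap.det (glRep k) = t := by
  obtain ⟨k, hk⟩ := Matrix.GeneralLinearGroup.det_surjective (n := ι) (Units.mk0 t ht)
  refine ⟨Matrix.GeneralLinearGroup.map F₀.subtype k, mem_subfield_iff.2
    ⟨1, one_ne_zero, k, one_smul _ _⟩, ?_⟩
  rw [det_glRep, show t = (k : Matrix ι ι F₀).det from (congrArg Units.val hk).symm]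
  exact (F₀.subtype.map_det _).symm

variable [Fintype F] [Fintype F₀]

theorem mem_iff_pow_card {a : F} : a ∈ F₀ ↔ a ^ Fintype.card F₀ = a :=
  ⟨fun h => congrArg Subtype.val (FiniteField.pow_card (⟨a, h⟩ : F₀)), fun h => by
    obtain ⟨b, rfl⟩ := spec_mem_range_of_pow_card h
    exact b.2⟩

variable (F₀) in
theorem exists_frob : ∃ φ : F →+* F, ∀ a, φ a = a ^ Fintype.card F₀ :=
  ⟨(FiniteField.frobeniusAlgHom F₀ F).toRingHom, fun _ => rfl⟩

theorem ratE_of_evs {N : ℕ} (hN : (N : F) ≠ 0) (h : f ^ N = 1)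
    (h1 : (evs (AlgebraicClosure F) f).map (· ^ Fintype.card F₀) = evs (AlgebraicClosure F) f) :
    RatE F₀ f := by
  obtain ⟨A, rfl⟩ := Matrix.toLin'.surjective f
  rw [← evM_eq_evs] at h1
  rw [toLin'_pow_eq_one] at h
  obtain ⟨Y, h2, h3⟩ := exists_isSS_evM (F := F₀) (n := ι) h1 (card_evM A)
  have h4 := isSS_of_pow_eq_one hN h
  have h5 : Y ^ N = 1 := (h2.pow_eq_one_iff N).2 (h3 ▸ (h4.pow_eq_one_iff N).1 h)
  refine ⟨Y, isConj_iff_sim.1 (((isSS_of_pow_eq_one hN ?_).isConj_iff_evM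
    (K := AlgebraicClosure F) h4).2 ?_)⟩
  · rw [← Matrix.map_pow, h5]
    simp
  · rw [← h3, evM, Matrix.charpoly_map]
    exact aroots_map _ F _

theorem ratE_of_charpoly {N : ℕ} (hN : (N : F) ≠ 0) (h : f ^ N = 1)
    (h1 : (f ^ Fintype.card F₀).charpoly = f.charpoly) : RatE F₀ f :=
  ratE_of_evs hN h (by rw [← evs_pow, evs, h1, evs])

variable {r : ℕ} [hr : Fact r.Prime] {p : ℕ} [hp : Fact p.Prime] [CharP F p]

theorem RatE.dvd (h : RatE F₀ f) (hrp : r ≠ p) (hf : f ^ r = 1) :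
    orderOf ((Fintype.card F₀ : ℕ) : ZMod r) ∣ Fintype.card ι - finrank F (fixS f) := by
  by_cases h0 : orderOf ((Fintype.card F₀ : ℕ) : ZMod r) = 1
  · rw [h0]
    exact one_dvd _
  obtain ⟨Y, h⟩ := h
  have h1 : Y ^ r = 1 := Max.map_subtype_injective ((Matrix.map_pow Y F₀.subtype r).trans
    ((toLin'_pow_eq_one.1 (sim_pow_eq_one h.symm hf)).trans (Matrix.map_one _ (map_zero _)
      (map_one _)).symm))
  rw [← toLin'_pow_eq_one] at h1
  obtain ⟨k, s, h2⟩ := exists_degs_eq_oneA hrp h1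
  have h3 := finrank_ker_of_degs_eq_oneA hrp h1 h0 h2
  have h4 := sum_degs (Matrix.toLin' Y)
  have h5 := mult_toLin'_add Y 1
  have h6 := mult_toLin'_add (Y.map F₀.subtype) 1
  rw [← rank_map F₀.subtype, Matrix.map_sub _ (map_sub _), mult_one, fixS, h3] at h5
  rw [sim_mult h, mult_one] at h6
  rw [h2, sum_oneA, finrank_fintype_fun_eq_card] at h4
  simp only [one_smul, Matrix.map_one _ (map_zero _) (map_one F₀.subtype)] at h5 h6
  exact ⟨s, by rw [mul_comm]; omega⟩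

theorem exists_geom_of_dvd (hrp : r ≠ p) {k : ℕ} (hk : Fintype.card F = Fintype.card F₀ ^ k)
    (h : r ∣ (Cfsg.Geo.subfieldSubgroup F₀ 1).relIndex (Cfsg.Geo.specialLinear ι F)) :
    ∃ j, 2 ≤ j ∧ j ≤ Fintype.card ι ∧ r ∣ ∑ i ∈ Finset.range k, (Fintype.card F₀ ^ j) ^ i := by
  let ψ : Matrix.SpecialLinearGroup ι F₀ →* GL ι F :=
    Matrix.SpecialLinearGroup.toGL.comp (Matrix.SpecialLinearGroup.map F₀.subtype)
  have h1 : Function.Injective ψ := fun a b h =>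
    Subtype.ext (Max.map_subtype_injective (congrArg Units.val h))
  have h2 := relIndex_mul_card_dvd (K := ψ.range) (H := Cfsg.Geo.subfieldSubgroup F₀ 1)
    (S := Cfsg.Geo.specialLinear ι F)
    (by rintro _ ⟨y, rfl⟩; exact mem_subfield_iff.2 ⟨1, one_ne_zero, y, one_smul _ _⟩)
    (by rintro _ ⟨y, rfl⟩; exact toGL_mem _)
  rw [← Nat.card_congr (MonoidHom.ofInjective h1).toEquiv, card_specialLinear, card_sl, card_sl,
    Nat.card_eq_fintype_card, Nat.card_eq_fintype_card, Finset.prod_congr rfl fun i _ =>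
      show Fintype.card F ^ (i + 2) - 1 = _ by
        rw [hk, ← pow_mul, mul_comm, pow_mul, pow_sub_one_eq _ _ (pow_pos Fintype.card_pos _)],
    Finset.prod_mul_distrib] at h2
  obtain ⟨j, h3, h4⟩ := (prime_dvd_prod_iff _ _).1 (dvd_of_index (mt dvd_card_iff.1 hrp)
    (Finset.prod_pos fun i _ => Nat.sub_pos_of_lt (Nat.one_lt_pow (by omega) Fintype.one_lt_card))
    h h2)
  exact ⟨j + 2, by omega, by have := Finset.mem_range.1 h3; omega, h4⟩

theorem pow_card_pow_of_neg {s : F} (h : s ^ Fintype.card F₀ = -s) (j : ℕ) :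
    s ^ Fintype.card F₀ ^ j = (-1) ^ j * s := by
  obtain ⟨φ, hφ⟩ := exists_frob F₀
  induction j with
  | zero => simp
  | succ j ih => rw [pow_succ, pow_mul, ih, ← hφ, map_mul, hφ s, h]; simp [pow_succ]

theorem isSquare_of_mem (hp2 : p ≠ 2) (hk : Fintype.card F = Fintype.card F₀ ^ 2) {a : F}
    (ha : a ∈ F₀) : IsSquare a := by
  obtain ⟨σ, hσ⟩ := exists_uField hk
  obtain ⟨b, rfl⟩ := hσ.exists_norm_eq (a := a) (by rw [hσ.pow, mem_iff_pow_card.1 ha])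
  obtain ⟨k, h⟩ : Even (Fintype.card F₀ + 1) := (Nat.odd_iff.2
    (FiniteField.odd_card_of_char_ne_two (ringChar_ne_two (two_ne_zero_of_ne hp2)))).add_one
  exact ⟨b ^ k, by rw [hσ.norm_eq_pow, h, pow_add]⟩

theorem exists_not_isSquare (hp2 : p ≠ 2) {k : ℕ} (hk : Fintype.card F = Fintype.card F₀ ^ k)
    (h : Odd k) : ∃ t : F₀, ¬ IsSquare (t : F) := by
  obtain ⟨t, ht⟩ := FiniteField.exists_nonsquare (F := F₀) (ringChar_ne_two (two_ne_zero_of_ne hp2))
  refine ⟨t, fun ⟨s, hs⟩ => ht ?_⟩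
  have h1 : s ^ Fintype.card F₀ * s ^ Fintype.card F₀ = s * s := by
    rw [← mul_pow, ← hs, mem_iff_pow_card.1 t.2]
  rcases mul_self_eq_mul_self_iff.1 h1 with h1 | h1
  · exact ⟨⟨s, mem_iff_pow_card.2 h1⟩, Subtype.ext hs⟩
  · have h2 := pow_card_pow_of_neg h1 k
    rw [← hk, FiniteField.pow_card, h.neg_one_pow] at h2
    have h3 : s = 0 := (mul_eq_zero.1 (show 2 * s = 0 by linear_combination h2)).resolve_left
      (two_ne_zero_of_ne hp2)
    exact ⟨0, Subtype.ext (by simpa [h3] using hs)⟩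

theorem allP_sub_two_iff [Nonempty ι] {k : ℕ} (hk' : k.Prime)
    (hk : Fintype.card F = Fintype.card F₀ ^ k)
    (h : 2 ∣ (Cfsg.Geo.subfieldSubgroup F₀ 1).relIndex (Cfsg.Geo.specialLinear ι F)) :
    AllP 2 (FixG (Cfsg.Geo.subfieldSubgroup F₀ (1 : GL ι F))) ↔ (Odd (Fintype.card F) →
      k = 2 ∧ padicValNat 2 (Fintype.card ι) ≤ padicValNat 2 (Fintype.card F - 1)) := by
  obtain ⟨p, hp⟩ := CharP.exists F
  have : Fact p.Prime := ⟨CharP.char_is_prime F p⟩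
  by_cases h2 : 2 = p
  · subst h2
    refine iff_of_true (fun f h1 ⟨z, h2⟩ _ => ?_) fun h => absurd rfl (ne_two_of_odd_card h)
    obtain ⟨c, h3, h4⟩ := pow_cases_char f (isUnit_of_det_eq_one h1) h2
    exact smul_inv_smul'' h3 f ▸ FixG.smul scalars_le_subfield _ c h3
      ((ratE_of_unip h4).fixG (isUnit_of_pow_eq_one two_ne_zero h4))
  have h3 : Fintype.card F₀ % 2 = 1 :=
    FiniteField.odd_card_of_char_ne_two (ringChar_ne_two (two_ne_zero_of_ne (Ne.symm h2)))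
  obtain rfl : k = 2 := by
    obtain ⟨j, -, -, h4⟩ := exists_geom_of_dvd h2 hk h
    exact ((Nat.prime_dvd_prime_iff_eq Nat.prime_two hk').1 (dvd_of_dvd_geom (by
      rw [Nat.cast_pow, ZMod.natCast_eq_one_iff_odd.2 (Nat.odd_iff.2 h3), one_pow]) h4)).symm
  obtain ⟨m, hm⟩ := Nat.odd_iff.2 h3
  have h4 : Fintype.card F = 4 * (m * m + m) + 1 := by rw [hk, hm]; ring
  rw [AllP, lin_forall_iff two_ne_zero (FixG.smul scalars_le_subfield), and_iff_right
    fun f h1 _ _ => (ratE_of_charpoly (by simpa using two_ne_zero_of_ne (Ne.symm h2)) h1 (by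
      rw [hm, pow_succ, pow_mul, h1, one_pow, one_mul])).fixG (isUnit_of_pow_eq_one two_ne_zero h1)]
  refine Iff.trans (b := ¬ ∃ (f : End F (ι → F)) (z : F), LinearMap.det f = 1 ∧ f ^ 2 = z • 1 ∧
    ∀ c, c ^ 2 ≠ z) ⟨fun H ⟨f, z, h5, h6, h7⟩ => ?_,
      fun H f z h5 h6 h7 => absurd ⟨f, z, h5, h6, h7⟩ H⟩ ?_
  · obtain ⟨c, h8, h9⟩ := (H f z h5 h6 h7).exists_rat
    obtain ⟨b, hb⟩ := isSquare_of_mem (Ne.symm h2) hk (h9.mem_of_pow (k := 2) (z := c ^ 2 * z)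
      (by rw [_root_.smul_pow, h6, smul_smul]))
    exact h7 (b / c) (by field_simp; linear_combination -hb)
  · have h5 : 2 ∣ Fintype.card F - 1 := by omega
    have h6 : Fintype.card F % 4 = 1 := by omega
    have h7 : Odd (Fintype.card F) := by rw [Nat.odd_iff]; omega
    rw [exists_nonpow_end_iff]
    simp [h5, h6, h7]

theorem allP_sub_iff (hn : 2 ≤ Fintype.card ι) {k : ℕ} (hk' : k.Prime)
    (hk : Fintype.card F = Fintype.card F₀ ^ k) (h2 : r ≠ 2) (hrp : r ≠ p)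
    (h6 : ¬ (Fintype.card ι = 6 ∧ r = 3)) (hg : r = k → r ∣ Fintype.card F₀ - 1 →
      padicValNat r (Fintype.card ι) ≤ padicValNat r (Fintype.card F - 1))
    (h : r ∣ (Cfsg.Geo.subfieldSubgroup F₀ 1).relIndex (Cfsg.Geo.specialLinear ι F)) :
    AllP r (FixG (Cfsg.Geo.subfieldSubgroup F₀ (1 : GL ι F))) ↔ (r = k ∨ (k = 2 ∧
      r = Fintype.card ι ∧ (Fintype.card ι = 3 ∨ Fintype.card ι = 5) ∧
        padicValNat r (Fintype.card F₀ + 1) = 1)) := by
  classical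
  have : Nonempty ι := Fintype.card_pos_iff.1 (by omega)
  have hF := natCast_ne_zero_of_ne (F := F) hrp
  have hs := FixG.smul (scalars_le_subfield (F₀ := F₀) (ι := ι))
  have h0 := natCast_ne_zero_of_card (F := F₀) hrp
  have hV := finrank_fintype_fun_eq_card F (η := ι)
  by_cases hrk : r = k
  · subst hrk
    have h1 : ((Fintype.card F : ℕ) : ZMod r) = Fintype.card F₀ := by
      rw [hk, Nat.cast_pow, ZMod.pow_card]
    refine iff_of_true ((lin_forall_iff hr.1.ne_zero hs).2 ⟨fun f h3 _ _ => ?_,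
      fun f z h3 h4 h5 => ?_⟩) (Or.inl rfl)
    · refine (ratE_of_charpoly hF h3 ?_).fixG (isUnit_of_pow_eq_one hr.1.ne_zero h3)
      rw [← SpO.charpoly_pow_card_pow f 1, pow_one, pow_eq_pow_mod _ h3,
        ← (ZMod.natCast_eq_natCast_iff' _ _ _).1 h1, ← pow_eq_pow_mod _ h3]
    · obtain ⟨h7, h8⟩ := exists_nonpow_end_iff.1 ⟨f, z, h3, h4, h5⟩
      refine absurd ⟨hV ▸ hg rfl ?_, fun h => absurd h h2⟩ h8
      rwa [dvd_sub_one_iff Fintype.card_pos, ← h1, ← dvd_sub_one_iff Fintype.card_pos]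
  rw [or_iff_right hrk]
  refine ⟨fun H => ?_, ?_⟩
  swap
  · rintro ⟨rfl, h3, h4, h5⟩
    obtain ⟨m, hm⟩ : r ∣ Fintype.card F₀ + 1 := dvd_of_lt_padicValNat (a := 0) (by omega)
    refine allP_of_symm hs (by omega) (hV.trans h3.symm) (by
      rw [hk, padicValNat_sq_sub_one' h2 Fintype.one_lt_card ⟨m, hm⟩, h5]) fun f t t1 t2 t3 => ?_
    have h7 : f ^ r = 1 := (pow_of_ed_eq_dg t1 t2).trans (one_smul F _)
    refine (ratE_of_evs hF h7 ?_).fixG (isUnit_of_pow_eq_one hr.1.ne_zero h7)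
    rw [evs_of_ed_eq_dg _ t1]
    conv_rhs => rw [← t3]
    rw [Multiset.map_map, Multiset.map_map]
    refine Multiset.map_congr rfl fun a ha => ?_
    rw [Function.comp, Function.comp, ← map_pow, eq_inv_of_mul_eq_one_left
      (a := a ^ Fintype.card F₀) (b := a) (by rw [← pow_succ, hm, pow_mul, t2 a ha, one_pow])]
  obtain ⟨j, j1, j2, j3⟩ := exists_geom_of_dvd hrp hk h
  have j4 : ((Fintype.card F₀ : ℕ) : ZMod r) ^ j ≠ 1 := fun h => hrk
    ((Nat.prime_dvd_prime_iff_eq hr.1 hk').1 (dvd_of_dvd_geom (by rw [Nat.cast_pow, h]) j3))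
  have j5 : (((Fintype.card F₀ : ℕ) : ZMod r) ^ j) ^ k = 1 := by
    rw [← Nat.cast_pow, ← orderOf_dvd_iff_pow_eq_one,
      ← dvd_pow_sub_one_iff (pow_pos Fintype.card_pos _),
      pow_sub_one_eq _ _ (pow_pos Fintype.card_pos _)]
    exact j3.mul_left _
  have j6 := orderOf_eq_mul h0 hk' j5 j4
  rw [← Nat.cast_pow, ← hk] at j6
  have j7 := hk'.two_le
  obtain ⟨φ, hφ⟩ := exists_frob F₀
  have hφ' : ∀ a ∈ F₀, φ a = a := fun a ha => by rw [hφ, mem_iff_pow_card.1 ha]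
  by_cases hi : orderOf ((Fintype.card F : ℕ) : ZMod r) = 1
  swap
  · have hq := mt (dvd_sub_one_iff Fintype.card_pos).1 hi
    have h1 := orderOf_le_of_dvd hrp h
    obtain ⟨e, he⟩ := cycF_nonempty (F := F) (r := r)
    obtain ⟨f, f1, f2, f3⟩ := exists_block (V := ι → F) hrp (hV ▸ h1) he
    obtain ⟨c, h3, h4⟩ := (H.of_one (det_eq_one_of_not_dvd hq f1) f1
      (not_scalar_of_mem_degs (Multiset.mem_map_of_mem _ (f2 ▸ Multiset.mem_add.2
        (Or.inl (Multiset.mem_singleton_self e)))) (natDegree_of_mem_cycF hrp he ▸ hi))).exists_rat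
    have h5 := hφ' _ (h4.mem_of_pow (k := r) (by rw [_root_.smul_pow, f1]))
    have h7 : c ∈ F₀ := mem_iff_pow_card.2 (by
      rw [← hφ, ← div_eq_one_iff_eq h3]
      exact eq_one_of_not_dvd hq (by rw [div_pow, ← map_pow, h5, div_self (pow_ne_zero _ h3)]))
    have h8 := (inv_smul_smul' h3 f ▸ h4.smul (F₀.inv_mem h7)).dvd hrp f1
    have h9 := orderOf_pos_of_ne_zero (natCast_ne_zero_of_card (F := F) hrp)
    rw [j6, show Fintype.card ι - finrank F (fixS f) = orderOf ((Fintype.card F : ℕ) : ZMod r) * 1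
      by omega, Nat.mul_dvd_mul_iff_left h9] at h8
    exact absurd (Nat.le_of_dvd one_pos h8) (by omega)
  rw [hi, one_mul] at j6
  have hq := (dvd_sub_one_iff Fintype.card_pos).2 hi
  have key : ∀ {ω : F} {l : ℕ}, IsPrimitiveRoot ω r → ω ^ Fintype.card F₀ ^ l = ω → k ∣ l :=
    fun {ω l} hω h => by
      rw [← j6, ← dvd_pow_sub_one_iff Fintype.card_pos, ← hω.pow_eq_one_iff_dvd]
      refine mul_right_cancel₀ (hω.ne_zero hr.1.ne_zero) ?_
      rw [← pow_succ, Nat.sub_add_cancel (pow_pos Fintype.card_pos _), h, one_mul]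
  have hmul : ∀ {f : End F (ι → F)}, FixG (Cfsg.Geo.subfieldSubgroup F₀ 1) f →
      ∃ d : F, ∀ a, mult f (d * φ a) = mult f a := fun {f} h => by
    obtain ⟨c, h3, h4⟩ := h.exists_rat
    exact ⟨c⁻¹ * φ c, fun a => by
      rw [← mult_smul h3, ← mult_smul h3 f a, ← h4.mult_eq hφ' (c * a), map_mul, mul_assoc,
        mul_inv_cancel_left₀ h3]⟩
  rcases hn.eq_or_lt with hn | hn
  · obtain ⟨ω, hω⟩ := exists_primitiveRoot hq
    have h1 := hω.ne_zero hr.1.ne_zero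
    obtain ⟨f, hf⟩ := exists_ed_eq_dg (V := ι → F) (t := {ω, ω⁻¹}) (by simp [← hn])
    have h3 : ∀ a, 0 < mult f a ↔ a = ω ∨ a = ω⁻¹ := fun a => by
      rw [mult_of_ed_eq_dg hf, Multiset.count_pos]
      simp
    have h4 : ∀ {a b : F}, a ^ r = 1 → b ^ r = 1 → a ^ 2 = b ^ 2 → a = b := fun {a b} ha hb h => by
      obtain ⟨m, hm⟩ := hr.1.odd_of_ne_two h2
      have h5 : a ≠ 0 := ne_zero_pow hr.1.ne_zero (ha ▸ one_ne_zero)
      refine mul_left_cancel₀ (pow_ne_zero (2 * m) h5) ?_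
      rw [← pow_succ, ← hm, ha, pow_mul, h, ← pow_mul, ← pow_succ, ← hm, hb]
    have h5 : ω ≠ ω⁻¹ := fun h => hω.ne_one hr.1.one_lt
      (h4 hω.pow_eq_one (one_pow r) (by rw [sq, one_pow, (mul_eq_one_iff_eq_inv₀ h1).2 h]))
    obtain ⟨d, hd⟩ := hmul (H.of_one (by simp [det_of_ed_eq_dg hf, h1]) ((pow_of_ed_eq_dg hf (by
      simp [hω.pow_eq_one])).trans (one_smul F _)) fun z hz => h5 (by
        have h7 : ∀ a, 0 < mult f a → a = z := fun a ha => by
          simpa using pow_eq_of_mult_pos (k := 1) (by rw [pow_one, hz]) ha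
        rw [h7 _ ((h3 _).2 (Or.inr rfl)), h7 _ ((h3 _).2 (Or.inl rfl))]))
    have h7 : φ ω ^ r = 1 := by rw [← map_pow, hω.pow_eq_one, map_one]
    have h8 : φ ω ≠ 0 := (map_ne_zero φ).2 h1
    have h9 : φ ω = ω ∨ φ ω = ω⁻¹ := by
      have h9 : φ ω ^ 2 * (d * φ ω⁻¹) = d * φ ω := by
        rw [map_inv₀]
        field_simp
      have h10 : φ ω ^ 2 ≠ 1 := fun h => hω.ne_one hr.1.one_lt (φ.injective
        ((h4 h7 (one_pow r) (h.trans (one_pow 2).symm)).trans (map_one φ).symm))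
      rcases (h3 _).1 (hd ω ▸ (h3 ω).2 (Or.inl rfl)) with e | e <;>
        rcases (h3 _).1 (hd ω⁻¹ ▸ (h3 ω⁻¹).2 (Or.inr rfl)) with e' | e' <;> rw [e, e'] at h9
      · exact absurd (mul_right_cancel₀ h1 (h9.trans (one_mul _).symm)) h10
      · exact Or.inl (h4 h7 hω.pow_eq_one (by rw [sq ω, ← mul_inv_eq_iff_eq_mul₀ h1, h9]))
      · exact Or.inr (h4 h7 hω.inv.pow_eq_one (by rw [sq ω⁻¹, eq_mul_inv_iff_mul_eq₀ h1, h9]))
      · exact absurd (mul_right_cancel₀ (inv_ne_zero h1) (h9.trans (one_mul _).symm)) h10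
    refine absurd (orderOf_dvd_iff_pow_eq_one.1 ?_) j4
    rw [j6, show j = 2 by omega]
    refine key hω ?_
    rw [sq, pow_mul, ← hφ, ← hφ]
    rcases h9 with e | e
    · rw [e, e]
    · rw [e, map_inv₀, e, inv_inv]
  by_cases h35 : (r = 3 ∨ r = 5) ∧ finrank F (ι → F) = r ∧ padicValNat r (Fintype.card F - 1) = 1
  · obtain ⟨h3, h4, h5⟩ := h35
    have h7 := j6 ▸ orderOf_dvd_sub_one h0
    obtain rfl : k = 2 := (Nat.prime_dvd_prime_iff_eq hk' Nat.prime_two).1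
      (hk'.dvd_of_dvd_pow (n := 2) (by rcases h3 with rfl | rfl; exacts [h7.mul_left 2, h7]))
    refine ⟨rfl, by omega, by omega, ?_⟩
    rw [← padicValNat_sq_sub_one' h2 Fintype.one_lt_card ((dvd_add_one_iff h2 _).2 j6), ← hk, h5]
  obtain ⟨f, ω, f1, f2, f3, hω, f4, f5⟩ := exists_rigid h2 hq (hV ▸ hn) (hV ▸ h6) h35
  obtain ⟨d, hd⟩ := hmul (((lin_forall_iff hr.1.ne_zero hs).1 H).1 f f1 f2 f3)
  obtain rfl : d = 1 := by simpa using f4 _ (hd 1)
  exact absurd (Nat.le_of_dvd one_pos (key hω (by simpa [hφ] using f5 _ (hd ω)))) (by omega)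

theorem exists_not_conj (hp2 : p ≠ 2) {m : ℕ} (hm : 0 < m) (hn : Fintype.card ι = 2 * m)
    (hk : Fintype.card F = Fintype.card F₀ ^ 2) : ∃ x ∈ Cfsg.Geo.specialLinear ι F,
      glRep x ^ p = 1 ∧ (∀ z : F, glRep x ≠ z • 1) ∧ ∀ g ∈ Cfsg.Geo.specialLinear ι F,
        g⁻¹ * x * g ∉ Cfsg.Geo.subfieldSubgroup F₀ 1 := by
  have : Nonempty ι := Fintype.card_pos_iff.1 (by omega)
  obtain ⟨U, hU⟩ := exists_GL_edM_eq_jt (n := ι) (one_ne_zero (α := F₀))
    (s := Multiset.replicate m 2) (fun k hk => Multiset.eq_of_mem_replicate hk ▸ two_pos)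
    (by simp [hn, mul_comm])
  obtain ⟨d, hd⟩ := FiniteField.exists_nonsquare (F := F) (ringChar_ne_two (two_ne_zero_of_ne hp2))
  obtain ⟨g₀, h0⟩ := Matrix.GeneralLinearGroup.det_surjective (n := ι)
    (Units.mk0 d fun h => hd (h ▸ IsSquare.zero))
  let ψ : GL ι F₀ →* GL ι F := Matrix.GeneralLinearGroup.map F₀.subtype
  have h1 : ed (glRep (ψ U)) = jt 1 (Multiset.replicate m 2) := edM_map_jt hU
  have h2 : ed (glRep (g₀ * ψ U * g₀⁻¹)) = jt 1 (Multiset.replicate m 2) := by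
    simpa using (sim_glRep_conj g₀⁻¹ (ψ U)).ed_eq.trans h1
  have h3 := pow_char_eq_one_of_ed (p := p) h2 fun a ha =>
    Multiset.eq_of_mem_replicate ha ▸ hp.1.two_le
  refine ⟨_, mem_specialLinear_iff.2 (det_of_pow_char h3), h3, not_scalar_of_mem_degs (a := 2)
    (degs_of_ed_eq_map h2 ▸ Multiset.mem_replicate.2 ⟨hm.ne', rfl⟩) (by omega), fun g hg h => hd ?_⟩
  obtain ⟨c, h4, Y, h5⟩ := mem_subfield_iff.1 h
  have h6 : c ∈ F₀ := by
    have h6 := toLin'_pow_eq_one.1 (sim_pow_eq_one (sim_glRep_conj g _).symm h3)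
    have h7 := mem_iff_pow_card.1 (mem_of_map_pow (k := p) (z := c ^ p)
      (by rw [← h5, _root_.smul_pow, h6]))
    rw [← pow_mul, mul_comm, pow_mul] at h7
    exact mem_iff_pow_card.2 ((frobenius F p).injective h7)
  have h7 : ((⟨c⁻¹, F₀.inv_mem h6⟩ : F₀) • Y).map F₀.subtype =
      (g⁻¹ * (g₀ * ψ U * g₀⁻¹) * g : GL ι F) := by
    rw [map_smul_subtype, ← h5, smul_smul, inv_mul_cancel₀ h4, one_smul]
  obtain ⟨u, hu⟩ := isConj_iff_exists_unit.1 (isConj_of_isConj_map F₀.subtype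
    (A := (U : Matrix ι ι F₀)) (B := (⟨c⁻¹, F₀.inv_mem h6⟩ : F₀) • Y) (h7 ▸
    isConj_iff_edM_eq.2 (h1.trans ((sim_glRep_conj g _).ed_eq.trans h2).symm)))
  have h8 : ψ u * ψ U * (ψ u)⁻¹ = g⁻¹ * (g₀ * ψ U * g₀⁻¹) * g := Units.ext (by
    rw [← h7, ← hu, ← map_inv, ← map_mul, ← map_mul]
    rfl)
  have h9 : Commute (ψ U) ((ψ u)⁻¹ * g⁻¹ * g₀) := by
    have h9 : ψ U = (ψ u)⁻¹ * (g⁻¹ * (g₀ * ψ U * g₀⁻¹) * g) * ψ u := by rw [← h8]; group
    rw [Commute, SemiconjBy]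
    conv_lhs => rw [h9]
    group
  have h10 := finrank_fixS_of_ed (fun k hk => Multiset.eq_of_mem_replicate hk ▸ two_pos) h1
  have h11 := LinearMap.finrank_range_add_finrank_ker (glRep (ψ U) - 1)
  obtain ⟨b, hb⟩ := isSquare_det_of_commute (N := glRep (ψ U) - 1) (Submodule.eq_of_le_of_finrank_eq
    (LinearMap.range_le_ker_iff.2 (by
      rw [← End.mul_eq_comp, ← sq, ← aeval_X_sub_one_pow, aeval_eq_zero_iff_ed, h1]
      exact fun e he => by
        obtain ⟨k, hk, rfl⟩ := mem_jt.1 he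
        rw [Multiset.eq_of_mem_replicate hk])) (by
      rw [fixS, Multiset.card_replicate] at h10
      rw [finrank_fintype_fun_eq_card] at h11
      omega)).symm ((h9.map glRep).sub_left (Commute.one_left _))
  obtain ⟨a, ha⟩ := isSquare_of_mem hp2 hk (u : Matrix ι ι F₀).det.2
  refine ⟨a * b, ?_⟩
  have h12 : LinearMap.det (glRep (ψ u)) = a * a := by
    rw [← ha, det_glRep]
    exact (F₀.subtype.map_det _).symm
  have h13 : g₀ = g * ψ u * ((ψ u)⁻¹ * g⁻¹ * g₀) := by group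
  rw [show d = LinearMap.det (glRep g₀) from ((det_glRep _).trans (congrArg Units.val h0)).symm,
    h13, map_mul, map_mul, map_mul, map_mul, hb, h12, mem_specialLinear_iff.1 hg]
  ring

theorem exists_conj_three [Nonempty ι] [CharP F 3] {k : ℕ}
    (hk : Fintype.card F = Fintype.card F₀ ^ k) (h : Odd (Fintype.card ι) ∨ Odd k) {x : GL ι F}
    {z : F} (hz : glRep x ^ 3 = z • 1) : ∃ g ∈ Cfsg.Geo.specialLinear ι F,
      g⁻¹ * x * g ∈ Cfsg.Geo.subfieldSubgroup F₀ 1 := by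
  have : Fact (Nat.Prime 3) := ⟨Nat.prime_three⟩
  obtain ⟨c, h3, h4⟩ := pow_cases_char _ (isUnit_glRep x) hz
  have h1 : FixG (Cfsg.Geo.subfieldSubgroup F₀ 1) (glRep x) := smul_inv_smul'' h3 (glRep x) ▸
    FixG.smul scalars_le_subfield _ c h3 ((ratE_of_unip h4).fixG
      (isUnit_of_pow_eq_one three_ne_zero h4))
  obtain ⟨s, h5, h6⟩ := exists_ed_eq_unip h4
  by_cases h7 : ∃ a ∈ s, a = 1 ∨ a = 3
  · obtain ⟨a, h8, h9⟩ := h7
    exact conj_of_ds h1 (smul_inv_smul'' h3 (glRep x) ▸ (ds_of_mem_unip h6 h8 h9).smul c)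
  have h8 : s = Multiset.replicate (Multiset.card s) 2 := Multiset.eq_replicate_card.2 fun a ha => by
    have := h5 a ha
    have := mt (fun h => ⟨a, ha, h⟩) h7
    omega
  have h9 := sum_degs (c⁻¹ • glRep x)
  rw [degs_of_ed_eq_map h6, h8, finrank_fintype_fun_eq_card, Multiset.sum_replicate,
    smul_eq_mul] at h9
  have h10 := Fintype.card_pos (α := ι)
  obtain ⟨t, ht⟩ := exists_not_isSquare (p := 3) (by omega) hk (h.resolve_left (by
    rw [Nat.odd_iff]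
    omega))
  refine conj_of_fixG h1 fun a _ => ?_
  obtain ⟨b, u, h11, h12⟩ : ∃ (b : F) (u : F₀), u ≠ 0 ∧ b ^ 2 * u = a := by
    by_cases ha : IsSquare a
    · obtain ⟨b, rfl⟩ := ha
      exact ⟨b, 1, one_ne_zero, by simp [sq]⟩
    · obtain ⟨b, hb⟩ := exists_mul_sq (two_ne_zero_of_ne (p := 3) (by omega)) ha ht
      exact ⟨b, t, fun h => ht (by simp [h]), hb⟩
  obtain ⟨d, h13, h14⟩ := exists_commute_det_eq (f := c⁻¹ • glRep x) (k := 2) (monic_X_sub_C 1)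
    (irreducible_X_sub_C 1) (h6 ▸ Multiset.mem_map_of_mem _ (h8 ▸ Multiset.mem_replicate.2
      ⟨by omega, rfl⟩)) b
  obtain ⟨y, h15, h16⟩ := exists_mem_subfield_det (ι := ι) h11
  exact ⟨d, smul_inv_smul'' h3 (glRep x) ▸ h13.smul_left c, y, h15, by rw [h14, h16, h12]⟩

end Cfsg.Agent.Cl.Der
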