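import Mathlib
import Cfsg.Agent.Cl.DerSub
import Cfsg.Agent.Cl.DerSpO
import Cfsg.Agent.Cl.MxLin2

/-! Elements of prime order of `PSL_n(q)` and extension field subgroups. -/

set_option autoImplicit false
set_option linter.unusedSectionVars false

namespace Cfsg.Agent.Cl.Der

open Polynomial Module Cfsg.Agent.Cl.Cls

section Semi

variable {F L V : Type*} [Field F] [Field L] [Algebra F L] [AddCommGroup V] [Module F V]
  [Module L V] [IsScalarTower F L V] {f g : End F V} {σ τ : L ≃ₐ[F] L}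

/-- `f` is `σ`-semilinear over the extension field. -/
def SemiB (σ : L ≃ₐ[F] L) (f : End F V) : Prop := ∀ (l : L) v, f (l • v) = σ l • f v

variable (L) in
/-- `f` is similar to a semilinear map. -/
def FixL (f : End F V) : Prop := ∃ (σ : L ≃ₐ[F] L) (g : End F V), SemiB σ g ∧ Sim g f

variable (F V) in
/-- Multiplication by an element of the extension field. -/
abbrev lsm : L →ₐ[F] End F V := Algebra.lsmul F F V

theorem lsm_apply (l : L) (v : V) : lsm F V l v = l • v := rfl

theorem lsm_injective [Nontrivial V] : Function.Injective (lsm F V : L → End F V) :=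
  (lsm F V : L →ₐ[F] End F V).toRingHom.injective

theorem semiB_lsm (l : L) : SemiB (1 : L ≃ₐ[F] L) (lsm F V l) := fun _ _ => smul_comm _ _ _

theorem semiB_res (g : End L V) : SemiB (1 : L ≃ₐ[F] L) (g.restrictScalars F) := g.map_smul

theorem SemiB.exists_res (h : SemiB (1 : L ≃ₐ[F] L) f) : ∃ g : End L V, g.restrictScalars F = f :=
  ⟨⟨⟨f, f.map_add⟩, h⟩, rfl⟩

theorem SemiB.mul (h : SemiB σ f) (h' : SemiB τ g) : SemiB (σ * τ) (f * g) := fun l v => by
  rw [End.mul_apply, h', h]; rfl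

theorem SemiB.pow (h : SemiB σ f) (k : ℕ) : SemiB (σ ^ k) (f ^ k) := by
  induction k with
  | zero => exact fun _ _ => rfl
  | succ k ih => rw [pow_succ, pow_succ]; exact ih.mul h

theorem SemiB.smul (h : SemiB σ f) (c : F) : SemiB σ (c • f) := fun l v => by
  rw [LinearMap.smul_apply, h, smul_comm, LinearMap.smul_apply]

theorem SemiB.neg (h : SemiB σ f) : SemiB σ (-f) := neg_one_smul F f ▸ h.smul (-1)

theorem SemiB.eq_of_ne (h : SemiB σ f) (h' : SemiB τ f) (h0 : f ≠ 0) : σ = τ := by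
  obtain ⟨v, hv⟩ := DFunLike.ne_iff.1 h0
  exact AlgEquiv.ext fun l => smul_left_injective L hv ((h l v).symm.trans (h' l v))

theorem SemiB.pow_eq_one (h : SemiB σ f) {k : ℕ} {z : F} (hz : f ^ k = z • 1) (h0 : f ^ k ≠ 0) :
    σ ^ k = 1 := (h.pow k).eq_of_ne (fun l v => by
  rw [hz, LinearMap.smul_apply, LinearMap.smul_apply, smul_comm]; rfl) h0

theorem SemiB.fixL (h : SemiB σ f) : FixL L f := ⟨σ, f, h, .refl f⟩

theorem FixL.of_sim (h : FixL L f) (h' : Sim f g) : FixL L g :=
  let ⟨σ, k, h1, h2⟩ := h; ⟨σ, k, h1, h2.trans h'⟩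

theorem FixL.smul (f : End F V) (c : F) (_ : c ≠ 0) (h : FixL L f) : FixL L (c • f) :=
  let ⟨σ, k, h1, h2⟩ := h; ⟨σ, c • k, h1.smul c, h2.choose, fun v => by
    simp only [LinearMap.smul_apply, map_smul, h2.choose_spec]⟩

/-- An invariant subspace as a subspace over the extension field. -/
def toL (W : Submodule F V) (h : ∀ (l : L), ∀ v ∈ W, l • v ∈ W) : Submodule L V :=
  ⟨W.toAddSubmonoid, fun l v hv => h l v hv⟩

theorem finrank_restrictScalars' (W : Submodule L V) :
    finrank F (W.restrictScalars F) = finrank F L * finrank L W :=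
  (finrank_mul_finrank F L W).symm

theorem dvd_finrank_of_inv {W : Submodule F V} (h : ∀ (l : L), ∀ v ∈ W, l • v ∈ W) :
    finrank F L ∣ finrank F W := ⟨_, finrank_restrictScalars' (toL W h)⟩

theorem aeval_res (g : End L V) (P : F[X]) : aeval (g.restrictScalars F) P =
    (aeval g (P.map (algebraMap F L))).restrictScalars F := by
  induction P using Polynomial.induction_on' with
  | add p q hp hq => rw [Polynomial.map_add, map_add, map_add, hp, hq]; rfl
  | monomial n a =>
    have : ∀ n, (g.restrictScalars F : End F V) ^ n = (g ^ n).restrictScalars F := fun n => by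
      ext v; simp [End.pow_apply]
    ext v
    simp [aeval_monomial, this]

theorem res_pow (g : End L V) (n : ℕ) :
    (g.restrictScalars F : End F V) ^ n = (g ^ n).restrictScalars F := by
  ext v; simp [End.pow_apply]

theorem nul_res (g : End L V) (P : F[X]) :
    nul (g.restrictScalars F) P = finrank F L * nul g (P.map (algebraMap F L)) := by
  rw [nul, aeval_res, nul, ← finrank_restrictScalars']; rfl

theorem SemiB.dvd_nul (h : SemiB (1 : L ≃ₐ[F] L) f) (P : F[X]) : finrank F L ∣ nul f P := by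
  obtain ⟨g, rfl⟩ := h.exists_res
  exact ⟨_, nul_res g P⟩

/-- The semilinear maps fixing a basis. -/
noncomputable def semiHom {ι : Type*} [Finite ι] (b : Basis ι L V) : (L ≃ₐ[F] L) →* End F V where
  toFun σ := (b.equivFun.symm.restrictScalars F).toLinearMap ∘ₗ σ.toLinearMap.compLeft ι ∘ₗ
    (b.equivFun.restrictScalars F).toLinearMap
  map_one' := by ext v; exact b.equivFun.symm_apply_apply v
  map_mul' σ τ := by
    ext v
    exact congrArg (fun w => b.equivFun.symm (σ ∘ w)) (b.equivFun.apply_symm_apply _).symm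

theorem repr_semiHom {ι : Type*} [Finite ι] (b : Basis ι L V) (σ : L ≃ₐ[F] L) (v : V) (i : ι) :
    b.repr (semiHom b σ v) i = σ (b.repr v i) :=
  congrFun (b.equivFun.apply_symm_apply (σ ∘ b.equivFun v)) i

theorem semiB_semiHom {ι : Type*} [Finite ι] (b : Basis ι L V) (σ : L ≃ₐ[F] L) :
    SemiB σ (semiHom b σ) := fun l v => b.ext_elem fun i => by simp [repr_semiHom]

theorem semiHom_basis {ι : Type*} [Finite ι] (b : Basis ι L V) (σ : L ≃ₐ[F] L) (i : ι) :
    semiHom b σ (b i) = b i := b.ext_elem fun j => by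
  classical
  simp [repr_semiHom, Finsupp.single_apply, apply_ite σ]

variable [FiniteDimensional F V]

theorem mult_res [FiniteDimensional L V] (g : End L V) (c : F) :
    mult (g.restrictScalars F) c = finrank F L * mult g (algebraMap F L c) := by
  rw [mult_eq_nul, nul_res, mult_eq_nul]; simp

theorem SemiB.dvd_mult (h : SemiB (1 : L ≃ₐ[F] L) f) (c : F) : finrank F L ∣ mult f c :=
  mult_eq_nul f c ▸ h.dvd_nul _

theorem SemiB.two_mul_mult_le (h : SemiB σ f) (h1 : σ ≠ 1) {c : F} (hc : c ≠ 0) :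
    2 * mult f c ≤ finrank F V := by
  obtain ⟨l, hl⟩ := DFunLike.ne_iff.1 h1
  have h0 : l ≠ 0 := fun e => hl (by rw [e, map_zero, map_zero])
  have h2 : Function.Injective (lsm F V l) := smul_right_injective V h0
  have h3 : Disjoint (LinearMap.ker (f - c • 1)) ((LinearMap.ker (f - c • 1)).map (lsm F V l)) := by
    rw [Submodule.disjoint_def]
    rintro _ h4 ⟨v, h5, rfl⟩
    have h6 := mem_ker_sub.1 h4
    rw [lsm_apply, h, mem_ker_sub.1 h5, smul_comm c, ← sub_eq_zero, ← sub_smul, smul_eq_zero,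
      smul_eq_zero] at h6
    rw [(h6.resolve_left (sub_ne_zero.2 hl)).resolve_left hc, map_zero]
  have h4 := finrank_sup_of_disjoint h3
  rw [← (Submodule.equivMapOfInjective _ h2 _).finrank_eq] at h4
  rw [two_mul, mult, ← h4]
  exact Submodule.finrank_le _

theorem FixL.cases (h : FixL L f) {c : F} (hc : c ≠ 0) :
    (∀ P, finrank F L ∣ nul f P) ∨ 2 * mult f c ≤ finrank F V := by
  obtain ⟨σ, g, h1, h2⟩ := h
  by_cases h3 : σ = 1
  · exact Or.inl fun P => h2.nul_eq P ▸ (h3 ▸ h1).dvd_nul P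
  · exact Or.inr (sim_mult h2 c ▸ h1.two_mul_mult_le h3 hc)

theorem FixL.cases' (h : FixL L f) {c : F} (hc : c ≠ 0) :
    finrank F L ∣ mult f c ∨ 2 * mult f c ≤ finrank F V :=
  (h.cases hc).imp_left fun h => mult_eq_nul f c ▸ h _

variable [Fintype F] [Fintype L]

theorem pow_finrank_eq_one (σ : L ≃ₐ[F] L) : σ ^ finrank F L = 1 := by
  rw [← IsGalois.card_aut_eq_finrank, pow_card_eq_one']

theorem exists_ne_one (h : 1 < finrank F L) : ∃ σ : L ≃ₐ[F] L, σ ≠ 1 := by
  rw [← IsGalois.card_aut_eq_finrank, Finite.one_lt_card_iff_nontrivial] at h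
  exact exists_ne 1

theorem SemiB.eq_one_of_ne (h : SemiB σ f) (hk : (finrank F L).Prime) {r : ℕ} (hr : r.Prime)
    (hrk : r ≠ finrank F L) {z : F} (hz : f ^ r = z • 1) (h0 : f ^ r ≠ 0) : σ = 1 :=
  pow_eq_one_iff_of_coprime ((Nat.coprime_primes hr hk).2 hrk) |>.1
    ⟨h.pow_eq_one hz h0, pow_finrank_eq_one σ⟩

theorem exists_root {P : F[X]} (hP : Irreducible P) (h : P.natDegree ∣ finrank F L) :
    ∃ l : L, aeval l P = 0 := by
  have := Fact.mk hP
  have := (AdjoinRoot.powerBasis hP.ne_zero).finite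
  obtain ⟨φ⟩ := FiniteField.nonempty_algHom_of_finrank_dvd (F := F) (K := AdjoinRoot P) (L := L)
    (by rwa [(AdjoinRoot.powerBasis hP.ne_zero).finrank])
  exact ⟨φ (AdjoinRoot.root P), by rw [aeval_algHom_apply, AdjoinRoot.aeval_eq,
    AdjoinRoot.mk_self, map_zero]⟩

theorem exists_pow_eq_of_nonpow {r : ℕ} (hr : r.Prime) (h : r ∣ finrank F L) {z : F}
    (hz : ∀ c : F, c ^ r ≠ z) : ∃ l : L, l ^ r = algebraMap F L z := by
  obtain ⟨l, hl⟩ := exists_root (L := L) (X_pow_sub_C_irreducible_of_prime hr hz)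
    (by rwa [natDegree_X_pow_sub_C])
  exact ⟨l, by simpa [sub_eq_zero] using hl⟩

theorem lsm_pow_eq {l : L} {r : ℕ} {z : F} (h : l ^ r = algebraMap F L z) :
    lsm F V l ^ r = z • 1 := by
  rw [← map_pow, h, AlgHom.commutes, Algebra.algebraMap_eq_smul_one]

theorem fixL_of_nonpow {r : ℕ} [hr : Fact r.Prime] (h : r ∣ finrank F L) {z : F}
    (hz : ∀ c : F, c ^ r ≠ z) (hf : f ^ r = z • 1) : FixL L f := by
  obtain ⟨l, hl⟩ := exists_pow_eq_of_nonpow hr.out h hz
  exact ⟨1, _, semiB_lsm l, sim_iff_ed_eq.2 (ed_eq_of_nonpow hz (lsm_pow_eq hl) hf rfl)⟩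

variable (V) in
theorem exists_semi [Nontrivial V] (h : 1 < finrank F L) : ∃ (σ : L ≃ₐ[F] L) (g : End F V),
    SemiB σ g ∧ g ^ finrank F L = 1 ∧ (∀ c, c ≠ 0 → 2 * mult g c ≤ finrank F V) ∧
      ∀ z : F, g ≠ z • 1 := by
  have := Module.Finite.of_restrictScalars_finite F L V
  obtain ⟨σ, hσ⟩ := exists_ne_one h
  have h1 := semiB_semiHom (finBasis L V) σ
  have h2 : semiHom (finBasis L V) σ ^ finrank F L = 1 := by
    rw [← map_pow, pow_finrank_eq_one, map_one]
  have h3 := (isUnit_of_pow_eq_one (by omega) h2).ne_zero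
  exact ⟨σ, _, h1, h2, fun c => h1.two_mul_mult_le hσ, fun z hz => hσ (by
    simpa using h1.pow_eq_one (k := 1) (by simpa using hz) (by simpa using h3))⟩

end Semi

section Inv

variable {F V W : Type*} [Field F] [AddCommGroup V] [Module F V] [FiniteDimensional F V]
  [AddCommGroup W] [Module F W] [FiniteDimensional F W] {f : End F V} {g : End F W}

theorem mult_of_ed_unip {μ : Multiset ℕ} (h : ed f = μ.map fun a => (X - C (1 : F)) ^ a)
    (h0 : ∀ a ∈ μ, 0 < a) : mult f 1 = Multiset.card μ := by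
  classical
  rw [mult_eq_nul, nul_X_sub_C, h, Multiset.filter_eq_self.2, Multiset.card_map]
  intro e he
  obtain ⟨a, ha, rfl⟩ := Multiset.mem_map.1 he
  simp [(h0 a ha).ne']

theorem mult_pos_of_sq (h : f ^ 2 = 1) (h1 : f ≠ (-1 : F) • 1) : 0 < mult f 1 := by
  obtain ⟨v, hv⟩ := DFunLike.ne_iff.1 h1
  refine finrank_pos_iff_exists_ne_zero.2 ⟨⟨f v + v, mem_ker_sub.2 ?_⟩, fun e => hv ?_⟩
  · rw [map_add, apply_apply_of_sq_eq_one h, one_smul, add_comm]
  · simpa [← add_eq_zero_iff_eq_neg] using e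

theorem mult_add_mult_le {c d : F} (h : c ≠ d) : mult f c + mult f d ≤ finrank F V := by
  rw [mult, mult, ← finrank_sup_of_disjoint (Submodule.disjoint_def.2 fun v h1 h2 => by
    have h3 := (mem_ker_sub.1 h1).symm.trans (mem_ker_sub.1 h2)
    rw [← sub_eq_zero, ← sub_smul, smul_eq_zero] at h3
    exact h3.resolve_left (sub_ne_zero.2 h))]
  exact Submodule.finrank_le _

variable {r : ℕ} [hr : Fact r.Prime] [Fintype F] {p : ℕ} [hp : Fact p.Prime] [CharP F p]

include hp in
theorem ed_eq_of_sq (hf : f ^ 2 = 1) (hg : g ^ 2 = 1) (h : mult f 1 = mult g 1)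
    (hd : finrank F V = finrank F W) : ed f = ed g := by
  classical
  by_cases h2 : 2 = p
  · subst h2
    obtain ⟨μ, h1, h3⟩ := exists_ed_eq_unip (p := 2) hf
    obtain ⟨ν, g1, g3⟩ := exists_ed_eq_unip (p := 2) hg
    obtain ⟨k, l, rfl⟩ := eq_replicate_add_of_mem (s := μ) (a := 1) (b := 2) fun a ha => by
      have := h1 a ha
      omega
    obtain ⟨k', l', rfl⟩ := eq_replicate_add_of_mem (s := ν) (a := 1) (b := 2) fun a ha => by
      have := g1 a ha
      omega
    rw [mult_of_ed_unip h3 fun a ha => (h1 a ha).1, mult_of_ed_unip g3 fun a ha => (g1 a ha).1] at h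
    rw [← sum_degs f, ← sum_degs g, degs_of_ed_eq_map h3, degs_of_ed_eq_map g3] at hd
    simp only [Multiset.card_add, Multiset.card_replicate, Multiset.sum_add,
      Multiset.sum_replicate, smul_eq_mul] at h hd
    rw [h3, g3, show k = k' by omega, show l = l' by omega]
  · have h3 := two_ne_zero_of_ne (F := F) (Ne.symm h2)
    have h4 : (-1 : F) ≠ 1 := fun h => h3 (by linear_combination -h)
    obtain ⟨k, l, h5, h6, -⟩ := exists_ed_of_sq h2 hf
    obtain ⟨k', l', g5, g6, -⟩ := exists_ed_of_sq h2 hg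
    simp only [mult_of_ed_eq_dg h6, mult_of_ed_eq_dg g6, Multiset.count_add,
      Multiset.count_replicate, h4, if_true, if_false] at h
    rw [h6, g6, show k = k' by omega, show l = l' by omega]

variable (F V p) in
theorem exists_transv (h : 2 ≤ finrank F V) : ∃ f : End F V, LinearMap.det f = 1 ∧ f ^ p = 1 ∧
    (∀ z : F, f ≠ z • 1) ∧ mult f 1 + 1 = finrank F V := by
  have h1 : ∀ a ∈ 2 ::ₘ Multiset.replicate (finrank F V - 2) 1, 0 < a ∧ a ≤ p := fun a ha => by
    have := hp.out.two_le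
    rcases Multiset.mem_cons.1 ha with rfl | ha
    · omega
    · rw [Multiset.eq_of_mem_replicate ha]; omega
  obtain ⟨f, f1, f2, f3, f4⟩ := exists_unip_end F (V := V) h1 (by simp; omega)
    (Multiset.mem_cons_self _ _) (by omega)
  refine ⟨f, f1, f2, f3, ?_⟩
  rw [mult_of_ed_unip f4 fun a ha => (h1 a ha).1]
  simp
  omega

variable (V) in
theorem exists_homology (h : 2 ≤ finrank F V) {ω : F} (h1 : ω ^ r = 1) (h2 : ω ≠ 1) :
    ∃ f : End F V, LinearMap.det f = ω ∧ f ^ r = 1 ∧ (∀ z : F, f ≠ z • 1) ∧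
      mult f 1 + 1 = finrank F V := by
  classical
  have : Nontrivial V := Module.nontrivial_of_finrank_pos (R := F) (by omega)
  obtain ⟨f, hf⟩ := exists_ed_eq_dg (V := V) (t := ω ::ₘ
    Multiset.replicate (finrank F V - 1) 1) (by simp; omega)
  have h3 : mult f 1 + 1 = finrank F V := by rw [mult_of_ed_eq_dg hf]; simp [h2.symm]; omega
  refine ⟨f, by simp [det_of_ed_eq_dg hf], (pow_of_ed_eq_dg hf fun a ha => ?_).trans (one_smul F _),
    ne_smul_of_movE (by rw [← mult_one]; omega) (ne_one_of_finrank_fixS (by rw [← mult_one]; omega)),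
    h3⟩
  rcases Multiset.mem_cons.1 ha with rfl | ha
  · exact h1
  · rw [Multiset.eq_of_mem_replicate ha, one_pow]

theorem ed_eq_of_order (hrp : r ≠ p) (h2 : r ≠ 2)
    (hi : orderOf ((Fintype.card F : ℕ) : ZMod r) = r - 1) (hf : f ^ r = 1) (hg : g ^ r = 1)
    (hf1 : f ≠ 1) (hg1 : g ≠ 1) (hV : finrank F V < 2 * (r - 1))
    (hd : finrank F V = finrank F W) : ed f = ed g := by
  have h3 := two_lt_of_ne h2
  obtain ⟨e, he⟩ := Finset.card_eq_one.1 ((card_cycF (F := F) hrp).trans (by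
    rw [hi, Nat.div_self (by omega)]))
  have he' := natDegree_of_mem_cycF hrp (he ▸ Finset.mem_singleton_self e)
  have key : ∀ {s : Multiset F[X]}, (∀ a ∈ s, a ≠ X - C 1 → a ∈ cycF F r) →
      (s.map natDegree).sum = finrank F V → (¬ ∀ a ∈ s, a ∣ X - C 1) →
      s = Multiset.replicate (finrank F V - (r - 1)) (X - C 1) + {e} := fun {s} h1 h4 h5 => by
    obtain ⟨k, l, rfl⟩ := eq_replicate_add_of_mem (s := s) (a := X - C 1) (b := e) fun a ha =>
      or_iff_not_imp_left.2 fun h => Finset.mem_singleton.1 (he ▸ h1 a ha h)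
    simp only [Multiset.map_add, Multiset.map_replicate, Multiset.sum_add, Multiset.sum_replicate,
      natDegree_X_sub_C, he', hi, smul_eq_mul] at h4
    obtain rfl : l = 1 := by
      rcases l with _ | _ | l
      · exact absurd (fun a ha => by simp [Multiset.eq_of_mem_replicate (by simpa using ha)]) h5
      · rfl
      · nlinarith
    rw [show k = finrank F V - (r - 1) by omega]
    rfl
  rw [key (fun a => mem_cycF_of_mem_ed hrp hf) (sum_natDegree_ed f) fun h => hf1 (by
      simpa [sub_eq_zero] using (aeval_eq_zero_iff_ed f _).2 h),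
    key (fun a => mem_cycF_of_mem_ed hrp hg) ((sum_natDegree_ed g).trans hd.symm) fun h => hg1 (by
      simpa [sub_eq_zero] using (aeval_eq_zero_iff_ed g _).2 h)]

theorem ed_of_three {ω : F} (hω : IsPrimitiveRoot ω 3) {t : Multiset F} (h : ed f = dg t)
    (h1 : ∀ a ∈ t, a ^ 3 = 1) (hV : finrank F V = 3) (h2 : ∀ c, c ≠ 0 → mult f c ≤ 1) :
    ed f = dg {1, ω, ω ^ 2} := by
  classical
  have h3 : t.Nodup := Multiset.nodup_iff_count_le_one.2 fun a => by
    by_cases h0 : a = 0
    · rw [Multiset.count_eq_zero.2 fun ha => by simpa [h0] using h1 a ha]; omega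
    · exact mult_of_ed_eq_dg h a ▸ h2 a h0
  refine h.trans (congrArg dg (Multiset.eq_of_le_of_card_le ((Multiset.le_iff_subset h3).2
    fun a ha => ?_) (by rw [card_of_ed_eq_dg h, hV]; rfl)))
  obtain ⟨i, hi, rfl⟩ := hω.eq_pow_of_pow_eq_one (h1 a ha)
  interval_cases i <;> simp

end Inv

section SL

variable {F L V : Type*} [Field F] [Field L] [Algebra F L] [AddCommGroup V] [Module F V]
  [Module L V] [IsScalarTower F L V] [FiniteDimensional F V] {f g : End F V}
  {r : ℕ} [hr : Fact r.Prime] [Fintype F] [Fintype L] {p : ℕ} [hp : Fact p.Prime] [CharP F p]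

theorem not_fixL_of_mult (hk : 1 < finrank F L) (hn : 3 ≤ finrank F V) {c : F} (hc : c ≠ 0)
    (h : mult f c + 1 = finrank F V) : ¬ FixL L f := fun H => by
  rcases H.cases' hc with h1 | h1
  · have h2 : finrank F L ∣ mult f c + 1 := ⟨_, h.trans (finrank_mul_finrank F L V).symm⟩
    have := Nat.le_of_dvd one_pos ((Nat.dvd_add_right h1).1 h2)
    omega
  · omega

theorem allP_fixL_iff [Nontrivial V] (h : r ∣ finrank F L) : AllP r (FixL (F := F) (V := V) L) ↔
    ∀ f : End F V, f ^ r = 1 → (∀ z : F, f ≠ z • 1) →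
      (∃ c : F, c ^ finrank F V * LinearMap.det f = 1) → FixL L f := by
  rw [AllP, lin_forall_iff hr.out.ne_zero FixL.smul,
    and_iff_left fun f z _ h2 h3 => fixL_of_nonpow h h3 h2]

include hp in
theorem allP_ext_two (hk : finrank F L = 2) (hn : 2 ≤ finrank F V) :
    AllP 2 (FixL (F := F) (V := V) L) ↔ finrank F V = 2 ∨ (Odd (Fintype.card F) ∧
      padicValNat 2 (Fintype.card F - 1) ≤ padicValNat 2 (finrank F V)) := by
  classical
  have : Nontrivial V := Module.nontrivial_of_finrank_pos (R := F) (by omega)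
  have := Module.Finite.of_restrictScalars_finite F L V
  have hV := finrank_mul_finrank F L V
  rw [allP_fixL_iff (hk ▸ dvd_rfl)]
  refine ⟨fun H => or_iff_not_imp_left.2 fun h => ?_, fun h f h1 h2 ⟨c, hc⟩ => ?_⟩
  · by_cases h2 : p = 2
    · obtain ⟨f, f1, f2, f3, f4⟩ := exists_transv F V p hn
      exact absurd (H f (h2 ▸ f2) f3 ⟨1, by simp [f1]⟩)
        (not_fixL_of_mult (by omega) (by omega) one_ne_zero f4)
    have h3 := two_ne_zero_of_ne (F := F) h2
    refine ⟨Nat.odd_iff.2 (FiniteField.odd_card_of_char_ne_two ((ringChar.eq F p).trans_ne h2)),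
      not_lt.1 fun h4 => ?_⟩
    obtain ⟨f, f1, f2, f3, f4⟩ := exists_homology V (r := 2) hn (ω := -1) (by simp)
      fun h => h3 (by linear_combination -h)
    exact not_fixL_of_mult (by omega) (by omega) one_ne_zero f4
      (H f f2 f3 (f1 ▸ exists_pow_mul_eq_one h4 (by simp)))
  rcases h with h | ⟨h, h'⟩
  · obtain ⟨σ, g, g1, g2, -, g3⟩ := exists_semi V (L := L) (F := F) (by omega)
    rw [hk] at g2
    refine ⟨σ, g, g1, sim_iff_ed_eq.2 (ed_eq_of_sq (p := p) g2 h1 ?_ rfl)⟩
    have := mult_pos_of_sq h1 (h2 _)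
    have := mult_pos_of_sq g2 (g3 _)
    have := mult_lt (h2 1)
    have := mult_lt (g3 1)
    omega
  · have hp2 := ne_two_of_odd_card (p := p) h
    have h3 := two_ne_zero_of_ne (F := F) hp2
    have h4 : (-1 : F) ≠ 1 := fun h => h3 (by linear_combination -h)
    have h4' : (-1 : L) ≠ 1 := fun h => h4 ((algebraMap F L).injective (by simpa using h))
    obtain ⟨k, l, h5, h6, h7⟩ := exists_ed_of_sq hp2.symm h1
    obtain ⟨l, rfl⟩ := (neg_one_pow_eq_one_iff_even h4).1
      (h7 ▸ det_eq_one_of_le (r := 2) h' h1 hc)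
    rw [hk] at hV
    obtain ⟨g, hg⟩ := exists_ed_eq_dg (V := V) (t := Multiset.replicate (finrank L V - l) (1 : L) +
      Multiset.replicate l (-1)) (by simp; omega)
    have g1 : g ^ 2 = 1 := (pow_of_ed_eq_dg hg fun a ha => by
      rcases Multiset.mem_add.1 ha with ha | ha <;>
        simp [Multiset.eq_of_mem_replicate ha]).trans (one_smul L _)
    refine ⟨1, _, semiB_res g, sim_iff_ed_eq.2 (ed_eq_of_sq (p := p) ?_ h1 ?_ rfl)⟩
    · rw [res_pow, g1]; rfl
    · rw [mult_res, map_one, mult_of_ed_eq_dg hg, mult_of_ed_eq_dg h6, hk]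
      simp [Multiset.count_replicate, h4, h4']
      omega

theorem allP_ext_of_order (hrp : r ≠ p) (h2 : r ≠ 2) (hk : finrank F L = r) (hn : finrank F V = r)
    (hi : orderOf ((Fintype.card F : ℕ) : ZMod r) = r - 1) : AllP r (FixL (F := F) (V := V) L) := by
  have h3 := two_lt_of_ne h2
  have : Nontrivial V := Module.nontrivial_of_finrank_pos (R := F) (by omega)
  obtain ⟨σ, g, g1, g2, -, g3⟩ := exists_semi V (L := L) (F := F) (by omega)
  exact (allP_fixL_iff (hk ▸ dvd_rfl)).2 fun f h1 h4 _ => ⟨σ, g, g1, sim_iff_ed_eq.2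
    (ed_eq_of_order hrp h2 hi (hk ▸ g2) h1 (one_smul F (1 : End F V) ▸ g3 1)
      (one_smul F (1 : End F V) ▸ h4 1) (by omega) rfl)⟩

theorem allP_ext_iff (hrp : r ≠ p) (h3 : 3 < r) (hk : finrank F L = r) (hn : finrank F V = r) :
    AllP r (FixL (F := F) (V := V) L) ↔ orderOf ((Fintype.card F : ℕ) : ZMod r) = r - 1 := by
  classical
  refine ⟨fun H => by_contra fun hi => ?_, allP_ext_of_order hrp (by omega) hk hn⟩
  have : Nontrivial V := Module.nontrivial_of_finrank_pos (R := F) (by omega)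
  have h5 : 5 ≤ r := hr.out.five_le_of_ne_two_of_ne_three (by omega) (by omega)
  have key : ∀ f : End F V, LinearMap.det f = 1 → f ^ r = 1 → mult f 1 < r → r < 2 * mult f 1 →
      False := fun f h1 h2 h4 h6 => by
    rcases (H.of_one h1 h2 (ne_smul_of_movE (by rw [← mult_one]; omega)
      (ne_one_of_finrank_fixS (by rw [← mult_one]; omega)))).cases' one_ne_zero with h | h
    · have := Nat.le_of_dvd (by omega) h
      omega
    · omega
  have h0 := natCast_ne_zero_of_card (F := F) hrp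
  by_cases hq : r ∣ Fintype.card F - 1
  · obtain ⟨ω, hω⟩ := exists_primitiveRoot hq
    have h1 := hω.ne_one (by omega)
    obtain ⟨f, hf⟩ := exists_ed_eq_dg (V := V) (t := ω ::ₘ ω⁻¹ ::ₘ Multiset.replicate (r - 2) 1)
      (by simp; omega)
    have h2 : mult f 1 = r - 2 := by
      rw [mult_of_ed_eq_dg hf]; simp [h1.symm, (inv_ne_one.2 h1).symm]
    refine key f (by simp [det_of_ed_eq_dg hf, hω.ne_zero (by omega)])
      ((pow_of_ed_eq_dg hf fun a ha => ?_).trans (one_smul F _)) (by omega) (by omega)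
    simp only [Multiset.mem_cons] at ha
    rcases ha with rfl | rfl | ha
    · exact hω.pow_eq_one
    · exact hω.inv.pow_eq_one
    · rw [Multiset.eq_of_mem_replicate ha, one_pow]
  · obtain ⟨e, he⟩ := cycF_nonempty (F := F) (r := r)
    have h1 := orderOf_pos_of_ne_zero h0
    obtain ⟨j, hj⟩ := orderOf_dvd_sub_one h0
    have h4 : 2 ≤ j := by
      rcases j with _ | _ | j <;> omega
    have h6 : 2 * orderOf ((Fintype.card F : ℕ) : ZMod r) ≤ r - 1 := by
      rw [hj, mul_comm]; exact Nat.mul_le_mul_left _ h4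
    obtain ⟨f, f1, -, f2⟩ := exists_block (V := V) hrp (by omega) he
    rw [← mult_one] at f2
    exact key f (det_eq_one_of_not_dvd hq f1) f1 (by omega) (by omega)

include hp in
theorem allP_ext_three (hk : finrank F L = 3) (hn : finrank F V = 3) :
    AllP 3 (FixL (F := F) (V := V) L) ↔ Fintype.card F % 3 = 2 ∨ Fintype.card F % 9 = 4 ∨
      Fintype.card F % 9 = 7 := by
  classical
  have := Fact.mk Nat.prime_three
  have : Nontrivial V := Module.nontrivial_of_finrank_pos (R := F) (by omega)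
  have hq := Fintype.card_pos (α := F)
  by_cases h3 : 3 = p
  · obtain ⟨f, f1, f2, f3, f4⟩ := exists_transv F V p (by omega)
    have h4 := (dvd_card_iff (F := F) (r := 3)).2 h3
    exact iff_of_false (fun H => not_fixL_of_mult (by omega) (by omega) one_ne_zero f4
      (H.of_one f1 (h3 ▸ f2) f3)) (by omega)
  have h4 := mt (dvd_card_iff (F := F) (r := 3)).1 h3
  by_cases h1 : 3 ∣ Fintype.card F - 1
  swap
  · refine iff_of_true (allP_ext_of_order h3 (by omega) hk hn ?_) (by omega)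
    have h5 := orderOf_le_sub_one (natCast_ne_zero_of_card (F := F) h3)
    have h6 := orderOf_pos_of_ne_zero (natCast_ne_zero_of_card (F := F) h3)
    have h7 := mt (dvd_sub_one_iff (r := 3) hq).2 h1
    omega
  obtain ⟨ω, hω⟩ := exists_primitiveRoot h1
  have hv : padicValNat 3 (finrank F V) = 1 := by rw [hn, padicValNat_self]
  rw [allP_fixL_iff (hk ▸ dvd_rfl)]
  refine ⟨fun H => by_contra fun h => ?_, fun h f f1 f2 ⟨c, hc⟩ => ?_⟩
  · obtain ⟨f, f1, f2, f3, f4⟩ := exists_homology V (r := 3) (by omega) hω.pow_eq_one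
      (hω.ne_one (by omega))
    exact not_fixL_of_mult (by omega) (by omega) one_ne_zero f4 (H f f2 f3 (f1 ▸
      exists_pow_mul_eq_one (hv ▸ padicValNat_lt_of_pow_succ_dvd (a := 1)
        (by have := Fintype.one_lt_card (α := F); omega) (by omega)) hω.pow_eq_one))
  have h5 : LinearMap.det f = 1 := det_eq_one_of_le (r := 3) (not_lt.1 fun h6 => by
    have := pow_succ_dvd_of_lt_padicValNat (hv.symm.trans_lt h6)
    omega) f1 hc
  obtain ⟨σ, g, g1, g2, g3, -⟩ := exists_semi V (L := L) (F := F) (by omega)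
  obtain ⟨t, t1, t2⟩ := exists_ed_eq_dg_of_pow h3 h1 f1
  obtain ⟨s, s1, s2⟩ := exists_ed_eq_dg_of_pow h3 h1 (hk ▸ g2)
  refine ⟨σ, g, g1, sim_iff_ed_eq.2 ((ed_of_three hω s1 s2 hn fun c hc => by
    have := g3 c hc; omega).trans (ed_of_three hω t1 t2 hn fun a _ => not_lt.1 fun h6 => ?_).symm)⟩
  rw [mult_of_ed_eq_dg t1] at h6
  obtain ⟨u, rfl⟩ := Multiset.le_iff_exists_add.1 (Multiset.le_count_iff_replicate_le.1 h6)
  have h7 := card_of_ed_eq_dg t1
  obtain ⟨b, rfl⟩ := Multiset.card_eq_one.1 (show Multiset.card u = 1 by simp at h7; omega)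
  have h8 := t2 a (by simp)
  rw [det_of_ed_eq_dg t1] at h5
  obtain rfl : b = a := by
    simp only [Multiset.prod_add, Multiset.prod_replicate, Multiset.prod_singleton] at h5
    linear_combination a * h5 - b * h8
  exact f2 b (by simpa using pow_of_ed_eq_dg (k := 1) (z := b) t1 (by simp))

end SL

section Mat

universe u

variable {F : Type u} [Field F] {ι : Type} [Fintype ι] [DecidableEq ι]

open Matrix in
theorem exists_ext [Fintype F] [Nonempty ι] {k : ℕ} {K : Subalgebra F (Matrix ι ι F)}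
    (hK : Cfsg.Geo.IsFieldSubalgebra k K) :
    ∃ (L : Type u) (_ : Field L) (_ : Algebra F L) (_ : Module L (ι → F))
      (_ : IsScalarTower F L (ι → F)) (_ : Fintype L), finrank F L = k ∧
      (∀ x, x ∈ Cfsg.Geo.subalgebraNormalizer K ↔ ∃ σ : L ≃ₐ[F] L, SemiB σ (glRep x)) ∧
      ∀ A, A ∈ K ↔ ∃ l : L, ∀ v : ι → F, A *ᵥ v = l • v := by
  let _ := (Max.IsFieldSubalgebra.isField hK).toField
  let _ : Module K (ι → F) := Module.compHom (ι → F)
    (((Matrix.toLinAlgEquiv' : Matrix ι ι F ≃ₐ[F] Module.End F (ι → F)) :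
      Matrix ι ι F →+* Module.End F (ι → F)).comp (K.val : K →+* Matrix ι ι F))
  have hT : IsScalarTower F K (ι → F) := ⟨fun c z v => smul_mulVec _ _ _⟩
  have : Finite K := Subtype.finite
  refine ⟨K, inferInstance, inferInstance, inferInstance, hT, Fintype.ofFinite K, hK.finrank_eq,
    fun x => ⟨fun h => ?_, fun ⟨σ, h⟩ => Mx.mem_subalgebraNormalizer_of_maps fun a ha => ?_⟩,
    fun A => ⟨fun h => ⟨⟨A, h⟩, fun _ => rfl⟩, fun ⟨l, h⟩ => ?_⟩⟩
  · let φ : K →ₐ[F] K := ((Max.cj x).toAlgHom.comp K.val).codRestrict K fun a =>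
      (Max.mem_subalgebraNormalizer.1 h a).1 a.2
    exact ⟨AlgEquiv.ofBijective φ (Finite.injective_iff_bijective.1 φ.toRingHom.injective),
      fun l v => (Max.cj_mulVec x l v).symm⟩
  · have h1 : Max.cj x a = (σ ⟨a, ha⟩).1 := (Max.cj_eq_iff _ _ _).2
      (Matrix.ext_iff_mulVec.2 fun v => by
        rw [← mulVec_mulVec, ← mulVec_mulVec]; exact h ⟨a, ha⟩ v)
    exact h1 ▸ (σ ⟨a, ha⟩).2
  · exact (Matrix.ext_iff_mulVec.2 h : A = l.1) ▸ l.2

variable {L : Type*} [Field L] [Algebra F L] [Module L (ι → F)] [IsScalarTower F L (ι → F)]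
  {H : Subgroup (GL ι F)}

theorem allP_fixG_iff (hH : ∀ x, x ∈ H ↔ ∃ σ : L ≃ₐ[F] L, SemiB σ (glRep x)) {r : ℕ} :
    AllP r (FixG H) ↔ AllP r (FixL (F := F) (V := ι → F) L) :=
  forall₄_congr fun f h1 _ _ => ⟨fun ⟨y, h2, h3⟩ => let ⟨σ, h⟩ := (hH y).1 h2; ⟨σ, _, h, h3⟩,
    fun ⟨σ, _, h2, h3⟩ => fixG_of_ed_eq (isUnit_of_det_eq_one (h3.det_eq.trans h1))
      (fun y e => (hH y).2 ⟨σ, e ▸ h2⟩) h3.ed_eq⟩

end Mat

end Cfsg.Agent.Cl.Der
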