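import Mathlib
import Cfsg.Agent.Cl.DerExt1

/-! Elements of prime order of `PSp_n(q)` and extension field subgroups. -/

set_option autoImplicit false
set_option linter.unusedSectionVars false

namespace Cfsg.Agent.Cl.Der

open Polynomial Module Cfsg.Agent.Cl.Cls

theorem prod_range_mul (g : ℕ → ℕ) {k : ℕ} (hk : 0 < k) (m : ℕ) :
    ∏ j ∈ Finset.range (k * m), g (j + 1) = (∏ j ∈ Finset.range m, g (k * (j + 1))) *
      ∏ j ∈ Finset.range (k * m) with ¬ k ∣ j + 1, g (j + 1) := by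
  rw [← Finset.prod_filter_mul_prod_filter_not _ fun j => k ∣ j + 1]
  congr 1
  refine (Finset.prod_nbij (fun j => k * (j + 1) - 1) (fun j hj => ?_) (fun i _ j _ h => ?_)
    (fun j hj => ?_) fun j _ => ?_).symm
  · have : k * (j + 1) ≤ k * m := Nat.mul_le_mul_left k (Finset.mem_range.1 hj)
    have := Nat.mul_pos hk j.add_one_pos
    exact Finset.mem_filter.2 ⟨Finset.mem_range.2 (by omega), j + 1, by omega⟩
  · have := Nat.mul_pos hk j.add_one_pos
    have := Nat.mul_pos hk i.add_one_pos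
    have : i + 1 = j + 1 := Nat.eq_of_mul_eq_mul_left hk (by beta_reduce at h; omega)
    omega
  · obtain ⟨h1, _ | i, h2⟩ := Finset.mem_filter.1 hj
    · omega
    · refine ⟨i, Finset.mem_range.2 (Nat.le_of_mul_le_mul_left ?_ hk), by beta_reduce; omega⟩
      have := Finset.mem_range.1 h1
      rw [Nat.succ_eq_add_one]
      omega
  · rw [Nat.sub_add_cancel (Nat.mul_pos hk j.succ_pos)]

section Lift

variable {F L V A : Type*} [Field F] [Field L] [Algebra F L] [AddCommGroup V] [Module F V]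
  [Module L V] [IsScalarTower F L V] [Fintype F] [Fintype L] {f g : End F V} {σ θ : L ≃ₐ[F] L}
  {B : V →ₛₗ[RingHom.id F] V →ₗ[F] F} {ρ : L →+* L} {β : V →ₛₗ[ρ] V →ₗ[L] L} {Q : V → A}

/-- `B` is the trace of `β`. -/
def Lift (B : V →ₛₗ[RingHom.id F] V →ₗ[F] F) (β : V →ₛₗ[ρ] V →ₗ[L] L) : Prop :=
  ∀ u v, Algebra.trace F L (β u v) = B u v

variable (F) in
theorem eq_of_trace {a b : L} (h : ∀ l, Algebra.trace F L (l * a) = Algebra.trace F L (l * b)) :
    a = b := sub_eq_zero.1 ((traceForm_nondegenerate F L).2 _ fun l => by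
  rw [Algebra.traceForm_apply, mul_sub, map_sub, h, sub_self])

theorem exists_lift (ρ : L →+* L) (h : ∀ (l : L) u v, B (l • u) v = B u (ρ l • v)) :
    ∃ β : V →ₛₗ[ρ] V →ₗ[L] L, Lift B β := by
  have : ∀ x y : V, ∃ b : L, ∀ k, Algebra.trace F L (k * b) = B x (k • y) := fun x y => by
    obtain ⟨b, hb⟩ := ((Algebra.traceForm F L).toDual (traceForm_nondegenerate F L)).surjective
      ((B x).comp ((LinearMap.toSpanSingleton L V y).restrictScalars F))
    exact ⟨b, fun k => by rw [mul_comm]; exact LinearMap.congr_fun hb k⟩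
  choose b hb using this
  refine ⟨LinearMap.mk₂'ₛₗ ρ (RingHom.id L) b
    (fun x x' y => eq_of_trace F fun k => by simp [mul_add, hb])
    (fun c x y => eq_of_trace F fun k => by
      rw [smul_eq_mul, ← mul_assoc, hb, hb, h, smul_smul, mul_comm])
    (fun x y y' => eq_of_trace F fun k => by simp [mul_add, hb])
    (fun c x y => eq_of_trace F fun k => by
      rw [smul_eq_mul, ← mul_assoc, hb, hb, smul_smul]; rfl), fun x y => ?_⟩
  simpa using hb x y 1

theorem Lift.trace_mul (h : Lift B β) (l : L) (u v : V) :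
    Algebra.trace F L (l * β u v) = B u (l • v) := by rw [← h, map_smul, smul_eq_mul]

theorem Lift.nondeg (h : Lift B β) (hB : ∀ x, (∀ y, B x y = 0) → x = 0) (x : V)
    (hx : ∀ y, β x y = 0) : x = 0 := hB x fun y => by rw [← h, hx, map_zero]

theorem Lift.iso_iff (h : Lift B β) (hg : SemiB σ g) :
    (∀ u v, B (g u) (g v) = B u v) ↔ ∀ u v, β (g u) (g v) = σ (β u v) := by
  refine ⟨fun H u v => eq_of_trace F fun l => ?_, fun H u v => ?_⟩
  · obtain ⟨l, rfl⟩ := σ.surjective l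
    rw [h.trace_mul, ← hg, H, ← map_mul, Algebra.trace_eq_of_algEquiv, h.trace_mul]
  · rw [← h, H, Algebra.trace_eq_of_algEquiv, h]

theorem Lift.iso_res_iff (h : Lift B β) (g : End L V) :
    (∀ u v, B (g u) (g v) = B u v) ↔ ∀ u v, β (g u) (g v) = β u v := h.iso_iff (semiB_res g)

theorem Lift.symm {β : V →ₛₗ[(θ : L →+* L)] V →ₗ[L] L} (h : Lift B β) (hθ : ∀ a, θ (θ a) = a)
    {ε : F} (hε : ∀ x y, B y x = ε * B x y) (x y : V) : β y x = ε • θ (β x y) :=
  eq_of_trace F fun l => by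
    rw [h.trace_mul, hε, ← h, mul_smul_comm, map_smul (Algebra.trace F L), smul_eq_mul,
      LinearMap.map_smulₛₗ₂,
      ← Algebra.trace_eq_of_algEquiv θ, smul_eq_mul, map_mul, RingHom.coe_coe, hθ]

theorem semiHom_form {ι : Type*} [Fintype ι] (b : Basis ι L V) (hρ : ∀ a, ρ (σ a) = σ (ρ a))
    (h : ∀ i j, σ (β (b i) (b j)) = β (b i) (b j)) (u v : V) :
    β (semiHom b σ u) (semiHom b σ v) = σ (β u v) := by
  rw [← b.sum_repr (semiHom b σ u), ← b.sum_repr (semiHom b σ v)]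
  conv_rhs => rw [← b.sum_repr u, ← b.sum_repr v]
  simp only [map_sum, LinearMap.map_smulₛₗ, LinearMap.sum_apply, LinearMap.smul_apply, smul_eq_mul,
    map_mul, repr_semiHom, hρ, h, RingHom.id_apply]

variable (B Q L) in
/-- `f` is similar to a semilinear isometry. -/
def FixI (f : End F V) : Prop :=
  ∃ (σ : L ≃ₐ[F] L) (g : End F V), SemiB σ g ∧ Iso B Q g ∧ Sim g f

theorem FixI.fixL (h : FixI L B Q f) : FixL L f := let ⟨σ, g, h1, _, h2⟩ := h; ⟨σ, g, h1, h2⟩

variable (F L V) in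
/-- Restriction of scalars. -/
def resHom : (V ≃ₗ[L] V) →* (V ≃ₗ[F] V) where
  toFun g := g.restrictScalars F
  map_one' := rfl
  map_mul' _ _ := rfl

theorem resHom_injective : Function.Injective (resHom F L V) :=
  LinearEquiv.restrictScalars_injective F

theorem res_pow_eq_one {g : End L V} {r : ℕ} (h : (g.restrictScalars F : End F V) ^ r = 1) :
    g ^ r = 1 := LinearMap.restrictScalars_injective F ((res_pow g r).symm.trans h)

end Lift

section Sp

variable {F V : Type*} [Field F] [AddCommGroup V] [Module F V] [FiniteDimensional F V]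
  {f g : End F V} {B : V →ₛₗ[RingHom.id F] V →ₗ[F] F}
  {r : ℕ} [hr : Fact r.Prime] [Fintype F] {p : ℕ} [hp : Fact p.Prime] [CharP F p]

variable (B r) in
/-- Every element of order `r` of `PSp` has the property `P`. -/
def AllA (P : End F V → Prop) : Prop :=
  ∀ f, IsoA B f → (∃ z : F, f ^ r = z • 1) → (∀ z : F, f ≠ z • 1) → P f

theorem AllA.of_mult {P : End F V → Prop} (H : AllA B r P) (h : IsoA B f) (hf : f ^ r = 1)
    (h0 : 0 < mult f 1) (h1 : mult f 1 < finrank F V) : P f :=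
  have : Nontrivial V := Module.nontrivial_of_finrank_pos (R := F) (by omega)
  H f h ⟨1, hf.trans (one_smul F _).symm⟩ (ne_smul_of_movE (mult_one f ▸ h0)
    (ne_one_of_finrank_fixS (mult_one f ▸ h1)))

theorem AllA.of_odd {P : End F V → Prop} (H : AllA B r P) (hG : GeomA B) (h2 : r ≠ 2)
    (h : IsoA B f) (hf : f ^ r = 1) (h1 : mult f 1 < finrank F V) : P f := by
  have : Nontrivial V := Module.nontrivial_of_finrank_pos (R := F) (by omega)
  have h3 := ne_one_of_finrank_fixS (mult_one f ▸ h1)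
  refine H f h ⟨1, hf.trans (one_smul F _).symm⟩ fun z hz => h3 ?_
  rcases hG.eq_or_eq_neg (hz ▸ h) with rfl | rfl
  · rw [hz, one_smul]
  · rw [← hf, hz, neg_one_smul, (hr.out.odd_of_ne_two h2).neg_one_pow]

theorem GeomA.exists_transv (hG : GeomA B) (p : ℕ) [hp : Fact p.Prime] [CharP F p]
    (h : 2 ≤ finrank F V) : ∃ f, IsoA B f ∧ f ^ p = 1 ∧ mult f 1 + 1 = finrank F V := by
  have h1 : ∀ a ∈ 2 ::ₘ Multiset.replicate (finrank F V - 2) 1, 0 < a ∧ a ≤ p := fun a ha => by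
    have := hp.out.two_le
    rcases Multiset.mem_cons.1 ha with rfl | ha
    · omega
    · rw [Multiset.eq_of_mem_replicate ha]; omega
  obtain ⟨m, hm⟩ := hG.even hG.nd_top
  rw [finrank_top] at hm
  obtain ⟨f, f1, f2⟩ := (hG.realOn_unip hG.nd_top (fun a ha => (h1 a ha).1) (fun a ha => by
    rw [Multiset.count_cons_of_ne (by rintro rfl; exact absurd ha (by decide))]
    exact even_count_replicate ⟨m - 1, by omega⟩ _ _) (by simp; omega)).top
  refine ⟨f, f1, pow_char_eq_one_of_ed f2 fun a ha => (h1 a ha).2, ?_⟩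
  rw [mult_of_ed_unip f2 fun a ha => (h1 a ha).1]
  simp
  omega

theorem GeomA.exists_invol (hG : GeomA B) (h2 : (2 : F) ≠ 0) {a : ℕ} (ha : Even a)
    (h : a ≤ finrank F V) : ∃ f, IsoA B f ∧ f ^ 2 = 1 ∧ mult f 1 + a = finrank F V := by
  obtain ⟨W, -, h1, h3⟩ := hG.exists_nd hG.nd_top ha (by rwa [finrank_top])
  obtain ⟨f, f1, f2, f3, -⟩ := hG.exists_neg_on h2 h1
  exact ⟨f, f1, f2, by rw [mult_one, f3, ← h3, add_comm, hG.finrank_add_perp]⟩

theorem GeomA.even_mult (hG : GeomA B) (h : IsoA B f) (hs : f.IsSemisimple) : Even (mult f 1) :=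
  mult_one f ▸ hG.even (hG.nd_fixS h hs)

include hp in
theorem Geom.ed_eq_of_sq_neg {A : Type*} [AddCommGroup A] {τ : F →+ A} {Q : V → A}
    (hG : Geom B Q τ) (h2 : p ≠ 2) (h : Iso B Q f) (h' : Iso B Q g) (hf : f ^ 2 = -1)
    (hg : g ^ 2 = -1) : ed f = ed g := by
  classical
  by_cases h1 : ∀ c : F, c ^ 2 ≠ -1
  · exact ed_eq_of_nonpow h1 (by rw [hf, neg_one_smul]) (by rw [hg, neg_one_smul]) rfl
  obtain ⟨c, hc⟩ := not_forall.1 h1
  rw [not_not] at hc
  have h0 : c ≠ 0 := by rintro rfl; simp at hc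
  have h3 := two_ne_zero_of_ne (F := F) h2
  have h4 : (-1 : F) ≠ 1 := fun h => h3 (by linear_combination -h)
  have key : ∀ f : End F V, Iso B Q f → f ^ 2 = -1 →
      (c • f) ^ 2 = 1 ∧ 2 * mult (c • f) 1 = finrank F V := fun f h hf => by
    have h5 : (c • f) ^ 2 = 1 := by rw [_root_.smul_pow, hf, hc, neg_one_smul, neg_neg]
    obtain ⟨k, l, h6, h7, -⟩ := exists_ed_of_sq h2.symm h5
    have h8 := hG.mult_of_sim one_ne_zero h.simB (c := c) (d := -c) (by
      rw [RingHom.id_apply]; linear_combination -hc)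
    rw [← mult_smul h0, ← mult_smul h0 f c, show c * -c = 1 by linear_combination -hc,
      show c * c = -1 by linear_combination hc] at h8
    simp only [mult_of_ed_eq_dg h7, Multiset.count_add, Multiset.count_replicate, h4, h4.symm,
      if_true, if_false] at h8 ⊢
    exact ⟨h5, by omega⟩
  obtain ⟨f1, f2⟩ := key f h hf
  obtain ⟨g1, g2⟩ := key g h' hg
  have h5 := sim_smul (sim_iff_ed_eq.2 (ed_eq_of_sq (p := p) f1 g1 (by omega) rfl)) c⁻¹
  rw [inv_smul_smul' h0, inv_smul_smul' h0] at h5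
  exact h5.ed_eq

variable {L : Type*} [Field L] [Algebra F L] [Module L V] [IsScalarTower F L V] [Fintype L]

theorem GeomA.exists_lift_alt (hG : GeomA B) (h : ∀ (l : L) u v, B (l • u) v = B u (l • v))
    (h' : ∀ (l : L) v, B (l • v) v = 0) :
    ∃ β : V →ₛₗ[RingHom.id L] V →ₗ[L] L, Lift B β ∧ GeomA β := by
  obtain ⟨β, hβ⟩ := exists_lift (RingHom.id L) h
  have h1 : LinearMap.IsAlt β := fun x => eq_of_trace F fun l => by
    rw [hβ.trace_mul, ← h, h', mul_zero, map_zero]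
  exact ⟨β, hβ, geom_alt (h1.isRefl.nondegenerate_iff_separatingLeft.2 (hβ.nondeg hG.nondeg)) h1⟩

theorem GeomA.allA_ext_iff (hG : GeomA B) {β : V →ₛₗ[RingHom.id L] V →ₗ[L] L} (hβ : Lift B β)
    (hA : GeomA β) (p : ℕ) [hp : Fact p.Prime] [CharP F p] (hk : (finrank F L).Prime)
    (hn : 4 ≤ finrank F V) {a : ℕ} (ha : r ∣ a)
    (h : a * Nat.card (isoFix β (fun _ => (0 : L)) ⊥) ∣ Nat.card (isoFix B (fun _ => (0 : F)) ⊥)) :
    AllA B r (FixI L B fun _ => (0 : F)) ↔
      r = 2 ∧ finrank F V = 4 ∧ finrank F L = 2 ∧ Odd (Fintype.card F) := by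
  have := Module.Finite.of_restrictScalars_finite F L V
  have : Nontrivial V := Module.nontrivial_of_finrank_pos (R := F) (by omega)
  have : CharP L p := charP_of_injective_algebraMap (algebraMap F L).injective p
  have hV := finrank_mul_finrank F L V
  obtain ⟨m, hm⟩ := (hA.even hA.nd_top).two_dvd
  rw [finrank_top] at hm
  have hk1 := hk.two_le
  refine ⟨fun H => ?_, fun ⟨h1, h2, h3, h4⟩ f f1 ⟨z, f2⟩ f3 => ?_⟩
  · have hrp : r ≠ p := fun e => by
      obtain ⟨f, f1, f2, f3⟩ := hG.exists_transv p (by omega)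
      exact not_fixL_of_mult hk1 (by omega) one_ne_zero f3
        (H.of_mult f1 (e ▸ f2) (by omega) (by omega)).fixL
    have key : ∀ f : End F V, f ^ r = 1 → FixI L B (fun _ => (0 : F)) f →
        2 * finrank F L ∣ finrank F V - mult f 1 ∨
          (r = finrank F L ∧ 2 * mult f 1 ≤ finrank F V) := fun f h1 ⟨σ, g, g1, g2, g3⟩ => by
      have g4 := sim_pow_eq_one g3.symm h1
      rw [← sim_mult g3]
      by_cases hσ : σ = 1
      · obtain ⟨g, rfl⟩ := (hσ ▸ g1).exists_res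
        obtain ⟨j, hj⟩ := (hA.even_mult ⟨(hβ.iso_res_iff g).1 g2.mapB, fun _ => rfl⟩
          (isSemisimple_of_pow_eq_one hrp (res_pow_eq_one g4))).two_dvd
        rw [mult_res, map_one, hj, ← hV, hm]
        exact Or.inl (Nat.dvd_sub ⟨m, by ring⟩ ⟨j, by ring⟩)
      · exact Or.inr ⟨by_contra fun h2 => hσ (g1.eq_one_of_ne hk hr.out h2
          (g4.trans (one_smul F _).symm) (g4 ▸ one_ne_zero)), g1.two_mul_mult_le hσ one_ne_zero⟩
    by_cases h2 : r = 2
    · subst h2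
      obtain ⟨f, f1, f2, f3⟩ := hG.exists_invol (two_ne_zero_of_ne hrp.symm) even_two (by omega)
      rcases key f f2 (H.of_mult f1 f2 (by omega) (by omega)) with h1 | h1
      · have := Nat.le_of_dvd (by omega) h1
        omega
      · exact ⟨rfl, by omega, h1.1.symm, Nat.odd_iff.2
          (FiniteField.odd_card_of_char_ne_two ((ringChar.eq F p).trans_ne hrp.symm))⟩
    exfalso
    have hq := Fintype.one_lt_card (α := F)
    rw [hA.card_isoFix hm, hG.card_isoFix (d := finrank F L * m) (by rw [← hV, hm]; ring),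
      Module.natCard_eq_pow_finrank (K := F) (V := L), Nat.card_eq_fintype_card,
      prod_range_mul (fun j => Fintype.card F ^ (2 * j) - 1) hk.pos] at h
    simp only [← pow_mul, mul_left_comm (finrank F L) 2] at h
    obtain ⟨j, h3, h4⟩ := (prime_dvd_prod_iff _ _).1 (dvd_of_index (mt dvd_card_iff.1 hrp)
      (Finset.prod_pos fun i _ => Nat.sub_pos_of_lt (Nat.one_lt_pow (by positivity) hq)) ha h)
    rw [dvd_pow_two_mul_sub_one_iff (by omega)] at h4
    obtain ⟨h3, h5⟩ := Finset.mem_filter.1 h3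
    have h6 := Nat.le_of_dvd (by omega) h4
    have h7 := Finset.mem_range.1 h3
    have h8 : finrank F V = 2 * (finrank F L * m) := by rw [← hV, hm]; ring
    obtain ⟨f, f1, f2, f3⟩ := hG.exists_blocks hrp h2 (s := 1) (by omega)
    have h9 := cOf_pos (orderOf_pos_of_ne_zero (natCast_ne_zero_of_card (F := F) hrp))
    rw [← mult_one] at f3
    rcases key f f2 (H.of_odd hG h2 f1 f2 (by omega)) with h1 | ⟨h1, h1'⟩
    · rw [← f3, Nat.add_sub_cancel_left, one_mul] at h1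
      exact h5 (Nat.dvd_of_mul_dvd_mul_left two_pos (h1.trans h4))
    · have := cOf_le_sub_one (F := F) hrp h2
      have : finrank F L * 1 ≤ finrank F L * m := Nat.mul_le_mul_left _ (by
        rcases m with _ | m <;> omega)
      omega
  subst h1
  have hp2 := ne_two_of_odd_card (p := p) h4
  have h5 := two_ne_zero_of_ne (F := F) hp2
  rcases hG.sq_cases f1 f2 with f2 | f2
  · obtain ⟨σ, hσ⟩ := exists_ne_one (F := F) (L := L) (by omega)
    obtain ⟨b, b1, b2, b3⟩ := sp_exists_basis hA.nondegenerate hA.isAlt hm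
    have g1 := semiB_semiHom b σ
    have g2 : IsoA B (semiHom b σ) := ⟨(hβ.iso_iff g1).2 (semiHom_form b (fun _ => rfl) (by
      rintro (i | i) (j | j)
      · rw [b2, map_zero]
      · rw [hA.eps, b1]; simp [apply_ite σ]
      · rw [b1]; simp [apply_ite σ]
      · rw [b3, map_zero])), fun _ => rfl⟩
    have g3 : semiHom b σ ^ 2 = 1 := by rw [← map_pow, ← h3, pow_finrank_eq_one, map_one]
    refine ⟨σ, _, g1, g2, sim_iff_ed_eq.2 (ed_eq_of_sq (p := p) g3 f2 ?_ rfl)⟩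
    have g4 := g1.two_mul_mult_le hσ one_ne_zero
    have g5 := g1.two_mul_mult_le hσ (neg_ne_zero.2 one_ne_zero)
    have g6 := mult_pos_of_sq g3 fun e => by
      rw [e, mult, sub_self, LinearMap.ker_zero, finrank_top] at g5; omega
    have := Nat.even_iff.1 (hG.even_mult g2 (isSemisimple_of_sq_eq_one h5 g3))
    have := Nat.even_iff.1 (hG.even_mult f1 (isSemisimple_of_sq_eq_one h5 f2))
    have := mult_pos_of_sq f2 (f3 _)
    have := mult_lt (f3 1)
    omega
  · obtain ⟨g, g1, g2⟩ := hA.exists_sq_eq_neg_one (two_ne_zero_of_ne hp2)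
    have g3 : IsoA B (g.restrictScalars F) := ⟨(hβ.iso_res_iff g).2 g1.mapB, fun _ => rfl⟩
    exact ⟨1, _, semiB_res g, g3, sim_iff_ed_eq.2 (hG.ed_eq_of_sq_neg hp2 g3 f1
      (by rw [res_pow, g2]; rfl) f2)⟩

theorem exists_adj [Nontrivial V] (hB : ∀ y, (∀ x, B x y = 0) → y = 0)
    (h : ∀ l : L, ∃ l' : L, ∀ u v, B (l • u) v = B u (l' • v)) :
    ∃ θ : L ≃ₐ[F] L, ∀ l u v, B (l • u) v = B u (θ l • v) := by
  choose t ht using h
  obtain ⟨v, hv⟩ := exists_ne (0 : V)
  have key : ∀ l a, (∀ u, B (l • u) v = B u (a • v)) → t l = a := fun l a h =>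
    smul_left_injective L hv (sub_eq_zero.1 (hB _ fun u => by rw [map_sub, ← ht, h, sub_self]))
  let φ : L →ₐ[F] L := AlgHom.ofLinearMap
    ⟨⟨t, fun a b => key _ _ fun u => by simp [add_smul, ht]⟩,
      fun c a => key _ _ fun u => by simp [ht]⟩ (key _ _ (by simp))
    fun a b => key _ _ fun u => by
      rw [mul_smul, ht, ht, smul_smul, mul_comm]; rfl
  exact ⟨AlgEquiv.ofBijective φ (Finite.injective_iff_bijective.1 φ.toRingHom.injective), ht⟩

theorem GeomA.exists_lift_herm (hG : GeomA B) [Nontrivial V] (hk : finrank F L = 2)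
    (h : ∀ l : L, ∃ l' : L, ∀ u v, B (l • u) v = B u (l' • v))
    (h' : ¬ ∀ (l : L) u v, B (l • u) v = B u (l • v)) :
    ∃ (θ : L ≃ₐ[F] L) (β : V →ₛₗ[(θ : L →+* L)] V →ₗ[L] L) (δ : L), Lift B β ∧ δ ≠ 0 ∧
      θ δ = -δ ∧ GeomU (δ • β) (Fintype.card F) := by
  have := Module.Finite.of_restrictScalars_finite F L V
  obtain ⟨θ, hθ⟩ := exists_adj hG.nondeg' h
  obtain ⟨β, hβ⟩ := exists_lift (θ : L →+* L) hθ
  have h1 : ∀ a, θ (θ a) = a := fun a => by
    have := AlgEquiv.congr_fun (pow_finrank_eq_one θ) a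
    rwa [hk, sq] at this
  obtain ⟨a, ha⟩ : ∃ a, θ a ≠ a := by
    by_contra! h2
    exact h' fun l u v => by rw [hθ, h2]
  have h2 : UInvol (θ : L →+* L) := ⟨h1, a, ha⟩
  obtain ⟨q, hq⟩ := h2.exists_uField
  obtain rfl : q = Fintype.card F := Nat.pow_left_injective two_ne_zero (hq.card.symm.trans (by
    rw [Module.natCard_eq_pow_finrank (K := F) (V := L), hk, Nat.card_eq_fintype_card]))
  have h3 : θ (θ a - a) = -(θ a - a) := by rw [map_sub, h1, neg_sub]
  have h4 := hβ.symm h1 hG.eps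
  refine ⟨θ, β, θ a - a, hβ, sub_ne_zero.2 ha, h3, hq, h2, fun x y => ?_, fun x hx => ?_⟩
  · simp [h4 y x, h1, ← neg_mul]
  · refine hβ.nondeg hG.nondeg x fun y => ?_
    have h5 : β y x = 0 := by simpa [sub_ne_zero.2 ha] using hx y
    rw [h4, h5, map_zero, smul_zero]

theorem Lift.isoU_iff {ρ : L →+* L} {β : V →ₛₗ[ρ] V →ₗ[L] L} (hβ : Lift B β) {δ : L} (hδ : δ ≠ 0)
    (g : End L V) : IsoU (δ • β) g ↔ IsoA B (g.restrictScalars F) :=
  ⟨fun h => ⟨(hβ.iso_res_iff g).2 fun u v => mul_left_cancel₀ hδ (h.mapB u v), fun _ => rfl⟩,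
    fun h => ⟨fun u v => congrArg (δ * ·) ((hβ.iso_res_iff g).1 h.mapB u v),
      fun u => congrArg (δ * ·) ((hβ.iso_res_iff g).1 h.mapB u u)⟩⟩

theorem GeomA.allA_gu_iff (hG : GeomA B) {θ : L ≃ₐ[F] L} {β : V →ₛₗ[(θ : L →+* L)] V →ₗ[L] L}
    {δ : L} (hβ : Lift B β) (hδ : δ ≠ 0) (hθ : θ δ = -δ) (hU : GeomU (δ • β) (Fintype.card F))
    (hp2 : p ≠ 2) (hk : finrank F L = 2) (hn : 4 ≤ finrank F V) {a : ℕ} (ha : r ∣ a)
    (h : a * Nat.card (isoFix (δ • β) (fun x => (δ • β) x x) ⊥) ∣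
      Nat.card (isoFix B (fun _ => (0 : F)) ⊥)) :
    AllA B r (FixI L B fun _ => (0 : F)) ↔ r = 2 := by
  have := Module.Finite.of_restrictScalars_finite F L V
  have : Nontrivial V := Module.nontrivial_of_finrank_pos (R := F) (by omega)
  have : CharP L p := charP_of_injective_algebraMap (algebraMap F L).injective p
  have hV := finrank_mul_finrank F L V
  rw [hk] at hV
  have h5 := two_ne_zero_of_ne (F := F) hp2
  refine ⟨fun H => by_contra fun h2 => ?_, fun h1 f f1 ⟨z, f2⟩ f3 => ?_⟩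
  · have hrp : r ≠ p := fun e => by
      obtain ⟨f, f1, f2, f3⟩ := hG.exists_transv p (by omega)
      exact not_fixL_of_mult (by omega) (by omega) one_ne_zero f3
        (H.of_mult f1 (e ▸ f2) (by omega) (by omega)).fixL
    have hq := Fintype.one_lt_card (α := F)
    have h0 := natCast_ne_zero_of_card (F := F) hrp
    have h3 := h
    rw [hU.card_isoFix, hG.card_isoFix hV.symm, Nat.card_eq_fintype_card] at h h3
    simp only [pow_mul] at h
    rw [← qfac, qfac_sq, uOrd] at h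
    have h4 := mod_four_ne_of_dvd h2 (by omega) h0 (dvd_of_index (mt dvd_card_iff.1 hrp)
      (Finset.prod_pos fun i _ => by
        have := Nat.one_lt_pow (n := i + 1) (by omega) hq
        split_ifs <;> omega) ha h)
    obtain ⟨j, h6, h7⟩ := (prime_dvd_prod_iff _ _).1 ((hr.out.dvd_mul.1
      ((ha.mul_right _).trans h3)).resolve_left fun h8 =>
        hrp (dvd_card_iff.1 (hr.out.dvd_of_dvd_pow h8)))
    rw [dvd_pow_two_mul_sub_one_iff (by omega)] at h7
    have h8 := Nat.le_of_dvd (by omega) h7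
    have h9 := Finset.mem_range.1 h6
    obtain ⟨f, f1, f2, f3⟩ := hG.exists_blocks hrp h2 (s := 1) (by omega)
    have hi := orderOf_pos_of_ne_zero h0
    have h10 := cOf_pos hi
    rw [← mult_one] at f3
    obtain ⟨σ, g, g1, g2, g3⟩ := H.of_odd hG h2 f1 f2 (by omega)
    have g4 := sim_pow_eq_one g3.symm f2
    obtain rfl := g1.eq_one_of_ne (hk ▸ Nat.prime_two) hr.out (hk ▸ h2)
      (g4.trans (one_smul F _).symm) (g4 ▸ one_ne_zero)
    obtain ⟨g, rfl⟩ := g1.exists_res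
    have g5 := (hβ.isoU_iff hδ g).2 g2
    have g6 := hU.geom.cG_dvd (hU.dt hrp h2) g5 (res_pow_eq_one g4)
      (hU.geom.perp_inv g5 (fixS_inv g)) (hU.geom.nd_perp (hU.geom.nd_fixS g5
        (isSemisimple_of_pow_eq_one hrp (res_pow_eq_one g4)))) le_rfl
    have g7 := hU.geom.finrank_add_perp (fixS g)
    rw [← sim_mult g3, mult_res, map_one, hk, mult_one, cOf] at f3
    rw [hU.cG_eq, if_neg h4] at g6
    have g8 := Nat.le_of_dvd (by split_ifs at f3 <;> omega) g6
    simp only [Nat.even_iff] at f3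
    split_ifs at f3 g8 <;> omega
  subst h1
  rcases hG.sq_cases f1 f2 with f2 | f2
  · obtain ⟨j, hj⟩ := (hG.even_mult f1 (isSemisimple_of_sq_eq_one h5 f2)).two_dvd
    have h1 := mult_lt (f3 1)
    have h3 : (-1 : L) ≠ 1 := fun h => two_ne_zero_of_ne (F := L) hp2 (by linear_combination -h)
    obtain ⟨g, g1, g2⟩ := hU.exists_ed (μ := dg (Multiset.replicate j 1 +
      Multiset.replicate (finrank L V - j) (-1))) (fun _ => isPP_of_mem_dg)
      (fun _ => coeff_zero_of_mem_dg fun a ha => by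
        rcases Multiset.mem_add.1 ha with ha | ha <;> simp [Multiset.eq_of_mem_replicate ha])
      (by rw [sum_natDegree_dg]; simp; omega) (map_inv_signs _ _)
    have g3 : g ^ 2 = 1 := (pow_of_ed_eq_dg g2 fun a ha => by
      rcases Multiset.mem_add.1 ha with ha | ha <;>
        simp [Multiset.eq_of_mem_replicate ha]).trans (one_smul L _)
    refine ⟨1, _, semiB_res g, (hβ.isoU_iff hδ g).1 g1, sim_iff_ed_eq.2
      (ed_eq_of_sq (p := p) (by rw [res_pow, g3]; rfl) f2 ?_ rfl)⟩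
    classical
    rw [mult_res, map_one, mult_of_ed_eq_dg g2, hk, hj]
    simp [Multiset.count_replicate, h3]
  · obtain ⟨b, hb⟩ := hU.herm.exists_orthonormal_basis rfl
    obtain ⟨c, hc⟩ := hU.uf.exists_norm_eq (a := -1) (by simp)
    have g1 := semiB_semiHom b θ
    have g2 := semiHom_form (β := δ • β) (σ := θ) b (fun _ => rfl) fun i j => by
      rw [show (δ • β) (b i) (b j) = _ from hb j i]; simp [apply_ite θ]
    have g3 := (semiB_lsm c).mul g1
    have g4 : IsoA B (lsm F V c * semiHom b θ) := ⟨(hβ.iso_iff g3).2 fun u v => by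
      have h1 := g2 u v
      simp only [LinearMap.smul_apply, smul_eq_mul, map_mul, hθ] at h1
      refine mul_left_cancel₀ hδ ?_
      simp only [End.mul_apply, lsm_apply, LinearMap.map_smulₛₗ, LinearMap.smul_apply, smul_eq_mul,
        RingHom.id_apply, one_mul]
      linear_combination δ * β (semiHom b θ u) (semiHom b θ v) * hc - h1, fun _ => rfl⟩
    refine ⟨_, _, g3, g4, sim_iff_ed_eq.2 (hG.ed_eq_of_sq_neg hp2 g4 f1 ?_ f2)⟩
    have g5 : semiHom b θ ^ 2 = 1 := by rw [← map_pow, ← hk, pow_finrank_eq_one, map_one]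
    ext v
    rw [sq, End.mul_apply, End.mul_apply, End.mul_apply, lsm_apply, lsm_apply, g1, smul_smul,
      apply_apply_of_sq_eq_one g5, show c * θ c = -1 from hc, neg_one_smul]
    rfl

end Sp

section Mat

variable {F A : Type*} [Field F] {ι : Type} [Fintype ι] [DecidableEq ι] {H S T : Subgroup (GL ι F)}
  [AddCommGroup A] {B : (ι → F) →ₛₗ[RingHom.id F] (ι → F) →ₗ[F] F} {r : ℕ}

theorem allA_of_forall (hG : GeomA B) (h : ∀ x ∈ isoGL B fun _ => (0 : F),
    (∃ z : F, ((x ^ r : GL ι F) : Matrix ι ι F) = z • (1 : Matrix ι ι F)) →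
    (∀ z : F, (x : Matrix ι ι F) ≠ z • (1 : Matrix ι ι F)) →
    ∃ g ∈ isoGL B fun _ => (0 : F), g⁻¹ * x * g ∈ H) :
    AllA B r (FixG (H ⊓ isoGL B fun _ => (0 : F))) := fun f h1 ⟨z, h2⟩ h3 => by
  obtain ⟨x, rfl⟩ := exists_glRep (hG.isUnit h1)
  obtain ⟨g, g1, g2⟩ := h x (mem_isoGL.2 h1) ⟨z, glRep_pow_eq_smul.1 h2⟩
    fun z hz => h3 z (glRep_eq_smul.2 hz)
  exact fixG_of_conj (Subgroup.mem_inf.2 ⟨g2, mul_mem (mul_mem (inv_mem g1) (mem_isoGL.2 h1)) g1⟩)

theorem forall_of_allA [Finite F] [Nonempty ι] (hG : GeomA B) (h2 : (2 : F) ≠ 0) (hr : (r : F) ≠ 0)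
    (h : AllA B r (FixG (H ⊓ isoGL B fun _ => (0 : F)))) : ∀ x ∈ isoGL B fun _ => (0 : F),
    (∃ z : F, ((x ^ r : GL ι F) : Matrix ι ι F) = z • (1 : Matrix ι ι F)) →
    (∀ z : F, (x : Matrix ι ι F) ≠ z • (1 : Matrix ι ι F)) →
    ∃ g ∈ isoGL B fun _ => (0 : F), g⁻¹ * x * g ∈ H := fun x h1 ⟨z, h3⟩ h4 => by
  have h5 := glRep_pow_eq_smul.2 h3
  obtain ⟨y, ⟨y1, y2⟩, y3⟩ := h _ (mem_isoGL.1 h1) ⟨z, h5⟩ fun z hz => h4 z (glRep_eq_smul.1 hz)
  obtain ⟨e, e1, e2⟩ := SpO.isoConj_alt_of_pow hG.nondegenerate hG.nondegenerate hG.isAlt hG.isAlt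
    (mem_isoGL.1 y2).mapB (mem_isoGL.1 h1).mapB (m := r * 2) (by simp [hr, h2])
    (sim_pow_eq_one y3.symm (by
      rw [pow_mul, h5, _root_.smul_pow, sq, show z * z = 1 from
        hG.norm_eq_one (h5 ▸ (mem_isoGL.1 h1).pow r), one_pow, one_smul])) y3
  obtain ⟨g, rfl⟩ := (glEquiv F ι).surjective e
  refine ⟨g, mem_isoGL.2 ⟨e1, fun _ => rfl⟩, ?_⟩
  rwa [mul_assoc, show x * g = g * y from glRep_injective (by
    rw [map_mul, map_mul]; exact LinearMap.ext fun v => (e2 v).symm), inv_mul_cancel_left]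

variable {L : Type*} [Field L] [Algebra F L] [Module L (ι → F)] [IsScalarTower F L (ι → F)]
  [Fintype F] [Fintype L] {Q : (ι → F) → A} {τ : F →+ A}

theorem Geom.fixG_inf_eq (hG : Geom B Q τ)
    (hH : ∀ x, x ∈ H ↔ ∃ σ : L ≃ₐ[F] L, SemiB σ (glRep x)) :
    FixG (H ⊓ isoGL B Q) = FixI L B Q := funext fun _ => propext
  ⟨fun ⟨y, ⟨h1, h2⟩, h3⟩ => let ⟨σ, h⟩ := (hH y).1 h1; ⟨σ, _, h, mem_isoGL.1 h2, h3⟩,
    fun ⟨σ, _, h1, h2, h3⟩ => fixG_of_ed_eq (hG.isUnit h2)
      (fun y e => ⟨(hH y).2 ⟨σ, e ▸ h1⟩, mem_isoGL.2 (e ▸ h2)⟩) h3.ed_eq⟩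

theorem relIndex_mul_dvd_of_res (hS : S ≤ isoGL B Q)
    (hn : ∀ s ∈ S, ∀ t ∈ isoGL B Q, t * s * t⁻¹ ∈ S)
    (hH : ∀ x, x ∈ H ↔ ∃ σ : L ≃ₐ[F] L, SemiB σ (glRep x))
    {K : Subgroup ((ι → F) ≃ₗ[L] (ι → F))}
    (h : ∀ g ∈ K, Iso B Q ((g : End L (ι → F)).restrictScalars F)) :
    H.relIndex S * Nat.card K ∣ Nat.card (isoFix B Q ⊥) := by
  rw [← Subgroup.card_map_of_injective (resHom_injective (F := F)), ← card_eq_of_glEquiv
    (S := (K.map (resHom F L _)).comap (glEquiv F ι).toMonoidHom) fun _ => Iff.rfl, ← card_isoGL]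
  refine relIndex_mul_card_dvd_of_normal hS hn ?_ ?_ <;> rintro x ⟨g, h1, h2⟩
  · exact (hH x).2 ⟨1, fun l v => by
      rw [← coe_glEquiv, show glEquiv F ι x = _ from h2.symm]; exact g.map_smul l v⟩
  · rw [mem_isoGL, ← coe_glEquiv, show glEquiv F ι x = _ from h2.symm]
    exact h g h1

theorem exists_mem_of_ext {K : Subalgebra F (Matrix ι ι F)}
    (h : ∀ A, A ∈ K ↔ ∃ l : L, ∀ v : ι → F, A.mulVec v = l • v) (l : L) :
    ∃ A ∈ K, ∀ v : ι → F, A.mulVec v = l • v :=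
  ⟨LinearMap.toMatrix' (lsm F _ l), (h _).2 ⟨l, by simp⟩, by simp⟩

end Mat

end Cfsg.Agent.Cl.Der
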