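import Mathlib
import Cfsg.Agent.Cl.DerExt2

/-! Elements of prime order and stabilizers of tensor decompositions. -/

set_option autoImplicit false
set_option linter.unusedSectionVars false

namespace Cfsg.Agent.Cl.Der

open Polynomial Module Cfsg.Agent.Cl.Cls TensorProduct

section Lin

variable {F U W V : Type*} [Field F] [AddCommGroup U] [Module F U] [FiniteDimensional F U]
  [AddCommGroup W] [Module F W] [FiniteDimensional F W]
  [AddCommGroup V] [Module F V] [FiniteDimensional F V] {g : End F U} {h : End F W} {f : End F V}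

theorem exists_dual_of_not_scalar (hg : ∀ z : F, g ≠ z • 1) :
    ∃ (u : U) (φ : Dual F U), φ u = 0 ∧ φ (g u) ≠ 0 := by
  by_contra! H
  obtain ⟨c, hc⟩ := LinearMap.exists_eq_smul_id_of_forall_notLinearIndependent (f := g)
    fun u hu => by
      obtain ⟨φ, h1, h2⟩ := Submodule.exists_dual_map_eq_bot_of_notMem (p := F ∙ u) (x := g u)
        (fun h => by
          obtain ⟨c, hc⟩ := Submodule.mem_span_singleton.1 h
          simpa using ((LinearIndependent.pair_iff.1 hu) c (-1) (by simp [hc])).2) inferInstance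
      exact h1 (H u φ ((Submodule.eq_bot_iff _).1 h2 _
        (Submodule.mem_map_of_mem (Submodule.mem_span_singleton_self u))))
  exact hg c hc

theorem exists_dual_pair (hU : 3 ≤ finrank F U) (u v : U) :
    ∃ φ : Dual F U, φ ≠ 0 ∧ φ u = 0 ∧ φ v = 0 := by
  classical
  have h0 : finrank F (Submodule.span F (({u, v} : Finset U) : Set U)) ≤ 2 :=
    (finrank_span_finset_le_card (R := F) {u, v}).trans Finset.card_le_two
  obtain ⟨φ, h1, h2⟩ := Submodule.exists_dual_map_eq_bot_of_lt_top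
    (Submodule.lt_top_of_finrank_lt_finrank (h0.trans_lt hU)) inferInstance
  exact ⟨φ, h1, (Submodule.eq_bot_iff _).1 h2 _ (Submodule.mem_map_of_mem
    (Submodule.subset_span (by simp))), (Submodule.eq_bot_iff _).1 h2 _ (Submodule.mem_map_of_mem
    (Submodule.subset_span (by simp)))⟩

variable (W) in
/-- Contraction with a functional. -/
def ctr (φ : Dual F U) : U ⊗[F] W →ₗ[F] W := TensorProduct.lift ((LinearMap.lsmul F W).comp φ)

theorem ctr_tmul (φ : Dual F U) (u : U) (w : W) : ctr W φ (u ⊗ₜ w) = φ u • w := rfl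

theorem sim_map_comm (g : End F U) (h : End F W) : Sim (map g h) (map h g) :=
  ⟨TensorProduct.comm F U W, fun v => by
    induction v using TensorProduct.induction_on <;> simp [*]⟩

theorem exists_disjoint_map (hg : ∀ z : F, g ≠ z • 1) (hh : IsUnit h) (c : F) : ∃ u : U,
    finrank F (LinearMap.range (mk F U W u)) = finrank F W ∧
      Disjoint (LinearMap.ker (map g h - c • 1)) (LinearMap.range (mk F U W u)) := by
  obtain ⟨u, φ, h1, h2⟩ := exists_dual_of_not_scalar hg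
  have h3 : ∀ w, map g h (u ⊗ₜ w) = c • u ⊗ₜ[F] w → w = 0 := fun w hw => by
    have := congrArg (ctr W φ) hw
    rw [map_tmul, map_smul, ctr_tmul, ctr_tmul, h1, zero_smul, smul_zero] at this
    exact (End.isUnit_iff _).1 hh |>.1 (((smul_eq_zero.1 this).resolve_left h2).trans
      (map_zero h).symm)
  refine ⟨u, LinearMap.finrank_range_of_inj ((injective_iff_map_eq_zero _).2 fun w hw => h3 w ?_),
    Submodule.disjoint_def.2 ?_⟩
  · rw [show u ⊗ₜ[F] w = 0 from hw, map_zero, smul_zero]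
  · rintro _ h4 ⟨w, rfl⟩
    rw [h3 w (mem_ker_sub.1 h4), map_zero]

theorem mult_map_add_le (hg : ∀ z : F, g ≠ z • 1) (hh : IsUnit h) (c : F) :
    mult (map g h) c + finrank F W ≤ finrank F U * finrank F W := by
  obtain ⟨u, h1, h2⟩ := exists_disjoint_map hg hh c
  rw [← finrank_tensorProduct, ← h1]
  exact Submodule.finrank_add_finrank_le_of_disjoint h2

theorem mult_map_add_lt (hU : 3 ≤ finrank F U) (hg : ∀ z : F, g ≠ z • 1) (hg' : IsUnit g)
    (hh : ∀ z : F, h ≠ z • 1) (hh' : IsUnit h) (c : F) :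
    mult (map g h) c + finrank F W < finrank F U * finrank F W := by
  obtain ⟨u, h1, h2⟩ := exists_disjoint_map hg hh' c
  refine (mult_map_add_le hg hh' c).lt_of_ne fun h3 => ?_
  rw [← finrank_tensorProduct, ← h1] at h3
  have h4 := (Submodule.isCompl_iff_disjoint _ _ h3.ge).2 h2
  obtain ⟨φ, h5, h6, h7⟩ := exists_dual_pair hU u (g u)
  have h8 : ∀ t, ctr W φ ((map g h - c • 1) t) = 0 := fun t => by
    obtain ⟨a, ha, _, ⟨w, rfl⟩, rfl⟩ := Submodule.mem_sup.1 (h4.sup_eq_top ▸ Submodule.mem_top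
      (x := t))
    rw [map_add, LinearMap.mem_ker.1 ha, zero_add]
    simp [ctr_tmul, h6, h7]
  obtain ⟨v, hv⟩ := DFunLike.ne_iff.1 h5
  obtain ⟨v, rfl⟩ := ((End.isUnit_iff _).1 hg').2 v
  refine hh ((φ (g v))⁻¹ * (c * φ v)) (LinearMap.ext fun w => ?_)
  have := h8 (v ⊗ₜ w)
  simp only [LinearMap.sub_apply, map_tmul, map_sub, ctr_tmul, LinearMap.smul_apply, map_smul,
    End.one_apply, sub_eq_zero, smul_smul] at this
  rw [LinearMap.smul_apply, End.one_apply, mul_smul, ← this, inv_smul_smul₀ hv]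

theorem mult_map_one (h : End F W) (c : F) :
    mult (map (1 : End F U) h) c = finrank F U * mult h c := by
  have h1 := mult_add_rank (map (1 : End F U) h) c
  have h2 := congrArg (finrank F U * ·) (mult_add_rank h c)
  have h3 : map (1 : End F U) h - c • 1 = LinearMap.lTensor U (h - c • 1) :=
    TensorProduct.ext' fun u w => by simp
  rw [h3, LinearMap.lTensor_range, LinearMap.finrank_range_of_inj
    (Module.Flat.lTensor_preserves_injective_linearMap _ (Submodule.injective_subtype _)),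
    finrank_tensorProduct, finrank_tensorProduct] at h1
  simp only [mul_add] at h2
  omega

theorem map_smul_one (c : F) (h : End F W) :
    map (c • (1 : End F U)) h = map (1 : End F U) (c • h) := by
  rw [map_smul_left, map_smul_right]

theorem exists_scalar_of_map [Nontrivial W] (hh : IsUnit h) {z : F} (H : map g h = z • 1) :
    ∃ s : F, g = s • 1 := by
  by_contra! H'
  have := mult_map_add_le H' hh z
  rw [H, mult, sub_self, LinearMap.ker_zero, finrank_top, finrank_tensorProduct] at this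
  exact (finrank_pos (R := F) (M := W)).not_ge (by omega)

theorem eq_one_of_map [Nontrivial U] (H : map (1 : End F U) h = 1) : h = 1 := by
  by_contra H'
  have h1 := mult_map_one (U := U) h 1
  have h2 := mult_lt (f := h) (c := 1) (by rwa [one_smul])
  rw [H, mult, one_smul, sub_self, LinearMap.ker_zero, finrank_top, finrank_tensorProduct] at h1
  exact h2.ne' (Nat.eq_of_mul_eq_mul_left finrank_pos h1)

/-- Normalising the factors of a tensor product of order `r`. -/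
theorem exists_pow_of_map [Nontrivial U] [Nontrivial W] (hg : IsUnit g) (hh : IsUnit h) {r : ℕ}
    (H : map g h ^ r = 1) : ∃ s : F, s ≠ 0 ∧ g ^ r = s • 1 ∧ ∀ t : F, t ^ r = s →
      (t⁻¹ • g) ^ r = 1 ∧ (t • h) ^ r = 1 := by
  rw [TensorProduct.map_pow] at H
  obtain ⟨s, hs⟩ := exists_scalar_of_map (hh.pow r) (H.trans (one_smul F _).symm)
  have h0 := ne_zero_of_pow_eq_smul hg hs
  refine ⟨s, h0, hs, fun t ht => ⟨?_, eq_one_of_map (U := U) ?_⟩⟩
  · rw [_root_.smul_pow, hs, inv_pow, ht, inv_smul_smul' h0]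
  · rw [_root_.smul_pow, ht, ← map_smul_one, ← hs, H]

theorem pow_eq_one_of_smul [Nontrivial V] {z : F} {k : ℕ} (h : (z • (1 : End F V)) ^ k = 1) :
    z ^ k = 1 := smul_left_injective F (one_ne_zero (α := End F V))
  (by rwa [_root_.smul_pow, one_pow, ← one_smul F (1 : End F V), smul_smul, mul_one] at h)

theorem map_inv_smul {t : F} (ht : t ≠ 0) (g : End F U) (h : End F W) :
    map (t⁻¹ • g) (t • h) = map g h := by
  rw [map_smul_left, map_smul_right, inv_smul_smul' ht]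

variable (U W) in
/-- `f` is similar to a tensor product. -/
def FixT (f : End F V) : Prop :=
  ∃ (g : End F U) (h : End F W), IsUnit g ∧ IsUnit h ∧ Sim (map g h) f

theorem FixT.symm (H : FixT U W f) : FixT W U f :=
  let ⟨g, h, h1, h2, h3⟩ := H; ⟨h, g, h2, h1, (sim_map_comm h g).trans h3⟩

theorem FixT.smul (f : End F V) (c : F) (hc : c ≠ 0) (H : FixT U W f) : FixT U W (c • f) :=
  let ⟨g, h, h1, h2, h3⟩ := H
  ⟨c • g, h, h1.smul (Units.mk0 c hc), h2, map_smul_left c g h ▸ sim_smul h3 c⟩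

theorem FixT.dvd_mult (H : FixT U W f) {c : F}
    (hc : finrank F U * finrank F W < mult f c + finrank F W) (d : F) : finrank F U ∣ mult f d := by
  obtain ⟨g, h, h1, h2, h3⟩ := H
  by_cases h4 : ∀ z : F, g ≠ z • 1
  · exact absurd (sim_mult h3 c ▸ mult_map_add_le h4 h2 c) hc.not_ge
  · push Not at h4
    obtain ⟨z, rfl⟩ := h4
    rw [← sim_mult h3, map_smul_one, mult_map_one]
    exact dvd_mul_right _ _

theorem FixT.not_of_mult (H : FixT U W f) {c : F} {k : ℕ} (hk : k < finrank F W)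
    (hc : mult f c + k = finrank F U * finrank F W) : finrank F U ∣ k :=
  (Nat.dvd_add_right (H.dvd_mult (c := c) (by omega) c)).1 (hc ▸ dvd_mul_right _ _)

theorem eq_zero_of_mul_dvd {a b m c : ℕ} (ha : 2 ≤ a) (hm : m ≤ b) (h : c ∣ b - m)
    (hn : a * m + c = a * b) : c = 0 := by
  obtain ⟨k, rfl⟩ := Nat.exists_eq_add_of_le hm
  obtain ⟨j, hj⟩ := h
  rw [Nat.add_sub_cancel_left] at hj
  subst hj
  rw [mul_add, Nat.add_left_cancel_iff] at hn
  by_contra h0
  rcases j with _ | j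
  · exact h0 (by simpa using hn)
  · have := Nat.pos_of_ne_zero h0
    nlinarith

variable {r : ℕ} [hr : Fact r.Prime] [Fintype F] {p : ℕ} [hp : Fact p.Prime] [CharP F p]

theorem orderOf_dvd_sub_mult (hrp : r ≠ p) (hf : f ^ r = 1) :
    orderOf ((Fintype.card F : ℕ) : ZMod r) ∣ finrank F V - mult f 1 := by
  by_cases h0 : orderOf ((Fintype.card F : ℕ) : ZMod r) = 1
  · rw [h0]
    exact one_dvd _
  obtain ⟨k, s, h2⟩ := exists_degs_eq_oneA hrp hf
  have h4 := sum_degs f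
  rw [h2, sum_oneA] at h4
  rw [mult_one, fixS, finrank_ker_of_degs_eq_oneA hrp hf h0 h2, ← h4, Nat.add_sub_cancel_left]
  exact dvd_mul_left _ _

theorem FixT.not_of_block (H : FixT U W f) (hrp : r ≠ p) (hq : ¬ r ∣ Fintype.card F - 1)
    (ha : 2 ≤ finrank F U) (hab : finrank F U < finrank F W) (hf : f ^ r = 1) :
    mult f 1 + orderOf ((Fintype.card F : ℕ) : ZMod r) ≠ finrank F U * finrank F W := fun h0 => by
  have : Nontrivial U := Module.nontrivial_of_finrank_pos (R := F) (by omega)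
  have : Nontrivial W := Module.nontrivial_of_finrank_pos (R := F) (by omega)
  obtain ⟨g, h, h1, h2, h3⟩ := H
  obtain ⟨s, s1, -, s2⟩ := exists_pow_of_map h1 h2 (sim_pow_eq_one h3.symm hf)
  obtain ⟨t, -, t1, -⟩ := exists_pow_eq_of_coprime ((Nat.Prime.coprime_iff_not_dvd hr.1).2 hq)
    (FiniteField.pow_card_sub_one_eq_one s s1)
  obtain ⟨t2, t3⟩ := s2 t t1
  rw [← sim_mult h3, ← map_inv_smul (t := t) (fun e => s1 (by
    rw [← t1, e, zero_pow hr.1.ne_zero]))] at h0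
  generalize t⁻¹ • g = g at t2 h0
  generalize t • h = h at t3 h0
  by_cases h4 : ∀ z : F, g ≠ z • 1
  · have h5 := mult_map_add_le h4 (isUnit_of_pow_eq_one hr.1.ne_zero t3) 1
    have h6 := Nat.le_of_dvd (Nat.sub_pos_of_lt (mult_lt (h4 1))) (orderOf_dvd_sub_mult hrp t2)
    omega
  · push Not at h4
    obtain ⟨z, rfl⟩ := h4
    rw [eq_one_of_not_dvd hq (pow_eq_one_of_smul t2), one_smul, mult_map_one] at h0
    exact (orderOf_pos_of_ne_zero (natCast_ne_zero_of_card (F := F) hrp)).ne'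
      (eq_zero_of_mul_dvd ha (Submodule.finrank_le _) (orderOf_dvd_sub_mult hrp t3) h0)

theorem exists_invol_mult {k : ℕ} (h2 : (2 : F) ≠ 0) (hk : k ≤ finrank F V) :
    ∃ f : End F V, f ^ 2 = 1 ∧ mult f 1 = k := by
  classical
  obtain ⟨g, hg⟩ := exists_ed_eq_dg (V := V) (t := Multiset.replicate k (1 : F) +
    Multiset.replicate (finrank F V - k) (-1)) (by simp; omega)
  have h4 : (-1 : F) ≠ 1 := fun h => h2 (by linear_combination -h)
  exact ⟨g, (pow_of_ed_eq_dg hg fun a ha => by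
    rcases Multiset.mem_add.1 ha with ha | ha <;>
      simp [Multiset.eq_of_mem_replicate ha]).trans (one_smul F _), by
    simp [mult_of_ed_eq_dg hg, Multiset.count_replicate, h4]⟩

theorem allP_ten_iff (ha : 2 ≤ finrank F U) (hab : finrank F U < finrank F W)
    (hV : finrank F V = finrank F U * finrank F W)
    (hi : r ≠ p → orderOf ((Fintype.card F : ℕ) : ZMod r) ≤ finrank F V) :
    AllP r (FixT (V := V) (F := F) U W) ↔ r = 2 ∧ finrank F U = 2 ∧ Odd (Fintype.card F) ∧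
      padicValNat 2 (Fintype.card F - 1) ≤ padicValNat 2 (finrank F V) := by
  classical
  have hn : 6 ≤ finrank F V := hV ▸ Nat.mul_le_mul ha (show 3 ≤ finrank F W by omega)
  have : Nontrivial V := Module.nontrivial_of_finrank_pos (R := F) (by omega)
  rw [AllP, lin_forall_iff hr.1.ne_zero FixT.smul]
  refine ⟨fun ⟨H, _⟩ => ?_, fun ⟨h1, h2, h3, h4⟩ => ?_⟩
  · have key : ∀ f : End F V, f ^ r = 1 → (∀ z : F, f ≠ z • 1) →
        (∃ c : F, c ^ finrank F V * LinearMap.det f = 1) → mult f 1 + 1 ≠ finrank F V :=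
      fun f f1 f2 f3 f4 => by
        have := Nat.le_of_dvd one_pos ((H f f1 f2 f3).not_of_mult (by omega) (f4.trans hV))
        omega
    have hrp : r ≠ p := fun e => by
      obtain ⟨f, f1, f2, f3, f4⟩ := exists_transv F V p (by omega)
      exact key f (e ▸ f2) f3 ⟨1, by simp [f1]⟩ f4
    by_cases hq : r ∣ Fintype.card F - 1
    · obtain ⟨ω, hω⟩ := exists_primitiveRoot hq
      have h1 := hω.ne_one hr.1.one_lt
      have h0 := hω.ne_zero hr.1.ne_zero
      obtain ⟨f, hf⟩ := exists_ed_eq_dg (V := V) (t := ω ::ₘ ω⁻¹ ::ₘ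
        Multiset.replicate (finrank F V - 2) 1) (by simp; omega)
      have h3 : mult f 1 + 2 = finrank F V := by
        rw [mult_of_ed_eq_dg hf]; simp [h1.symm, (inv_ne_one.2 h1).symm]; omega
      have h4 := H f ((pow_of_ed_eq_dg hf fun a ha => by
        simp only [Multiset.mem_cons] at ha
        rcases ha with rfl | rfl | ha
        · exact hω.pow_eq_one
        · rw [inv_pow, hω.pow_eq_one, inv_one]
        · rw [Multiset.eq_of_mem_replicate ha, one_pow]).trans (one_smul F _))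
        (ne_smul_of_movE (by rw [← mult_one]; omega)
          (ne_one_of_finrank_fixS (by rw [← mult_one]; omega)))
        ⟨1, by simp [det_of_ed_eq_dg hf, h0]⟩
      have h5 : r = 2 := by
        by_contra h5
        have h6 := h4.dvd_mult (c := 1) (by omega) ω
        have h7 : ω ≠ ω⁻¹ := fun e => h5 ((Nat.prime_dvd_prime_iff_eq hr.1 Nat.prime_two).1
          (hω.dvd_of_pow_eq_one 2 (by rw [sq]; nth_rw 2 [e]; exact mul_inv_cancel₀ h0)))
        rw [mult_of_ed_eq_dg hf] at h6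
        simp [Multiset.count_replicate, h1.symm, h7] at h6
        omega
      subst h5
      have h6 := Nat.le_of_dvd two_pos (h4.not_of_mult (by omega) (h3.trans hV))
      refine ⟨rfl, by omega, Nat.odd_iff.2 (FiniteField.odd_card_of_char_ne_two
        ((ringChar.eq F p).trans_ne hrp.symm)), not_lt.1 fun h4 => ?_⟩
      obtain ⟨f, f1, f2, f3, f4⟩ := exists_homology V (r := 2) (by omega) hω.pow_eq_one h1
      exact key f f2 f3 (f1 ▸ exists_pow_mul_eq_one h4 hω.pow_eq_one) f4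
    · obtain ⟨e, he⟩ := cycF_nonempty (F := F) (r := r)
      obtain ⟨f, f1, -, f2⟩ := exists_block hrp (hi hrp) he
      have h9 := orderOf_pos_of_ne_zero (natCast_ne_zero_of_card (F := F) hrp)
      refine absurd ((mult_one f ▸ f2).trans hV) ((H f f1 (fun z hz => ?_)
        ⟨1, by simp [det_eq_one_of_not_dvd hq f1]⟩).not_of_block hrp hq ha hab f1)
      rw [eq_one_of_not_dvd hq (pow_eq_one_of_smul (z := z) (hz ▸ f1)), one_smul] at hz
      exact ne_one_of_finrank_fixS (by omega) hz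
  subst h1
  have hp2 := ne_two_of_odd_card (p := p) h3
  have h5 := two_ne_zero_of_ne (F := F) hp2
  refine ⟨fun f f1 _ ⟨c, hc⟩ => ?_, fun f z f1 f2 f3 => ?_⟩
  · obtain ⟨k, l, h6, h7, h8⟩ := exists_ed_of_sq hp2.symm f1
    have h9 : (-1 : F) ≠ 1 := fun h => h5 (by linear_combination -h)
    obtain ⟨l, rfl⟩ := (neg_one_pow_eq_one_iff_even h9).1 (h8 ▸ det_eq_one_of_le (r := 2) h4 f1 hc)
    obtain ⟨h, g1, g2⟩ := exists_invol_mult (V := W) (k := finrank F W - l) h5 (by omega)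
    refine ⟨1, h, isUnit_one, isUnit_of_pow_eq_one two_ne_zero g1, sim_iff_ed_eq.2
      (ed_eq_of_sq (p := p) ?_ f1 ?_ (by rw [finrank_tensorProduct, hV]))⟩
    · rw [TensorProduct.map_pow, g1, one_pow, TensorProduct.map_one]
    · rw [mult_map_one, g2, mult_of_ed_eq_dg h7]
      simp [Multiset.count_replicate, h9]
      rw [h2] at hV ⊢
      omega
  · obtain ⟨g, hg⟩ := exists_ed_eq (V := U) (s := {X ^ 2 - C z}) (fun e he =>
      Multiset.mem_singleton.1 he ▸ isPP_of_irreducible (monic_X_pow_sub_C z two_ne_zero)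
        ((X_pow_sub_C_irreducible_iff_of_prime Nat.prime_two).2 f3)) (by simp [h2])
    have g1 : g ^ 2 = z • 1 := pow_eq_smul_of_ed fun e he => by
      rw [hg] at he; rw [Multiset.mem_singleton.1 he]
    refine ⟨g, 1, (isUnit_pow_iff two_ne_zero).1 (g1 ▸ isUnit_one.smul (Units.mk0 z fun e =>
      f3 0 (by simp [e]))), isUnit_one, sim_iff_ed_eq.2 (ed_eq_of_nonpow f3 ?_ f2
        (by rw [finrank_tensorProduct, hV]))⟩
    rw [TensorProduct.map_pow, g1, one_pow, map_smul_left, TensorProduct.map_one]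

variable {B : V →ₛₗ[RingHom.id F] V →ₗ[F] F} {A : U →ₛₗ[RingHom.id F] U →ₗ[F] F}
  {Q : QuadraticForm F W} {Φ : U ⊗[F] W ≃ₗ[F] V} {κ μ : F}

theorem sim_conj (Φ : U ⊗[F] W ≃ₗ[F] V) (y : End F (U ⊗[F] W)) : Sim y (Φ.conj y) :=
  ⟨Φ, fun v => by simp⟩

variable (A Q) in
/-- `f` is similar to a tensor product of similarities with inverse multipliers. -/
def FixTI (f : End F V) : Prop := ∃ (g : End F U) (h : End F W) (μ : F), μ ≠ 0 ∧ SimB A μ g ∧
  SimB (σ := RingHom.id F) (QuadraticMap.polarBilin Q) μ⁻¹ h ∧ Sim (map g h) f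

variable (B A Q Φ κ) in
/-- `B` is a multiple of the tensor product of two forms. -/
def TenB : Prop := ∀ u w u' w',
  B (Φ (u ⊗ₜ w)) (Φ (u' ⊗ₜ w')) = κ * (A u u' * QuadraticMap.polarBilin Q w w')

theorem TenB.isoA (hT : TenB B A Q Φ κ) (hμ : μ ≠ 0) (hg : SimB A μ g)
    (hh : SimB (σ := RingHom.id F) (QuadraticMap.polarBilin Q) μ⁻¹ h) :
    IsoA B (Φ.conj (map g h)) := by
  refine ⟨fun x y => ?_, fun _ => rfl⟩
  obtain ⟨x, rfl⟩ := Φ.surjective x
  obtain ⟨y, rfl⟩ := Φ.surjective y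
  rw [LinearEquiv.conj_apply_apply, LinearEquiv.conj_apply_apply, Φ.symm_apply_apply,
    Φ.symm_apply_apply]
  induction x using TensorProduct.induction_on with
  | zero => simp
  | add a b ha hb => simp only [map_add, LinearMap.add_apply, ha, hb]
  | tmul u w =>
    induction y using TensorProduct.induction_on with
    | zero => simp
    | add a b ha hb => simp only [map_add, ha, hb]
    | tmul u' w' =>
      rw [map_tmul, map_tmul, hT, hT, hg, hh]
      field_simp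

theorem TenB.exists_sim [Nontrivial U] [Nontrivial W] (hT : TenB B A Q Φ κ) (hκ : κ ≠ 0)
    (hA : GeomA A) (hQ : GeomQ Q) (H : IsoA B (Φ.conj (map g h))) : ∃ μ, μ ≠ 0 ∧ SimB A μ g ∧
      SimB (σ := RingHom.id F) (QuadraticMap.polarBilin Q) μ⁻¹ h := by
  have h1 : ∀ u u' w w', A (g u) (g u') * QuadraticMap.polarBilin Q (h w) (h w') =
      A u u' * QuadraticMap.polarBilin Q w w' := fun u u' w w' => by
    have := H.mapB (Φ (u ⊗ₜ w)) (Φ (u' ⊗ₜ w'))
    rw [LinearEquiv.conj_apply_apply, LinearEquiv.conj_apply_apply, Φ.symm_apply_apply,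
      Φ.symm_apply_apply, map_tmul, map_tmul, hT, hT] at this
    exact mul_left_cancel₀ hκ this
  obtain ⟨u, hu⟩ := exists_ne (0 : U)
  obtain ⟨w, hw⟩ := exists_ne (0 : W)
  obtain ⟨u', h2⟩ := not_forall.1 (mt (hA.nondeg u) hu)
  obtain ⟨w', h3⟩ := not_forall.1 (mt (hQ.nondeg w) hw)
  have h4 := h1 u u' w w'
  have h5 := mul_ne_zero_iff.1 (h4 ▸ mul_ne_zero h2 h3)
  refine ⟨A (g u) (g u') / A u u', div_ne_zero h5.1 h2, fun v v' => ?_, fun v v' => ?_⟩
  · refine mul_right_cancel₀ h5.2 ?_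
    rw [h1, div_mul_eq_mul_div, div_mul_eq_mul_div, mul_right_comm, h4]
    field_simp
  · refine mul_left_cancel₀ h5.1 ?_
    rw [h1]
    field_simp [h5.1]

theorem FixTI.fixT (hA : GeomA A) (hQ : GeomQ Q) (H : FixTI A Q f) : FixT U W f :=
  let ⟨g, h, _, h1, h2, h3, h4⟩ := H
  ⟨g, h, hA.isUnit_of_sim h1 h2, hQ.isUnit_of_sim (inv_ne_zero h1) h3, h4⟩

theorem Geom.cOf_dvd_sub {C : Type*} [AddCommGroup C] {τ : F →+ C} {P : V → C} (hG : Geom B P τ)
    (h : Iso B P f) (hrp : r ≠ p) (h2 : r ≠ 2) (hf : f ^ r = 1) :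
    cOf (orderOf ((Fintype.card F : ℕ) : ZMod r)) ∣ finrank F V - mult f 1 := by
  have := hG.cOf_dvd_inf h hrp h2 hf (fun _ _ => Submodule.mem_top) hG.nd_top
  rwa [top_inf_eq, Nat.eq_sub_of_add_eq' (hG.finrank_add_perp _), ← mult_one] at this

theorem FixTI.not_of_block (H : FixTI A Q f) (hA : GeomA A) (hQ : GeomQ Q) (hp2 : p ≠ 2)
    (hrp : r ≠ p) (h2 : r ≠ 2) (ha : 2 ≤ finrank F U) (hb : 3 ≤ finrank F W) (hf : f ^ r = 1) :
    mult f 1 + cOf (orderOf ((Fintype.card F : ℕ) : ZMod r)) ≠ finrank F U * finrank F W :=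
    fun h0 => by
  have : Nontrivial U := Module.nontrivial_of_finrank_pos (R := F) (by omega)
  have : Nontrivial W := Module.nontrivial_of_finrank_pos (R := F) (by omega)
  obtain ⟨g, h, μ, h1, g1, g2, h3⟩ := H
  obtain ⟨s, s1, s2, s3⟩ := exists_pow_of_map (hA.isUnit_of_sim h1 g1)
    (hQ.isUnit_of_sim (inv_ne_zero h1) g2) (sim_pow_eq_one h3.symm hf)
  obtain ⟨k, hk⟩ := hr.1.odd_of_ne_two h2
  have s4 : μ ^ r = s * s := hA.pow_of_sim g1 s2
  have t0 : s / μ ^ k ≠ 0 := div_ne_zero s1 (pow_ne_zero k h1)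
  have t1 : s / μ ^ k * (s / μ ^ k) = μ := by
    rw [div_mul_div_comm, ← s4, hk]; field_simp; ring
  obtain ⟨t2, t3⟩ := s3 (s / μ ^ k) (by
    rw [div_pow, ← pow_mul, mul_comm k, pow_mul, s4, hk]; field_simp; ring)
  have g3 := g1.smul (s / μ ^ k)⁻¹
  have g4 := g2.smul (s / μ ^ k)
  rw [RingHom.id_apply, ← mul_inv, t1, inv_mul_cancel₀ h1] at g3
  rw [RingHom.id_apply, t1, mul_inv_cancel₀ h1] at g4
  rw [← sim_mult h3, ← map_inv_smul t0] at h0
  generalize (s / μ ^ k)⁻¹ • g = g at t2 g3 h0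
  generalize (s / μ ^ k) • h = h at t3 g4 h0
  have g5 := hA.cOf_dvd_sub g3.isoA hrp h2 t2
  have g6 := hQ.cOf_dvd_sub (g4.isoQ (two_ne_zero_of_ne hp2)) hrp h2 t3
  have h9 := cOf_pos (orderOf_pos_of_ne_zero (natCast_ne_zero_of_card (F := F) hrp))
  have key : ∀ z : F, z * z = 1 → z ^ r = 1 → z = 1 := fun z z1 z2 => by
    rwa [hk, pow_succ, pow_mul, sq, z1, one_pow, one_mul] at z2
  by_cases h4 : ∃ z : F, g = z • 1
  · obtain ⟨z, rfl⟩ := h4
    rw [key z (hA.norm_eq_one g3.isoA) (pow_eq_one_of_smul t2), one_smul, mult_map_one] at h0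
    exact h9.ne' (eq_zero_of_mul_dvd ha (Submodule.finrank_le _) g6 h0)
  by_cases h5 : ∃ z : F, h = z • 1
  · obtain ⟨z, rfl⟩ := h5
    rw [key z (hQ.norm_eq_one (g4.isoQ (two_ne_zero_of_ne hp2))) (pow_eq_one_of_smul t3), one_smul,
      sim_mult (sim_map_comm _ _), mult_map_one, mul_comm (finrank F U)] at h0
    exact h9.ne' (eq_zero_of_mul_dvd (by omega) (Submodule.finrank_le _) g5 h0)
  push Not at h4 h5
  have h6 := mult_map_add_lt hb h5 (isUnit_of_pow_eq_one hr.1.ne_zero t3) h4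
    (isUnit_of_pow_eq_one hr.1.ne_zero t2) 1
  have h7 := Nat.le_of_dvd (Nat.sub_pos_of_lt (mult_lt (h4 1))) g5
  rw [sim_mult (sim_map_comm _ _), mul_comm] at h6
  omega

theorem TenB.allA_iff (hT : TenB B A Q Φ κ) (hG : GeomA B) (hA : GeomA A) (hQ : GeomQ Q)
    (hp2 : p ≠ 2) (ha : 2 ≤ finrank F U) (hb : 3 ≤ finrank F W)
    (h : r ∣ Nat.card (isoFix B (fun _ => (0 : F)) ⊥)) :
    AllA B r (FixTI A Q) ↔ r = 2 ∧ finrank F U = 2 := by
  have hV : finrank F V = finrank F U * finrank F W := by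
    rw [← Φ.finrank_eq, finrank_tensorProduct]
  have hn : 6 ≤ finrank F V := hV ▸ Nat.mul_le_mul ha hb
  have : Nontrivial V := Module.nontrivial_of_finrank_pos (R := F) (by omega)
  have h2 := two_ne_zero_of_ne (F := F) hp2
  refine ⟨fun H => ?_, fun ⟨h1, h3⟩ f f1 ⟨z, f2⟩ _ => ?_⟩
  · have hrp : r ≠ p := fun e => by
      obtain ⟨f, f1, f2, f3⟩ := hG.exists_transv p (by omega)
      have := Nat.le_of_dvd one_pos (((H.of_mult f1 (e ▸ f2) (by omega) (by omega)).fixT hA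
        hQ).not_of_mult (by omega) (f3.trans hV))
      omega
    by_cases h1 : r = 2
    · subst h1
      obtain ⟨f, f1, f2, f3⟩ := hG.exists_invol h2 even_two (by omega)
      have := Nat.le_of_dvd two_pos (((H.of_mult f1 f2 (by omega) (by omega)).fixT hA
        hQ).not_of_mult (by omega) (f3.trans hV))
      exact ⟨rfl, by omega⟩
    obtain ⟨d, hd⟩ := (hG.even hG.nd_top).two_dvd
    rw [finrank_top] at hd
    rw [hG.card_isoFix hd, Nat.card_eq_fintype_card] at h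
    obtain ⟨j, h3, h4⟩ := (prime_dvd_prod_iff _ _).1 (((Nat.Prime.dvd_mul hr.1).1 h).resolve_left
      fun e => hrp (dvd_card_iff.1 (hr.1.dvd_of_dvd_pow e)))
    have h6 := Nat.le_of_dvd (by omega) ((dvd_pow_two_mul_sub_one_iff Fintype.card_pos _).1 h4)
    have h7 := Finset.mem_range.1 h3
    obtain ⟨f, f1, f2, f3⟩ := hG.exists_blocks hrp h1 (s := 1) (by omega)
    have h9 := cOf_pos (orderOf_pos_of_ne_zero (natCast_ne_zero_of_card (F := F) hrp))
    rw [← mult_one, one_mul] at f3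
    exact absurd (f3.trans hV) ((H.of_odd hG h1 f1 f2 (by omega)).not_of_block hA hQ hp2 hrp h1
      ha hb f2)
  subst h1
  rcases hG.sq_cases f1 f2 with f2 | f2
  · obtain ⟨k, hk⟩ := hG.even_mult f1 (isSemisimple_of_sq_eq_one h2 f2)
    have h4 : mult f 1 ≤ finrank F V := Submodule.finrank_le _
    rw [hV, h3] at h4
    obtain ⟨Y, -, h5, h6⟩ := hQ.exists_nd_odd h2 hQ.nd_top (e := finrank F W - k)
      (by rw [finrank_top]; omega)
    obtain ⟨h, g1, g2, g3, -⟩ := hQ.exists_neg_on h2 h5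
    have g4 := hQ.finrank_add_perp Y
    refine ⟨1, h, 1, one_ne_zero, fun _ _ => (one_mul _).symm, by simpa using g1.simB,
      sim_iff_ed_eq.2 (ed_eq_of_sq (p := p) ?_ f2 ?_ (by rw [finrank_tensorProduct, hV]))⟩
    · rw [TensorProduct.map_pow, g2, one_pow, TensorProduct.map_one]
    · rw [mult_map_one, mult_one h, g3, h3]
      omega
  · obtain ⟨g, g1, g2⟩ := hA.exists_sq_eq_neg_one h2
    have g3 : SimB (σ := RingHom.id F) (QuadraticMap.polarBilin Q) 1⁻¹ 1 := fun _ _ => by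
      rw [inv_one, one_mul]; rfl
    refine ⟨g, 1, 1, one_ne_zero, g1.simB, g3, (sim_conj Φ _).trans (sim_iff_ed_eq.2
      (hG.ed_eq_of_sq_neg hp2 (hT.isoA one_ne_zero g1.simB g3) f1 ?_ f2))⟩
    refine (sim_pow_eq (z := -1) (sim_conj Φ _) ?_).trans (neg_one_smul F _)
    rw [TensorProduct.map_pow, g2, one_pow, ← neg_one_smul F, map_smul_left, TensorProduct.map_one]

end Lin

section Mat

variable {F : Type*} [Field F] [Fintype F] {ι : Type} [Fintype ι] [DecidableEq ι] {a b : ℕ}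
  {H : Subgroup (GL ι F)} {Φ : (Fin a → F) ⊗[F] (Fin b → F) ≃ₗ[F] (ι → F)}

open Matrix Kronecker in
theorem exists_ten (e : ι ≃ Fin a × Fin b) (P : GL ι F) :
    ∃ Φ : (Fin a → F) ⊗[F] (Fin b → F) ≃ₗ[F] (ι → F),
      (∀ u w, Φ (u ⊗ₜ w) = (P : Matrix ι ι F) *ᵥ ((fun k : Fin a × Fin b => u k.1 * w k.2) ∘ e)) ∧
      ∀ x, x ∈ Cfsg.Geo.tensorProductSubgroup a b e P ↔
        ∃ g h, IsUnit g ∧ IsUnit h ∧ glRep x = Φ.conj (map g h) := by
  let Ψ := ((Pi.basisFun F (Fin a)).tensorProduct (Pi.basisFun F (Fin b))).equivFun ≪≫ₗ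
    LinearEquiv.funCongrLeft F F e
  have hΨ : ∀ u w, Ψ (u ⊗ₜ w) = (fun k : Fin a × Fin b => u k.1 * w k.2) ∘ e := fun u w => by
    ext i
    exact (Basis.tensorProduct_repr_tmul_apply _ _ u w (e i).1 (e i).2).trans (by simp [mul_comm])
  have key : ∀ (g : GL (Fin a) F) (h : GL (Fin b) F) (y : GL (Fin a × Fin b) F),
      y.1 = g.1 ⊗ₖ h.1 →
      glRep (MulAut.conj P (Cfsg.Geo.glReindex e.symm y)) =
        (Ψ ≪≫ₗ glEquiv F ι P).conj (map (glRep g) (glRep h)) := fun g h y hy => by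
    rw [LinearEquiv.conj_apply, LinearEquiv.eq_comp_toLinearMap_symm]
    refine TensorProduct.ext' fun u w => ?_
    change glRep _ (glRep P (Ψ _)) = glRep P (Ψ (_ ⊗ₜ _))
    rw [← End.mul_apply, ← map_mul, MulAut.conj_apply, inv_mul_cancel_right, map_mul,
      End.mul_apply, hΨ, hΨ]
    congr 1
    ext i
    simp [glRep_apply, Cfsg.Geo.glReindex, hy, mulVec, dotProduct, Fintype.sum_prod_type,
      Finset.sum_mul_sum, mul_mul_mul_comm]
  refine ⟨Ψ ≪≫ₗ glEquiv F ι P, fun u w => by rw [← hΨ]; rfl, fun x => ⟨?_, ?_⟩⟩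
  · rintro ⟨_, ⟨y, ⟨g, h, hy⟩, rfl⟩, rfl⟩
    exact ⟨_, _, isUnit_glRep g, isUnit_glRep h, key g h y hy⟩
  · rintro ⟨g, h, h1, h2, h3⟩
    obtain ⟨g, rfl⟩ := exists_glRep h1
    obtain ⟨h, rfl⟩ := exists_glRep h2
    let y : GL (Fin a × Fin b) F := ⟨g.1 ⊗ₖ h.1, (g⁻¹).1 ⊗ₖ (h⁻¹).1,
      by rw [← mul_kronecker_mul, Units.mul_inv, Units.mul_inv, one_kronecker_one],
      by rw [← mul_kronecker_mul, Units.inv_mul, Units.inv_mul, one_kronecker_one]⟩
    exact ⟨_, ⟨y, ⟨g, h, rfl⟩, rfl⟩, glRep_injective ((key g h y rfl).trans h3.symm)⟩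

theorem isUnit_conj_map {g : End F (Fin a → F)} {h : End F (Fin b → F)} (hg : IsUnit g)
    (hh : IsUnit h) : IsUnit (Φ.conj (map g h)) :=
  let ⟨g', g1⟩ := hg.exists_right_inv
  let ⟨h', h1⟩ := hh.exists_right_inv
  (IsUnit.of_mul_eq_one (map g' h') (by
    rw [← TensorProduct.map_mul, g1, h1, TensorProduct.map_one])).map Φ.conjRingEquiv

theorem fixG_ten (hH : ∀ x, x ∈ H ↔ ∃ g h, IsUnit g ∧ IsUnit h ∧ glRep x = Φ.conj (map g h)) :
    FixG H = FixT (Fin a → F) (Fin b → F) := _root_.funext fun _ => propext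
  ⟨fun ⟨y, h1, h2⟩ => let ⟨g, h, g1, g2, g3⟩ := (hH y).1 h1
    ⟨g, h, g1, g2, (sim_conj Φ _).trans (g3 ▸ h2)⟩, fun ⟨g, h, g1, g2, g3⟩ =>
    let ⟨y, hy⟩ := exists_glRep (isUnit_conj_map (Φ := Φ) g1 g2)
    ⟨y, (hH y).2 ⟨g, h, g1, g2, hy⟩, hy ▸ (sim_conj Φ _).symm.trans g3⟩⟩

variable {B : (ι → F) →ₛₗ[RingHom.id F] (ι → F) →ₗ[F] F} {κ : F}
  {A : (Fin a → F) →ₛₗ[RingHom.id F] (Fin a → F) →ₗ[F] F} {Q : QuadraticForm F (Fin b → F)}

theorem TenB.fixG_eq [NeZero a] [NeZero b] (hT : TenB B A Q Φ κ) (hκ : κ ≠ 0) (hA : GeomA A)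
    (hQ : GeomQ Q) (hH : ∀ x, x ∈ H ↔ ∃ g h, IsUnit g ∧ IsUnit h ∧ glRep x = Φ.conj (map g h)) :
    FixG (H ⊓ isoGL B fun _ => (0 : F)) = FixTI A Q := _root_.funext fun _ => propext
  ⟨fun ⟨y, ⟨h1, h1'⟩, h2⟩ => let ⟨g, h, _, _, g3⟩ := (hH y).1 h1
    let ⟨μ, m1, m2, m3⟩ := hT.exists_sim hκ hA hQ (g3 ▸ mem_isoGL.1 h1')
    ⟨g, h, μ, m1, m2, m3, (sim_conj Φ _).trans (g3 ▸ h2)⟩, fun ⟨g, h, _, m1, m2, m3, g3⟩ =>
    have g1 := hA.isUnit_of_sim m1 m2
    have g2 := hQ.isUnit_of_sim (inv_ne_zero m1) m3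
    let ⟨y, hy⟩ := exists_glRep (isUnit_conj_map (Φ := Φ) g1 g2)
    ⟨y, ⟨(hH y).2 ⟨g, h, g1, g2, hy⟩, mem_isoGL.2 (hy ▸ hT.isoA m1 m2 m3)⟩,
      hy ▸ (sim_conj Φ _).symm.trans g3⟩⟩

theorem bilin_eq_sum {φ : (ι → F) → (ι → F) → F} (h : Cfsg.Geo.IsBilinearForm φ) (u v : ι → F) :
    φ u v = ∑ i, ∑ j, u i * Cfsg.Geo.gramMatrix φ i j * v j := by
  have := LinearMap.BilinForm.sum_repr_mul_repr_mul (B := LinearMap.mk₂ F φ h.add_left h.smul_left
    h.add_right h.smul_right) (Pi.basisFun F ι) u v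
  simp only [Finsupp.sum_fintype, implies_true, Finset.sum_const_zero,
    Pi.basisFun_repr, smul_eq_mul, Pi.basisFun_apply, LinearMap.mk₂_apply, zero_mul, mul_zero]
    at this
  simp only [← this, Cfsg.Geo.gramMatrix, mul_assoc, mul_comm (v _)]

theorem exists_tenB (h2 : (2 : F) ≠ 0) {e : ι ≃ Fin a × Fin b} {P : GL ι F}
    {f₁ : (Fin a → F) → (Fin a → F) → F} {f₂ : (Fin b → F) → (Fin b → F) → F}
    (h₁ : Cfsg.Geo.IsSymplecticForm f₁) (h₂ : Cfsg.Geo.IsSymmetricForm f₂)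
    (hS : Cfsg.Geo.IsTensorFormStructure id (fun u v => B u v) f₁ f₂ e P)
    (hΦ : ∀ u w, Φ (u ⊗ₜ w) =
      (P : Matrix ι ι F).mulVec ((fun k : Fin a × Fin b => u k.1 * w k.2) ∘ e)) :
    ∃ A Q κ, κ ≠ 0 ∧ GeomA A ∧ GeomQ Q ∧ TenB B A Q Φ κ := by
  obtain ⟨c, hc, hS⟩ := hS
  let β := LinearMap.mk₂ F f₂ h₂.bilinear.add_left h₂.bilinear.smul_left h₂.bilinear.add_right
    h₂.bilinear.smul_right
  have hβ : ∀ u v, QuadraticMap.polarBilin (LinearMap.BilinMap.toQuadraticMap β) u v =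
      2 * f₂ u v := fun u v => by
    rw [QuadraticMap.polarBilin_apply_apply, LinearMap.BilinMap.polar_toQuadraticMap, two_mul]
    exact congrArg _ (h₂.symm v u)
  refine ⟨LinearMap.mk₂ F f₁ h₁.bilinear.add_left h₁.bilinear.smul_left h₁.bilinear.add_right
    h₁.bilinear.smul_right, LinearMap.BilinMap.toQuadraticMap β, c / 2, div_ne_zero hc h2,
    geom_alt ⟨fun v hv => by_contra fun h0 => (h₁.nondegenerate v h0).2.elim fun x hx => hx (hv x),
      fun v hv => by_contra fun h0 => (h₁.nondegenerate v h0).1.elim fun x hx => hx (hv x)⟩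
      h₁.alternating, geom_quad ⟨fun v hv => by_contra fun h0 => (h₂.nondegenerate v h0).2.elim
        fun x hx => mul_ne_zero h2 hx (hβ v x ▸ hv x), fun v hv => by_contra fun h0 =>
      (h₂.nondegenerate v h0).1.elim fun x hx => mul_ne_zero h2 hx (hβ x v ▸ hv x)⟩,
    fun u w u' w' => ?_⟩
  rw [hΦ, hΦ, hβ, LinearMap.mk₂_apply, bilin_eq_sum h₁.bilinear, bilin_eq_sum h₂.bilinear]
  refine (hS _ _).trans ?_
  rw [mul_left_comm _ 2, ← mul_assoc, div_mul_cancel₀ _ h2]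
  simp only [Cfsg.Geo.formOfGram, Fintype.sum_prod_type, Finset.sum_mul_sum,
    Matrix.kroneckerMap_apply, id]
  refine congrArg _ (Finset.sum_congr rfl fun i _ => Finset.sum_congr rfl fun j _ =>
    Finset.sum_congr rfl fun k _ => Finset.sum_congr rfl fun l _ => by ring)

end Mat

end Cfsg.Agent.Cl.Der
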