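import Mathlib
import Cfsg.Agent.Cl.DerTen
import Cfsg.Agent.Cl.MxSL

/-! Elements of prime order normalizing a group of symplectic type. -/

set_option autoImplicit false
set_option linter.unusedSectionVars false

namespace Cfsg.Agent.Cl.Der

open Polynomial Module Cfsg.Agent.Cl.Cls

section Perm

variable {I : Type*} [Fintype I] {π : Equiv.Perm I} {r : ℕ} [hr : Fact r.Prime]

theorem mul_card_orbits (h : π ^ r = 1) (h1 : π ≠ 1) :
    r * Nat.card (MulAction.orbitRel.Quotient (Subgroup.zpowers π) I) =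
      Fintype.card I + (r - 1) * Nat.card {i // π i = i} := by
  classical
  have h2 : Nat.card (Subgroup.zpowers π) = r := by rw [Nat.card_zpowers, orderOf_eq_prime h h1]
  have h3 := MulAction.sum_card_fixedBy_eq_card_orbits_mul_card_group (Subgroup.zpowers π) I
  simp only [← Nat.card_eq_fintype_card] at h3
  rw [h2, ← Finset.add_sum_erase _ _ (Finset.mem_univ 1), Finset.sum_congr rfl (g := fun _ =>
    Nat.card {i // π i = i}) fun g hg => ?_] at h3
  · rw [mul_comm, ← h3, MulAction.fixedBy_one_eq_univ, Finset.sum_const,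
      Finset.card_erase_of_mem (Finset.mem_univ _), Finset.card_univ, ← Nat.card_eq_fintype_card,
      ← Nat.card_eq_fintype_card, h2, Nat.card_univ, smul_eq_mul]
  refine Nat.card_congr (Equiv.subtypeEquivRight fun i => ⟨fun hi => ?_, fun hi => ?_⟩)
  · obtain ⟨k, hk⟩ := mem_zpowers_of_prime_card h2 (Finset.ne_of_mem_erase hg)
      (g' := ⟨π, Subgroup.mem_zpowers π⟩)
    have := MulAction.fixedBy_subset_fixedBy_zpow I g k hi
    rwa [show g ^ k = _ from hk] at this
  · obtain ⟨g, k, rfl⟩ := g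
    exact Equiv.Perm.zpow_apply_eq_self_of_apply_eq_self hi k

variable {F A : Type*} [Field F] [AddCommGroup A] [Module F A] {b : Basis I F A} {T : End F A}
  {c : I → F}

theorem repr_monomial (hT : ∀ i, T (b i) = c i • b (π i)) (a : A) (i : I) :
    b.repr (T a) (π i) = c i * b.repr a i := by
  classical
  have : b.coord (π i) ∘ₗ T = c i • b.coord i := b.ext fun j => by
    by_cases h : j = i <;> simp [hT, h]
  exact LinearMap.congr_fun this a

theorem finrank_ker_le_orbits (hT : ∀ i, T (b i) = c i • b (π i)) :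
    finrank F (LinearMap.ker (T - 1)) ≤
      Nat.card (MulAction.orbitRel.Quotient (Subgroup.zpowers π) I) := by
  classical
  have := Fintype.ofFinite (MulAction.orbitRel.Quotient (Subgroup.zpowers π) I)
  rw [Nat.card_eq_fintype_card, ← finrank_fintype_fun_eq_card F]
  refine LinearMap.finrank_le_finrank_of_injective (f := (LinearMap.pi fun ω =>
    b.coord (Quotient.out ω)) ∘ₗ (LinearMap.ker (T - 1)).subtype)
    ((injective_iff_map_eq_zero _).2 fun a ha => Subtype.ext (b.ext_elem fun i => ?_))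
  have h1 : T a = a := sub_eq_zero.1 a.2
  have h2 : ∀ (k : ℕ) j, b.repr a j = 0 → b.repr a ((π ^ k) j) = 0 := fun k j hj => by
    induction k with
    | zero => exact hj
    | succ k ih => rw [pow_succ', Equiv.Perm.mul_apply, ← h1, repr_monomial hT, ih, mul_zero]
  obtain ⟨⟨g, hg⟩, h3⟩ := MulAction.orbitRel_apply.1 (Quotient.exact (Quotient.out_eq
    (Quotient.mk (MulAction.orbitRel (Subgroup.zpowers π) I) i)).symm)
  obtain ⟨k, rfl⟩ := mem_powers_iff_mem_zpowers.2 hg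
  rw [← h3]
  exact (h2 k _ (congrFun ha _)).trans (by simp)

theorem trace_monomial (hT : ∀ i, T (b i) = c i • b (π i)) (hc : ∀ i, π i = i → c i = 1) :
    LinearMap.trace F A T = Nat.card {i // π i = i} := by
  classical
  rw [LinearMap.trace_eq_matrix_trace F b, Matrix.trace, Nat.card_eq_fintype_card,
    Fintype.card_subtype, Finset.card_filter, Nat.cast_sum]
  refine Finset.sum_congr rfl fun i _ => ?_
  by_cases h : π i = i <;> simp [LinearMap.toMatrix_apply, hT, h, hc]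

end Perm

section Lin

variable {F V : Type*} [Field F] [AddCommGroup V] [Module F V] [FiniteDimensional F V]
  {f g : End F V}

theorem mult_sq_lt {c : F} (h : f ≠ c • 1) {W : Submodule F (End F V)}
    (hW : ∀ T, f * T = T * f → T ∈ W) : mult f c ^ 2 < finrank F W := by
  let Ψ : ((V ⧸ LinearMap.range (f - c • 1)) →ₗ[F] LinearMap.ker (f - c • 1)) →ₗ[F] End F V :=
    (LinearMap.llcomp F _ _ _ (LinearMap.ker (f - c • 1)).subtype) ∘ₗ
      LinearMap.lcomp F _ (LinearMap.range (f - c • 1)).mkQ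
  have h1 : Function.Injective Ψ := (injective_iff_map_eq_zero _).2 fun S hS =>
    Submodule.linearMap_qext _ (LinearMap.ext fun v => Subtype.ext (LinearMap.congr_fun hS v))
  have h2 : finrank F (V ⧸ LinearMap.range (f - c • 1)) = mult f c := by
    have := Submodule.finrank_quotient_add_finrank (LinearMap.range (f - c • 1))
    have := mult_add_rank f c
    omega
  have h3 := LinearMap.finrank_range_of_inj h1
  rw [finrank_linearMap, h2, ← mult, ← sq] at h3
  rw [← h3]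
  refine Submodule.finrank_lt_finrank_of_lt (lt_of_le_of_ne ?_ fun e => h ?_)
  · rintro _ ⟨S, rfl⟩
    refine hW _ (LinearMap.ext fun v => (mem_ker_sub.1 (S _).2).trans ?_)
    have : (LinearMap.range (f - c • 1)).mkQ (f v) = c • (LinearMap.range (f - c • 1)).mkQ v :=
      (Submodule.Quotient.eq _).2 ⟨v, rfl⟩
    change c • (S _ : V) = S ((LinearMap.range (f - c • 1)).mkQ (f v))
    rw [this, map_smul, Submodule.coe_smul]
  · obtain ⟨S, hS⟩ := e ▸ hW 1 (by rw [mul_one, one_mul])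
    exact LinearMap.ext fun v => mem_ker_sub.1
      ((show (S _ : V) = v from LinearMap.congr_fun hS v) ▸ (S _).2)

theorem sum_trace_pow {r : ℕ} (hr : (r : F) ≠ 0) (h : f ^ r = 1) :
    ∑ k ∈ Finset.range r, LinearMap.trace F V (f ^ k) = r * mult f 1 := by
  have h1 : LinearMap.IsProj (LinearMap.ker (f - (1 : F) • 1))
      ((r : F)⁻¹ • ∑ k ∈ Finset.range r, f ^ k) := ⟨fun v => by
    rw [LinearMap.mem_ker, ← End.mul_apply, one_smul, mul_smul_comm, mul_geom_sum, h, sub_self,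
      smul_zero, LinearMap.zero_apply], fun v hv => by
    have h2 : ∀ k : ℕ, (f ^ k) v = v := fun k => (End.pow_apply f k v).trans
      (Function.iterate_fixed ((mem_ker_sub.1 hv).trans (one_smul F v)) k)
    simp [h2, ← Nat.cast_smul_eq_nsmul F, hr]⟩
  rw [mult, ← h1.trace, map_smul, map_sum, smul_eq_mul, mul_inv_cancel_left₀ hr]

theorem trace_eq_zero_of_comm (hg : IsUnit g) {c : F} (hc : c ≠ 1) (h : g * f = c • (f * g)) :
    LinearMap.trace F V f = 0 := by
  obtain ⟨g', h1⟩ := hg.exists_right_inv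
  have h2 := congrArg (fun x => LinearMap.trace F V (x * g')) h
  simp only [smul_mul_assoc, mul_assoc f, h1, mul_one, map_smul, smul_eq_mul] at h2
  rw [LinearMap.trace_mul_comm, ← mul_assoc, mul_eq_one_comm.1 h1, one_mul] at h2
  by_contra h0
  exact hc ((mul_eq_right₀ h0).1 h2.symm)

theorem sim_trace {W : Type*} [AddCommGroup W] [Module F W] [FiniteDimensional F W] {g : End F W}
    (h : Sim f g) : LinearMap.trace F V f = LinearMap.trace F W g := by
  obtain ⟨e, he⟩ := h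
  rw [← LinearMap.trace_conj' f e]
  exact congrArg _ (LinearMap.ext fun v => by
    rw [LinearEquiv.conj_apply_apply, he, e.apply_symm_apply])

theorem dvd_of_comm (hf : IsUnit f) (hg : IsUnit g) {ω : F} {l : ℕ} (hω : IsPrimitiveRoot ω l)
    {W : Submodule F V} (h1 : ∀ v ∈ W, f v ∈ W) (h2 : ∀ v ∈ W, g v ∈ W)
    (h : ∀ v ∈ W, f (g v) = ω • g (f v)) : l ∣ finrank F W := by
  have h3 : ∀ {f : End F V} (_ : IsUnit f) (h1 : ∀ v ∈ W, f v ∈ W),
      LinearMap.det (f.restrict h1) ≠ 0 := fun hf h1 => (LinearMap.isUnit_det _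
    ((End.isUnit_iff _).2 ⟨fun u v e => Subtype.ext (((End.isUnit_iff _).1 hf).1
      (congrArg Subtype.val e)), LinearMap.injective_iff_surjective.1 fun u v e => Subtype.ext
      (((End.isUnit_iff _).1 hf).1 (congrArg Subtype.val e))⟩)).ne_zero
  have h4 : f.restrict h1 * g.restrict h2 = ω • (g.restrict h2 * f.restrict h1) :=
    LinearMap.ext fun v => Subtype.ext (h v v.2)
  have h5 := congrArg LinearMap.det h4
  rw [LinearMap.det_smul, map_mul, map_mul, mul_comm (LinearMap.det _)] at h5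
  exact hω.dvd_of_pow_eq_one _ ((mul_eq_right₀ (mul_ne_zero (h3 hg h2) (h3 hf h1))).1 h5.symm)

end Lin

section Mat

open Cfsg.Geo Cfsg.Agent.Cl.Max

variable {F : Type*} [Field F] [Finite F] {ι : Type} [Fintype ι] [DecidableEq ι] [Nonempty ι]
  {R : Subgroup (GL ι F)} {l r : ℕ} [hr : Fact r.Prime] {x y : GL ι F}

theorem trace_cj_eq (x : GL ι F) : LinearMap.trace F _ (cj x).toLinearMap =
    (x : Matrix ι ι F).trace * ((x⁻¹ : GL ι F) : Matrix ι ι F).trace := by
  rw [LinearMap.trace_eq_matrix_trace F (Matrix.stdBasis F ι ι), Matrix.trace, Matrix.trace,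
    Matrix.trace, Finset.sum_mul_sum, Fintype.sum_prod_type]
  refine Finset.sum_congr rfl fun i _ => Finset.sum_congr rfl fun j _ => ?_
  rw [Matrix.diag_apply, LinearMap.toMatrix_apply, Matrix.stdBasis_eq_single]
  change (_ * _ * _ : Matrix ι ι F) i j = _
  simp [Matrix.mul_apply, Matrix.single_apply, ite_and]

theorem pow_mul_of_comm {G : Type*} [Group G] {x y z : G} (hz : ∀ g, z * g = g * z)
    (h : x * y = z * y * x) (k : ℕ) : x ^ k * y = z ^ k * y * x ^ k := by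
  induction k with
  | zero => simp
  | succ k ih =>
    rw [pow_succ', mul_assoc, ih, ← mul_assoc, ← mul_assoc,
      ← (Commute.pow_left (hz x) k).eq, mul_assoc _ x, h, pow_succ z]
    simp only [mul_assoc]

theorem comm_of_scalar (h : ExtraData R R l) (hrl : r ≠ l) (hz : x ^ r ∈ scalars ι F)
    (hy : y ∈ R) (H : x * y * x⁻¹ * y⁻¹ ∈ scalars ι F) : x * y = y * x := by
  obtain ⟨c, hc⟩ := (mem_scalars_iff_sc _).1 H
  have h0 := mul_comm_of_mem_scalars (sc_mem (ι := ι) c)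
  have h1 := pow_mul_of_comm h0 (x := x) (y := y) (by rw [hc]; group) r
  have h2 := pow_mul_of_comm (z := (sc ι c)⁻¹) (fun g => (Commute.inv_left (h0 g)).eq) (x := y)
    (y := x) (by rw [hc]; group) l
  rw [mul_comm_of_mem_scalars hz, mul_left_inj, right_eq_mul] at h1
  rw [mul_comm_of_mem_scalars (h.pow y hy), mul_left_inj, right_eq_mul, inv_pow, inv_eq_one] at h2
  rw [← mul_inv_eq_iff_eq_mul, ← mul_inv_eq_one, ← hc, ← orderOf_eq_one_iff]
  exact Nat.eq_one_of_dvd_coprimes ((Nat.coprime_primes hr.1 h.prime).2 hrl)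
    (orderOf_dvd_of_pow_eq_one h1) (orderOf_dvd_of_pow_eq_one h2)

theorem exists_fix (h : ExtraData R R l) (hrl : r ≠ l) (hx : x ∈ subgroupNormalizer R)
    (hz : x ^ r ∈ scalars ι F) (hs : x ∉ scalars ι F) :
    ∃ (C : Subgroup (R ⧸ (scalars ι F).subgroupOf R)) (m : ℕ),
      (∀ y : R, (y : R ⧸ (scalars ι F).subgroupOf R) ∈ C ↔ x * y = y * x) ∧ C ≠ ⊤ ∧
      r * m = Fintype.card ι ^ 2 + (r - 1) * Nat.card C ∧ (∀ c, mult (glRep x) c ^ 2 < m) ∧
      (x : Matrix ι ι F).trace * ((x⁻¹ : GL ι F) : Matrix ι ι F).trace = Nat.card C := by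
  have := Fintype.ofFinite (R ⧸ (scalars ι F).subgroupOf R)
  let φ := R.normalizerMonoidHom ⟨x, hx⟩
  let ψ := QuotientGroup.congr ((scalars ι F).subgroupOf R) ((scalars ι F).subgroupOf R) φ
    (Subgroup.ext fun y => Subgroup.mem_map_equiv.trans (scalars_normal.mem_comm_iff.trans (by
      rw [Subgroup.mem_subgroupOf]
      exact Iff.of_eq (congrArg _ (mul_inv_cancel_left _ _)))))
  let π : Equiv.Perm (R ⧸ (scalars ι F).subgroupOf R) := ψ.toEquiv
  have h1 : ∀ y : R, π y = y ↔ x * y = y * x := fun y => eq_comm.trans (QuotientGroup.eq.trans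
    ⟨fun e => comm_of_scalar h hrl hz y.2 (scalars_normal.mem_comm e), fun e => by
      change (y : GL ι F)⁻¹ * (x * y * x⁻¹) ∈ scalars ι F
      rw [e, mul_inv_cancel_right, inv_mul_cancel]; exact one_mem _⟩)
  have h2 : ∀ (k : ℕ) (y : R), (π ^ k) y = ((φ ^ k) y : R) := fun k y => by
    induction k with
    | zero => rfl
    | succ k ih => rw [pow_succ', Equiv.Perm.mul_apply, ih, pow_succ']; rfl
  have h3 : π ^ r = 1 := Equiv.ext fun q => by
    obtain ⟨y, rfl⟩ := QuotientGroup.mk_surjective q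
    rw [h2, ← map_pow]
    exact congrArg _ (Subtype.ext (mul_inv_eq_of_eq_mul (mul_comm_of_mem_scalars hz y)))
  have h4 : π ≠ 1 := fun e => hs (h.spans.mem_scalars fun y hy => (h1 ⟨y, hy⟩).1 (by rw [e]; rfl))
  obtain ⟨b, hb⟩ := h.exists_basis
  have h5 : ∀ q, ∃ c : F, (π q = q → c = 1) ∧ (cj x).toLinearMap (b q) = c • b (π q) := fun q => by
    by_cases e : π q = q
    · refine ⟨1, fun _ => rfl, ?_⟩
      rw [e, one_smul, hb]
      refine (cj_coe _ _).trans (congrArg _ (mul_inv_eq_of_eq_mul ((h1 _).1 ?_)))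
      rwa [QuotientGroup.out_eq']
    · obtain ⟨c, -, hc⟩ := coe_eq_smul_of_mem_scalars ((QuotientGroup.eq (b := φ q.out)).1
        ((QuotientGroup.out_eq' (π q)).trans (congrArg π (QuotientGroup.out_eq' q).symm)))
      refine ⟨c, fun e' => absurd e' e, ?_⟩
      rw [hb, hb, ← mul_one (c • _), smul_mul_assoc, ← mul_smul_comm, ← hc, ← Units.val_mul]
      exact (cj_coe _ _).trans (congrArg _ (mul_inv_cancel_left _ _).symm)
  choose c h5 h6 using h5
  have h7 : Nat.card {q // π q = q} = Nat.card (ψ.toMonoidHom.eqLocus (MonoidHom.id _)) := rfl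
  refine ⟨ψ.toMonoidHom.eqLocus (MonoidHom.id _), Nat.card (MulAction.orbitRel.Quotient
    (Subgroup.zpowers π) (R ⧸ (scalars ι F).subgroupOf R)), h1, fun e => h4 (Equiv.ext fun q =>
    (e ▸ Subgroup.mem_top q : q ∈ ψ.toMonoidHom.eqLocus (MonoidHom.id _))), ?_, fun a => ?_, ?_⟩
  · rw [mul_card_orbits h3 h4, ← Nat.card_eq_fintype_card, h.card_quot, h7]
  · refine lt_of_lt_of_le ?_ (finrank_ker_le_orbits h6)
    rw [← LinearEquiv.finrank_map_eq (Matrix.toLinAlgEquiv' (R := F) (n := ι)).toLinearEquiv]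
    refine mult_sq_lt (fun e => hs (mem_scalars_of_eq_smul (glRep_eq_smul.1 e))) fun T hT => ?_
    obtain ⟨T, rfl⟩ := (Matrix.toLinAlgEquiv' (R := F) (n := ι)).surjective T
    refine Submodule.mem_map_of_mem (sub_eq_zero.2 ((cj_eq_iff _ _ _).2 ?_))
    exact (Matrix.toLinAlgEquiv' (R := F) (n := ι)).injective (by rw [map_mul, map_mul]; exact hT)
  · rw [← trace_cj_eq, trace_monomial h6 h5, h7]

theorem exists_not_comm (h : ExtraData R R l) (hrl : r ≠ l) (hx : x ∈ subgroupNormalizer R)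
    (hz : x ^ r ∈ scalars ι F) {u : GL ι F} (hu : u ∈ R) :
    (u * x) ^ r * (x ^ r)⁻¹ ∈ R ∧
      x * ((u * x) ^ r * (x ^ r)⁻¹) = (u * x) ^ r * (x ^ r)⁻¹ * x := by
  have h1 : ∀ k : ℕ, (u * x) ^ k * (x ^ k)⁻¹ ∈ R := fun k => by
    induction k with
    | zero => simp
    | succ k ih =>
      have := R.mul_mem hu (normsG_subgroupNormalizer R x hx _ ih)
      rwa [pow_succ' (u * x), pow_succ' x, show u * x * (u * x) ^ k * (x * x ^ k)⁻¹ =
        u * (x * ((u * x) ^ k * (x ^ k)⁻¹) * x⁻¹) by group]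
  refine ⟨h1 r, comm_of_scalar h hrl hz (h1 r) ?_⟩
  have h2 := h.comm _ (R.inv_mem hu) _ (h1 r)
  have h3 := mul_comm_of_mem_scalars (inv_mem hz)
  rwa [← h3, ← mul_assoc, ← h3 u⁻¹, mul_assoc _ u⁻¹, mul_assoc _ (u⁻¹ * _), ← conj_pow,
    show u⁻¹ * (u * x) * u⁻¹⁻¹ = x * (u * x) * x⁻¹ by group, conj_pow, ← mul_assoc, ← mul_assoc,
    h3 x, mul_assoc x, h3] at h2

theorem card_fix (h : ExtraData R R l) {C : Subgroup (R ⧸ (scalars ι F).subgroupOf R)}
    (hC : C ≠ ⊤) {m : ℕ} (hm : r * m = Fintype.card ι ^ 2 + (r - 1) * Nat.card C) :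
    Nat.card C ∣ Fintype.card ι ^ 2 ∧ Nat.card C < Fintype.card ι ^ 2 ∧
      r ∣ Fintype.card ι ^ 2 - Nat.card C := by
  have h1 := h.card_quot ▸ C.card_subgroup_dvd_card
  have h2 := (Nat.le_of_dvd (by positivity) h1).lt_of_ne fun e =>
    hC (Subgroup.eq_top_of_card_eq _ (e.trans h.card_quot.symm))
  refine ⟨h1, h2, (Nat.dvd_add_iff_left (dvd_mul_right r (Nat.card C))).2 ⟨m, ?_⟩⟩
  obtain ⟨s, rfl⟩ := Nat.exists_eq_add_of_le' hr.1.one_le
  rw [hm, Nat.add_sub_cancel, add_mul, one_mul]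
  omega

theorem le_three_of_norm (h : ExtraData R R l) (hn : Fintype.card ι = l) (hl : l ≤ 3)
    (hx : x ∈ subgroupNormalizer R) (hz : x ^ r ∈ scalars ι F) (hs : x ∉ scalars ι F) :
    r ≤ 3 := by
  by_contra! h3
  obtain ⟨C, m, -, h1, h2, -⟩ := exists_fix h (by omega) hx hz hs
  obtain ⟨h4, h5, h6⟩ := card_fix h h1 h2
  have h7 := Nat.le_of_dvd (by omega) h6
  have h8 := h.prime.two_le
  have h9 := hr.1
  rw [hn] at h4 h5 h6 h7
  generalize Nat.card C = k at *
  have : r ≤ 9 := h7.trans ((Nat.sub_le _ _).trans (Nat.pow_le_pow_left hl 2))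
  interval_cases l <;> interval_cases k <;> interval_cases r <;> simp_all (config := {decide := true})

theorem arith_sixteen (h2 : r ≠ 2) {k : ℕ} (h : k ∣ 2 ^ 4) (h1 : k < 16) (h3 : k ≠ 2)
    (h4 : r ∣ 16 - k) : (r = 3 ∧ (k = 1 ∨ k = 4)) ∨ (r = 5 ∧ k = 1) := by
  obtain ⟨j, h5, rfl⟩ := (Nat.dvd_prime_pow Nat.prime_two).1 h
  have h6 := (Nat.le_of_dvd (by omega) h4).trans (Nat.sub_le _ _)
  have h7 := hr.1
  interval_cases j <;> interval_cases r <;> first | omega | norm_num at h7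

theorem cases_of_norm (h : ExtraData R R 2) (hn : Fintype.card ι = 4) (h2 : r ≠ 2)
    (hx : x ∈ subgroupNormalizer R) (hz : x ^ r ∈ scalars ι F) (hs : x ∉ scalars ι F) :
    (r = 3 ∧ (∀ c, mult (glRep x) c ≤ 2) ∧ ((∀ y ∈ R, x * y = y * x → y ∈ scalars ι F) ∨
      (x : Matrix ι ι F).trace * ((x⁻¹ : GL ι F) : Matrix ι ι F).trace = 4)) ∨
      (r = 5 ∧ ∀ c, mult (glRep x) c ≤ 1) := by
  obtain ⟨C, m, h0, h1, h3, h4, h5⟩ := exists_fix h h2 hx hz hs
  obtain ⟨h6, h7, h8⟩ := card_fix h h1 h3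
  have h9 : Nat.card C ≠ 2 := fun e => by
    obtain ⟨⟨q, hq⟩, q1, q2⟩ := (Nat.card_eq_two_iff' (1 : C)).1 e
    obtain ⟨y, rfl⟩ := QuotientGroup.mk_surjective q
    obtain ⟨u, hu, c, c1, c2, c3⟩ := h.exists_comm_ne y.2 fun hy =>
      q1 (Subtype.ext ((QuotientGroup.eq_one_iff y).2 hy))
    obtain ⟨u1, u2⟩ := exists_not_comm h h2 hx hz hu
    have h10 := pow_mul_of_comm (mul_comm_of_mem_scalars (sc_mem c)) (x := u * x) (y := y)
      (by rw [mul_assoc, (h0 y).1 hq, ← mul_assoc, c3]; group) r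
    obtain ⟨k, hk⟩ := hr.1.odd_of_ne_two h2
    rw [← map_pow, show c ^ r = c by rw [hk, pow_succ, pow_mul, c2, one_pow, one_mul]] at h10
    have h11 : (u * x) ^ r * (x ^ r)⁻¹ * y ≠ y * ((u * x) ^ r * (x ^ r)⁻¹) := fun e => by
      rw [mul_assoc, mul_comm_of_mem_scalars (inv_mem hz), ← mul_assoc, h10, ← mul_assoc,
        mul_left_inj, mul_left_inj, mul_eq_right] at e
      exact c1 (sc_injective (e.trans (map_one _).symm))
    have h12 := q2 ⟨(⟨_, u1⟩ : R), (h0 _).2 u2⟩ fun e => h11 (mul_comm_of_mem_scalars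
      ((QuotientGroup.eq_one_iff (⟨_, u1⟩ : R)).1 (congrArg Subtype.val e)) y)
    have h13 := mul_comm_of_mem_scalars ((QuotientGroup.eq (a := ⟨_, u1⟩) (b := y)).1
      (congrArg Subtype.val h12)) y
    refine h11 ?_
    change (_ : GL ι F)⁻¹ * y * y = y * (_⁻¹ * y) at h13
    rw [← mul_assoc, mul_left_inj] at h13
    exact (Commute.inv_left_iff.1 h13).eq
  have h10 : Nat.card C = 1 → ∀ y ∈ R, x * y = y * x → y ∈ scalars ι F := fun e y hy h' =>
    (QuotientGroup.eq_one_iff (⟨y, hy⟩ : R)).1 (Subgroup.mem_bot.1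
      (Subgroup.card_eq_one.1 e ▸ (h0 ⟨y, hy⟩).2 h'))
  have h11 : ∀ a, m ≤ (a + 1) ^ 2 → ∀ c, mult (glRep x) c ≤ a := fun a e c =>
    Nat.lt_succ_iff.1 (lt_of_pow_lt_pow_left₀ 2 (Nat.zero_le _) ((h4 c).trans_le e))
  rw [hn] at h3 h6 h7 h8
  generalize Nat.card C = k at *
  rcases arith_sixteen h2 h6 h7 h9 h8 with ⟨rfl, rfl | rfl⟩ | ⟨rfl, rfl⟩
  · exact Or.inl ⟨rfl, h11 2 (by omega), Or.inl (h10 rfl)⟩
  · exact Or.inl ⟨rfl, h11 2 (by omega), Or.inr (by simpa using h5)⟩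
  · exact Or.inr ⟨rfl, h11 1 (by omega)⟩

theorem FixG.exists_mem {H : Subgroup (GL ι F)} {f : End F (ι → F)} (h : FixG H f)
    (hz : ∃ z : F, f ^ r = z • 1) (hs : ∀ z : F, f ≠ z • 1) :
    ∃ x ∈ H, x ^ r ∈ scalars ι F ∧ x ∉ scalars ι F ∧ Sim (glRep x) f :=
  let ⟨x, h1, h2⟩ := h
  let ⟨_, hz⟩ := hz
  ⟨x, h1, mem_scalars_of_eq_smul (glRep_pow_eq_smul.1 (sim_pow_eq h2.symm hz)), fun e =>
    let ⟨c, _, hc⟩ := coe_eq_smul_of_mem_scalars e
    hs c (sim_eq_smul h2 (glRep_eq_smul.2 hc)), h2⟩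

theorem FixG.cases (h : ExtraData R R 2) (hn : Fintype.card ι = 4) (h2 : r ≠ 2)
    {f : End F (ι → F)} (H : FixG (subgroupNormalizer R) f) (hz : ∃ z : F, f ^ r = z • 1)
    (hs : ∀ z : F, f ≠ z • 1) : (r = 3 ∧ ∀ c, mult f c ≤ 2) ∨ (r = 5 ∧ ∀ c, mult f c ≤ 1) := by
  obtain ⟨x, h3, h4, h5, h6⟩ := H.exists_mem hz hs
  simp only [← sim_mult h6]
  exact (cases_of_norm h hn h2 h3 h4 h5).imp_left fun e => ⟨e.1, e.2.1⟩

theorem extraData_of_center (hl : l.Prime) (hZ : ∀ x ∈ Subgroup.center R, x.1 ∈ scalars ι F)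
    (hc : ∀ x y : R, x * y * x⁻¹ * y⁻¹ ∈ Subgroup.center R)
    (hp : ∀ x : R, x ^ l ∈ Subgroup.center R) (hn : (Fintype.card ι : F) ≠ 0)
    (hi : (Subgroup.center R).index = Fintype.card ι ^ 2) : ExtraData R R l := by
  refine ⟨hl, normsG_self R, fun M => ?_, fun x hx y hy => hZ _ (hc ⟨x, hx⟩ ⟨y, hy⟩),
    fun x hx => hZ _ (hp ⟨x, hx⟩)⟩
  have := Fintype.ofFinite (R ⧸ Subgroup.center R)
  have h1 : ∀ x : R, x ∉ Subgroup.center R → (x.1 : Matrix ι ι F).trace = 0 := fun x hx => by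
    obtain ⟨y, hy⟩ := not_forall.1 (mt Subgroup.mem_center_iff.2 hx)
    obtain ⟨c, hc⟩ := (mem_scalars_iff_sc _).1 (hZ _ (hc y x))
    have h2 := trace_cj y.1 (x.1 : Matrix ι ι F)
    rw [cj_coe, show y.1 * x * y.1⁻¹ = sc ι c * x by rw [hc]; simp, Units.val_mul, coe_sc,
      smul_mul_assoc, one_mul, Matrix.trace_smul, smul_eq_mul] at h2
    by_contra h0
    rw [Units.val_eq_one.1 ((mul_eq_right₀ h0).1 h2), map_one, eq_comm] at hc
    exact hy (mul_inv_eq_iff_eq_mul.1 (mul_inv_eq_one.1 (Subtype.ext hc)))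
  have h2 : LinearIndependent F fun q : R ⧸ Subgroup.center R => (q.out.1 : Matrix ι ι F) := by
    refine Fintype.linearIndependent_iff.2 fun g hg q => ?_
    have h3 := congrArg (fun y : Matrix ι ι F => (((q.out⁻¹).1 : Matrix ι ι F) * y).trace) hg
    simp only [Finset.mul_sum, Matrix.trace_sum, mul_smul_comm, Matrix.trace_smul, mul_zero,
      Matrix.trace_zero, smul_eq_mul, ← Units.val_mul, ← Subgroup.coe_mul] at h3
    rw [Finset.sum_eq_single q (fun q' _ hq => by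
      rw [h1 _ fun e => hq (by simpa using (QuotientGroup.eq.2 e).symm), mul_zero]) (by simp)] at h3
    simpa [hn] using h3
  have h3 := h2.span_eq_top_of_card_eq_finrank' (by
    rw [finrank_matrix, finrank_self, mul_one, ← sq, ← hi, Subgroup.index, Nat.card_eq_fintype_card])
  exact Submodule.span_mono (by rintro _ ⟨q, rfl⟩; exact coe_mem_matrixSet q.out.2)
    (h3 ▸ Submodule.mem_top (x := M))

theorem center_of_cube {G : Type*} [Group G] (hl : l.Prime) (hG : Nat.card G = l ^ 3)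
    (hna : ¬ IsMulCommutative G) : Nat.card (Subgroup.center G) = l ∧
      (Subgroup.center G).index = l ^ 2 ∧ (∀ x y : G, x * y * x⁻¹ * y⁻¹ ∈ Subgroup.center G) ∧
      ∀ x : G, x ^ l ∈ Subgroup.center G := by
  have := Fact.mk hl
  have : Finite G := Nat.finite_of_card_ne_zero (hG ▸ pow_ne_zero _ hl.ne_zero)
  have h0 : ¬ IsCyclic (G ⧸ Subgroup.center G) := fun _ =>
    hna (isMulCommutative_of_isCyclic_quotient_center_self G)
  obtain ⟨k, h1, h2⟩ := IsPGroup.card_center_eq_prime_pow hG three_pos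
  have h3 := (Subgroup.center G).card_mul_index
  obtain ⟨j, h4, h5⟩ := (Nat.dvd_prime_pow hl).1 (hG ▸ (Subgroup.center G).index_dvd_card)
  rw [h2, h5, hG, ← pow_add] at h3
  have h6 := Nat.pow_right_injective hl.two_le h3
  obtain rfl : j = 2 := by
    by_contra h7
    rcases (by omega : j = 0 ∨ j = 1) with rfl | rfl
    · have := (Nat.card_eq_one_iff_unique.1 h5).1
      exact h0 inferInstance
    · exact h0 (isCyclic_of_prime_card (h5.trans (pow_one l)))
  refine ⟨by rw [h2, show k = 1 by omega, pow_one], h5, fun x y => ?_, fun x => ?_⟩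
  · rw [← QuotientGroup.eq_one_iff, QuotientGroup.mk_mul, QuotientGroup.mk_mul,
      QuotientGroup.mk_mul, (IsPGroup.isMulCommutative_of_card_eq_prime_sq h5).is_comm.comm
        (x : G ⧸ Subgroup.center G)]
    simp
  · rw [← QuotientGroup.eq_one_iff, QuotientGroup.mk_pow, ← orderOf_dvd_iff_pow_eq_one]
    obtain ⟨i, h7, h8⟩ := (Nat.dvd_prime_pow hl).1
      ((show Nat.card (G ⧸ _) = _ from h5) ▸ orderOf_dvd_natCard (x : G ⧸ Subgroup.center G))
    rw [h8]
    interval_cases i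
    · simp
    · simp
    · exact absurd (isCyclic_of_orderOf_eq_card _ (h8.trans h5.symm)) h0

theorem extraData_of_cube {F : Type*} [Field F] [Fintype F] {R : Subgroup (GL ι F)} {p : ℕ}
    [Fact p.Prime] [CharP F p] (hl : l.Prime) (hR : Nat.card R = l ^ 3)
    (hna : ¬ IsMulCommutative R) (hn : Fintype.card ι = l) (hq : l ∣ Fintype.card F - 1) :
    ExtraData R R l := by
  classical
  have := Fact.mk hl
  obtain ⟨h1, h2, h3, h4⟩ := center_of_cube hl hR hna
  have hlp := ne_char_of_dvd (p := p) hq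
  refine extraData_of_center hl (fun x hx => ?_) h3 h4 (hn ▸ natCast_ne_zero_of_ne hlp) (hn ▸ h2)
  obtain ⟨a, b, hab⟩ : ∃ a b : R, a * b ≠ b * a := by
    by_contra! h; exact hna ⟨⟨h⟩⟩
  obtain ⟨z, z1, z2⟩ : ∃ z : Subgroup.center R, a * b = z * b * a ∧ z ≠ 1 := ⟨⟨_, h3 a b⟩, by simp,
    fun e => hab (mul_inv_eq_iff_eq_mul.1 (mul_inv_eq_one.1 (congrArg Subtype.val e)))⟩
  obtain ⟨k, hk⟩ := mem_zpowers_of_prime_card h1 z2 (g' := ⟨x, hx⟩)
  rw [← show z.1.1 ^ k = x from congrArg (fun y : Subgroup.center R => y.1.1) hk]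
  refine zpow_mem ?_ k
  have z3 : glRep z.1.1 ^ l = 1 := by
    rw [← map_pow, show z.1.1 ^ l = 1 from congrArg (fun y : Subgroup.center R => y.1.1)
      (h1 ▸ pow_card_eq_one' (x := z)), map_one]
  obtain ⟨t, t1, t2⟩ := exists_ed_eq_dg_of_pow hlp hq z3
  obtain ⟨ω, t3, t4⟩ : ∃ ω ∈ t, ω ≠ 1 := by
    by_contra! h
    have := pow_of_ed_eq_dg t1 (k := 1) fun a ha => (pow_one a).trans (h a ha)
    rw [pow_one, one_smul, ← map_one glRep] at this
    exact z2 (Subtype.ext (Subtype.ext (glRep_injective this)))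
  have h5 : ∀ y : R, ∀ v ∈ LinearMap.ker (glRep z.1.1 - ω • 1),
      glRep y.1 v ∈ LinearMap.ker (glRep z.1.1 - ω • 1) := fun y v hv => mem_ker_sub.2 (by
    rw [← End.mul_apply, ← map_mul, ← show y.1 * z.1.1 = z.1.1 * y.1 from congrArg Subtype.val
      (Subgroup.mem_center_iff.1 z.2 y), map_mul, End.mul_apply, mem_ker_sub.1 hv, map_smul])
  have h6 := dvd_of_comm (isUnit_glRep a.1) (isUnit_glRep b.1) (orderOf_eq_prime (t2 ω t3) t4 ▸
    IsPrimitiveRoot.orderOf ω) (h5 a) (h5 b) fun v hv => by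
      rw [← mem_ker_sub.1 (h5 b _ (h5 a v hv)), ← End.mul_apply, ← map_mul,
        show a.1 * b.1 = z.1.1 * b * a from congrArg Subtype.val z1, map_mul, map_mul]
      rfl
  refine mem_scalars_of_eq_smul (glRep_eq_smul.1 (by_contra fun e => ?_)) (c := ω)
  have h7 := mult_lt e
  have h8 := Nat.le_of_dvd ((Multiset.count_pos.2 t3).trans_eq (mult_of_ed_eq_dg t1 ω).symm) h6
  rw [finrank_fintype_fun_eq_card, hn] at h7
  exact h7.not_ge h8

end Mat

end Cfsg.Agent.Cl.Der
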