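/-
Tables of non-containments in dimension three: the framework and coordinate-free facts.
-/
import Mathlib
import Cfsg.Agent.Cl.D3Defs
import Cfsg.Agent.Cl.DerSix

set_option autoImplicit false
set_option linter.unusedSectionVars false

namespace Cfsg.Agent.Cl.D3

open Matrix Cfsg.Geo Cfsg.Agent.Cl.Max Cfsg.Agent.Cl.Mx
open scoped commutatorElement

section Group

variable {Γ : Type*} [Group Γ] {G H K : Subgroup Γ}

/-- No maximal subgroup of `G` properly contains `H`. -/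
def Tab (G H : Subgroup Γ) : Prop := ∀ M, IsMaximalIn G M → H ≤ M → M ≤ H

theorem Tab.max [Finite Γ] (h : Tab G H) (hle : H ≤ G) (hne : ¬ G ≤ H) : IsMaximalIn G H := by
  obtain ⟨M, ⟨h1, h2, h3⟩, hM⟩ := (wellFounded_gt (α := Subgroup Γ)).has_min
    {M | H ≤ M ∧ M ≤ G ∧ ¬ G ≤ M} ⟨H, le_rfl, hle, hne⟩
  have h4 : IsMaximalIn G M := isMaximalIn_of h2 h3 fun L h5 h6 h7 => by
    by_contra h8
    exact hM L ⟨h1.trans h5, h6, h8⟩ (lt_of_le_of_ne h5 fun e => h7 e.ge)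
  exact le_antisymm (h M h4 h1) h1 ▸ h4

theorem Tab.conj (P : Γ) (hG : ∀ g, P * g * P⁻¹ ∈ G ↔ g ∈ G) (h : Tab G K)
    (hH : ∀ g, P * g * P⁻¹ ∈ H ↔ g ∈ K) : Tab G H := fun M hM hle => by
  let φ := (MulAut.conj P).toMonoidHom
  have hs : Function.Surjective φ := (MulAut.conj P).surjective
  have e1 : G.comap φ = G := Subgroup.ext hG
  have e2 : H.comap φ = K := Subgroup.ext hH
  rw [← Subgroup.comap_le_comap_of_surjective hs, e2]
  refine h _ (isMaximalIn_of ?_ ?_ fun L h1 h2 h3 => ?_) (e2 ▸ Subgroup.comap_mono hle)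
  · exact e1 ▸ Subgroup.comap_mono hM.1.le
  · rw [← e1, Subgroup.comap_le_comap_of_surjective hs]
    exact hM.1.not_ge
  · have e3 : (L.map φ).comap φ = L := Subgroup.comap_map_eq_self_of_injective
      (MulAut.conj P).injective L
    rw [← e3, Subgroup.comap_le_comap_of_surjective hs] at h1 h3
    rw [← e3, ← e1, Subgroup.comap_le_comap_of_surjective hs] at h2 ⊢
    exact ((hM.2 _ h1 h2).resolve_left fun e => h3 e.le).ge

/-- The subgroup generated by the cubes and the commutators. -/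
def cub (H : Subgroup Γ) : Subgroup Γ :=
  Subgroup.closure {g | (∃ a ∈ H, g = a ^ 3) ∨ ∃ a ∈ H, ∃ b ∈ H, g = a * b * a⁻¹ * b⁻¹}

theorem cube_mem {a : Γ} (ha : a ∈ H) : a ^ 3 ∈ cub H :=
  Subgroup.subset_closure (Or.inl ⟨a, ha, rfl⟩)

theorem comm_mem {a b : Γ} (ha : a ∈ H) (hb : b ∈ H) : a * b * a⁻¹ * b⁻¹ ∈ cub H :=
  Subgroup.subset_closure (Or.inr ⟨a, ha, b, hb, rfl⟩)

theorem inv_mem_cub {a : Γ} (ha : a ∈ H) (h : a * a = 1) : a ∈ cub H := by
  simpa [pow_succ, h] using cube_mem ha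

theorem four_mem_cub {a : Γ} (ha : a ∈ H) (h : a * a * (a * a) = 1) : a ∈ cub H := by
  have : a = (a ^ 3)⁻¹ := eq_inv_of_mul_eq_one_left (by
    rw [← h]; simp only [pow_succ, pow_zero, one_mul, mul_assoc])
  exact this ▸ inv_mem (cube_mem ha)

theorem cub_le_of (h : ∀ a ∈ H, ∃ z : Γ, (∀ g, z * g = g * z) ∧ z * a ∈ K ∧ z ^ 3 ∈ K) :
    cub H ≤ K := by
  refine (Subgroup.closure_le _).2 ?_
  rintro _ (⟨a, ha, rfl⟩ | ⟨a, ha, b, hb, rfl⟩)
  · obtain ⟨z, h1, h2, h3⟩ := h a ha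
    have := K.mul_mem (K.inv_mem h3) (K.pow_mem h2 3)
    rwa [Commute.mul_pow (h1 a), inv_mul_cancel_left] at this
  · obtain ⟨z, h1, h2, -⟩ := h a ha
    obtain ⟨u, h3, h4, -⟩ := h b hb
    have := K.mul_mem (K.mul_mem (K.mul_mem h2 h4) (K.inv_mem h2)) (K.inv_mem h4)
    have e : z * a * (u * b) * (z * a)⁻¹ * (u * b)⁻¹ =
        z * (a * u * (b * a⁻¹)) * z⁻¹ * (b⁻¹ * u⁻¹) := by group
    rw [e, h1, mul_inv_cancel_right, ← h3 a] at this
    have e' : u * a * (b * a⁻¹) * (b⁻¹ * u⁻¹) = u * (a * b * a⁻¹ * b⁻¹) * u⁻¹ := by group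
    rwa [e', h3, mul_inv_cancel_right] at this

theorem cub_le (H : Subgroup Γ) : cub H ≤ H :=
  cub_le_of fun a ha => ⟨1, by simp, by simpa using ha, by simp⟩

end Group

variable {F : Type*} [Field F] {H R : Subgroup (GL (Fin 3) F)} {F₀ : Subfield F}
  {P g x y t : GL (Fin 3) F} {σ : F →+* F} {f : (Fin 3 → F) → (Fin 3 → F) → F}
  {D : Fin 3 → Submodule F (Fin 3 → F)} {K : Subalgebra F (Matrix (Fin 3) (Fin 3) F)}

local notation "M3" => Matrix (Fin 3) (Fin 3) F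
local notation "SL3" => specialLinear (Fin 3) F
local notation "Z3" => scalars (Fin 3) F

theorem sc_comm (c : Fˣ) (g : GL (Fin 3) F) : sc (Fin 3) c * g = g * sc (Fin 3) c :=
  mul_comm_of_mem_scalars (sc_mem c) g

theorem det_of_mem (h : H ≤ SL3) (hg : g ∈ H) : (g : M3).det = 1 :=
  (mem_specialLinear_iff g).1 (h hg)

theorem cube_of_scalar (hg : g ∈ SL3) (h : g ∈ Z3) : g ^ 3 = 1 := by
  obtain ⟨c, rfl⟩ := (mem_scalars_iff_sc g).1 h
  rw [mem_specialLinear_iff, coe_sc, det_smul, det_one, mul_one, Fintype.card_fin] at hg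
  rw [← map_pow, Units.ext (u := c ^ 3) (v := 1) (by simpa using hg), map_one]

/-! ### Subfields and forms -/

/-- The invertible matrices with entries in `F₀` with respect to the basis `P`. -/
def ratG [Finite F] (F₀ : Subfield F) (P : GL (Fin 3) F) : Subgroup (GL (Fin 3) F) where
  carrier := {g | Rat F₀ P (g : M3)}
  one_mem' := rat_one
  mul_mem' := fun ha hb => ha.mul hb
  inv_mem' := fun {a} ha => by
    have : a⁻¹ = a ^ (orderOf a - 1) := inv_eq_of_mul_eq_one_left (by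
      rw [← pow_succ, Nat.sub_add_cancel (orderOf_pos a), pow_orderOf_eq_one])
    rw [this]
    exact Mx.Rat.pow ha _

theorem cub_rat [Finite F] (h : H ≤ SL3) (h' : H ≤ subfieldSubgroup F₀ P) (hg : g ∈ cub H) :
    Rat F₀ P (g : M3) := by
  refine cub_le_of (K := ratG F₀ P) (fun a ha => ?_) hg
  obtain ⟨c, hc, h1⟩ := mem_subfieldSubgroup_iff.1 (h' ha)
  have h2 := Rat.det_mem h1
  rw [det_smul, det_of_mem h ha, mul_one, Fintype.card_fin] at h2
  refine ⟨sc _ (Units.mk0 c hc), sc_comm _, ?_, ?_⟩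
  · change Rat F₀ P (_ * _)
    rwa [coe_sc, smul_mul_assoc, one_mul]
  · change Rat F₀ P _
    rw [← map_pow, coe_sc]
    exact rat_one.smul h2

theorem cub_iso (hf : HForm σ 1 f) (h : H ≤ SL3) (h' : H ≤ similarityGroup f) :
    cub H ≤ isoG f := by
  refine cub_le_of fun a ha => ?_
  obtain ⟨c, hc⟩ := mem_similarityGroup.1 (h' ha)
  obtain ⟨u, hu⟩ := hf.exists_ne_zero (v := Pi.single 0 1) (by simp)
  have h1 : σ c = c := by
    have h2 := hf.herm ((a : M3) *ᵥ u) ((a : M3) *ᵥ Pi.single 0 1)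
    rw [hc, hc, map_mul, one_mul, ← one_mul (σ (f _ _)), ← hf.herm] at h2
    exact (mul_right_cancel₀ hu h2).symm
  have h2 : (c : F) ^ 3 = 1 := by
    have h3 := hf.det_adj (a : M3)
    rw [hf.adj_of_sim hc, det_smul, det_of_mem h ha, det_of_mem h (inv_mem ha), h1] at h3
    simpa using h3
  refine ⟨sc _ c, sc_comm _, mem_isoG.2 fun u v => ?_, ?_⟩
  · rw [mul_mulVec, mul_mulVec, sc_mulVec, sc_mulVec, hf.smul_left, hf.smul_right, hc, h1]
    linear_combination f u v * h2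
  · rw [← map_pow, Units.ext (u := c ^ 3) (v := 1) (by simpa using h2), map_one]
    exact one_mem _

theorem rat_of_quad {A B : M3} (hA : Rat F₀ P A) (hB : Rat F₀ P B) (h : A * B ≠ B * A) {s t : F}
    (e : A * A = s • A - t • 1) : t ∈ F₀ := by
  have h1 : s ∈ F₀ := mem_of_rat_smul (sub_ne_zero.2 h) (Mx.Rat.sub (hA.mul hB) (hB.mul hA)) (by
    have := Mx.Rat.sub ((hA.mul hA).mul hB) (hB.mul (hA.mul hA))
    rwa [e, sub_mul, mul_sub, smul_mul_assoc, smul_mul_assoc, mul_smul_comm, mul_smul_comm, one_mul,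
      mul_one, sub_sub_sub_cancel_right, ← smul_sub] at this)
  refine mem_of_rat_smul one_ne_zero rat_one (P := P) ?_
  have := Mx.Rat.sub (hA.smul h1) (hA.mul hA)
  rwa [e, sub_sub_cancel] at this

/-! ### Extension fields -/

theorem scalar_of_ker [Fintype F] (hK : IsFieldSubalgebra 3 K) (hg : g ∈ subalgebraNormalizer K)
    {a : F} (h : 2 ≤ Module.finrank F (LinearMap.ker (toLin' ((g : M3) - a • 1)))) : g ∈ Z3 := by
  set E := LinearMap.ker (toLin' ((g : M3) - a • 1)) with hE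
  have hm : ∀ v, v ∈ E ↔ (g : M3) *ᵥ v = a • v := fun v => by
    rw [hE, LinearMap.mem_ker, toLin'_apply, sub_mulVec, smul_mulVec, one_mulVec, sub_eq_zero]
  obtain ⟨v, hv, hv0⟩ := E.exists_mem_ne_zero_of_ne_bot (by
    rintro e; rw [e, finrank_bot] at h; omega)
  refine mem_scalars_of_eq_smul (c := a) (Matrix.ext_iff_mulVec.2 fun w => ?_)
  obtain ⟨k, hk, rfl⟩ := singer_exists hK (by simp) hv0 w
  have h1 := E.finrank_quotient_add_finrank
  rw [Module.finrank_fin_fun] at h1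
  obtain ⟨u, hu, hu0⟩ := (LinearMap.ker (E.mkQ ∘ₗ toLin' k ∘ₗ E.subtype)).exists_mem_ne_zero_of_ne_bot
    (LinearMap.ker_ne_bot_of_finrank_lt (by omega))
  have h2 : k *ᵥ u ∈ E := (Submodule.Quotient.mk_eq_zero E).1 hu
  have h3 : cj g k = k := by
    by_contra h3
    refine IsFieldSubalgebra.mulVec_ne_zero hK (K.sub_mem ((hg k).1 hk) hk) (sub_ne_zero.2 h3)
      (mulVec_ne_zero g (v := u) (by simpa using hu0)) ?_
    rw [sub_mulVec, ← cj_apply, cj_mulVec, (hm _).1 h2, (hm _).1 u.2, mulVec_smul, sub_self]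
  rw [← cj_mulVec, h3, (hm _).1 hv, mulVec_smul, smul_mulVec, one_mulVec]

theorem scalar_of_quad [Fintype F] (hK : IsFieldSubalgebra 3 K) (hg : g ∈ subalgebraNormalizer K)
    {a b : F} (h : ((g : M3) - a • 1) * ((g : M3) - b • 1) = 0) : g ∈ Z3 := by
  have h1 := (toLin' ((g : M3) - b • 1)).finrank_range_add_finrank_ker
  have h2 : LinearMap.range (toLin' ((g : M3) - b • 1)) ≤
      LinearMap.ker (toLin' ((g : M3) - a • 1)) := by
    rw [LinearMap.range_le_ker_iff, ← toLin'_mul, h, map_zero]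
  have h3 := Submodule.finrank_mono h2
  rw [Module.finrank_fin_fun] at h1
  by_cases h4 : 2 ≤ Module.finrank F (LinearMap.ker (toLin' ((g : M3) - a • 1)))
  · exact scalar_of_ker hK hg h4
  · exact scalar_of_ker hK hg (a := b) (by omega)

theorem scalar_of_invol [Fintype F] (hK : IsFieldSubalgebra 3 K) (hg : g ∈ subalgebraNormalizer K)
    (h : g * g = 1) : g ∈ Z3 := scalar_of_quad hK hg (a := 1) (b := -1) (by
  have : (g : M3) * g = 1 := by rw [← Units.val_mul, h, Units.val_one]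
  rw [neg_smul, one_smul]
  linear_combination (norm := noncomm_ring) this)

/-! ### Frames -/

theorem exists_pm (hD : IsMDecomposition 1 D) : ∃ π : decompositionStabilizer D →* Equiv.Perm (Fin 3),
    ∀ g, π g = 1 → g.1 ∈ fixAll D := by
  choose π hπ using fun g : decompositionStabilizer D => mem_decompositionStabilizer.1 g.2
  refine ⟨MonoidHom.mk' π fun a b => Equiv.ext fun i => IsMDecomposition.injective hD ?_,
    fun g hg => mem_fixAll.2 fun i v hv => ?_⟩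
  · rw [← hπ, Equiv.Perm.mul_apply, ← hπ, ← hπ, ← Submodule.map_comp, ← toLin'_mul]
    rfl
  · have := hπ g i
    rw [show π g = 1 from hg] at this
    exact this.le ⟨v, hv, rfl⟩

theorem pow_six_fix (hD : IsMDecomposition 1 D) (hg : g ∈ decompositionStabilizer D) :
    g ^ 6 ∈ fixAll D := by
  obtain ⟨π, hπ⟩ := exists_pm hD
  refine hπ (⟨g, hg⟩ ^ 6) ?_
  rw [map_pow]
  generalize π _ = a
  revert a; decide +kernel

theorem sq_fix (hD : IsMDecomposition 1 D) (hg : g ∈ decompositionStabilizer D)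
    (h : g * g * (g * g) = 1) : g * g ∈ fixAll D := by
  obtain ⟨π, hπ⟩ := exists_pm hD
  refine hπ (⟨g, hg⟩ * ⟨g, hg⟩) ?_
  have : π (⟨g, hg⟩ * ⟨g, hg⟩ * (⟨g, hg⟩ * ⟨g, hg⟩)) = 1 := by
    rw [← π.map_one]; exact congrArg π (Subtype.ext h)
  simp only [map_mul] at this ⊢
  generalize π _ = a at this ⊢
  revert a; decide

theorem cube_fix (hD : IsMDecomposition 1 D) (hx : x ∈ decompositionStabilizer D)
    (hy : y ∈ decompositionStabilizer D)
    (h : x * (y * x * y⁻¹) * (y * (y * x * y⁻¹) * y⁻¹) = 1) : x ^ 3 ∈ fixAll D := by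
  obtain ⟨π, hπ⟩ := exists_pm hD
  refine hπ (⟨x, hx⟩ ^ 3) ?_
  have : π (⟨x, hx⟩ * (⟨y, hy⟩ * ⟨x, hx⟩ * ⟨y, hy⟩⁻¹) *
      (⟨y, hy⟩ * (⟨y, hy⟩ * ⟨x, hx⟩ * ⟨y, hy⟩⁻¹) * ⟨y, hy⟩⁻¹)) = 1 := by
    rw [← π.map_one]; exact congrArg π (Subtype.ext h)
  simp only [map_mul, map_inv, map_pow] at this ⊢
  generalize π ⟨x, hx⟩ = a at this ⊢
  generalize π ⟨y, hy⟩ = b at this
  revert a b; decide +kernel

theorem comm_fix (hD : IsMDecomposition 1 D) {a b c d : GL (Fin 3) F}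
    (ha : a ∈ decompositionStabilizer D) (hb : b ∈ decompositionStabilizer D)
    (hc : c ∈ decompositionStabilizer D) (hd : d ∈ decompositionStabilizer D) :
    ⁅⁅a, b⁆, ⁅c, d⁆⁆ ∈ fixAll D := by
  obtain ⟨π, hπ⟩ := exists_pm hD
  refine hπ ⁅⁅(⟨a, ha⟩ : decompositionStabilizer D), (⟨b, hb⟩ : decompositionStabilizer D)⁆,
    ⁅(⟨c, hc⟩ : decompositionStabilizer D), (⟨d, hd⟩ : decompositionStabilizer D)⁆⁆ ?_
  simp only [map_commutatorElement]
  have h1 : ∀ u v : Equiv.Perm (Fin 3), Equiv.Perm.sign ⁅u, v⁆ = 1 := fun u v => by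
    rw [map_commutatorElement, commutatorElement_eq_one_iff_commute]; exact Commute.all _ _
  have h2 : ∀ u v : Equiv.Perm (Fin 3), Equiv.Perm.sign u = 1 → Equiv.Perm.sign v = 1 →
    u * v = v * u := by decide +kernel
  exact commutatorElement_eq_one_iff_mul_comm.2 (h2 _ _ (h1 _ _) (h1 _ _))

theorem exists_line (hD : IsMDecomposition 1 D) (i : Fin 3) :
    ∃ v, v ≠ 0 ∧ D i = F ∙ v ∧ ∀ g ∈ fixAll D, ∃ c : F, (g : M3) *ᵥ v = c • v := by
  obtain ⟨v, hv, h0⟩ := (D i).exists_mem_ne_zero_of_ne_bot (IsMDecomposition.ne_bot hD i)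
  have h : D i = F ∙ v := (Submodule.eq_of_le_of_finrank_eq
    ((Submodule.span_singleton_le_iff_mem _ _).2 hv)
    (by rw [finrank_span_singleton h0, hD.finrank_eq])).symm
  refine ⟨v, h0, h, fun g hg => ?_⟩
  obtain ⟨c, hc⟩ := Submodule.mem_span_singleton.1 (h ▸ mem_fixAll.1 hg i v hv)
  exact ⟨c, hc.symm⟩

theorem eq_one_of_fix (hD : IsMDecomposition 1 D) (hg : g ∈ fixAll D)
    (h : ((g : M3) - 1) * ((g : M3) - 1) = 0) : g = 1 := by
  have : ∀ i, D i ≤ LinearMap.ker (toLin' ((g : M3) - 1)) := fun i => by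
    obtain ⟨v, h0, e, hv⟩ := exists_line hD i
    obtain ⟨c, hc⟩ := hv g hg
    have h1 : ((g : M3) - 1) *ᵥ v = (c - 1) • v := by rw [sub_mulVec, hc, one_mulVec, sub_smul, one_smul]
    have h2 := congrArg (· *ᵥ v) h
    simp only [← mulVec_mulVec, h1, mulVec_smul, smul_smul, zero_mulVec, smul_eq_zero, h0,
      or_false, mul_self_eq_zero] at h2
    rw [e, Submodule.span_singleton_le_iff_mem, LinearMap.mem_ker, toLin'_apply, h1, h2, zero_smul]
  have h1 := iSup_le this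
  rw [hD.iSup_eq_top, top_le_iff, LinearMap.ker_eq_top, map_eq_zero_iff _ toLin'.injective,
    sub_eq_zero] at h1
  exact Units.ext h1

theorem not_spans_fixAll (hD : IsMDecomposition 1 D) : ¬ Spans (fixAll D) := fun h =>
  (h.irr (D 0) fun g hg => mem_fixAll.1 hg 0).elim (IsMDecomposition.ne_bot hD 0)
    (IsMDecomposition.ne_top hD 0)

/-! ### Normalisers of extraspecial groups -/

/-- An absolutely irreducible group of exponent three, abelian modulo scalars. -/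
structure Hei (R : Subgroup (GL (Fin 3) F)) : Prop where
  ext : ExtraData R R 3
  cube : ∀ x ∈ R, x ^ 3 = 1

theorem hei_of [Finite F] (hR : IsSymplecticTypeGroup 3 R)
    (hA : ActsAbsolutelyIrreducibly (matrixSet R)) : Hei R :=
  ⟨extraData_of_sympl hR (spans_of_acts hA), fun x hx => by
    have := Monoid.pow_exponent_eq_one (⟨x, hx⟩ : R)
    rw [hR.exponent_eq] at this
    exact congrArg Subtype.val this⟩

theorem trace_of_invol (h : t * t = 1) (hd : t ∈ SL3) (h1 : t ≠ 1) : (t : M3).trace = -1 := by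
  have e : (t : M3) * t = 1 := by rw [← Units.val_mul, h, Units.val_one]
  have e1 : (t : M3) ≠ 1 := fun e1 => h1 (Units.ext e1)
  rw [mem_specialLinear_iff] at hd
  generalize (t : M3) = A at e e1 hd
  have e2 : adjugate A = A := by
    rw [← mul_one (adjugate A), ← e, ← mul_assoc, adjugate_mul, hd, one_smul, one_mul]
  have e3 : (A.trace + 1) • (A - 1) = 0 := by
    have h3 := congrFun₂ e
    have h4 := congrFun₂ e2
    simp only [Fin.forall_fin_succ, adjugate_fin_three, mul_apply, Fin.sum_univ_three] at h3 h4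
    simp at h3 h4
    ext i j
    fin_cases i <;> fin_cases j <;> simp [trace_fin_three] <;> grind
  exact eq_neg_of_add_eq_zero_left ((smul_eq_zero.1 e3).resolve_right (sub_ne_zero.2 e1))

theorem Hei.inverts [Finite F] (hR : Hei R) (h2 : (2 : F) ≠ 0) (ht : t ∈ subgroupNormalizer R)
    (h : t * t = 1) (hd : t ∈ SL3) (h1 : t ≠ 1) (hx : x ∈ R) : x * (t * x * t⁻¹) ∈ Z3 := by
  have : Fact (Nat.Prime 2) := ⟨Nat.prime_two⟩
  have hs : t ∉ Z3 := fun hs => h1 (by simpa [pow_succ, h] using cube_of_scalar hd hs)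
  have hz : t ^ 2 ∈ Z3 := by rw [sq, h]; exact one_mem _
  have hi : t⁻¹ = t := inv_eq_of_mul_eq_one_right h
  obtain ⟨C, m, h3, h4, hm, -, h5⟩ := Der.exists_fix hR.ext (by norm_num) ht hz hs
  obtain ⟨h6, h7, -⟩ := Der.card_fix hR.ext h4 hm
  rw [hi, trace_of_invol h hd h1] at h5
  have h8 : Nat.card C = 1 := by
    rw [Fintype.card_fin] at h6 h7
    generalize Nat.card C = k at h5 h6 h7
    interval_cases k <;> simp at h6 ⊢
    exact h2 (by push_cast at h5; linear_combination -h5)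
  have hx' := normsG_subgroupNormalizer R t ht x hx
  have hu := R.mul_mem hx hx'
  have h9 := (h3 ⟨_, hu⟩).2 (Der.comm_of_scalar hR.ext (by norm_num) hz hu (by
    have := hR.ext.comm _ hx' _ hx
    have e : t * (x * (t * x * t⁻¹)) * t⁻¹ = t * x * t⁻¹ * (t * t * x * (t * t)⁻¹) := by group
    rwa [e, h, one_mul, inv_one, mul_one, _root_.mul_inv_rev x, ← mul_assoc]))
  rw [Subgroup.card_eq_one.1 h8, Subgroup.mem_bot, QuotientGroup.eq_one_iff] at h9
  exact h9

theorem Hei.exists_ns (hR : Hei R) : ∃ x ∈ R, x ∉ Z3 :=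
  SetLike.not_le_iff_exists.1 (hR.ext.spans.not_le_scalars (by simp))

theorem conj_scalar (hg : g ∈ Z3) (x : GL (Fin 3) F) : x * g * x⁻¹ ∈ Z3 := by
  rwa [conj_of_mem_scalars hg]

theorem Hei.no_klein [Finite F] (hR : Hei R) (h2 : (2 : F) ≠ 0) {s : GL (Fin 3) F}
    (hH : H ≤ subgroupNormalizer R) (hS : H ≤ SL3) (hs : s ∈ H) (ht : t ∈ H) (s2 : s * s = 1)
    (t2 : t * t = 1) (h : s * t * (s * t) = 1) (s1 : s ≠ 1) (t1 : t ≠ 1) (h1 : s * t ≠ 1) :
    False := by
  obtain ⟨x, hx, hn⟩ := hR.exists_ns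
  have a1 := hR.inverts h2 (hH hs) s2 (hS hs) s1 hx
  have a2 := conj_scalar (hR.inverts h2 (hH ht) t2 (hS ht) t1 hx) s
  have a3 := hR.inverts h2 (hH (H.mul_mem hs ht)) h (hS (H.mul_mem hs ht)) h1 hx
  have a4 := mul_mem a1 (conj_scalar (inv_mem (mul_mem a2 (inv_mem a3))) x⁻¹)
  have e : x = x * x * (x * x) := by simpa [pow_succ, mul_assoc] using hR.cube x hx
  have a5 : x * x ∈ Z3 := by convert a4 using 1; group
  exact hn (e ▸ mul_mem a5 a5)

theorem exists_of_comm (hH : Spans H) (hc : ∀ a ∈ H, ∀ b ∈ H, a * b * a⁻¹ * b⁻¹ ∈ Z3)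
    (hg : ∀ a ∈ H, g * a * g⁻¹ * a⁻¹ ∈ Z3) : ∃ a ∈ H, g * a ∈ Z3 := by
  obtain ⟨a, ha, h0⟩ : ∃ a ∈ H, ((g * a : GL (Fin 3) F) : M3).trace ≠ 0 := by
    by_contra! h
    have h1 : ∀ A ∈ spanAlg H, ((g : M3) * A).trace = 0 := fun A hA =>
      spanAlg_induction (p := fun A => ((g : M3) * A).trace = 0) h (by simp)
        (fun A B hA hB => by rw [mul_add, trace_add, hA, hB, add_zero])
        (fun c A hA => by rw [mul_smul_comm, trace_smul, hA, smul_zero]) hA
    have := h1 _ (hH (((g⁻¹ : GL (Fin 3) F) : M3) * single 0 0 1))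
    rw [← mul_assoc, ← Units.val_mul, mul_inv_cancel] at this
    simp at this
  refine ⟨a, ha, hH.mem_scalars fun b hb => ?_⟩
  have h1 := mul_mem (conj_scalar (hc a ha b hb) g) (hg b hb)
  obtain ⟨c, hc⟩ := (mem_scalars_iff_sc _).1 h1
  have h2 : b⁻¹ * (g * a) * b⁻¹⁻¹ = sc _ c * (g * a) := by
    rw [sc_comm, ← conj_of_mem_scalars (sc_mem c) (b * (g * a))⁻¹, hc]; group
  have h3 := trace_cj b⁻¹ ((g * a : GL (Fin 3) F) : M3)
  rw [cj_coe, h2, Units.val_mul (sc _ c), coe_sc, smul_mul_assoc, one_mul, trace_smul,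
    smul_eq_mul, mul_eq_right₀ h0, Units.val_eq_one] at h3
  rw [h3, map_one, one_mul] at h2
  calc g * a * b = b * (b⁻¹ * (g * a) * b⁻¹⁻¹) := by group
    _ = b * (g * a) := by rw [h2]

theorem Hei.sc_mem (hR : Hei R) {c : Fˣ} (hc : c ^ 3 = 1) : sc (Fin 3) c ∈ R := by
  obtain ⟨d, h1, h2, h3⟩ := hR.ext.exists_root (by simp)
  have h4 : (c : F) ^ 3 = 1 := by simpa using congrArg Units.val hc
  have h5 : (d : F) ^ 3 = 1 := by simpa using congrArg Units.val h2
  have h6 : (d : F) ≠ 1 := by simpa using h1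
  have : (c : F) = 1 ∨ (c : F) = d ∨ (c : F) = d * d := by grind
  rcases this with h | h | h
  · rw [Units.val_eq_one.1 h, map_one]; exact one_mem _
  · rwa [Units.ext h]
  · rw [Units.ext (v := d * d) h, map_mul]; exact mul_mem h3 h3

theorem Hei.mem_of_mul (hR : Hei R) (hg : g ^ 3 = 1) (hx : x ∈ R) (h : g * x ∈ Z3) : g ∈ R := by
  obtain ⟨c, hc⟩ := (mem_scalars_iff_sc _).1 h
  have e : g = sc _ c * x⁻¹ := by rw [hc, mul_inv_cancel_right]
  rw [e, Commute.mul_pow (sc_comm c _), hR.cube _ (inv_mem hx), mul_one, ← map_pow,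
    map_eq_one_iff _ sc_injective] at hg
  exact e ▸ mul_mem (hR.sc_mem hg) (inv_mem hx)

theorem Hei.le {R' : Subgroup (GL (Fin 3) F)} (hR : Hei R) (hR' : Hei R') (h : Spans (R ⊓ R')) :
    R' ≤ R := fun r hr => by
  obtain ⟨a, ha, h1⟩ := exists_of_comm h (fun a ha b hb => hR.ext.comm a ha.1 b hb.1)
    fun a ha => hR'.ext.comm r hr a ha.2
  exact hR.mem_of_mul (hR'.cube r hr) ha.1 h1

theorem Hei.mem_normalizer [Finite F] (hR : Hei R)
    (h : Spans (R ⊓ R.comap (MulAut.conj g).toMonoidHom)) : g ∈ subgroupNormalizer R := by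
  refine Subgroup.mem_normalizer_fintype fun r hr => ?_
  obtain ⟨a, ha, h1⟩ := exists_of_comm h (fun a ha b hb => hR.ext.comm a ha.1 b hb.1)
    fun a ha => hR.ext.comm r hr a ha.1
  refine hR.mem_of_mul (by rw [conj_pow, hR.cube r hr, mul_one, mul_inv_cancel]) ha.2 ?_
  convert conj_scalar h1 g using 1
  simp [mul_assoc]

theorem Hei.mem_of_inverted [Finite F] (hR : Hei R) (h2 : (2 : F) ≠ 0)
    (ht : t ∈ subgroupNormalizer R) (h : t * t = 1) (hd : t ∈ SL3) (h1 : t ≠ 1)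
    (hx : x ∈ subgroupNormalizer R) (h3 : x ^ 3 = 1) (e : t * x * t⁻¹ = x⁻¹) : x ∈ R := by
  obtain ⟨a, ha, h4⟩ := exists_of_comm (g := x * x) hR.ext.spans hR.ext.comm fun r hr => by
    have a1 := hR.inverts h2 ht h hd h1 (normsG_subgroupNormalizer R x hx r hr)
    have e1 : t * (x * r * x⁻¹) * t⁻¹ = t * x * t⁻¹ * (t * r * t⁻¹) * (t * x * t⁻¹)⁻¹ := by group
    rw [e1, e] at a1
    convert conj_scalar (mul_mem a1 (inv_mem (conj_scalar (hR.inverts h2 ht h hd h1 hr) x⁻¹))) x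
      using 1
    group
  have h5 := hR.mem_of_mul (by rw [Commute.mul_pow (Commute.refl x), h3, mul_one]) ha h4
  have e1 : x = x * x * (x * x) := by simpa [pow_succ, mul_assoc] using h3
  exact e1 ▸ mul_mem h5 h5

end Cfsg.Agent.Cl.D3
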