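/-
Tables of non-containments in dimension three: monomial groups and the Hessian group.
-/
import Mathlib
import Cfsg.Agent.Cl.D3T1

set_option autoImplicit false
set_option linter.unusedSectionVars false
set_option linter.unusedSimpArgs false

namespace Cfsg.Agent.Cl.D3

open Matrix Cfsg.Geo Cfsg.Agent.Cl.Max Cfsg.Agent.Cl.Mx

variable {F : Type*} [Field F] {G H R : Subgroup (GL (Fin 3) F)} {F₀ : Subfield F}
  {P g : GL (Fin 3) F} {σ : F →+* F} {f : (Fin 3 → F) → (Fin 3 → F) → F}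
  {D : Fin 3 → Submodule F (Fin 3 → F)} {K : Subalgebra F (Matrix (Fin 3) (Fin 3) F)} {l : Fˣ}

local notation "M3" => Matrix (Fin 3) (Fin 3) F
local notation "SL3" => specialLinear (Fin 3) F
local notation "Z3" => scalars (Fin 3) F

/-- A diagonal matrix. -/
def dg3 (a b c : Fˣ) : GL (Fin 3) F :=
  mkGL !![(a : F), 0, 0; 0, b, 0; 0, 0, c] !![(a : F)⁻¹, 0, 0; 0, (b : F)⁻¹, 0; 0, 0, (c : F)⁻¹]
    (by (ext i j; fin_cases i <;> fin_cases j <;> simp [mul_apply, Fin.sum_univ_three]))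

theorem coe_dg3 (a b c : Fˣ) : (dg3 a b c : M3) = !![(a : F), 0, 0; 0, b, 0; 0, 0, c] := rfl

variable (F) in
/-- The cyclic shift. -/
def sh : GL (Fin 3) F := mkGL !![0, 0, 1; 1, 0, 0; 0, 1, 0] !![0, 1, 0; 0, 0, 1; 1, 0, 0] (by (ext i j; fin_cases i <;> fin_cases j <;> simp [mul_apply, Fin.sum_univ_three]))

theorem coe_sh : (sh F : M3) = !![0, 0, 1; 1, 0, 0; 0, 1, 0] := rfl

variable (F) in
/-- The negative of a transposition. -/
def sw : GL (Fin 3) F :=
  mkGL !![0, -1, 0; -1, 0, 0; 0, 0, -1] !![0, -1, 0; -1, 0, 0; 0, 0, -1] (by (ext i j; fin_cases i <;> fin_cases j <;> simp [mul_apply, Fin.sum_univ_three]))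

theorem coe_sw : (sw F : M3) = !![0, -1, 0; -1, 0, 0; 0, 0, -1] := rfl

theorem dg3_mul (a b c a' b' c' : Fˣ) : dg3 a b c * dg3 a' b' c' = dg3 (a * a') (b * b') (c * c') :=
  Units.ext (by rw [Units.val_mul, coe_dg3, coe_dg3, coe_dg3]; (ext i j; fin_cases i <;> fin_cases j <;> simp [mul_apply, Fin.sum_univ_three]))

theorem dg3_self (a : Fˣ) : dg3 a a a = sc (Fin 3) a := Units.ext (by rw [coe_dg3, coe_sc]; (ext i j; fin_cases i <;> fin_cases j <;> simp [mul_apply, Fin.sum_univ_three]))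

theorem dg3_one : dg3 (1 : Fˣ) 1 1 = 1 := by rw [dg3_self, map_one]

theorem dg3_inv (a b c : Fˣ) : (dg3 a b c)⁻¹ = dg3 a⁻¹ b⁻¹ c⁻¹ :=
  inv_eq_of_mul_eq_one_right (by simp [dg3_mul, dg3_one])

theorem dg3_pow (a b c : Fˣ) (n : ℕ) : dg3 a b c ^ n = dg3 (a ^ n) (b ^ n) (c ^ n) := by
  induction n with
  | zero => simp [dg3_one]
  | succ n ih => simp [pow_succ, ih, dg3_mul]

theorem dg3_scalar {a b c : Fˣ} (h : dg3 a b c ∈ Z3) : a = c ∧ b = c := by
  obtain ⟨z, -, e⟩ := coe_eq_smul_of_mem_scalars h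
  have h0 := congrFun₂ e 0 0
  have h1 := congrFun₂ e 1 1
  have h2 := congrFun₂ e 2 2
  simp [coe_dg3] at h0 h1 h2
  exact ⟨Units.ext (h0.trans h2.symm), Units.ext (h1.trans h2.symm)⟩

theorem det_dg3 (a b c : Fˣ) : (dg3 a b c : M3).det = a * b * c := by
  simp [coe_dg3, det_fin_three]

theorem sh_dg3 (a b c : Fˣ) : sh F * dg3 a b c * (sh F)⁻¹ = dg3 c a b :=
  mul_inv_eq_of_eq_mul (Units.ext (by simp only [Units.val_mul, coe_dg3, coe_sh]; (ext i j; fin_cases i <;> fin_cases j <;> simp [mul_apply, Fin.sum_univ_three])))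

theorem sw_dg3 (a b c : Fˣ) : sw F * dg3 a b c * (sw F)⁻¹ = dg3 b a c :=
  mul_inv_eq_of_eq_mul (Units.ext (by simp only [Units.val_mul, coe_dg3, coe_sw]; (ext i j; fin_cases i <;> fin_cases j <;> simp [mul_apply, Fin.sum_univ_three])))

theorem sw_sq : sw F * sw F = 1 := Units.ext (by simp only [Units.val_mul, coe_sw]; (ext i j; fin_cases i <;> fin_cases j <;> simp [mul_apply, Fin.sum_univ_three]))

theorem sh_cube : sh F ^ 3 = 1 :=
  Units.ext (by simp only [pow_succ, pow_zero, one_mul, Units.val_mul, coe_sh]; (ext i j; fin_cases i <;> fin_cases j <;> simp [mul_apply, Fin.sum_univ_three]))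

theorem sw_sh : sw F * sh F * (sw F)⁻¹ = (sh F)⁻¹ :=
  mul_inv_eq_of_eq_mul (eq_inv_mul_of_mul_eq (Units.ext (by
    simp only [Units.val_mul, coe_sh, coe_sw]; (ext i j; fin_cases i <;> fin_cases j <;> simp [mul_apply, Fin.sum_univ_three]))))

theorem sw_ns : sw F ∉ Z3 := fun h => by
  obtain ⟨z, -, e⟩ := coe_eq_smul_of_mem_scalars h
  simpa [coe_sw] using congrFun₂ e 0 1

theorem sw_ne : sw F ≠ 1 := fun h => sw_ns (h ▸ one_mem _)

theorem sh_mem_sl : sh F ∈ SL3 := (mem_specialLinear_iff _).2 (by simp [coe_sh, det_fin_three])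

theorem sw_mem_sl : sw F ∈ SL3 := (mem_specialLinear_iff _).2 (by simp [coe_sw, det_fin_three])

/-- The matrix `diag (l, l⁻¹, 1)`. -/
abbrev dd (l : Fˣ) : GL (Fin 3) F := dg3 l l⁻¹ 1

theorem dd_mem_sl (l : Fˣ) : dd l ∈ SL3 := (mem_specialLinear_iff _).2 (by simp [det_dg3])

/-! ### Matrix units -/

theorem all_single {S : M3 → Prop} (hm : ∀ A B, S A → S B → S (A * B)) (hy : S (sh F)) {a b : Fin 3}
    (h : S (single a b 1)) (i j : Fin 3) : S (single i j 1) := by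
  have h1 : ∀ a b : Fin 3, S (single a b 1) → S (single (a + 1) b 1) := fun a b h => by
    convert hm _ _ hy h using 1
    rw [coe_sh]
    fin_cases a <;> fin_cases b <;> (ext i j; fin_cases i <;> fin_cases j <;> simp [mul_apply, Fin.sum_univ_three])
  have h2 : ∀ a b : Fin 3, S (single a b 1) → S (single a (b + 2) 1) := fun a b h => by
    convert hm _ _ h hy using 1
    rw [coe_sh]
    fin_cases a <;> fin_cases b <;> (ext i j; fin_cases i <;> fin_cases j <;> simp [mul_apply, Fin.sum_univ_three])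
  have h3 : S (single i b 1) := by
    have : i = a ∨ i = a + 1 ∨ i = a + 1 + 1 := by clear h h1 h2; revert a i; decide
    rcases this with rfl | rfl | rfl
    exacts [h, h1 _ _ h, h1 _ _ (h1 _ _ h)]
  have : j = b ∨ j = b + 2 ∨ j = b + 2 + 2 := by clear h h1 h2 h3; revert b j; decide
  rcases this with rfl | rfl | rfl
  exacts [h3, h2 _ _ h3, h2 _ _ (h2 _ _ h3)]

theorem eq_sum_single (A : M3) : A = ∑ i, ∑ j, A i j • single i j (1 : F) := by
  simpa using matrix_eq_sum_single A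

theorem single_eq_dd (h : l ≠ 1) : (single 2 2 1 : M3) = ((1 - l) * (1 - (l : F)⁻¹))⁻¹ •
    (((dd l : M3) - (l : F) • 1) * ((dd l : M3) - (l : F)⁻¹ • 1)) := by
  have h1 : (1 : F) - l ≠ 0 := sub_ne_zero.2 fun e => h (Units.ext e.symm)
  have h2 : (1 : F) - (l : F)⁻¹ ≠ 0 := sub_ne_zero.2 (by simpa using h)
  rw [coe_dg3]
  (ext i j; fin_cases i <;> fin_cases j <;> simp [mul_apply, Fin.sum_univ_three])
  rw [← _root_.mul_inv_rev, inv_mul_cancel₀ (mul_ne_zero h1 h2)]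

theorem spans_of_single (hy : sh F ∈ H) {a b : Fin 3} (h : single a b 1 ∈ spanAlg H) : Spans H :=
  fun A => by
    rw [eq_sum_single A]
    exact sum_mem fun i _ => sum_mem fun j _ => Subalgebra.smul_mem _ (all_single
      (S := (· ∈ spanAlg H)) (fun _ _ => mul_mem) (coe_mem_spanAlg hy) h i j) _

theorem spans_of_dd (h : l ≠ 1) (hd : dd l ∈ H) (hy : sh F ∈ H) : Spans H :=
  spans_of_single hy (a := 2) (b := 2) (by
    rw [single_eq_dd h]
    exact Subalgebra.smul_mem _ (mul_mem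
      (sub_mem (coe_mem_spanAlg hd) (Subalgebra.smul_mem _ (one_mem _) _))
      (sub_mem (coe_mem_spanAlg hd) (Subalgebra.smul_mem _ (one_mem _) _))) _)

theorem rat_one_iff {A : M3} : Rat F₀ 1 A ↔ ∀ i j, A i j ∈ F₀ := by
  simp only [Max.Rat, inv_one, cj_one]

theorem rat_iff_of_single (hy : Rat F₀ P (sh F)) {a b : Fin 3} (h : Rat F₀ P (single a b 1))
    {A : M3} : Rat F₀ P A ↔ Rat F₀ 1 A := by
  have h1 := all_single (S := Rat F₀ P) (fun _ _ => Max.Rat.mul) hy h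
  rw [rat_one_iff]
  refine ⟨fun hA i j => ?_, fun hA i j => ?_⟩
  · simpa [trace_mul_single] using (hA.mul (h1 j i)).trace_mem
  · rw [eq_sum_single A]
    simp only [map_sum, Matrix.sum_apply]
    exact sum_mem fun k _ => sum_mem fun m _ => (h1 k m).smul (hA k m) i j

theorem sub_eq_of_rat (h : ∀ A : M3, Rat F₀ P A ↔ Rat F₀ 1 A) :
    subfieldSubgroup F₀ P = subfieldSubgroup F₀ 1 :=
  Subgroup.ext fun g => by simp only [mem_subfieldSubgroup_iff, h]

/-! ### The standard frame and the standard forms -/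

variable (F) in
/-- The coordinate lines. -/
def stdD (i : Fin 3) : Submodule F (Fin 3 → F) := F ∙ Pi.single i 1

theorem mem_stdD {i : Fin 3} {v : Fin 3 → F} : v ∈ stdD F i ↔ ∀ k, k ≠ i → v k = 0 := by
  rw [stdD, Submodule.mem_span_singleton]
  refine ⟨?_, fun h => ⟨v i, funext fun k => ?_⟩⟩
  · rintro ⟨c, rfl⟩ k hk
    simp [hk]
  · by_cases hk : k = i <;> simp [hk, h]

theorem isM_stdD : IsMDecomposition 1 (stdD F) where
  two_le := by norm_num
  pos := one_pos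
  finrank_eq i := finrank_span_singleton (by simp)
  indep := by unfold stdD; simpa using (Pi.basisFun F (Fin 3)).linearIndependent.iSupIndep_span_singleton
  iSup_eq_top := by
    simpa [Submodule.span_range_eq_iSup, stdD] using (Pi.basisFun F (Fin 3)).span_eq

variable (F) in
/-- The monomial matrices. -/
abbrev Mono : Subgroup (GL (Fin 3) F) := decompositionStabilizer (stdD F)

theorem mem_Mono (h : ∀ i, ∃ j, ∀ k, k ≠ j → (g : M3) k i = 0) : g ∈ Mono F :=
  mem_decompositionStabilizer_of_maps isM_stdD fun i => (h i).imp fun j hj v hv => by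
    obtain ⟨c, rfl⟩ := Submodule.mem_span_singleton.1 hv
    exact mem_stdD.2 fun k hk => by simp [mulVec_smul, hj k hk]

theorem notMem_Mono {i j k : Fin 3} (h : j ≠ k) (h1 : (g : M3) j i ≠ 0) (h2 : (g : M3) k i ≠ 0) :
    g ∉ Mono F := fun hg => by
  obtain ⟨π, hπ⟩ := exists_perm_of_mem hg
  have h3 := mem_stdD.1 ((hπ i _).1 (Submodule.mem_span_singleton_self _))
  simp only [mulVec_single_one, col_apply] at h3
  by_cases hj : j = π i
  · exact h2 (h3 k (hj ▸ h.symm))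
  · exact h1 (h3 j hj)

theorem dg3_mem_Mono (a b c : Fˣ) : dg3 a b c ∈ Mono F := mem_Mono fun i => ⟨i, fun k hk => by
  fin_cases i <;> fin_cases k <;> simp_all [coe_dg3]⟩

theorem sh_mem_Mono : sh F ∈ Mono F := mem_Mono fun i => ⟨i + 1, fun k hk => by
  fin_cases i <;> fin_cases k <;> simp_all [coe_sh]⟩

theorem sw_mem_Mono : sw F ∈ Mono F := mem_Mono fun i => ⟨![1, 0, 2] i, fun k hk => by
  fin_cases i <;> fin_cases k <;> simp_all [coe_sw]⟩

theorem mem_iso_iff (hσ : ∀ a, σ (σ a) = a) :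
    g ∈ isoG (dForm σ) ↔ (g : M3)ᵀ * (g : M3).map σ = 1 := by
  have : gramMatrix (dForm σ : (Fin 3 → F) → (Fin 3 → F) → F) = 1 := by
    ext i j
    simp [gramMatrix, dForm_single_left, Pi.single_apply, one_apply]
  rw [Mx.HForm.mem_isoG_iff_gram (hform_dForm hσ), this, Matrix.mul_one]

theorem sim_eq_of_smul {f' : (Fin 3 → F) → (Fin 3 → F) → F} {c : F} (hc : c ≠ 0)
    (h : ∀ u v, f u v = c * f' u v) :
    similarityGroup f = similarityGroup f' ∧ isoG f = isoG f' := by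
  refine ⟨Subgroup.ext fun g => ?_, Subgroup.ext fun g => ?_⟩
  · simp only [mem_similarityGroup, h, mul_left_comm _ c, mul_right_inj' hc]
  · simp only [mem_isoG, h, mul_right_inj' hc]

theorem form_of_iso (h : l ≠ 1) (hf : HForm σ 1 f) (hd : dd l ∈ isoG f) (hy : sh F ∈ isoG f) :
    l * σ l = 1 ∧ ∃ c, c ≠ 0 ∧ ∀ u v, f u v = c * dForm σ u v := by
  rw [Mx.HForm.mem_isoG_iff_gram hf] at hd hy
  have h0 := hf.isUnit_det.ne_zero
  have h1 := hf.eq_gram
  have h2 : (l : F) ≠ 1 := by simpa using h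
  have h3 : σ l ≠ 1 := fun e => h2 (σ.injective (by rw [e, map_one]))
  generalize gramMatrix f = A at hd hy h0 h1
  have a1 := congrFun₂ hd
  have a2 := congrFun₂ hy
  simp only [Fin.forall_fin_succ, coe_dg3, coe_sh, mul_apply, Fin.sum_univ_three] at a1 a2
  simp at a1 a2
  have e : A = A 0 0 • 1 := by (ext i j; fin_cases i <;> fin_cases j <;> simp [mul_apply, Fin.sum_univ_three]) <;> grind
  have h4 : A 0 0 ≠ 0 := fun e' => h0 (by rw [e, e']; simp)
  refine ⟨by grind, _, h4, fun u v => ?_⟩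
  rw [h1, e]
  simp [smul_mulVec, dForm, dotProduct, Finset.mul_sum, mul_left_comm]

/-! ### Groups containing a monomial group -/

/-- `H` contains a monomial group. -/
structure Mon (H : Subgroup (GL (Fin 3) F)) (l : Fˣ) : Prop where
  le : H ≤ specialLinear (Fin 3) F
  ne : l ≠ 1
  d : dd l ∈ H
  y : sh F ∈ H
  w : sw F ∈ H

theorem sh_mem_cub (hy : sh F ∈ H) (hw : sw F ∈ H) : sh F ∈ cub H := by
  have := comm_mem hw hy
  rw [sw_sh] at this
  convert this using 1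
  rw [← mul_one (_ * _), ← sh_cube (F := F)]
  group

namespace Mon

theorem d2 (h : Mon H l) : dg3 1 l l⁻¹ ∈ H := by
  simpa [sh_dg3] using H.mul_mem (H.mul_mem h.y h.d) (H.inv_mem h.y)

theorem d3 (h : Mon H l) : dg3 l⁻¹ 1 l ∈ H := by
  simpa [sh_dg3] using H.mul_mem (H.mul_mem h.y h.d2) (H.inv_mem h.y)

theorem toCub (h : Mon H l) : Mon (cub H) l :=
  ⟨(cub_le H).trans h.le, h.ne, by
    have := comm_mem h.w h.d3
    simpa [sw_dg3, dg3_inv, dg3_mul] using this, sh_mem_cub h.y h.w, inv_mem_cub h.w sw_sq⟩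

theorem spans (h : Mon H l) : Spans H := spans_of_dd h.ne h.d h.y

theorem not_le_field [Fintype F] (h : Mon H l) (hK : IsFieldSubalgebra 3 K) :
    ¬ H ≤ subalgebraNormalizer K := fun hle => sw_ns (scalar_of_invol hK (hle h.w) sw_sq)

theorem not_le_norm [Finite F] (h : Mon H (-1)) (hR : Hei R) : ¬ H ≤ subgroupNormalizer R :=
  fun hle => by
    have h1 : ∀ a b c : Fˣ, dg3 a b c = 1 → a = c ∧ b = c := fun a b c e =>
      dg3_scalar (e ▸ one_mem _)
    refine hR.no_klein (fun h2 => h.ne (Units.ext ?_)) hle h.le h.d h.d2 ?_ ?_ ?_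
      (fun e => h.ne (h1 _ _ _ e).1) (fun e => h.ne (by simpa using (h1 _ _ _ e).1.symm))
      (fun e => h.ne ?_)
    · rw [Units.val_neg, Units.val_one]; linear_combination -h2
    · simp [dg3_mul, dg3_one]
    · simp [dg3_mul, dg3_one]
    · simp [dg3_mul, dg3_one]
    · rw [dg3_mul] at e
      simpa using (h1 _ _ _ e).2.symm

theorem ordLE (h : Mon H l) {n : ℕ} (ho : OrdLE H n) : ∃ m, 1 ≤ m ∧ m ≤ n ∧ l ^ m = 1 := by
  obtain ⟨m, h1, h2, h3⟩ := ho _ h.d
  rw [dg3_pow] at h3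
  exact ⟨m, h1, h2, by simpa using (dg3_scalar h3).1⟩

theorem frame (h : Mon H l) (h3 : l ^ 3 ≠ 1) (hD : IsMDecomposition 1 D)
    (hle : H ≤ decompositionStabilizer D) : decompositionStabilizer D = Mono F := by
  have h1 := cube_fix hD (hle h.d) (hle h.y) (by simp [sh_dg3, dg3_mul, dg3_one])
  have h2 := normsG_fixAll D _ (hle h.y) _ h1
  rw [dg3_pow] at h1 h2
  rw [sh_dg3] at h2
  have h4 : (l : F) ^ 3 ≠ 1 := fun e => h3 (Units.ext (by simpa using e))
  have h5 : (l : F) ^ 3 ≠ 0 := by simp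
  have key : ∀ k, ∃ i, D k = stdD F i := fun k => by
    obtain ⟨v, h0, e, hv⟩ := exists_line hD k
    obtain ⟨a, ha⟩ := hv _ h1
    obtain ⟨b, hb⟩ := hv _ h2
    obtain ⟨i, hi⟩ : ∃ i, v ∈ stdD F i := by
      have a1 := congrFun ha
      have b1 := congrFun hb
      simp only [mem_stdD, Fin.exists_fin_succ, Fin.forall_fin_succ, coe_dg3] at a1 b1 ⊢
      simp [mulVec, dotProduct, Fin.sum_univ_three] at a1 b1 ⊢
      grind
    exact ⟨i, Submodule.eq_of_le_of_finrank_eq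
      (e ▸ (Submodule.span_singleton_le_iff_mem _ _).2 hi)
      (by rw [hD.finrank_eq, isM_stdD.finrank_eq])⟩
  choose τ hτ using key
  have hs : Function.Surjective τ := Finite.surjective_of_injective fun a b e =>
    IsMDecomposition.injective hD (by rw [hτ, hτ, e])
  refine le_antisymm (fun g hg => mem_decompositionStabilizer_of_maps isM_stdD fun i => ?_)
    fun g hg => mem_decompositionStabilizer_of_maps hD fun k => ?_
  · obtain ⟨k, rfl⟩ := hs i
    obtain ⟨π, hπ⟩ := exists_perm_of_mem hg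
    exact ⟨τ (π k), fun v hv => hτ _ ▸ (hπ k v).1 (hτ k ▸ hv)⟩
  · obtain ⟨π, hπ⟩ := exists_perm_of_mem hg
    obtain ⟨j, hj⟩ := hs (π (τ k))
    exact ⟨j, fun v hv => by rw [hτ, hj]; exact (hπ _ v).1 (hτ k ▸ hv)⟩

theorem rat [Finite F] (h : Mon H l) (hle : H ≤ subfieldSubgroup F₀ P) :
    (l : F) ∈ F₀ ∧ ∀ A : M3, Rat F₀ P A ↔ Rat F₀ 1 A := by
  have hy := cub_rat h.le hle h.toCub.y
  have h1 : (l : F) ∈ F₀ := by
    have h2 := cub_rat h.le hle (mul_mem h.toCub.d (inv_mem h.toCub.d2))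
    rw [dg3_inv, dg3_mul] at h2
    by_cases h3 : (l : F)⁻¹ * (l : F)⁻¹ = l
    · rw [show l⁻¹ * l⁻¹ = l from Units.ext (by simpa using h3)] at h2
      simp only [inv_one, mul_one, inv_inv, one_mul, dg3_self, coe_sc] at h2
      exact mem_of_rat_smul one_ne_zero rat_one h2
    · simpa using F₀.inv_mem (rat_of_quad h2 hy (s := l + (l : F)⁻¹ * (l : F)⁻¹) (t := (l : F)⁻¹)
        (fun e => h3 (by simpa [coe_dg3, coe_sh] using congrFun₂ e 1 0)) (by
          rw [coe_dg3]; (ext i j; fin_cases i <;> fin_cases j <;> simp [mul_apply, Fin.sum_univ_three]) <;> field_simp <;> ring))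
  have hd := cub_rat h.le hle h.toCub.d
  refine ⟨h1, fun A => rat_iff_of_single hy (a := 2) (b := 2) ?_⟩
  rw [single_eq_dd h.ne]
  exact ((Mx.Rat.sub hd (rat_one.smul h1)).mul (Mx.Rat.sub hd (rat_one.smul (F₀.inv_mem h1)))).smul
    (F₀.inv_mem (mul_mem (sub_mem (one_mem _) h1) (sub_mem (one_mem _) (F₀.inv_mem h1))))

theorem form (h : Mon H l) (hf : HForm σ 1 f) (hle : H ≤ similarityGroup f) :
    l * σ l = 1 ∧ similarityGroup f = similarityGroup (dForm σ) ∧ isoG f = isoG (dForm σ) := by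
  obtain ⟨h1, c, hc, h2⟩ := form_of_iso h.ne hf (cub_iso hf h.le hle h.toCub.d)
    (cub_iso hf h.le hle h.toCub.y)
  exact ⟨h1, sim_eq_of_smul hc h2⟩

theorem not_sqComm (h : Mon H l) (h1 : l * l = -1) (h2 : (-1 : Fˣ) ≠ 1) : ¬ SqComm H := fun hs => by
  have h3 : l⁻¹ * l⁻¹ = -1 := by rw [← _root_.mul_inv_rev, h1, inv_neg, inv_one]
  have h4 : dg3 (-1 : Fˣ) (-1) 1 ∉ Z3 := fun e => h2 (dg3_scalar e).1
  have h5 : dd l * dd l = dg3 (-1) (-1) 1 := by rw [dg3_mul, h1, h3, mul_one]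
  have h6 : dg3 1 l l⁻¹ * dg3 1 l l⁻¹ = dg3 1 (-1) (-1) := by rw [dg3_mul, h1, h3, mul_one]
  refine h4 (by
    have := hs _ h.d _ (mul_mem h.w (h6 ▸ mul_mem h.d2 h.d2)) ?_ (h5 ▸ h4)
    · have e : ∀ a b c : GL (Fin 3) F, a * (b * c) * a⁻¹ * (b * c)⁻¹ =
          a * (b * (c * a⁻¹ * c⁻¹) * b⁻¹) := fun a b c => by group
      rw [e, dg3_inv, dg3_inv, dg3_mul, dg3_mul, sw_dg3, dg3_mul] at this
      simpa [h1, h3] using this
    · have e : ∀ c : GL (Fin 3) F, sw F * c * (sw F * c) = sw F * c * (sw F)⁻¹ * c := fun c => by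
        rw [inv_eq_of_mul_eq_one_right sw_sq, mul_assoc (_ * c)]
      simp [e, sw_dg3, dg3_mul, h1, h3])

end Mon

end Cfsg.Agent.Cl.D3
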