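/-
Tables of non-containments in dimension three: the Hessian group, groups over subfields,
and the columns.
-/
import Mathlib
import Cfsg.Agent.Cl.D3T2

set_option autoImplicit false
set_option linter.unusedSectionVars false
set_option linter.unusedSimpArgs false

namespace Cfsg.Agent.Cl.D3

open Matrix Cfsg.Geo Cfsg.Agent.Cl.Max Cfsg.Agent.Cl.Mx
open scoped commutatorElement

variable {F : Type*} [Field F] {G H R : Subgroup (GL (Fin 3) F)} {F₀ : Subfield F}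
  {P g : GL (Fin 3) F} {σ : F →+* F} {f : (Fin 3 → F) → (Fin 3 → F) → F}
  {D : Fin 3 → Submodule F (Fin 3 → F)} {K : Subalgebra F (Matrix (Fin 3) (Fin 3) F)} {l ω : Fˣ}

local notation "M3" => Matrix (Fin 3) (Fin 3) F
local notation "SL3" => specialLinear (Fin 3) F
local notation "Z3" => scalars (Fin 3) F

theorem exists_sl (A : M3) (h : A.det = 1) : ∃ g ∈ SL3, (g : M3) = A :=
  ⟨Matrix.GeneralLinearGroup.mkOfDetNeZero A (h ▸ one_ne_zero), (mem_specialLinear_iff _).2 h, rfl⟩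

/-! ### The Hessian group -/

/-- `i` is the normalised Fourier matrix. -/
structure Fou (ω : Fˣ) (s : F) (i : GL (Fin 3) F) : Prop where
  root : (ω : F) ^ 2 + ω + 1 = 0
  inv : s * (ω - ω ^ 2) = 1
  coe : (i : Matrix (Fin 3) (Fin 3) F) =
    !![s * ω, s * ω ^ 2, s; s * ω ^ 2, s * ω, s; s, s, s]

theorem exists_fou (h : (ω : F) ^ 2 + ω + 1 = 0) (h1 : ω ≠ 1) : ∃ s i, Fou ω s i := by
  have h2 : (ω : F) ≠ 1 := fun e => h1 (Units.ext e)
  have h3 := inv_mul_cancel₀ (a := (ω : F) - ω ^ 2) (by have := ω.ne_zero; grind)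
  generalize ((ω : F) - ω ^ 2)⁻¹ = s at h3
  obtain ⟨i, -, hi⟩ := exists_sl !![s * ω, s * ω ^ 2, s; s * ω ^ 2, s * ω, s; s, s, s] (by
    simp [det_fin_three]; grind)
  exact ⟨s, i, h, h3, hi⟩

namespace Fou

variable {s : F} {i : GL (Fin 3) F}

theorem inv_eq (h : Fou ω s i) : (ω : F)⁻¹ = ω ^ 2 :=
  inv_eq_of_mul_eq_one_right (by have := h.root; grind)

theorem ne_one (h : Fou ω s i) : ω ≠ 1 := fun e => by simpa [e] using h.inv

theorem cube (h : Fou ω s i) : ω ^ 3 = 1 := Units.ext (by have := h.root; simp; grind)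

theorem mem_sl (h : Fou ω s i) : i ∈ SL3 := (mem_specialLinear_iff _).2 (by
  have := h.root; have := h.inv
  simp [h.coe, det_fin_three]; grind)

theorem sq (h : Fou ω s i) : i * i = sw F := Units.ext (by
  have := h.root; have := h.inv
  rw [Units.val_mul, h.coe, coe_sw]; (ext i j; fin_cases i <;> fin_cases j <;> simp [mul_apply, Fin.sum_univ_three]) <;> grind)

theorem conj_dd (h : Fou ω s i) : i * dd ω * i⁻¹ = (sh F)⁻¹ :=
  mul_inv_eq_of_eq_mul (eq_inv_mul_of_mul_eq (Units.ext (by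
    have := h.root
    simp only [Units.val_mul, h.coe, coe_sh, coe_dg3, Units.val_inv_eq_inv_val, h.inv_eq]
    (ext i j; fin_cases i <;> fin_cases j <;> simp [mul_apply, Fin.sum_univ_three]) <;> grind)))

theorem conj_sh (h : Fou ω s i) : i * sh F * i⁻¹ = dd ω :=
  mul_inv_eq_of_eq_mul (Units.ext (by
    have := h.root
    simp only [Units.val_mul, h.coe, coe_sh, coe_dg3, Units.val_inv_eq_inv_val, h.inv_eq]
    (ext i j; fin_cases i <;> fin_cases j <;> simp [mul_apply, Fin.sum_univ_three]) <;> grind))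

theorem comm (h : Fou ω s i) : i * (dg3 ω ω 1 * i * (dg3 ω ω 1)⁻¹) =
    sw F * (dg3 ω ω 1 * i * (dg3 ω ω 1)⁻¹ * i) := Units.ext (by
  have := h.root
  simp only [dg3_inv, Units.val_mul, h.coe, coe_sw, coe_dg3, Units.val_inv_eq_inv_val, h.inv_eq]
  (ext i j; fin_cases i <;> fin_cases j <;> simp [mul_apply, Fin.sum_univ_three]) <;> grind)

theorem iso (h : Fou ω s i) (hσ : ∀ a, σ (σ a) = a) (h1 : ω * σ ω = 1) : i ∈ isoG (dForm σ) := by
  have := h.root; have := h.inv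
  have h2 := congrArg σ h.inv
  simp only [map_mul, map_sub, map_pow, map_one] at h2
  rw [mem_iso_iff hσ, h.coe]
  (ext i j; fin_cases i <;> fin_cases j <;> simp [mul_apply, Fin.sum_univ_three]) <;> grind

theorem rat (h : Fou ω s i) (h1 : (ω : F) ∈ F₀) : Rat F₀ 1 (i : M3) := by
  have h2 : s ∈ F₀ := by
    rw [eq_inv_of_mul_eq_one_left h.inv]
    exact F₀.inv_mem (sub_mem h1 (pow_mem h1 2))
  rw [rat_one_iff, h.coe]
  intro j k
  fin_cases j <;> fin_cases k <;> simp [mul_mem, pow_mem, h1, h2]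

end Fou

/-- `H` contains the Hessian group. -/
structure Hes (H : Subgroup (GL (Fin 3) F)) (ω : Fˣ) : Prop where
  mon : Mon H ω
  ex : ∃ s i, Fou ω s i ∧ i ∈ H ∧ dg3 ω ω 1 * i * (dg3 ω ω 1)⁻¹ ∈ H

theorem Hes.not_le_frame (h : Hes H ω) (hD : IsMDecomposition 1 D) :
    ¬ H ≤ decompositionStabilizer D := fun hle => by
  obtain ⟨s, i, hi, h1, -⟩ := h.ex
  have h2 := sq_fix hD (hle h1) (by rw [hi.sq, sw_sq])
  rw [hi.sq] at h2
  have h3 : ∀ g ∈ H, sw F * g * (sw F)⁻¹ * g⁻¹ ∈ fixAll D := fun g hg => by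
    simpa [mul_assoc] using mul_mem h2 (normsG_fixAll D _ (hle hg) _ (inv_mem h2))
  have h4 := h3 _ h.mon.d
  have h5 := h3 _ h.mon.y
  rw [sw_dg3, dg3_inv, dg3_mul] at h4
  rw [sw_sh, ← _root_.mul_inv_rev, inv_mem_iff] at h5
  refine not_spans_fixAll hD (spans_of_dd (l := ω⁻¹ * ω⁻¹) (fun e => hi.ne_one ?_)
    (by simpa [dd] using h4) ?_)
  · rw [← _root_.mul_inv_rev, inv_eq_one] at e
    simpa [pow_succ, e] using hi.cube
  · have e : sh F = sh F * sh F * (sh F * sh F) := by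
      simpa [pow_succ, mul_assoc] using sh_cube (F := F)
    exact e ▸ mul_mem h5 h5

theorem Hes.not_sqComm (h : Hes H ω) : ¬ SqComm H := fun hs => by
  obtain ⟨s, i, hi, h1, h2⟩ := h.ex
  have e : dg3 ω ω 1 * i * (dg3 ω ω 1)⁻¹ * (dg3 ω ω 1 * i * (dg3 ω ω 1)⁻¹) = sw F := by
    rw [conj_mul, hi.sq, mul_inv_eq_iff_eq_mul, eq_comm, ← mul_inv_eq_iff_eq_mul, sw_dg3]
  have := hs _ h1 _ h2 (by rw [e, hi.sq, mul_inv_cancel]; exact one_mem _) (hi.sq ▸ sw_ns)
  rw [hi.comm] at this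
  exact sw_ns (by simpa [mul_assoc] using this)

/-! ### Classical groups over a subfield -/

/-- `H` contains the isometries of the standard form of determinant one with entries in `F₀`. -/
structure Std (σ : F →+* F) (F₀ : Subfield F) (H : Subgroup (GL (Fin 3) F)) : Prop where
  invol : ∀ a, σ (σ a) = a
  map : ∀ a ∈ F₀, σ a ∈ F₀
  le : H ≤ specialLinear (Fin 3) F
  mem : ∀ g : GL (Fin 3) F, Rat F₀ 1 (g : Matrix (Fin 3) (Fin 3) F) → g ∈ isoG (dForm σ) →
    g ∈ specialLinear (Fin 3) F → g ∈ H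

theorem dg3_iso (hσ : ∀ a, σ (σ a) = a) {a b c : Fˣ} (ha : a * σ a = 1) (hb : b * σ b = 1)
    (hc : c * σ c = 1) : dg3 a b c ∈ isoG (dForm σ) := by
  rw [mem_iso_iff hσ, coe_dg3]
  (ext i j; fin_cases i <;> fin_cases j <;> simp [mul_apply, Fin.sum_univ_three]) <;> assumption

theorem dd_iso (hσ : ∀ a, σ (σ a) = a) (h : l * σ l = 1) : dd l ∈ isoG (dForm σ) :=
  dg3_iso hσ h (by rw [Units.val_inv_eq_inv_val, map_inv₀, ← mul_inv, h, inv_one]) (by simp)

theorem sh_iso (hσ : ∀ a, σ (σ a) = a) : sh F ∈ isoG (dForm σ) := by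
  rw [mem_iso_iff hσ, coe_sh]; (ext i j; fin_cases i <;> fin_cases j <;> simp [mul_apply, Fin.sum_univ_three])

theorem sw_iso (hσ : ∀ a, σ (σ a) = a) : sw F ∈ isoG (dForm σ) := by
  rw [mem_iso_iff hσ, coe_sw]; (ext i j; fin_cases i <;> fin_cases j <;> simp [mul_apply, Fin.sum_univ_three])

theorem dg3_rat {a b c : Fˣ} (ha : (a : F) ∈ F₀) (hb : (b : F) ∈ F₀) (hc : (c : F) ∈ F₀) :
    Rat F₀ 1 (dg3 a b c : M3) := rat_one_iff.2 fun j k => by
  fin_cases j <;> fin_cases k <;> simp [coe_dg3, ha, hb, hc]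

theorem sh_rat : Rat F₀ 1 (sh F : M3) := rat_one_iff.2 fun j k => by
  fin_cases j <;> fin_cases k <;> simp [coe_sh]

theorem sw_rat : Rat F₀ 1 (sw F : M3) := rat_one_iff.2 fun j k => by
  fin_cases j <;> fin_cases k <;> simp [coe_sw]

namespace Std

theorem mon (h : Std σ F₀ H) (h1 : (l : F) ∈ F₀) (h2 : l * σ l = 1) (h3 : l ≠ 1) : Mon H l :=
  ⟨h.le, h3, h.mem _ (dg3_rat h1 (by simpa using h1) (by simp)) (dd_iso h.invol h2) (dd_mem_sl l),
    h.mem _ sh_rat (sh_iso h.invol) sh_mem_sl, h.mem _ sw_rat (sw_iso h.invol) sw_mem_sl⟩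

theorem hes (h : Std σ F₀ H) (h1 : (ω : F) ∈ F₀) (h2 : ω * σ ω = 1) (h3 : ω ≠ 1)
    (h4 : (ω : F) ^ 2 + ω + 1 = 0) : Hes H ω := by
  obtain ⟨s, i, hi⟩ := exists_fou h4 h3
  have hu := dg3_iso h.invol h2 h2 (c := 1) (by simp)
  refine ⟨h.mon h1 h2 h3, s, i, hi, h.mem _ (hi.rat h1) (hi.iso h.invol h2) hi.mem_sl, h.mem _ ?_
    (mul_mem (mul_mem hu (hi.iso h.invol h2)) (inv_mem hu)) (conj_mem_sl _ _ hi.mem_sl)⟩
  rw [dg3_inv]
  exact ((dg3_rat h1 h1 (by simp)).mul (hi.rat h1)).mul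
    (dg3_rat (by simpa using h1) (by simpa using h1) (by simp))

theorem not_le_mono (h : Std σ F₀ H) (h1 : (l : F) ∈ F₀) (h2 : l * σ l = 1) (h3 : l ≠ 1) {z : F}
    (z1 : z ∈ F₀) (z2 : z ≠ 0) (z3 : z * σ z + 2 ≠ 0) : ¬ H ≤ Mono F := fun hle => by
  obtain ⟨c, hc⟩ : ∃ c, c = (l - 1) / (z * σ z + 2) := ⟨_, rfl⟩
  have c1 : c ∈ F₀ := hc ▸ div_mem (sub_mem h1 (one_mem _))
    (add_mem (mul_mem z1 (h.map z z1)) (by simp))
  have c2 : c * (z * σ z + 2) = l - 1 := by rw [hc, div_mul_cancel₀ _ z3]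
  have c3 : σ c * (z * σ z + 2) = σ l - 1 := by
    simpa [h.invol, mul_comm (σ z), map_ofNat] using congrArg σ c2
  have c4 : c ≠ 0 := fun e => h3 (Units.ext (by rw [e] at c2; rw [Units.val_one]; linear_combination -c2))
  have c5 : σ c + c + c * σ c * (z * σ z + 2) = 0 := by grind
  obtain ⟨g, hg, e⟩ := exists_sl !![σ l * (1 + c), σ l * c, σ l * c * σ z; c, 1 + c, c * σ z;
    c * z, c * z, 1 + c * z * σ z] (by simp [det_fin_three]; grind)
  refine notMem_Mono (i := 0) (j := 1) (k := 2) (by decide) (by simpa [e]) (by simp [e, c4, z2])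
    (hle (h.mem g (rat_one_iff.2 fun j k => ?_) ?_ hg))
  · have := h.map _ z1
    have := h.map _ h1
    fin_cases j <;> fin_cases k <;> simp [e] <;> apply_rules [add_mem, mul_mem, one_mem]
  · rw [mem_iso_iff h.invol, e]
    clear hc z3 c2 c3
    (ext i j; fin_cases i <;> fin_cases j <;> simp [mul_apply, Fin.sum_univ_three, h.invol]) <;> grind

theorem orth_le (h : Std σ F₀ H) (h2 : (2 : F) ≠ 0) (hσ : ∀ a ∈ F₀, σ a = a) {S : Subfield F}
    (hS : ∀ g ∈ cub H, Rat S 1 (g : M3)) : F₀ ≤ S := fun a ha => by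
  obtain ⟨b, hb, h1⟩ : ∃ b ∈ F₀, 1 + a ^ 2 + b ^ 2 ≠ 0 := by
    by_cases e : 1 + a ^ 2 = 0
    · exact ⟨1, one_mem _, by simp [e]⟩
    · exact ⟨0, zero_mem _, by simpa using e⟩
  obtain ⟨c, hc⟩ : ∃ c, c = 2 / (1 + a ^ 2 + b ^ 2) := ⟨_, rfl⟩
  have c1 : c ∈ F₀ := hc ▸ div_mem (by simp)
    (add_mem (add_mem (one_mem _) (pow_mem ha 2)) (pow_mem hb 2))
  have c2 : c * (1 + a ^ 2 + b ^ 2) = 2 := by rw [hc, div_mul_cancel₀ _ h1]
  have c4 : c ≠ 0 := fun e => h2 (by rw [← c2, e, zero_mul])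
  clear hc h1
  obtain ⟨g, hg, e⟩ := exists_sl !![c - 1, c * a, c * b; c * a, c * a ^ 2 - 1, c * a * b;
    c * b, c * a * b, c * b ^ 2 - 1] (by simp [det_fin_three]; grind)
  have h3 := rat_one_iff.1 (hS g (inv_mem_cub (h.mem g (rat_one_iff.2 fun j k => ?_) ?_ hg)
    (Units.ext ?_)))
  · have h4 : c ∈ S := by simpa [e] using add_mem (h3 0 0) (one_mem S)
    simpa [e, c4] using mul_mem (S.inv_mem h4) (h3 0 1)
  · fin_cases j <;> fin_cases k <;> simp [e] <;>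
      apply_rules [sub_mem, mul_mem, pow_mem, one_mem]
  · rw [mem_iso_iff h.invol, e]
    (ext i j; fin_cases i <;> fin_cases j <;>
      simp [mul_apply, Fin.sum_univ_three, hσ a ha, hσ b hb, hσ c c1]) <;> grind
  · rw [Units.val_mul, e]
    (ext i j; fin_cases i <;> fin_cases j <;> simp [mul_apply, Fin.sum_univ_three]) <;> grind

theorem unip [Finite F] (h : Std σ F₀ H) (h2 : (2 : F) ≠ 0) {n : ℕ} (ho : OrdLE H n) :
    ∃ m, 1 ≤ m ∧ m ≤ n ∧ (m : F) = 0 := by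
  obtain ⟨p, hp, _⟩ := L2.exists_char (F := F)
  have : NeZero p := ⟨hp.ne_zero⟩
  obtain ⟨a', b', hab⟩ := CharP.sq_add_sq F p (-1)
  obtain ⟨a, a0, a1, a2⟩ : ∃ a : F, a = a' ∧ a ∈ F₀ ∧ σ a = a := ⟨_, rfl, by simp, by simp⟩
  obtain ⟨b, b0, b1, b2⟩ : ∃ b : F, b = b' ∧ b ∈ F₀ ∧ σ b = b := ⟨_, rfl, by simp, by simp⟩
  obtain ⟨c, c0, c1, c2⟩ : ∃ c : F, c * 2 = 1 ∧ c ∈ F₀ ∧ σ c = c :=
    ⟨2⁻¹, inv_mul_cancel₀ h2, F₀.inv_mem (by simp), by simp [map_ofNat]⟩
  rw [← a0, ← b0, Int.cast_neg, Int.cast_one] at hab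
  clear a0 b0
  obtain ⟨g, hg, e⟩ := exists_sl !![1 + c * a * a, c * a * b - 1, b + c * a;
    1 + c * a * b, 1 + c * b * b, c * b - a; c * a - b, a + c * b, 1 + c]
    (by simp [det_fin_three]; grind)
  have hH := h.mem g (rat_one_iff.2 fun j k => ?_) ?_ hg
  · obtain ⟨m, h1, h3, h4⟩ := ho g hH
    have e1 : (g : M3) *ᵥ ![a, b, 1] = ![a, b, 1] := by
      ext i; fin_cases i <;> simp [e, mulVec, dotProduct, Fin.sum_univ_three] <;> grind
    have e2 : (g : M3) *ᵥ ![b, -a, 0] = ![b, -a, 0] + ![a, b, 1] := by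
      ext i; fin_cases i <;> simp [e, mulVec, dotProduct, Fin.sum_univ_three] <;> grind
    have e3 : ∀ k : ℕ, ((g ^ k : GL (Fin 3) F) : M3) *ᵥ ![a, b, 1] = ![a, b, 1] ∧
        ((g ^ k : GL (Fin 3) F) : M3) *ᵥ ![b, -a, 0] = ![b, -a, 0] + (k : F) • ![a, b, 1] := by
      intro k
      induction k with
      | zero => simp
      | succ k ih =>
        rw [pow_succ, mul_mulVec, mul_mulVec, e1, e2, mulVec_add, ih.1, ih.2, Nat.cast_succ,
          add_smul, one_smul, add_assoc]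
        exact ⟨rfl, rfl⟩
    obtain ⟨z, -, hz⟩ := exists_smul_of_mem_scalars h4
    have := congrFun (e3 m).2 2
    rw [hz] at this
    exact ⟨m, h1, h3, by simpa using this.symm⟩
  · fin_cases j <;> fin_cases k <;> simp [e] <;>
      apply_rules [add_mem, sub_mem, mul_mem, one_mem]
  · rw [mem_iso_iff h.invol, e]
    (ext i j; fin_cases i <;> fin_cases j <;>
      simp [mul_apply, Fin.sum_univ_three, a2, b2, c2]) <;> grind

end Std

/-! ### Transvections -/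

/-- An elementary transvection. -/
def etv {i j : Fin 3} (h : i ≠ j) (a : F) : GL (Fin 3) F :=
  mkGL (1 + single i j a) (1 + single i j (-a)) (by
    simp [mul_add, add_mul, single_mul_single_of_ne _ _ _ _ h.symm, add_assoc, ← single_add])

theorem coe_etv {i j : Fin 3} (h : i ≠ j) (a : F) : (etv h a : M3) = 1 + single i j a := rfl

theorem etv_comm {i j k : Fin 3} (h1 : i ≠ j) (h2 : j ≠ k) (h3 : i ≠ k) (a b : F) :
    etv h1 a * etv h2 b * (etv h1 a)⁻¹ * (etv h2 b)⁻¹ = etv h3 (a * b) :=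
  mul_inv_eq_of_eq_mul (mul_inv_eq_of_eq_mul (Units.ext (by
    simp [coe_etv, mul_add, add_mul, single_mul_single_of_ne _ _ _ _ h3.symm,
      single_mul_single_of_ne _ _ _ _ h2.symm]
    abel)))

theorem etv_mem {i j : Fin 3} (h : i ≠ j) {a : F} (ha : a ∈ F₀) :
    etv h a ∈ subfieldSubgroup F₀ 1 ⊓ SL3 :=
  ⟨mem_subfieldSubgroup_of_rat (rat_one_iff.2 fun k m => by
    simp only [coe_etv, Matrix.add_apply, one_apply, single_apply]
    split_ifs <;> simp [add_mem, ha]), (mem_specialLinear_iff _).2 (det_transvection_of_ne i j h a)⟩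

theorem etv_mem_cub {i j : Fin 3} (h : i ≠ j) {a : F} (ha : a ∈ F₀) :
    etv h a ∈ cub (subfieldSubgroup F₀ 1 ⊓ SL3) := by
  obtain ⟨k, h1, h2⟩ : ∃ k, i ≠ k ∧ k ≠ j := by revert i j; decide
  simpa [etv_comm h1 h2 h] using comm_mem (etv_mem h1 ha) (etv_mem h2 (one_mem F₀))

theorem etv_ne {i j : Fin 3} (h : i ≠ j) : etv h (1 : F) ≠ 1 := fun e => by
  have : (etv h (1 : F) : M3) = 1 := by rw [e, Units.val_one]
  simpa [coe_etv, h] using congrFun₂ this i j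

theorem sh_mem_sub : sh F ∈ subfieldSubgroup F₀ 1 ⊓ SL3 :=
  ⟨mem_subfieldSubgroup_of_rat sh_rat, sh_mem_sl⟩

theorem sw_mem_sub : sw F ∈ subfieldSubgroup F₀ 1 ⊓ SL3 :=
  ⟨mem_subfieldSubgroup_of_rat sw_rat, sw_mem_sl⟩

theorem spans_sub : Spans (subfieldSubgroup F₀ 1 ⊓ SL3) :=
  spans_of_single sh_mem_sub (a := 0) (b := 1) (by
    simpa [coe_etv] using sub_mem (coe_mem_spanAlg (etv_mem (i := 0) (j := 1) (by decide)
      (one_mem F₀))) (one_mem _))

theorem sub_not_le_frame (hD : IsMDecomposition 1 D) :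
    ¬ subfieldSubgroup F₀ 1 ⊓ SL3 ≤ decompositionStabilizer D := fun hle => by
  have h := fun {i j : Fin 3} (h : i ≠ j) => hle (etv_mem h (one_mem F₀))
  have h1 := comm_fix hD (h (i := 0) (j := 2) (by decide)) (h (i := 2) (j := 1) (by decide))
    (h (i := 1) (j := 0) (by decide)) (h (i := 0) (j := 2) (by decide))
  simp only [commutatorElement_def] at h1
  rw [etv_comm _ _ (by decide), etv_comm _ _ (by decide), etv_comm _ _ (by decide)] at h1
  exact etv_ne (i := 0) (j := 2) (by decide) (by simpa using eq_one_of_fix hD h1 (by simp [coe_etv]))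

theorem sub_not_le_sim (hf : HForm σ 1 f) : ¬ subfieldSubgroup F₀ 1 ⊓ SL3 ≤ similarityGroup f :=
  fun hle => by
    have h : ∀ {i j : Fin 3}, i ≠ j → adj σ f (single i j 1) = single i j (-1) := fun h => by
      have := hf.adj_of_mem_isoG (cub_iso hf inf_le_right hle (etv_mem_cub h (one_mem F₀)))
      rw [coe_etv, hf.adj_add, hf.adj_one] at this
      exact add_left_cancel this
    have h1 := hf.adj_mul (single (0 : Fin 3) (1 : Fin 3) 1) (single 1 2 1)
    rw [single_mul_single_same, mul_one, h (by decide), h (by decide), h (by decide)] at h1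
    simpa using congrFun₂ h1 0 2

theorem sub_rat [Finite F] {F₁ : Subfield F}
    (hle : subfieldSubgroup F₀ 1 ⊓ SL3 ≤ subfieldSubgroup F₁ P) :
    F₀ ≤ F₁ ∧ ∀ A : M3, Rat F₁ P A ↔ Rat F₁ 1 A := by
  have h : ∀ a ∈ F₀, Rat F₁ P (single 0 1 a) := fun a ha => by
    simpa [coe_etv] using Mx.Rat.sub (cub_rat inf_le_right hle
      (etv_mem_cub (i := 0) (j := 1) (by decide) ha)) rat_one
  refine ⟨fun a ha => mem_of_rat_smul (fun e => ?_) (h 1 (one_mem _)) (by simpa using h a ha),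
    fun A => rat_iff_of_single (cub_rat inf_le_right hle (sh_mem_cub sh_mem_sub sw_mem_sub))
      (h 1 (one_mem _))⟩
  simpa using congrFun₂ e 0 1

theorem sub_not_ordLE : ¬ OrdLE (subfieldSubgroup F₀ 1 ⊓ SL3) 5 := fun h => by
  obtain ⟨g, hg, e⟩ := exists_sl (F := F) !![0, 0, 1; 1, 0, 1; 0, 1, 0] (by simp [det_fin_three])
  obtain ⟨m, h1, h2, h3⟩ := h g ⟨mem_subfieldSubgroup_of_rat (rat_one_iff.2 fun j k => by
    fin_cases j <;> fin_cases k <;> simp [e]), hg⟩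
  obtain ⟨c, -, hc⟩ := coe_eq_smul_of_mem_scalars h3
  have h4 := congrFun₂ hc 1 0
  have h5 := congrFun₂ hc 2 0
  interval_cases m <;> simp [pow_succ, e] at h4 h5

end Cfsg.Agent.Cl.D3
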