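/-
Tables of non-containments in dimension three: Singer cycles.
-/
import Mathlib
import Cfsg.Agent.Cl.D3T1

set_option autoImplicit false
set_option linter.unusedSectionVars false

namespace Cfsg.Agent.Cl.D3

open Matrix Cfsg.Geo Cfsg.Agent.Cl.Max Cfsg.Agent.Cl.Mx

/-! ### Arithmetic -/

theorem exists_prime_five {m : ℕ} (hm : 2 ≤ m) : ∃ r, r.Prime ∧ 5 ≤ r ∧ r ∣ m ^ 2 + m + 1 := by
  by_contra! h
  have h2 : ¬ 2 ∣ m ^ 2 + m + 1 := by
    have := (Nat.even_mul_succ_self m).two_dvd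
    rw [show m ^ 2 + m + 1 = m * (m + 1) + 1 by ring]
    omega
  have h9 : ¬ 9 ∣ m ^ 2 + m + 1 := by
    rw [Nat.dvd_iff_mod_eq_zero, Nat.add_mod, Nat.add_mod (m ^ 2), Nat.pow_mod]
    have := Nat.mod_lt m (by norm_num : 0 < 9)
    generalize m % 9 = k at this
    interval_cases k <;> decide
  have h3 := Nat.eq_prime_pow_of_unique_prime_dvd (p := 3) (n := m ^ 2 + m + 1) (by omega)
    fun {d} hd hd' => by
      have h5 : d < 5 := by by_contra! h5; exact h d hd h5 hd'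
      interval_cases d <;> simp_all (config := {decide := true})
  generalize (m ^ 2 + m + 1).primeFactorsList.length = a at h3
  rcases a with _ | _ | a
  · nlinarith
  · norm_num at h3; nlinarith
  · exact h9 (h3 ▸ ⟨3 ^ a, by ring⟩)

theorem arith_sub_sl {q Q r j : ℕ} (h : q = Q ^ r) (hr : 2 ≤ r) (hQ : 2 ≤ Q) (h4 : q ≠ 4)
    (h1 : 1 ≤ j) (h3 : j ≤ 3) : ¬ q ^ 2 + q + 1 ∣ 3 * (Q ^ j - 1) := fun hd => by
  have a1 := Nat.one_lt_pow (n := j) (a := Q) (by omega) hQ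
  have a2 := Nat.le_of_dvd (by omega) hd
  have a3 := Nat.pow_le_pow_right (n := Q) (by omega) h3
  have a4 := h ▸ Nat.pow_le_pow_right (n := Q) (by omega) hr
  have a5 : q ^ 2 + q + 4 ≤ 3 * Q ^ 3 := by omega
  rcases hQ.eq_or_lt with rfl | hQ
  · nlinarith [show 5 ≤ q by omega]
  · nlinarith [Nat.pow_le_pow_left a4 2, Nat.mul_le_mul_right (Q ^ 3) hQ]

theorem arith_sim {q Q j : ℕ} (h : Q ^ 2 ≤ q) (hQ : 1 ≤ Q) (hq : 3 ≤ q) (h3 : j < 3) :
    ¬ q ^ 2 + q + 1 ∣ 3 * (q ^ j + Q) := fun hd => by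
  have a1 : Q + 2 ≤ q := by nlinarith
  interval_cases j
  · nlinarith [Nat.le_of_dvd (by omega) hd]
  · have := Nat.le_of_dvd (by omega) hd
    rcases hq.eq_or_lt with rfl | hq <;> nlinarith
  · obtain ⟨k, rfl⟩ := Nat.exists_eq_add_of_le a1
    have := (Nat.dvd_add_right hd).1 (show _ ∣ 3 * ((Q + 2 + k) ^ 2 + Q) + 3 * (k + 3) from
      ⟨3, by ring⟩)
    nlinarith [Nat.le_of_dvd (by omega) this]

theorem arith_sub_su {m Q r j : ℕ} (h : (m + 1) ^ 2 = Q ^ r) (hr : r.Prime) (hm : 3 ≤ m)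
    (hQ : 2 ≤ Q) (h1 : 1 ≤ j) (h3 : j ≤ 3) : ¬ m ^ 2 + m + 1 ∣ 3 * (Q ^ j - 1) := fun hd => by
  have a1 := Nat.one_lt_pow (n := j) (a := Q) (by omega) hQ
  have a2 := Nat.le_of_dvd (by omega) hd
  have key : Q ^ j ≠ (m + 1) ^ 2 := fun e => by
    obtain ⟨k, rfl⟩ := Nat.exists_eq_add_of_le hm
    rw [e, show 3 * ((3 + k + 1) ^ 2 - 1) = 3 * ((3 + k) ^ 2 + (3 + k) + 1) + 3 * (k + 2) by
      rw [show (3 + k + 1) ^ 2 = (k ^ 2 + 8 * k + 15) + 1 by ring, Nat.add_sub_cancel]; ring,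
      Nat.dvd_add_right (dvd_mul_left _ _)] at hd
    nlinarith [Nat.le_of_dvd (by omega) hd]
  have a3 : m ^ 2 + m + 4 ≤ 3 * Q ^ j := by omega
  rcases hr.two_le.eq_or_lt with rfl | h2
  · obtain rfl := Nat.pow_left_injective two_ne_zero h
    interval_cases j
    · nlinarith
    · exact key rfl
    · rw [show 3 * ((m + 1) ^ 3 - 1) = 3 * (m ^ 3 + 3 * m ^ 2 + 3 * m) by
        rw [show (m + 1) ^ 3 = m ^ 3 + 3 * m ^ 2 + 3 * m + 1 by ring, Nat.add_sub_cancel]] at hd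
      have := (Nat.dvd_add_right hd).1 (show _ ∣ _ + 6 from ⟨3 * m + 6, by ring⟩)
      nlinarith [Nat.le_of_dvd (by omega) this]
  · rcases (show r = 3 ∨ 5 ≤ r by
      rcases Nat.lt_or_ge r 5 with h5 | h5
      · interval_cases r <;> simp_all (config := {decide := true})
      · exact Or.inr h5) with rfl | h5
    · have a4 : Q ^ j ≤ Q ^ 2 := Nat.pow_le_pow_right (by omega) (by
        by_contra! h4
        exact key (by rw [h, show j = 3 by omega]))
      have a5 : 4 ≤ Q := by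
        by_contra! h4
        interval_cases Q
        · nlinarith
        · rcases Nat.lt_or_ge m 5 with h5 | h5
          · interval_cases m <;> simp at h
          · nlinarith
      nlinarith [Nat.mul_le_mul_right (Q ^ 2) a5]
    · have a4 := Nat.pow_le_pow_right (n := Q) (by omega) h3
      have a5 := h ▸ Nat.pow_le_pow_right (n := Q) (by omega) h5
      rcases hQ.eq_or_lt with rfl | hQ
      · nlinarith [show 5 ≤ m by nlinarith]
      · nlinarith [Nat.mul_le_mul_right (Q ^ 3) (Nat.mul_le_mul hQ hQ)]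

/-! ### Cubic extension fields in the matrix algebra -/

variable {F : Type*} [Field F] [Fintype F] {H R : Subgroup (GL (Fin 3) F)} {F₀ : Subfield F}
  {P g s : GL (Fin 3) F} {σ : F →+* F} {f : (Fin 3 → F) → (Fin 3 → F) → F}
  {D : Fin 3 → Submodule F (Fin 3 → F)} {K K' : Subalgebra F (Matrix (Fin 3) (Fin 3) F)}
  {x y : Matrix (Fin 3) (Fin 3) F} {N : ℕ}

local notation "M3" => Matrix (Fin 3) (Fin 3) F
local notation "SL3" => specialLinear (Fin 3) F
local notation "Z3" => scalars (Fin 3) F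

theorem span_pow (hK : IsFieldSubalgebra 3 K) (hx : x ∈ K) (hs : ∀ c : F, x ≠ c • 1)
    {v : Fin 3 → F} (hv : v ≠ 0) (w : Fin 3 → F) :
    ∃ a b c : F, w = a • v + b • x *ᵥ v + c • x *ᵥ x *ᵥ v := by
  have h := (linearIndependent_pow_of_prime hK Nat.prime_three hx hs hv).span_eq_top_of_card_eq_finrank'
    (by simp)
  obtain ⟨c, hc⟩ := (Submodule.mem_span_range_iff_exists_fun F).1 (h ▸ Submodule.mem_top (x := w))
  exact ⟨c 0, c 1, c 2, by simpa [Fin.sum_univ_three, sq] using hc.symm⟩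

theorem exists_poly (hK : IsFieldSubalgebra 3 K) (hx : x ∈ K) (hs : ∀ c : F, x ≠ c • 1)
    (h : y * x = x * y) : ∃ a b c : F, y = a • 1 + b • x + c • (x * x) := by
  have hv : (Pi.single 0 1 : Fin 3 → F) ≠ 0 := by simp
  generalize (Pi.single 0 1 : Fin 3 → F) = v at hv
  obtain ⟨a, b, c, e⟩ := span_pow hK hx hs hv (y *ᵥ v)
  refine ⟨a, b, c, Matrix.ext_iff_mulVec.2 fun w => ?_⟩
  obtain ⟨a', b', c', rfl⟩ := span_pow hK hx hs hv w
  have h1 : ∀ u, y *ᵥ x *ᵥ u = x *ᵥ y *ᵥ u := fun u => by rw [mulVec_mulVec, h, mulVec_mulVec]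
  simp only [mulVec_add, mulVec_smul, h1, e, add_mulVec, smul_mulVec, one_mulVec, ← mulVec_mulVec]

theorem cayley3 (A : M3) : A * A * A =
    A.trace • (A * A) - (adjugate A).trace • A + A.det • (1 : M3) := by
  ext i j
  fin_cases i <;> fin_cases j <;>
    simp [mul_apply, Fin.sum_univ_three, trace_fin_three, adjugate_fin_three, det_fin_three] <;> ring

theorem pow_of_rat (hK : IsFieldSubalgebra 3 K) (hx : x ∈ K) (h : Rat F₀ P x) :
    ∃ j, 1 ≤ j ∧ j ≤ 3 ∧ x ^ Nat.card F₀ ^ j = x := by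
  obtain ⟨a, ha, b, hb, c, hc, e⟩ : ∃ a ∈ F₀, ∃ b ∈ F₀, ∃ c ∈ F₀,
      x * x * x = a • (x * x) - b • x + c • 1 := by
    have := congrArg (cj P) (cayley3 (cj P⁻¹ x))
    simp only [map_mul, map_add, map_sub, map_smul, map_one, cj_cj_inv] at this
    rw [Max.Rat] at h
    generalize cj P⁻¹ x = A at h this
    refine ⟨_, ?_, _, ?_, _, ?_, this⟩ <;>
      simp [trace_fin_three, adjugate_fin_three, det_fin_three] <;>
      apply_rules (maxDepth := 100) [add_mem, sub_mem, mul_mem, neg_mem]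
  obtain ⟨p, hp, _⟩ := L2.exists_char (F := F)
  have := Fact.mk hp
  obtain ⟨k, -, hk⟩ := L2.exists_card_eq_prime_pow (F := F₀) p
  let _ := (IsFieldSubalgebra.isField hK).toField
  have : CharP K p := charP_of_injective_algebraMap (algebraMap F K).injective p
  let φ := iterateFrobenius K p k
  have hφ : ∀ z : K, φ z = z ^ Nat.card F₀ := fun z => by rw [hk]; rfl
  have h1 : ∀ a ∈ F₀, φ (algebraMap F K a) = algebraMap F K a := fun a ha => by
    rw [hφ, ← map_pow, (L2.mem_subfield_iff_pow F₀ a).1 ha]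
  let z : K := ⟨x, hx⟩
  have e0 : z * z * z = algebraMap F K a * (z * z) - algebraMap F K b * z + algebraMap F K c := by
    simp only [← Algebra.smul_def, Algebra.algebraMap_eq_smul_one c]
    exact Subtype.ext e
  have e1 := congrArg φ e0
  simp only [map_mul, map_add, map_sub, h1 a ha, h1 b hb, h1 c hc] at e1
  have e2 := congrArg φ e1
  simp only [map_mul, map_add, map_sub, h1 a ha, h1 b hb, h1 c hc] at e2
  have e3 := congrArg φ e2
  simp only [map_mul, map_add, map_sub, h1 a ha, h1 b hb, h1 c hc] at e3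
  have h2 : φ z = z ∨ φ (φ z) = z ∨ φ (φ (φ z)) = z := by
    by_contra! h2
    have h3 := φ.injective.ne h2.1
    have h4 := φ.injective.ne h2.2.1
    have h5 := φ.injective.ne h3
    obtain ⟨h6, h7, h8⟩ := h2
    generalize φ (φ (φ z)) = z3 at *
    generalize φ (φ z) = z2 at *
    generalize φ z = z1 at *
    grind
  simp only [hφ, ← pow_mul] at h2
  rcases h2 with h2 | h2 | h2
  · exact ⟨1, by omega, by omega, by simpa using congrArg Subtype.val h2⟩
  · exact ⟨2, by omega, by omega, by simpa [sq] using congrArg Subtype.val h2⟩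
  · exact ⟨3, by omega, by omega, by simpa [pow_succ, mul_assoc] using congrArg Subtype.val h2⟩

theorem adj_pow_eq (hK : IsFieldSubalgebra 3 K) (hf : HForm σ 1 f) (hS : StarC σ f K) {p k : ℕ}
    [Fact p.Prime] [CharP F p] (hσ : ∀ a, σ a = a ^ p ^ k) :
    ∃ j < 3, ∀ x ∈ K, adj σ f (x ^ p ^ k) = x ^ Fintype.card F ^ j :=
  IsFieldSubalgebra.exists_pow hK (fun x => adj σ f (x ^ p ^ k))
    (fun x hx => hS _ (pow_mem hx _)) (by simp [hf.adj_one])
    (fun x hx y hy => by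
      simp only [add_pow_char_pow_of_commute p k (hK.comm x hx y hy), hf.adj_add])
    (fun x hx y hy => by
      simp only [hK.comm x hx y hy, Commute.mul_pow (hK.comm y hy x hx), hf.adj_mul])
    (fun c x hx => by simp only [_root_.smul_pow, hf.adj_smul, ← hσ, hf.invol])

theorem exists_order (hK : IsFieldSubalgebra 3 K) (h : N ∣ Fintype.card F ^ 3 - 1) :
    ∃ s : GL (Fin 3) F, (s : M3) ∈ K ∧ orderOf s = N := by
  let _ := (IsFieldSubalgebra.isField hK).toField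
  obtain ⟨z, hz⟩ := IsCyclic.exists_ofOrder_eq_natCard (α := Kˣ)
  rw [Nat.card_units, card_fieldSubalgebra hK] at hz
  refine ⟨Units.map K.val.toMonoidHom (z ^ (orderOf z / N)), ((z ^ (orderOf z / N) : Kˣ) : K).2, ?_⟩
  rw [orderOf_injective _ (Units.map_injective Subtype.val_injective),
    orderOf_pow_orderOf_div (orderOf_pos z).ne' (hz ▸ h)]

theorem det_eq_one (hK : IsFieldSubalgebra 3 K) (hs : (s : M3) ∈ K)
    (h : orderOf s ∣ Fintype.card F ^ 2 + Fintype.card F + 1) : s ∈ SL3 := by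
  have h1 := singer_det hK (by simp) hs
  obtain ⟨q, hq⟩ := Nat.exists_eq_add_of_lt (Fintype.one_lt_card (α := F))
  rw [Nat.div_eq_of_eq_mul_left (k := Fintype.card F ^ 2 + Fintype.card F + 1) (by omega) (by
    rw [hq, Nat.add_sub_cancel]; exact Nat.sub_eq_of_eq_add (by ring)), ← Units.val_pow_eq_pow_val,
    orderOf_dvd_iff_pow_eq_one.1 h] at h1
  simpa [mem_specialLinear_iff] using congrFun₂ h1 0 0

theorem mem_normalizer_of_mem (hK : IsFieldSubalgebra 3 K) (hs : (s : M3) ∈ K) :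
    s ∈ subalgebraNormalizer K := mem_subalgebraNormalizer_of_maps fun k hk => by
  rwa [(cj_eq_iff s k k).2 (hK.comm _ hs _ hk)]

/-- `H` contains an element of order `N` of the field `K`. -/
structure KD (K : Subalgebra F (Matrix (Fin 3) (Fin 3) F)) (H : Subgroup (GL (Fin 3) F)) (N : ℕ)
    (s : GL (Fin 3) F) : Prop where
  fld : IsFieldSubalgebra 3 K
  le : H ≤ specialLinear (Fin 3) F
  mem : s ∈ H
  inK : (s : Matrix (Fin 3) (Fin 3) F) ∈ K
  ord : orderOf s = N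
  big : ∃ r, r.Prime ∧ 5 ≤ r ∧ r ∣ N

namespace KD

theorem dvd (h : KD K H N s) {m : ℕ} (hm : s ^ m ∈ Z3) : N ∣ 3 * m := by
  rw [← h.ord, orderOf_dvd_iff_pow_eq_one, mul_comm, pow_mul]
  exact cube_of_scalar (h.le (pow_mem h.mem m)) hm

theorem not_dvd (h : KD K H N s) : ¬ N ∣ 18 := fun e => by
  obtain ⟨r, h1, h2, h3⟩ := h.big
  have h4 := h3.trans e
  have := Nat.le_of_dvd (by norm_num) h4
  interval_cases r <;> simp_all (config := {decide := true})

theorem ns (h : KD K H N s) (c : F) : ((s ^ 3 : GL (Fin 3) F) : M3) ≠ c • 1 := fun e =>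
  h.not_dvd ((h.dvd (mem_scalars_of_eq_smul e)).trans (by norm_num))

theorem inK3 (h : KD K H N s) : ((s ^ 3 : GL (Fin 3) F) : M3) ∈ K := pow_mem h.inK 3

theorem irr (h : KD K H N s) : Irr H := fun W hW => or_iff_not_imp_left.2 fun h0 => by
  obtain ⟨v, hv, hv0⟩ := W.exists_mem_ne_zero_of_ne_bot h0
  refine eq_top_iff.2 fun w _ => ?_
  obtain ⟨a, b, c, rfl⟩ := span_pow h.fld h.inK3 h.ns hv0 w
  have h1 := hW _ (pow_mem h.mem 3)
  exact add_mem (add_mem (W.smul_mem _ hv) (W.smul_mem _ (h1 _ hv))) (W.smul_mem _ (h1 _ (h1 _ hv)))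

theorem not_le_frame (h : KD K H N s) (hD : IsMDecomposition 1 D) :
    ¬ H ≤ decompositionStabilizer D := fun hle => by
  obtain ⟨v, h0, -, hv⟩ := exists_line hD 0
  obtain ⟨c, hc⟩ := hv _ (pow_six_fix hD (hle h.mem))
  refine h.not_dvd (h.dvd (m := 6) (mem_scalars_of_eq_smul (c := c) (sub_eq_zero.1 ?_)))
  by_contra h1
  exact IsFieldSubalgebra.mulVec_ne_zero h.fld (sub_mem (pow_mem h.inK 6)
    (K.smul_mem (one_mem K) c)) h1 h0 (by rw [sub_mulVec, smul_mulVec, one_mulVec, ← hc]; simp)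

theorem field_eq (h : KD K H N s) (hK : IsFieldSubalgebra 3 K')
    (hle : H ≤ subalgebraNormalizer K') : K' = K := by
  obtain ⟨j, -, hj⟩ := IsFieldSubalgebra.exists_pow hK (cj s) (fun x hx => (hle h.mem x).1 hx)
    (map_one _) (fun _ _ _ _ => map_add _ _ _) (fun _ _ _ _ => map_mul _ _ _)
    fun _ _ _ => map_smul _ _ _
  have h1 : K' ≤ K := fun x hx => by
    have h2 : cj (s ^ 3) x = x := by
      rw [pow_three, cj_mul, cj_mul, hj x hx, hj _ (pow_mem hx _), hj _ (pow_mem (pow_mem hx _) _),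
        ← pow_mul, ← pow_mul, ← pow_add, ← pow_add]
      exact (IsFieldSubalgebra.pow_iff_dvd hK _).2 ⟨j, by ring⟩ x hx
    obtain ⟨a, b, c, rfl⟩ := exists_poly h.fld h.inK3 h.ns ((cj_eq_iff _ _ _).1 h2).symm
    exact add_mem (add_mem (K.smul_mem (one_mem K) _) (K.smul_mem h.inK3 _))
      (K.smul_mem (mul_mem h.inK3 h.inK3) _)
  exact Subalgebra.toSubmodule_injective (Submodule.eq_of_le_of_finrank_eq h1
    (hK.finrank_eq.trans h.fld.finrank_eq.symm))

theorem sub (h : KD K H N s) (hle : H ≤ subfieldSubgroup F₀ P) :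
    ∃ j, 1 ≤ j ∧ j ≤ 3 ∧ N ∣ 3 * (Nat.card F₀ ^ j - 1) := by
  obtain ⟨j, h1, h2, h3⟩ := pow_of_rat h.fld h.inK3 (cub_rat h.le hle (cube_mem h.mem))
  refine ⟨j, h1, h2, ?_⟩
  have h4 : 1 ≤ Nat.card F₀ ^ j := Nat.one_le_pow _ _ Nat.card_pos
  rw [← h.ord, orderOf_dvd_iff_pow_eq_one, pow_mul, ← mul_left_inj (s ^ 3), ← pow_succ,
    Nat.sub_add_cancel h4, one_mul]
  exact Units.ext h3

theorem not_le_norm (h : KD K H N s) (hR : Hei R) : ¬ H ≤ subgroupNormalizer R := fun hle => by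
  obtain ⟨r, h1, h2, k, h3⟩ := h.big
  have := Fact.mk h1
  have h0 : k ≠ 0 := by rintro rfl; exact (orderOf_pos s).ne' (h.ord.trans h3)
  refine absurd (Der.le_three_of_norm (r := r) hR.ext (by simp) le_rfl (hle (pow_mem h.mem k)) ?_
    fun h4 => ?_) (by omega)
  · rw [← pow_mul, mul_comm, ← h3, ← h.ord, pow_orderOf_eq_one]; exact one_mem _
  · have := Nat.le_of_dvd (by norm_num) (Nat.dvd_of_mul_dvd_mul_right (Nat.pos_of_ne_zero h0)
      (h3 ▸ h.dvd h4))
    omega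

theorem sim (h : KD K H N s) (hf : HForm σ 1 f) {p k : ℕ} [Fact p.Prime] [CharP F p]
    (hσ : ∀ a, σ a = a ^ p ^ k) (hle : H ≤ similarityGroup f) :
    ∃ j < 3, N ∣ 3 * (Fintype.card F ^ j + p ^ k) := by
  have h1 := hf.adj_of_mem_isoG (cub_iso hf h.le hle (cube_mem h.mem))
  have h2 : (((s ^ 3)⁻¹ : GL (Fin 3) F) : M3) ∈ K := by
    obtain ⟨y, hy, e⟩ := h.fld.inv _ h.inK3 (by simpa using h.ns 0)
    rwa [Units.inv_eq_of_mul_eq_one_right e]
  obtain ⟨j, hj, e⟩ := adj_pow_eq h.fld hf (fun x hx => by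
    obtain ⟨a, b, c, rfl⟩ := exists_poly h.fld h.inK3 h.ns (h.fld.comm x hx _ h.inK3)
    simp only [hf.adj_add, hf.adj_smul, hf.adj_mul, hf.adj_one, h1]
    exact add_mem (add_mem (K.smul_mem (one_mem K) _) (K.smul_mem h2 _))
      (K.smul_mem (mul_mem h2 h2) _)) hσ
  refine ⟨j, hj, ?_⟩
  have h3 := e _ h.inK3
  rw [hf.adj_pow, h1, ← Units.val_pow_eq_pow_val, ← Units.val_pow_eq_pow_val] at h3
  rw [← h.ord, orderOf_dvd_iff_pow_eq_one, pow_mul, pow_add, ← Units.ext h3, inv_pow,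
    inv_mul_cancel]

theorem ordLE (h : KD K H N s) {n : ℕ} (ho : OrdLE H n) : N ≤ 3 * n := by
  obtain ⟨m, h1, h2, h3⟩ := ho _ h.mem
  exact (Nat.le_of_dvd (by omega) (h.dvd h3)).trans (by omega)

end KD

theorem exists_kd_sl (hK : IsFieldSubalgebra 3 K) : ∃ s, KD K (subalgebraNormalizer K ⊓ SL3)
    (Fintype.card F ^ 2 + Fintype.card F + 1) s := by
  obtain ⟨q, hq⟩ := Nat.exists_eq_add_of_lt (Fintype.one_lt_card (α := F))
  obtain ⟨s, h1, h2⟩ := exists_order hK (N := Fintype.card F ^ 2 + Fintype.card F + 1)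
    ⟨1 + q, by rw [hq]; exact Nat.sub_eq_of_eq_add (by ring)⟩
  exact ⟨s, hK, inf_le_right, ⟨mem_normalizer_of_mem hK h1, det_eq_one hK h1 h2.dvd⟩, h1, h2,
    exists_prime_five Fintype.one_lt_card⟩

theorem exists_kd_su {m : ℕ} (hσ : UField σ (m + 1)) (hm : 2 ≤ m) (hf : HForm σ 1 f)
    (hK : IsFieldSubalgebra 3 K) (hS : StarC σ f K) :
    ∃ s, KD K (subalgebraNormalizer K ⊓ suG f) (m ^ 2 + m + 1) s := by
  have hc : Fintype.card F = (m + 1) ^ 2 := by rw [← hσ.card, Nat.card_eq_fintype_card]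
  obtain ⟨s, h1, h2⟩ := exists_order hK (N := m ^ 2 + m + 1)
    ⟨(m + 2) * (m ^ 3 + 3 * m ^ 2 + 3 * m), by rw [hc]; exact Nat.sub_eq_of_eq_add (by ring)⟩
  refine ⟨s, hK, inf_le_right.trans inf_le_right, ⟨mem_normalizer_of_mem hK h1, ?_,
    det_eq_one hK h1 ⟨m ^ 2 + 3 * m + 3, by rw [h2, hc]; ring⟩⟩, h1, h2, exists_prime_five hm⟩
  obtain ⟨p, k, hp, _, -, hq⟩ := hσ.exists_prime_pow
  have := Fact.mk hp
  obtain ⟨j, hj, e⟩ := adj_pow_eq hK hf hS (p := p) (k := k) (hq ▸ hσ.pow)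
  rw [← hq] at e
  have h3 := (IsFieldSubalgebra.pow_iff_dvd hK 3).2 dvd_rfl
  have h4 : ∀ x ∈ K, x ^ Fintype.card F = x ^ (Fintype.card F ^ j * Fintype.card F ^ j) :=
    fun x hx => by
      have h5 := e _ (hS x hx)
      rw [hf.adj_pow, hf.adj_adj] at h5
      rw [pow_mul, ← e x hx, hf.adj_pow, ← pow_mul, mul_comm, pow_mul, ← h5, ← pow_mul, ← sq, hc]
  have h5 : ¬ ∀ x ∈ K, x ^ Fintype.card F ^ 1 = x := by
    rw [IsFieldSubalgebra.pow_iff_dvd hK]; norm_num
  obtain rfl : j = 2 := by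
    interval_cases j
    · exact absurd (fun x hx => by simpa using h4 x hx) h5
    · refine absurd (fun x hx => ?_) h5
      have h6 := congrArg (· ^ Fintype.card F ^ 2) (h4 x hx)
      simp only [← pow_mul] at h6
      rw [← pow_succ', h3 x hx, show _ * _ * _ = Fintype.card F ^ 3 * Fintype.card F ^ 1 by ring,
        pow_mul, h3 x hx] at h6
      exact h6.symm
    · rfl
  have h6 := e _ (pow_mem h1 ((m + 1) ^ 5))
  rw [← pow_mul, ← pow_succ, show (m + 1) ^ (5 + 1) = Fintype.card F ^ 3 by rw [hc]; ring,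
    h3 _ h1] at h6
  refine hf.mem_isoG_of_adj ?_
  rw [h6, ← pow_mul, ← pow_succ, ← Units.val_pow_eq_pow_val, orderOf_dvd_iff_pow_eq_one.1,
    Units.val_one]
  exact ⟨(m + 2) * (m ^ 6 + 6 * m ^ 5 + 15 * m ^ 4 + 19 * m ^ 3 + 12 * m ^ 2 + 3 * m + 1), by
    rw [h2, hc]; ring⟩

end Cfsg.Agent.Cl.D3
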