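/-
Tables of non-containments in dimension three: the rows in standard position.
-/
import Mathlib
import Cfsg.Agent.Cl.D3T3
import Cfsg.Agent.Cl.D3T4

set_option autoImplicit false
set_option linter.unusedSectionVars false

namespace Cfsg.Agent.Cl.D3

open Matrix Cfsg.Geo Cfsg.Agent.Cl.Max Cfsg.Agent.Cl.Mx

variable {F : Type*} [Field F] [Fintype F] {G H R : Subgroup (GL (Fin 3) F)} {F₀ F₁ : Subfield F}
  {P g : GL (Fin 3) F} {σ : F →+* F} {f : (Fin 3 → F) → (Fin 3 → F) → F} {q r : ℕ}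
  {D : Fin 3 → Submodule F (Fin 3 → F)} {K : Subalgebra F (Matrix (Fin 3) (Fin 3) F)} {l ω : Fˣ}

local notation "M3" => Matrix (Fin 3) (Fin 3) F
local notation "SL3" => specialLinear (Fin 3) F
local notation "Z3" => scalars (Fin 3) F

/-! ### Finite fields -/

theorem two_le_card (F₀ : Subfield F) : 2 ≤ Nat.card F₀ := Finite.one_lt_card

theorem exists_unit (F₀ : Subfield F) {n : ℕ} (h : n ∣ Nat.card F₀ - 1) :
    ∃ l : Fˣ, (l : F) ∈ F₀ ∧ orderOf l = n := by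
  obtain ⟨z, hz⟩ := IsCyclic.exists_ofOrder_eq_natCard (α := F₀ˣ)
  rw [Nat.card_units] at hz
  refine ⟨Units.map F₀.subtype.toMonoidHom (z ^ (orderOf z / n)),
    ((z ^ (orderOf z / n) : F₀ˣ) : F₀).2, ?_⟩
  rw [orderOf_injective _ (Units.map_injective Subtype.val_injective),
    orderOf_pow_orderOf_div (orderOf_pos z).ne' (hz ▸ h)]

theorem order_dvd (h : (l : F) ∈ F₀) : orderOf l ∣ Nat.card F₀ - 1 := by
  rw [orderOf_dvd_iff_pow_eq_one, ← mul_left_inj l, ← pow_succ,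
    Nat.sub_add_cancel Nat.card_pos, one_mul]
  exact Units.ext (by simpa using (L2.mem_subfield_iff_pow F₀ _).1 h)

theorem le_of_order (h0 : (l : F) ∈ F₀) (h1 : (l : F) ∈ F₁)
    (h : Nat.card F₀ < (orderOf l + 1) ^ 2) : F₀ ≤ F₁ := by
  obtain ⟨m, h2, h3⟩ := L2.card_pow_of_subfield_le (k := F₀ ⊓ F₁) inf_le_left
  have h4 := two_le_card (F₀ ⊓ F₁)
  have h5 := Nat.le_of_dvd (by omega) (order_dvd (F₀ := F₀ ⊓ F₁) ⟨h0, h1⟩)
  rcases h2.eq_or_lt with rfl | h2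
  · exact inf_eq_left.1 (L2.subfield_eq_of_card (by simpa using h3))
  · have := Nat.pow_le_pow_left (show orderOf l + 1 ≤ Nat.card ↥(F₀ ⊓ F₁) by omega) 2
    have := Nat.pow_le_pow_right (n := Nat.card ↥(F₀ ⊓ F₁)) (i := 2) (by omega) h2
    omega

theorem eq_of_prime_index (hr : r.Prime) (h : Fintype.card F = Nat.card F₀ ^ r) (h1 : F₀ ≤ F₁)
    (h2 : F₁ ≠ ⊤) : F₁ = F₀ := by
  obtain ⟨m, -, h3⟩ := L2.card_pow_of_subfield_le h1
  obtain ⟨k, -, h4⟩ := L2.card_subfield_pow F₁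
  have h5 := h4
  rw [← h3, ← pow_mul, Nat.card_eq_fintype_card (α := F), h] at h5
  rcases (Nat.dvd_prime hr).1 ⟨k, (Nat.pow_right_injective (two_le_card F₀) h5).symm⟩ with rfl | rfl
  · exact L2.subfield_eq_of_card (by simpa using h3.symm)
  · exact absurd (L2.subfield_eq_top_of_card (by rw [← h3, ← h, Nat.card_eq_fintype_card])) h2

theorem not_prime_pow {a : ℕ} (hr : r.Prime) : ¬ (a ^ r).Prime := fun h =>
  hr.one_lt.ne' h.eq_one_of_pow

theorem two_ne_of_odd (h : Odd (Fintype.card F)) : (2 : F) ≠ 0 := fun e =>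
  not_odd_of_two_eq_zero e h

theorem neg_one_ne (h : (2 : F) ≠ 0) : (-1 : Fˣ) ≠ 1 := fun e => h (by
  have := congrArg Units.val e
  rw [Units.val_neg, Units.val_one] at this
  linear_combination -this)

theorem ne_of_order {n m : ℕ} (h : orderOf l = n) (h0 : 0 < m) (h1 : m < n) : l ^ m ≠ 1 :=
  pow_ne_one_of_lt_orderOf h0.ne' (h ▸ h1)

theorem exists_z {e : ℕ} (h : ∀ z ∈ F₀, σ z = z ^ e) (h1 : e + 2 < Nat.card F₀) :
    ∃ z ∈ F₀, z ≠ 0 ∧ z * σ z + 2 ≠ 0 := by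
  by_cases h3 : (3 : F) = 0
  · obtain ⟨z, h4, h5⟩ := exists_unit F₀ dvd_rfl
    refine ⟨z, h4, z.ne_zero, fun e' => ne_of_order h5 e.succ_pos (by omega) (Units.ext ?_)⟩
    rw [h z h4] at e'
    rw [Units.val_pow_eq_pow_val, Units.val_one, pow_succ']
    linear_combination e' - h3
  · exact ⟨1, one_mem _, one_ne_zero, by rw [map_one]; exact fun e => h3 (by linear_combination e)⟩

theorem root_of_order (h : orderOf ω = 3) : (ω : F) ^ 2 + ω + 1 = 0 := by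
  have h1 : (ω : F) ^ 3 = 1 := by simpa [h] using congrArg Units.val (pow_orderOf_eq_one ω)
  have h2 : (ω : F) ≠ 1 := fun e => ne_of_order h one_pos (by omega) (Units.ext (by simpa using e))
  grind

theorem le_of_cast {p m : ℕ} [CharP F p] (h : (m : F) = 0) (h1 : 1 ≤ m) : p ≤ m :=
  Nat.le_of_dvd h1 ((CharP.cast_eq_zero_iff F p m).1 h)

/-! ### The columns -/

/-- The column of the frame stabilisers. -/
def AF (G H : Subgroup (GL (Fin 3) F)) : Prop := ∀ D : Fin 3 → Submodule F (Fin 3 → F),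
  IsMDecomposition 1 D → H ≤ decompositionStabilizer D → decompositionStabilizer D ⊓ G ≤ H

/-- The column of the field normalisers. -/
def AK (G H : Subgroup (GL (Fin 3) F)) : Prop := ∀ K : Subalgebra F (Matrix (Fin 3) (Fin 3) F),
  IsFieldSubalgebra 3 K → H ≤ subalgebraNormalizer K → subalgebraNormalizer K ⊓ G ≤ H

/-- The column of the subfield groups. -/
def AS (G H : Subgroup (GL (Fin 3) F)) : Prop := ∀ (F₀ : Subfield F) (r : ℕ) (P : GL (Fin 3) F),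
  r.Prime → Fintype.card F = Nat.card F₀ ^ r → H ≤ subfieldSubgroup F₀ P →
    subfieldSubgroup F₀ P ⊓ G ≤ H

/-- The column of the normalisers of extraspecial groups. -/
def AN (G H : Subgroup (GL (Fin 3) F)) : Prop := ∀ R : Subgroup (GL (Fin 3) F),
  Hei R → H ≤ subgroupNormalizer R → subgroupNormalizer R ⊓ G ≤ H

/-- The column of the similarity groups. -/
def AH (σ : F →+* F) (H : Subgroup (GL (Fin 3) F)) : Prop :=
  ∀ f : (Fin 3 → F) → (Fin 3 → F) → F, HForm σ 1 f → H ≤ similarityGroup f →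
    similarityGroup f ⊓ specialLinear (Fin 3) F ≤ H

/-- The row of `H` in the table for `SL₃`. -/
structure RowL (H : Subgroup (GL (Fin 3) F)) : Prop where
  irr : Irr H
  af : 5 ≤ Fintype.card F → AF (specialLinear (Fin 3) F) H
  ak : AK (specialLinear (Fin 3) F) H
  asb : AS (specialLinear (Fin 3) F) H
  an : (Fintype.card F).Prime → Odd (Fintype.card F) → AN (specialLinear (Fin 3) F) H
  ao : Odd (Fintype.card F) → AH (RingHom.id F) H
  au : ∀ σ q, UField σ q → AH σ H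
  res : Fintype.card F = 4 ∨ 11 ≤ Fintype.card F → OrdLE H 7 → SqComm H →
    ¬ ((Fintype.card F).Prime ∨ ∃ p : ℕ, p.Prime ∧ CharP F p ∧ Fintype.card F = p ^ 2 ∧ p ≠ 3 ∧
      p ≠ 5 ∧ OrdLE H 5)

/-- The row of `H` in the table for `SU₃`. -/
structure RowU (q : ℕ) (G H : Subgroup (GL (Fin 3) F)) : Prop where
  irr : Irr H
  af : AF G H
  ak : AK G H
  asb : AS G H
  an : q.Prime → 11 ≤ q → AN G H
  res : q.Prime → ¬ (q = 5 ∨ ((q = 3 ∨ 11 ≤ q) ∧ OrdLE H 7 ∧ SqComm H))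

theorem ak_of_sw (h : sw F ∈ H) : AK G H := fun _ hK hle =>
  absurd (scalar_of_invol hK (hle h) sw_sq) sw_ns

theorem Mon.asb (h : Mon H l) (h1 : Fintype.card F < (orderOf l + 1) ^ 2) : AS G H :=
  fun _ _ _ hr hc hle => absurd (top_le_iff.1 (le_of_order (Subfield.mem_top _) (h.rat hle).1
    (by rwa [L2.card_top_subfield, Nat.card_eq_fintype_card]))) (ne_top_of_prime_index hr hc)

theorem asb_of_le (hr : r.Prime) (hc : Fintype.card F = Nat.card F₀ ^ r)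
    (h : ∀ F₁ P, subfieldSubgroup F₀ 1 ⊓ G ≤ subfieldSubgroup F₁ P →
      F₀ ≤ F₁ ∧ ∀ A : M3, Rat F₁ P A ↔ Rat F₁ 1 A) : AS G (subfieldSubgroup F₀ 1 ⊓ G) :=
  fun F₁ _ P hr' hc' hle => by
    obtain ⟨h1, h2⟩ := h F₁ P hle
    rw [sub_eq_of_rat h2, eq_of_prime_index hr hc h1 (ne_top_of_prime_index hr' hc')]

theorem Mon.ah (h : Mon H l) (h1 : l * σ l ≠ 1) : AH σ H := fun _ hf hle =>
  absurd (h.form hf hle).1 h1

theorem Mon.ao (h : Mon H l) (h1 : l ^ 2 ≠ 1) : AH (RingHom.id F) H :=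
  h.ah fun e => h1 (Units.ext (by simpa [sq] using e))

theorem Mon.order_le (h : Mon H l) {n : ℕ} (ho : OrdLE H n) : orderOf l ≤ n := by
  obtain ⟨m, h1, h2, h3⟩ := h.ordLE ho
  exact (orderOf_le_of_pow_eq_one h1 h3).trans h2

theorem card_eq_sq (hσ : UField σ q) : Fintype.card F = q ^ 2 := by
  rw [← hσ.card, Nat.card_eq_fintype_card]

/-! ### Frames -/

theorem rowL_frame (hq : 5 ≤ Fintype.card F) : RowL (Mono F ⊓ SL3) := by
  have hm : ∀ l : Fˣ, l ≠ 1 → Mon (Mono F ⊓ SL3) l := fun l h => ⟨inf_le_right, h,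
    ⟨dg3_mem_Mono _ _ _, dd_mem_sl l⟩, ⟨sh_mem_Mono, sh_mem_sl⟩, ⟨sw_mem_Mono, sw_mem_sl⟩⟩
  obtain ⟨l, -, hl⟩ := exists_unit (⊤ : Subfield F) dvd_rfl
  rw [L2.card_top_subfield, Nat.card_eq_fintype_card] at hl
  have h := hm l (by simpa using ne_of_order hl one_pos (by omega))
  refine ⟨h.spans.irr, fun _ D hD hle => ?_, ak_of_sw h.w, h.asb ?_,
    fun _ ho R hR hle => absurd hle ((hm _ (neg_one_ne (two_ne_of_odd ho))).not_le_norm hR),
    fun _ => h.ao (ne_of_order hl two_pos (by omega)), fun σ q hσ => h.ah fun e => ?_,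
    fun h1 h2 _ _ => ?_⟩
  · rw [h.frame (ne_of_order hl three_pos (by omega)) hD hle]
  · rw [hl, Nat.sub_add_cancel (by omega)]; nlinarith
  · refine ne_of_order hl q.succ_pos ?_ (Units.ext (by simpa [hσ.norm_eq_pow] using e))
    rw [card_eq_sq hσ] at hq ⊢
    have : 3 ≤ q := by nlinarith
    exact Nat.lt_sub_of_add_lt (by nlinarith)
  · have := h.order_le h2; omega

theorem exists_norm_one (hσ : UField σ q) : ∃ l : Fˣ, orderOf l = q + 1 ∧ l * σ l = 1 := by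
  obtain ⟨l, -, hl⟩ := exists_unit (⊤ : Subfield F) (n := q + 1) (by
    rw [L2.card_top_subfield, ← Nat.card_units, hσ.card_units]; exact dvd_mul_left _ _)
  exact ⟨l, hl, by simpa [hσ.norm_eq_pow, hl] using congrArg Units.val (pow_orderOf_eq_one l)⟩

theorem two_ne_of_uField (hσ : UField σ q) (h : Odd q) : (2 : F) ≠ 0 :=
  two_ne_of_odd (card_eq_sq hσ ▸ h.pow)

theorem rowU_frame (hσ : UField σ q) (hq : 3 ≤ q) (h5 : q ≠ 5) :
    RowU q (suG (dForm σ)) (Mono F ⊓ suG (dForm σ)) := by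
  have hi := hσ.invol.invol
  have hm : ∀ l : Fˣ, l ≠ 1 → l * σ l = 1 → Mon (Mono F ⊓ suG (dForm σ)) l := fun l h h' =>
    ⟨inf_le_right.trans inf_le_right, h, ⟨dg3_mem_Mono _ _ _, dd_iso hi h', dd_mem_sl l⟩,
      ⟨sh_mem_Mono, sh_iso hi, sh_mem_sl⟩, ⟨sw_mem_Mono, sw_iso hi, sw_mem_sl⟩⟩
  obtain ⟨l, hl, h1⟩ := exists_norm_one hσ
  have h := hm l (by simpa using ne_of_order hl one_pos (by omega)) h1
  refine ⟨h.spans.irr, fun D hD hle => ?_, ak_of_sw h.w, h.asb ?_,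
    fun hp _ R hR hle => absurd hle ((hm _ (neg_one_ne (two_ne_of_uField hσ
      (hp.odd_of_ne_two (by omega)))) (by simp)).not_le_norm hR), fun _ h2 => ?_⟩
  · rw [h.frame (ne_of_order hl three_pos (by omega)) hD hle]
  · rw [hl, card_eq_sq hσ]; nlinarith
  · obtain ⟨h3, h4, h6⟩ := h2.resolve_left h5
    have := h.order_le h4
    obtain rfl : q = 3 := by omega
    refine h.not_sqComm ?_ (neg_one_ne (two_ne_of_uField hσ (by decide))) h6
    have h7 : (l : F) ^ 4 = 1 := by simpa [hl] using congrArg Units.val (pow_orderOf_eq_one l)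
    have h8 : (l : F) ^ 2 ≠ 1 := fun e => ne_of_order hl two_pos (by omega) (Units.ext e)
    exact Units.ext (by simp; grind)

/-! ### Fields -/

theorem rowL_field (hq : Fintype.card F ≠ 4) (hK : IsFieldSubalgebra 3 K) :
    RowL (subalgebraNormalizer K ⊓ SL3) := by
  obtain ⟨s, h⟩ := exists_kd_sl hK
  obtain ⟨p, hp, _⟩ := L2.exists_char (F := F)
  have := Fact.mk hp
  have h2 := Fintype.one_lt_card (α := F)
  refine ⟨h.irr, fun _ D hD hle => absurd hle (h.not_le_frame hD), fun K' hK' hle => ?_,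
    fun F₀ r P hr hc hle => ?_, fun _ _ R hR hle => absurd hle (h.not_le_norm hR),
    fun ho f hf hle => ?_, fun σ q hσ f hf hle => ?_, fun h1 h2 _ _ => ?_⟩
  · rw [h.field_eq hK' hle]
  · obtain ⟨j, h1, h2, h3⟩ := h.sub hle
    exact absurd h3 (arith_sub_sl hc hr.two_le (two_le_card F₀) hq h1 h2)
  · obtain ⟨j, h1, h3⟩ := h.sim hf (p := p) (k := 0) (by simp) hle
    exact absurd h3 (arith_sim (by simp; omega) (by simp) (by obtain ⟨k, hk⟩ := ho; omega) h1)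
  · obtain ⟨p, k, hp, _, -, rfl⟩ := hσ.exists_prime_pow
    have := Fact.mk hp
    obtain ⟨j, h1, h3⟩ := h.sim hf hσ.pow hle
    have h4 := hσ.two_le
    exact absurd h3 (arith_sim (card_eq_sq hσ).ge (by omega) (by rw [card_eq_sq hσ]; nlinarith) h1)
  · have := h.ordLE h2
    nlinarith [h1.resolve_left hq]

theorem rowU_field (hσ : UField σ q) (hq : 4 ≤ q) (h5 : q ≠ 5) (hf : HForm σ 1 f)
    (hK : IsFieldSubalgebra 3 K) (hS : StarC σ f K) :
    RowU q (suG f) (subalgebraNormalizer K ⊓ suG f) := by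
  obtain ⟨m, rfl⟩ : ∃ m, q = m + 1 := ⟨q - 1, by omega⟩
  obtain ⟨s, h⟩ := exists_kd_su hσ (by omega) hf hK hS
  refine ⟨h.irr, fun D hD hle => absurd hle (h.not_le_frame hD), fun K' hK' hle => ?_,
    fun F₀ r P hr hc hle => ?_, fun _ _ R hR hle => absurd hle (h.not_le_norm hR), fun _ h2 => ?_⟩
  · rw [h.field_eq hK' hle]
  · obtain ⟨j, h1, h2, h3⟩ := h.sub hle
    exact absurd h3 (arith_sub_su (card_eq_sq hσ ▸ hc) hr (by omega) (two_le_card F₀) h1 h2)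
  · obtain ⟨h3, h4, -⟩ := h2.resolve_left h5
    have := h.ordLE h4
    nlinarith [show 10 ≤ m by omega]

/-! ### Subfield groups and classical groups -/

theorem rowL_sub (hr : r.Prime) (hc : Fintype.card F = Nat.card F₀ ^ r) :
    RowL (subfieldSubgroup F₀ 1 ⊓ SL3) :=
  ⟨spans_sub.irr, fun _ _ hD hle => absurd hle (sub_not_le_frame hD), ak_of_sw sw_mem_sub,
    asb_of_le hr hc fun _ _ => sub_rat, fun hp => absurd (hc ▸ hp) (not_prime_pow hr),
    fun _ _ hf hle => absurd hle (sub_not_le_sim hf),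
    fun _ _ _ _ hf hle => absurd hle (sub_not_le_sim hf), fun _ _ _ h =>
      h.elim (hc ▸ not_prime_pow hr) fun ⟨_, _, _, _, _, _, h⟩ => sub_not_ordLE h⟩

theorem Std.af (h : Std σ F₀ H) (h1 : (l : F) ∈ F₀) (h2 : l * σ l = 1) (h3 : l ^ 3 ≠ 1) {e : ℕ}
    (h4 : ∀ z ∈ F₀, σ z = z ^ e) (h5 : e + 2 < Nat.card F₀) : AF G H := fun D hD hle => by
  have h6 : l ≠ 1 := fun e => h3 (by simp [e])
  obtain ⟨z, z1, z2, z3⟩ := exists_z h4 h5
  exact absurd ((h.mon h1 h2 h6).frame h3 hD hle ▸ hle) (h.not_le_mono h1 h2 h6 z1 z2 z3)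

theorem Std.unitary (h : Std σ F₀ H) (hc : Nat.card F₀ = q ^ 2) (hσ : ∀ z ∈ F₀, σ z = z ^ q) :
    ∃ l : Fˣ, (l : F) ∈ F₀ ∧ orderOf l = q + 1 ∧ Mon H l ∧ AF G H ∧ (q = 2 → Hes H l) := by
  have hq : 2 ≤ q := by have := two_le_card F₀; nlinarith
  obtain ⟨l, h1, hl⟩ := exists_unit F₀ (n := q + 1) ⟨q - 1, by rw [hc, ← Nat.sq_sub_sq]⟩
  have h2 : l * σ l = 1 := by
    simpa [hσ l h1, hl, pow_succ'] using congrArg Units.val (pow_orderOf_eq_one l)
  have h3 : l ≠ 1 := by simpa using ne_of_order hl one_pos (by omega)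
  have h4 : q = 2 → Hes H l := fun e => h.hes h1 h2 h3 (root_of_order (by rw [hl, e]))
  refine ⟨l, h1, hl, h.mon h1 h2 h3, ?_, h4⟩
  rcases hq.eq_or_lt with e | hq
  · exact fun D hD hle => absurd hle ((h4 e.symm).not_le_frame hD)
  · exact h.af h1 h2 (ne_of_order hl three_pos (by omega)) hσ (by rw [hc]; nlinarith)

theorem std_sub (hσ : ∀ a, σ (σ a) = a) : Std σ F₀ (subfieldSubgroup F₀ 1 ⊓ suG (dForm σ)) :=
  ⟨hσ, fun _ => map_mem_subfield σ, inf_le_right.trans inf_le_right,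
    fun _ h1 h2 h3 => ⟨mem_subfieldSubgroup_of_rat h1, h2, h3⟩⟩

theorem std_sim (hσ : ∀ a, σ (σ a) = a) : Std σ ⊤ (similarityGroup (dForm σ) ⊓ SL3) :=
  ⟨hσ, fun _ _ => Subfield.mem_top _, inf_le_right,
    fun _ _ h2 h3 => ⟨isoG_le_similarityGroup _ h2, h3⟩⟩

theorem exists_root_card (hσ : UField σ q) (ho : Odd r) (hc : Fintype.card F = Nat.card F₀ ^ r) :
    ∃ q₀, Nat.card F₀ = q₀ ^ 2 ∧ q = q₀ ^ r ∧ ∀ z ∈ F₀, σ z = z ^ q₀ := by
  obtain ⟨p, k, hp, _, -, rfl⟩ := hσ.exists_prime_pow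
  have := Fact.mk hp
  obtain ⟨a, -, ha⟩ := L2.exists_card_eq_prime_pow (F := F₀) p
  rw [card_eq_sq hσ, ha, ← pow_mul, ← pow_mul] at hc
  have h1 := Nat.pow_right_injective hp.two_le hc
  obtain ⟨b, rfl⟩ : 2 ∣ a := (Nat.coprime_two_left.2 ho).dvd_of_dvd_mul_right ⟨k, by omega⟩
  obtain rfl : k = b * r := by nlinarith
  rw [mul_comm 2, pow_mul] at ha
  refine ⟨p ^ b, ha, pow_mul _ _ _, fun z hz => ?_⟩
  obtain ⟨j, rfl⟩ := ho
  have := congrArg Subtype.val (L2.pow_natCard_pow (⟨z, hz⟩ : F₀) j)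
  rw [hσ.pow, pow_mul, pow_succ, pow_mul (p ^ b), ← ha, pow_mul]
  exact congrArg (· ^ p ^ b) this

theorem rowU_sub (hσ : UField σ q) (hr : r.Prime) (ho : Odd r)
    (hc : Fintype.card F = Nat.card F₀ ^ r) :
    RowU q (suG (dForm σ)) (subfieldSubgroup F₀ 1 ⊓ suG (dForm σ)) := by
  obtain ⟨q₀, h1, rfl, h3⟩ := exists_root_card hσ ho hc
  obtain ⟨l, h4, h5, h, h6, -⟩ := (std_sub hσ.invol.invol).unitary h1 h3
  exact ⟨h.spans.irr, h6, ak_of_sw h.w, asb_of_le hr hc fun _ _ hle =>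
    ⟨le_of_order h4 (h.rat hle).1 (by rw [h1, h5]; nlinarith), (h.rat hle).2⟩,
    fun hp => absurd hp (not_prime_pow hr), fun hp => absurd hp (not_prime_pow hr)⟩

theorem rowL_uni (hσ : UField σ q) : RowL (similarityGroup (dForm σ) ⊓ SL3) := by
  have hc := card_eq_sq hσ
  have hq := hσ.two_le
  obtain ⟨l, -, h5, h, h6, h7⟩ := (std_sim hσ.invol.invol).unitary (G := SL3)
    (L2.card_top_subfield.trans hσ.card) fun z _ => hσ.pow z
  refine ⟨h.spans.irr, fun _ => h6, ak_of_sw h.w, h.asb (by rw [hc, h5]; nlinarith),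
    fun hp => absurd (hc ▸ hp) (not_prime_pow Nat.prime_two),
    fun _ => h.ao (ne_of_order h5 two_pos (by omega)), fun τ q' hτ f hf hle => ?_,
    fun _ _ h1 h2 => ?_⟩
  · obtain rfl := Nat.pow_left_injective two_ne_zero (hσ.card.symm.trans hτ.card)
    obtain rfl : σ = τ := RingHom.ext fun a => by rw [hσ.pow, hτ.pow]
    rw [(h.form hf hle).2.1]
  · obtain ⟨p, hp, -, h3, h4, -, h8⟩ := h2.resolve_left (hc ▸ not_prime_pow Nat.prime_two)
    obtain rfl := Nat.pow_left_injective two_ne_zero (hc.symm.trans h3)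
    have := h.order_le h8
    refine (h7 ?_).not_sqComm h1
    have : q ≠ 4 := by rintro rfl; exact absurd hp (by decide)
    omega

theorem Std.orth (h : Std σ F₀ H) (h2 : (2 : F) ≠ 0) (hσ : ∀ a ∈ F₀, σ a = a) :
    Mon H (-1) ∧ (3 < Nat.card F₀ → AF G H) :=
  ⟨h.mon (by simp) (by simp) (neg_one_ne h2), h.af (l := -1) (by simp) (by simp)
    (by simpa [pow_succ] using neg_one_ne h2) (e := 1) (by simpa using hσ)⟩

theorem rowU_orth (hσ : UField σ q) (ho : Odd q) (hq : 7 ≤ q) :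
    RowU q (suG (dForm σ)) (subfieldSubgroup (uFix σ) 1 ⊓ suG (dForm σ)) := by
  have h2 := two_ne_of_uField hσ ho
  have hs := std_sub (F₀ := uFix σ) hσ.invol.invol
  obtain ⟨h, h1⟩ := hs.orth (G := suG (dForm σ)) h2 fun _ h => h
  refine ⟨h.spans.irr, h1 (by rw [hσ.card_uFix]; omega), ak_of_sw h.w,
    asb_of_le Nat.prime_two (by rw [hσ.card_uFix, card_eq_sq hσ]) fun _ _ hle =>
      ⟨hs.orth_le h2 (fun _ h => h) fun g hg => ((h.rat hle).2 _).1 (cub_rat h.le hle hg),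
        (h.rat hle).2⟩, fun _ _ R hR hle => absurd hle (h.not_le_norm hR), fun hp h3 => ?_⟩
  obtain ⟨h4, h5, -⟩ := h3.resolve_left (by omega)
  obtain ⟨m, h6, h7, h8⟩ := hs.unip h2 h5
  have := Fact.mk hp
  have := L2.charP_of_card hσ.card
  have := le_of_cast (p := q) h8 h6
  omega

theorem rowL_orth (ho : Odd (Fintype.card F)) :
    RowL (similarityGroup (dForm (RingHom.id F)) ⊓ SL3) := by
  have h2 := two_ne_of_odd ho
  have hs := std_sim (σ := RingHom.id F) fun _ => rfl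
  obtain ⟨h, h1⟩ := hs.orth (G := SL3) h2 fun _ _ => rfl
  refine ⟨h.spans.irr, fun hq => h1 (by rw [L2.card_top_subfield, Nat.card_eq_fintype_card]; omega),
    ak_of_sw h.w, fun _ _ _ hr hc hle => absurd (top_le_iff.1 (hs.orth_le h2 (fun _ _ => rfl)
      fun g hg => ((h.rat hle).2 _).1 (cub_rat h.le hle hg))) (ne_top_of_prime_index hr hc),
    fun _ _ R hR hle => absurd hle (h.not_le_norm hR), fun _ f hf hle => ?_,
    fun σ q hσ f hf hle => ?_, fun h3 h4 _ h5 => ?_⟩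
  · rw [(h.form hf hle).2.1]
  · obtain ⟨a, ha⟩ := hσ.invol.exists_ne
    refine absurd (hs.orth_le h2 (fun _ _ => rfl) (S := uFix σ) (fun g hg => ?_)
      (Subfield.mem_top a)) ha
    have h3 := (mem_iso_iff hσ.invol.invol).1 ((h.form hf hle).2.2 ▸ cub_iso hf h.le hle hg)
    have h4 := (mem_iso_iff fun _ => rfl).1
      (cub_iso (hform_dForm (σ := RingHom.id F) fun _ => rfl) h.le inf_le_left hg)
    exact rat_one_iff.2 (congrFun₂ (right_inv_eq_right_inv h3 h4))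
  · have h6 : 11 ≤ Fintype.card F := h3.resolve_left fun e => absurd (e ▸ ho) (by decide)
    rcases h5 with hp | ⟨p, hp, _, h7, h8, h9, h10⟩
    · obtain ⟨m, a1, a2, a3⟩ := hs.unip h2 h4
      have := Fact.mk hp
      have := L2.charP_of_card (F := F) (p := Fintype.card F) (n := 1) (by simp)
      have := le_of_cast (p := Fintype.card F) a3 a1
      omega
    · obtain ⟨m, a1, a2, a3⟩ := hs.unip h2 h10
      have : p ≤ 5 := (le_of_cast (p := p) a3 a1).trans a2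
      interval_cases p <;> simp_all (config := {decide := true})

/-! ### Normalisers of extraspecial groups -/

theorem Hei.hes (hR : Hei R) (h1 : ω ≠ 1) (h3 : ω ^ 3 = 1) (hd : dd ω ∈ R) (hy : sh F ∈ R)
    (hG : G ≤ SL3) (h : Hes G ω) : Hes (subgroupNormalizer R ⊓ G) ω := by
  have key : ∀ g : GL (Fin 3) F, g * dd ω * g⁻¹ ∈ R → g * sh F * g⁻¹ ∈ R →
      g ∈ subgroupNormalizer R := fun g a b => hR.mem_normalizer (spans_of_dd h1 ⟨hd, a⟩ ⟨hy, b⟩)
  obtain ⟨s, i, hi, h4, h5⟩ := h.ex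
  have a1 := key i (hi.conj_dd ▸ R.inv_mem hy) (hi.conj_sh ▸ hd)
  have a2 := key (dg3 ω ω 1) (by simpa [dg3_inv, dg3_mul] using hd) (by
    have e : ∀ u : GL (Fin 3) F, u * sh F * u⁻¹ = u * (sh F * u⁻¹ * (sh F)⁻¹) * sh F := fun u => by
      group
    rw [e, dg3_inv, sh_dg3, dg3_mul]
    have := mul_mem (hR.sc_mem (c := ω⁻¹) (by rw [inv_pow, h3, inv_one])) (R.inv_mem hd)
    rw [← dg3_self, dg3_inv, dg3_mul, show ω⁻¹ * ω⁻¹ = ω from by
      rw [← _root_.mul_inv_rev, inv_eq_iff_mul_eq_one, ← h3, pow_three, mul_assoc]] at this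
    exact mul_mem (by simpa using this) hy)
  exact ⟨⟨inf_le_right.trans hG, h1, ⟨Subgroup.le_normalizer hd, h.mon.d⟩,
    ⟨Subgroup.le_normalizer hy, h.mon.y⟩, ⟨hi.sq ▸ mul_mem a1 a1, h.mon.w⟩⟩,
    s, i, hi, ⟨a1, h4⟩, ⟨mul_mem (mul_mem a2 a1) (Subgroup.inv_mem _ a2), h5⟩⟩

theorem Hes.an (h : Hes (subgroupNormalizer R ⊓ G) ω) (hR : Hei R) (h2 : (2 : F) ≠ 0)
    (hd : dd ω ∈ R) (hy : sh F ∈ R) : AN G (subgroupNormalizer R ⊓ G) := fun R' hR' hle => by
  have key := fun {x : GL (Fin 3) F} => hR'.mem_of_inverted (x := x) h2 (hle h.mon.w) sw_sq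
    sw_mem_sl sw_ne
  have a1 := key (hle h.mon.d) (hR.cube _ hd) (by simp [sw_dg3, dg3_inv])
  have a2 := key (hle h.mon.y) sh_cube sw_sh
  rw [le_antisymm (hR.le hR' (spans_of_dd h.mon.ne ⟨hd, a1⟩ ⟨hy, a2⟩))
    (hR'.le hR (spans_of_dd h.mon.ne ⟨a1, hd⟩ ⟨a2, hy⟩))]

theorem order_three (h1 : ω ≠ 1) (h3 : ω ^ 3 = 1) : orderOf ω = 3 :=
  orderOf_eq_prime h3 h1

theorem rowL_norm (hp : (Fintype.card F).Prime) (hR : Hei R) (h1 : ω ≠ 1) (h3 : ω ^ 3 = 1)
    (hd : dd ω ∈ R) (hy : sh F ∈ R) : RowL (subgroupNormalizer R ⊓ SL3) := by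
  obtain ⟨s, i, hi⟩ := exists_fou (root_of_order (order_three h1 h3)) h1
  have h := hR.hes h1 h3 hd hy le_rfl ⟨⟨le_rfl, h1, dd_mem_sl _, sh_mem_sl, sw_mem_sl⟩, s, i, hi,
    hi.mem_sl, conj_mem_sl _ _ hi.mem_sl⟩
  exact ⟨h.mon.spans.irr, fun _ D hD hle => absurd hle (h.not_le_frame hD), ak_of_sw h.mon.w,
    fun _ _ _ hr hc => absurd (hc ▸ hp) (not_prime_pow hr),
    fun _ ho => h.an hR (two_ne_of_odd ho) hd hy,
    fun _ => h.mon.ao (ne_of_order (order_three h1 h3) two_pos (by omega)),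
    fun _ _ hσ => absurd (card_eq_sq hσ ▸ hp) (not_prime_pow Nat.prime_two),
    fun _ _ h4 => absurd h4 h.not_sqComm⟩

theorem rowU_norm (hσ : UField σ q) (hp : q.Prime) (hq : q % 3 = 2) (h11 : 11 ≤ q) (hR : Hei R)
    (h1 : ω ≠ 1) (h3 : ω ^ 3 = 1) (h4 : ω * σ ω = 1) (hd : dd ω ∈ R) (hy : sh F ∈ R) :
    RowU q (suG (dForm σ)) (subgroupNormalizer R ⊓ suG (dForm σ)) := by
  have hs : Std σ ⊤ (suG (dForm σ)) := ⟨hσ.invol.invol, fun _ _ => Subfield.mem_top _,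
    inf_le_right, fun _ _ a b => ⟨a, b⟩⟩
  have h := hR.hes h1 h3 hd hy inf_le_right
    (hs.hes (Subfield.mem_top _) h4 h1 (root_of_order (order_three h1 h3)))
  refine ⟨h.mon.spans.irr, fun D hD hle => absurd hle (h.not_le_frame hD), ak_of_sw h.mon.w,
    fun F₀ r P hr hc hle => ?_,
    fun _ _ => h.an hR (two_ne_of_uField hσ (hp.odd_of_ne_two (by omega))) hd hy,
    fun _ h5 => h5.elim (by omega) fun h5 => h.not_sqComm h5.2.2⟩
  have h5 := order_three h1 h3 ▸ order_dvd (h.mon.rat hle).1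
  rw [card_eq_sq hσ] at hc
  obtain ⟨a, h6, h7⟩ := (Nat.dvd_prime_pow hp).1 (hc ▸ dvd_pow_self _ hr.ne_zero)
  rw [h7, ← pow_mul] at hc
  have h8 := Nat.pow_right_injective hp.two_le hc
  have := hr.two_le
  obtain rfl : a = 1 := by interval_cases a <;> omega
  rw [h7, pow_one] at h5
  omega

end Cfsg.Agent.Cl.D3
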