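import Mathlib
import Cfsg.Prelude.Def_DegreeGraph
import Cfsg.Agent.Cl.CharSL2More
import Cfsg.Agent.Ch.Quotient
import Cfsg.Agent.Ch.Linear

/-!
Character degrees of `SL₂(q)` and `PSL₂(q)`.
-/

set_option autoImplicit false

namespace Cfsg.Agent.Cl.GL2

open Matrix Cfsg Cfsg.Agent.Ch Cfsg.Agent.Cl.CT
open scoped MatrixGroups ComplexConjugate

variable {F : Type*} [Field F] [Fintype F]

theorem charDegree_SL2_cases {χ : SL(2, F) → ℂ} (hχ : IsIrrCharacter _ χ) :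
    charDegree χ = 1 ∨ charDegree χ = Fintype.card F ∨ charDegree χ = Fintype.card F + 1 ∨
      charDegree χ + 1 = Fintype.card F ∨ (Odd (Fintype.card F) ∧
        (2 * charDegree χ = Fintype.card F + 1 ∨ 2 * charDegree χ + 1 = Fintype.card F)) := by
  classical
  obtain ⟨e, he⟩ := exists_isEll (F := F)
  have h := hχ.coe_charDegree
  rcases irr_cases_sl he hχ with rfl | rfl | ⟨α, -, rfl⟩ | ⟨θ, -, rfl⟩ | hp | ⟨θ, -, -, hp⟩
  · exact Or.inl charDegree_one
  · right; left; rw [stS_one] at h; exact_mod_cast h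
  · right; right; left; rw [prS_one] at h; exact_mod_cast h
  · right; right; right; left; rw [cuS_one, eq_sub_iff_add_eq] at h; exact_mod_cast h
  · right; right; right; right
    refine ⟨Nat.odd_iff.mpr (FiniteField.odd_card_of_char_ne_two hp.ringChar_ne_two), Or.inl ?_⟩
    rw [half_of_eq hp.eq_one, prS_one] at h
    have : (2 * charDegree χ : ℂ) = Fintype.card F + 1 := by linear_combination 2 * h
    exact_mod_cast this
  · right; right; right; right
    refine ⟨Nat.odd_iff.mpr (FiniteField.odd_card_of_char_ne_two hp.ringChar_ne_two), Or.inr ?_⟩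
    rw [half_of_eq hp.eq_one, cuS_one] at h
    have : (2 * charDegree χ + 1 : ℂ) = Fintype.card F := by linear_combination 2 * h
    exact_mod_cast this

theorem exists_psl_irr {χ : SL(2, F) → ℂ} (hχ : IsIrrCharacter _ χ) (h : χ (-1) = χ 1) :
    ∃ ψ : PSL(2, F) → ℂ, IsIrrCharacter _ ψ ∧ χ = fun g : SL(2, F) => ψ (g : PSL(2, F)) := by
  refine hχ.exists_quotient (Subgroup.center SL(2, F)) fun n hn => ?_
  rcases isScal_sl_iff.mp (mem_center_sl_iff.mp hn) with rfl | rfl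
  · rfl
  · exact h

theorem mem_charDegrees_psl {χ : SL(2, F) → ℂ} (hχ : IsIrrCharacter _ χ) (h : χ (-1) = χ 1) {d : ℕ}
    (hd : χ 1 = d) : d ∈ charDegrees PSL(2, F) := by
  obtain ⟨ψ, h1, rfl⟩ := exists_psl_irr hχ h
  exact ⟨⟨ψ, h1⟩, charDegree_of_apply_one hd⟩

theorem card_mem_charDegrees_psl : Fintype.card F ∈ charDegrees PSL(2, F) := by
  classical
  exact mem_charDegrees_psl isIrr_stS (stS_neg 1) stS_one

theorem exists_hom_sq_ne_inv {C : Type*} [Group C] [Finite C] [IsCyclic C]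
    (h : ¬ Nat.card C ∣ 4) : ∃ θ : C →* ℂˣ, θ ^ 2 ≠ (θ ^ 2)⁻¹ := by
  obtain ⟨γ, hγ⟩ := IsCyclic.exists_generator (α := C)
  have h1 : γ ^ 4 ≠ 1 := by
    rwa [Ne, ← orderOf_dvd_iff_pow_eq_one, orderOf_eq_card_of_forall_mem_zpowers hγ]
  obtain ⟨θ, hθ⟩ := exists_monoidHom_units_ne_one_of_comm
    (fun a b => IsCyclic.isMulCommutative.is_comm.comm a b) h1
  refine ⟨θ, (ne_inv_iff_exists _).mpr ⟨γ, ?_⟩⟩
  rwa [MonoidHom.pow_apply, ← pow_mul, ← map_pow]

theorem card_add_one_mem_charDegrees_psl (hq : Fintype.card F = 4 ∨ 5 < Fintype.card F) :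
    Fintype.card F + 1 ∈ charDegrees PSL(2, F) := by
  classical
  obtain ⟨θ, hθ⟩ := exists_hom_sq_ne_inv (C := Fˣ) (by
    rw [Nat.card_eq_fintype_card, Fintype.card_units]
    intro h
    have := Nat.le_of_dvd (by norm_num) h
    rcases hq with h1 | h1
    · rw [h1] at h; norm_num at h
    · omega)
  obtain ⟨c, hc⟩ := (ne_inv_iff_exists _).mp hθ
  refine mem_charDegrees_psl (χ := prS (MulChar.ofUnitHom θ ^ 2)) ((isIrr_prS_iff _).mpr fun h => hc ?_)
    ?_ (by rw [prS_one]; push_cast; rfl)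
  · have := congrArg (fun α : MulChar F ℂ => α c) h
    simp only [MulChar.pow_apply_coe, MulChar.ofUnitHom_coe, MulChar.one_apply_coe] at this
    ext; simpa using this
  · rw [prS_neg, MulChar.pow_apply' _ two_ne_zero, ← map_pow]; simp

theorem card_sub_one_mem_charDegrees_psl (hq : 4 ≤ Fintype.card F) :
    Fintype.card F - 1 ∈ charDegrees PSL(2, F) := by
  classical
  obtain ⟨e, he⟩ := exists_isEll (F := F)
  have := isCyclic_torusSL he
  obtain ⟨θ, hθ⟩ := exists_hom_sq_ne_inv (C := torusSL e) (by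
    rw [card_torusSL he]
    intro h
    have := Nat.le_of_dvd (by norm_num) h
    omega)
  refine mem_charDegrees_psl (isIrr_cuS he hθ) ?_ (by rw [cuS_one, cast_card_sub_one])
  rw [cuS_neg, MonoidHom.pow_apply, sq, ← map_mul, negT_mul_self]; simp

theorem charDegrees_congr' {G H : Type*} [Group G] [Group H] (e : G ≃* H) :
    charDegrees G = charDegrees H := by
  ext d
  exact ⟨fun ⟨χ, h⟩ => ⟨⟨_, χ.2.comp_mulEquiv e.symm⟩, (charDegree_congr (by simp)).trans h⟩,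
    fun ⟨χ, h⟩ => ⟨⟨_, χ.2.comp_mulEquiv e⟩, (charDegree_congr (by simp)).trans h⟩⟩

omit [Fintype F] in
theorem charDegrees_psl_subset : charDegrees PSL(2, F) ⊆ charDegrees SL(2, F) :=
  fun _ ⟨χ, h⟩ => ⟨⟨_, χ.2.comp_mk⟩, (charDegree_congr rfl).trans h⟩

theorem charDegrees_of_psl_or_sl {S : Type*} [Group S]
    (hS : Nonempty (S ≃* PSL(2, F)) ∨ Nonempty (S ≃* SL(2, F)))
    (hq : Fintype.card F = 4 ∨ 5 < Fintype.card F) :
    (∀ d ∈ charDegrees S, d = 1 ∨ d = Fintype.card F ∨ d = Fintype.card F + 1 ∨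
      d + 1 = Fintype.card F ∨ (Odd (Fintype.card F) ∧
        (2 * d = Fintype.card F + 1 ∨ 2 * d + 1 = Fintype.card F))) ∧
      Fintype.card F ∈ charDegrees S ∧ Fintype.card F + 1 ∈ charDegrees S ∧
      Fintype.card F - 1 ∈ charDegrees S := by
  have h1 : charDegrees S ⊆ charDegrees SL(2, F) := by
    rcases hS with ⟨⟨e⟩⟩ | ⟨⟨e⟩⟩ <;> rw [charDegrees_congr' e]
    exact charDegrees_psl_subset
  have h2 : charDegrees PSL(2, F) ⊆ charDegrees S := by
    rcases hS with ⟨⟨e⟩⟩ | ⟨⟨e⟩⟩ <;> rw [charDegrees_congr' e]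
    exact charDegrees_psl_subset
  refine ⟨fun d hd => ?_, h2 card_mem_charDegrees_psl, h2 (card_add_one_mem_charDegrees_psl hq),
    h2 (card_sub_one_mem_charDegrees_psl (by omega))⟩
  obtain ⟨χ, rfl⟩ := h1 hd
  exact charDegree_SL2_cases χ.2

theorem dvd_cases_of_psl_or_sl {S : Type*} [Group S]
    (hS : Nonempty (S ≃* PSL(2, F)) ∨ Nonempty (S ≃* SL(2, F)))
    (hq : Fintype.card F = 4 ∨ 5 < Fintype.card F) (n : ℕ) :
    (∃ d ∈ charDegrees S, n ∣ d) ↔
      n ∣ Fintype.card F ∨ n ∣ Fintype.card F + 1 ∨ n ∣ Fintype.card F - 1 := by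
  obtain ⟨h1, h2, h3, h4⟩ := charDegrees_of_psl_or_sl hS hq
  constructor
  · rintro ⟨d, hd, hn⟩
    rcases h1 d hd with rfl | rfl | rfl | h | ⟨-, h | h⟩
    · exact Or.inl ((Nat.dvd_one.mp hn).symm ▸ one_dvd _)
    · exact Or.inl hn
    · exact Or.inr (Or.inl hn)
    · exact Or.inr (Or.inr (by rwa [← h, Nat.add_sub_cancel]))
    · exact Or.inr (Or.inl (h ▸ hn.mul_left 2))
    · exact Or.inr (Or.inr (by rw [← h, Nat.add_sub_cancel]; exact hn.mul_left 2))
  · rintro (h | h | h)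
    exacts [⟨_, h2, h⟩, ⟨_, h3, h⟩, ⟨_, h4, h⟩]

theorem degreePrimes_of_psl_or_sl {S : Type*} [Group S]
    (hS : Nonempty (S ≃* PSL(2, F)) ∨ Nonempty (S ≃* SL(2, F)))
    (hq : Fintype.card F = 4 ∨ 5 < Fintype.card F) :
    degreePrimes S = {r : ℕ | r.Prime ∧ r ∣ Fintype.card F * (Fintype.card F ^ 2 - 1)} := by
  ext r
  refine and_congr_right fun hr => ?_
  rw [dvd_cases_of_psl_or_sl hS hq, ← one_pow 2, Nat.sq_sub_sq, hr.dvd_mul, hr.dvd_mul, one_pow]

theorem degreeGraph_adj_of_psl_or_sl {S : Type*} [Group S]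
    (hS : Nonempty (S ≃* PSL(2, F)) ∨ Nonempty (S ≃* SL(2, F)))
    (hq : Fintype.card F = 4 ∨ 5 < Fintype.card F) (r s : ℕ) :
    (degreeGraph S).Adj r s ↔ r ≠ s ∧ r.Prime ∧ s.Prime ∧
      ((r ∣ Fintype.card F + 1 ∧ s ∣ Fintype.card F + 1) ∨
        (r ∣ Fintype.card F - 1 ∧ s ∣ Fintype.card F - 1)) := by
  refine and_congr_right fun hrs => and_congr_right fun hr => and_congr_right fun hs => ?_
  have hc := (Nat.coprime_primes hr hs).mpr hrs
  have key : ∀ n, r * s ∣ n ↔ r ∣ n ∧ s ∣ n := fun n =>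
    ⟨fun h => ⟨(dvd_mul_right r s).trans h, (dvd_mul_left s r).trans h⟩,
      fun h => hc.mul_dvd_of_dvd_of_dvd h.1 h.2⟩
  rw [dvd_cases_of_psl_or_sl hS hq, key, key, key, or_iff_right]
  rintro ⟨h1, h2⟩
  obtain ⟨p, _, n, hp, hn⟩ := FiniteField.card' F
  rw [hn] at h1 h2
  exact hrs (((Nat.prime_dvd_prime_iff_eq hr hp).mp (hr.dvd_of_dvd_pow h1)).trans
    ((Nat.prime_dvd_prime_iff_eq hs hp).mp (hs.dvd_of_dvd_pow h2)).symm)

end Cfsg.Agent.Cl.GL2
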