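import Mathlib
import Cfsg.Agent.Cl.ClassUnip

/-!
# Centralisers of cyclic matrices, regular unipotent elements
-/

set_option autoImplicit false

namespace Cfsg.Agent.Cl.Cls

open Polynomial Module Matrix

section Cyclic

theorem card_subtype_comp {E B : Type*} [AddGroup E] [AddGroup B] (ρ : E →+ B)
    (hρ : Function.Surjective ρ) (Q : B → Prop) :
    Nat.card {c : E // Q (ρ c)} = Nat.card {b // Q b} * Nat.card ρ.ker := by
  rw [← Nat.card_prod]
  choose s hs using hρ
  exact Nat.card_congr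
    { toFun := fun c => (⟨ρ c.1, c.2⟩, ⟨-s (ρ c.1) + c.1, by simp [hs]⟩)
      invFun := fun x => ⟨s x.1.1 + x.2.1, by
        rw [map_add, hs, (AddMonoidHom.mem_ker).1 x.2.2, add_zero]; exact x.1.2⟩
      left_inv := fun c => by simp
      right_inv := fun x => by
        have := (AddMonoidHom.mem_ker).1 x.2.2
        ext <;> simp [hs, this] }

theorem card_eq_mul_card_ker {E B : Type*} [AddGroup E] [AddGroup B] (ρ : E →+ B)
    (hρ : Function.Surjective ρ) : Nat.card E = Nat.card B * Nat.card ρ.ker := by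
  simpa using card_subtype_comp ρ hρ fun _ => True

theorem card_isUnit (M : Type*) [Monoid M] : Nat.card {a : M // IsUnit a} = Nat.card Mˣ :=
  (Nat.card_congr (Equiv.ofBijective (fun u : Mˣ => (⟨u, u.isUnit⟩ : {a : M // IsUnit a}))
    ⟨fun _ _ h => Units.ext (congrArg Subtype.val h), fun ⟨_, u, h⟩ => ⟨u, Subtype.ext h⟩⟩)).symm

variable {F : Type*} [Field F] {n : Type*} [Fintype n] [DecidableEq n]

theorem card_adjoinRoot {p : F[X]} (hp : p ≠ 0) :
    Nat.card (AdjoinRoot p) = Nat.card F ^ p.natDegree := by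
  have := finiteDimensional_adjoinRoot hp
  rw [Module.natCard_eq_pow_finrank (K := F), finrank_adjoinRoot p]

theorem card_units_adjoinRoot_pow [Finite F] {P : F[X]} (hP : Irreducible P) {k : ℕ}
    (hk : 0 < k) :
    Nat.card (AdjoinRoot (P ^ k))ˣ =
      (Nat.card F ^ P.natDegree - 1) * (Nat.card F ^ P.natDegree) ^ (k - 1) := by
  have := Fact.mk hP
  let ρ := AdjoinRoot.algHomOfDvd F (P ^ k) P (dvd_pow_self P hk.ne')
  have hρ : ∀ a, ρ (AdjoinRoot.mk _ a) = AdjoinRoot.mk P a := fun a => by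
    rw [← AdjoinRoot.aeval_eq, ← aeval_algHom_apply, AdjoinRoot.algHomOfDvd_root,
      AdjoinRoot.aeval_eq]
  have hs : Function.Surjective (ρ : AdjoinRoot (P ^ k) →+ AdjoinRoot P) := fun y => by
    obtain ⟨a, rfl⟩ := AdjoinRoot.mk_surjective y
    exact ⟨AdjoinRoot.mk _ a, hρ a⟩
  have h1 := card_subtype_comp _ hs IsUnit
  have h2 := card_eq_mul_card_ker _ hs
  rw [card_adjoinRoot (pow_ne_zero k hP.ne_zero), card_adjoinRoot hP.ne_zero, natDegree_pow,
    mul_comm k, pow_mul, ← mul_pow_sub_one hk.ne'] at h2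
  rw [card_isUnit, Nat.card_units, card_adjoinRoot hP.ne_zero,
    ← Nat.eq_of_mul_eq_mul_left (pow_pos Nat.card_pos _) h2] at h1
  rw [← h1, ← card_isUnit]
  refine Nat.card_congr (Equiv.subtypeEquivRight fun x => ?_)
  obtain ⟨a, rfl⟩ := AdjoinRoot.mk_surjective x
  change _ ↔ IsUnit (ρ (AdjoinRoot.mk _ a))
  rw [hρ, isUnit_mk_iff, isUnit_mk_iff, IsCoprime.pow_right_iff hk]

theorem exists_algHom_of_sim_cyc {A : Matrix n n F} {p : F[X]}
    (hs : Sim (Matrix.toLin' A) (cyc p)) : ∃ ψ : AdjoinRoot p →ₐ[F] Matrix n n F,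
      Function.Injective ψ ∧ ∀ a, ψ (AdjoinRoot.mk p a) = aeval A a := by
  obtain ⟨Φ, hΦ, -⟩ := hs.exists_algEquiv
  let Ψ := (Matrix.toLinAlgEquiv' : Matrix n n F ≃ₐ[F] _).trans Φ
  refine ⟨Ψ.symm.toAlgHom.comp (Algebra.lmul F (AdjoinRoot p)),
    Ψ.symm.injective.comp Algebra.lmul_injective, fun a => ?_⟩
  rw [← AdjoinRoot.aeval_eq, ← aeval_algHom_apply]
  congr 2
  exact Ψ.symm_apply_eq.2 hΦ.symm

theorem centralizer_equiv_of_sim_cyc {g : GL n F} {p : F[X]}
    (hs : Sim (Matrix.toLin' (g : Matrix n n F)) (cyc p)) :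
    Nonempty (Subgroup.centralizer ({g} : Set (GL n F)) ≃* (AdjoinRoot p)ˣ) := by
  obtain ⟨ψ, h1, h2⟩ := exists_algHom_of_sim_cyc hs
  let φ : (AdjoinRoot p)ˣ →* GL n F := Units.map (ψ : AdjoinRoot p →* Matrix n n F)
  have hφ : Function.Injective φ := Units.map_injective h1
  refine ⟨(MulEquiv.subgroupCongr ?_).trans (MonoidHom.ofInjective hφ).symm⟩
  ext c
  rw [Subgroup.mem_centralizer_singleton_iff]
  constructor
  · intro h
    have hc : Commute g c := h.symm
    obtain ⟨a, ha⟩ := exists_aeval_eq_of_commute_of_sim_cyc' hs (hc.map (Units.coeHom _))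
    obtain ⟨b, hb⟩ := exists_aeval_eq_of_commute_of_sim_cyc' hs (hc.inv_right.map (Units.coeHom _))
    refine ⟨Units.mkOfMulEqOne (AdjoinRoot.mk p a) (AdjoinRoot.mk p b) (h1 ?_), Units.ext ?_⟩
    · rw [map_mul, h2, h2, ha, hb, map_one]
      exact c.mul_inv
    · exact (h2 a).trans ha
  · rintro ⟨u, rfl⟩
    obtain ⟨a, ha⟩ := AdjoinRoot.mk_surjective (u : AdjoinRoot p)
    apply Units.ext
    change ψ u * g = g * ψ u
    rw [← ha, h2]
    simpa using congrArg (aeval (g : Matrix n n F)) (mul_comm a X)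

theorem centralizer_equiv_of_edM {g : GL n F} {p : F[X]} (h : edM (g : Matrix n n F) = {p}) :
    Nonempty (Subgroup.centralizer ({g} : Set (GL n F)) ≃* (AdjoinRoot p)ˣ) :=
  centralizer_equiv_of_sim_cyc (sim_cyc_of_ed_eq_singleton h)

theorem evM_of_edM_eq_jt {K : Type*} [Field K] [Algebra F K] {A : Matrix n n F} {c : F}
    {s : Multiset ℕ} (h : edM A = jt c s) :
    evM K A = Multiset.replicate (Fintype.card n) (algebraMap F K c) := by
  rw [evM, charpoly_of_edM_eq_jt h, aroots_pow, aroots_X_sub_C, Multiset.nsmul_singleton]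

theorem charpoly_aeval_of_edM_eq_jt {A : Matrix n n F} {c : F} {s : Multiset ℕ}
    (h : edM A = jt c s) (b : F[X]) :
    (aeval A b).charpoly = (X - C (b.eval c)) ^ Fintype.card n := by
  rw [← charpoly_of_edM_eq_jt (edM_smul_one (n := n) (b.eval c))]
  apply charpoly_eq_of_evM_eq (K := AlgebraicClosure F)
  rw [evM_aeval, evM_of_edM_eq_jt h, evM_smul_one, Multiset.map_replicate,
    aeval_algebraMap_apply_eq_algebraMap_eval]

theorem det_eq_of_charpoly_eq_pow {A : Matrix n n F} {c : F}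
    (h : A.charpoly = (X - C c) ^ Fintype.card n) : A.det = c ^ Fintype.card n := by
  rw [Matrix.det_eq_sign_charpoly_coeff, h, coeff_zero_eq_eval_zero]
  simp [← mul_pow]

/-- A matrix commuting with a single Jordan block has a single eigenvalue. -/
theorem exists_charpoly_eq_of_commute {A B : Matrix n n F} {c : F} {k : ℕ}
    (h : edM A = jt c {k}) (hB : Commute A B) :
    ∃ b : F, B.charpoly = (X - C b) ^ Fintype.card n := by
  obtain ⟨b, rfl⟩ := exists_aeval_eq_of_commute_of_sim_cyc' (sim_cyc_of_ed_eq_singleton h) hB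
  exact ⟨_, charpoly_aeval_of_edM_eq_jt h b⟩

theorem map_det_centralizer_of_regular {g : GL n F} {c : F} {k : ℕ}
    (h : edM (g : Matrix n n F) = jt c {k}) :
    (Subgroup.centralizer {g}).map Matrix.GeneralLinearGroup.det =
      (powMonoidHom (Fintype.card n) : Fˣ →* Fˣ).range := by
  ext a
  constructor
  · rintro ⟨x, hx, rfl⟩
    have hc : Commute g x := (Subgroup.mem_centralizer_singleton_iff.1 hx).symm
    obtain ⟨b, hb⟩ := exists_charpoly_eq_of_commute h (hc.map (Units.coeHom _))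
    have h1 := det_eq_of_charpoly_eq_pow hb
    rcases Nat.eq_zero_or_pos (Fintype.card n) with h0 | h0
    · exact ⟨1, Units.ext (by simpa [h0] using h1.symm)⟩
    · have hb0 : b ≠ 0 := by
        rintro rfl
        exact x.det_ne_zero (h1.trans (zero_pow h0.ne'))
      exact ⟨Units.mk0 b hb0, Units.ext h1.symm⟩
  · rintro ⟨b, rfl⟩
    refine ⟨Matrix.GeneralLinearGroup.scalar n b, Subgroup.mem_centralizer_singleton_iff.2
      (Units.ext ?_), Units.ext (by simp)⟩
    exact (Matrix.scalar_commute (b : F) (fun _ => Commute.all _ _) _).eq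

theorem map_detGU_centralizer_of_regular {σ : F →+* F} {q N : ℕ} (hσ : UField σ q) (hN : 0 < N)
    {g : GU N F q} {c : F} {k : ℕ}
    (h : edM ((g : GL (Fin N) F) : Matrix (Fin N) (Fin N) F) = jt c {k}) :
    ((Subgroup.centralizer {g}).map (detGU F N q)).subgroupOf (uNormOne σ) =
      (powMonoidHom N : uNormOne σ →* uNormOne σ).range := by
  ext a
  rw [Subgroup.mem_subgroupOf]
  constructor
  · rintro ⟨x, hx, hxa⟩
    have hc : Commute g x := (Subgroup.mem_centralizer_singleton_iff.1 hx).symm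
    obtain ⟨b, hb⟩ := exists_charpoly_eq_of_commute h
      (hc.map ((Units.coeHom _).comp (GU N F q).subtype))
    have h1 := det_eq_of_charpoly_eq_pow hb
    rw [Fintype.card_fin] at hb h1
    have hb0 : b ≠ 0 := by
      rintro rfl
      exact x.1.det_ne_zero (h1.trans (zero_pow hN.ne'))
    have h2 := uDual_charpoly_of_unitary hσ.invol ((mem_GU_iff_uStar hσ _).1 x.2)
    erw [hb] at h2
    rw [uDual_pow, uDual_X_sub_C hb0, pow_eq_pow_iff_of_irreducible (monic_X_sub_C _)
      (irreducible_X_sub_C _) (monic_X_sub_C _) (irreducible_X_sub_C _) hN] at h2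
    have h3 : (σ b)⁻¹ = b := C_injective (sub_right_injective h2.1)
    refine ⟨⟨Units.mk0 b hb0, ?_⟩, Subtype.ext (Units.ext ?_)⟩
    · exact (congrArg (· * σ b) h3).symm.trans (inv_mul_cancel₀ ((map_ne_zero σ).2 hb0))
    · exact h1.symm.trans (congrArg Units.val hxa)
  · rintro ⟨b, rfl⟩
    have hk : k = N := by simpa using sum_eq_of_edM_eq_jt h
    subst hk
    obtain ⟨x, h1, h2⟩ := exists_GU_commute_det_eq hσ (x := g) (k := k) (monic_X_sub_C c)
      (irreducible_X_sub_C c) (h ▸ pow_mem_jt.2 (Multiset.mem_singleton_self k)) b.2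
    exact ⟨x, Subgroup.mem_centralizer_singleton_iff.2 h1.symm, h2⟩

/-- The invariant subspaces of a single Jordan block. -/
theorem eq_ker_of_invariant {A : Matrix n n F} {c : F} {k : ℕ} (h : edM A = jt c {k})
    (W : Submodule F (n → F)) (hW : ∀ v ∈ W, A *ᵥ v ∈ W) :
    W = LinearMap.ker (Matrix.toLin' (aeval A (X - C c) ^ finrank F W)) := by
  have hk : k = Fintype.card n := by simpa using sum_eq_of_edM_eq_jt h
  have hW' : ∀ v ∈ W, Matrix.toLin' (aeval A (X - C c)) v ∈ W := fun v hv => by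
    rw [aeval_X_sub_C', Matrix.toLin'_apply, Matrix.sub_mulVec, Matrix.smul_mulVec,
      Matrix.one_mulVec]
    exact W.sub_mem (hW v hv) (W.smul_mem c hv)
  refine Submodule.eq_of_le_of_finrank_eq (fun v hv => ?_) ?_
  · have h1 : IsNilpotent (LinearMap.restrict (Matrix.toLin' (aeval A (X - C c))) hW') := by
      refine Module.End.isNilpotent.restrict hW' ⟨Fintype.card n, ?_⟩
      rw [← Matrix.toLin'_pow, pow_card_eq_zero_of_edM_eq_jt h, map_zero]
    have h2 := (LinearMap.isNilpotent_iff_charpoly _).1 h1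
    have h3 := LinearMap.aeval_self_charpoly
      (LinearMap.restrict (Matrix.toLin' (aeval A (X - C c))) hW')
    rw [h2, map_pow, aeval_X, Module.End.pow_restrict] at h3
    rw [LinearMap.mem_ker, Matrix.toLin'_pow]
    exact congrArg Subtype.val (LinearMap.congr_fun h3 ⟨v, hv⟩)
  · rw [finrank_ker_pow_of_edM_eq_jt h, Multiset.map_singleton, Multiset.sum_singleton,
      min_eq_right]
    rw [hk, ← Module.finrank_fintype_fun_eq_card F]
    exact W.finrank_le

theorem orderOf_dvd_natDegree [Finite F] {P : F[X]} (hm : P.Monic) (hP : Irreducible P) {r : ℕ}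
    (hr : r.Prime) (h : P ∣ X ^ r - 1) (h1 : P ≠ X - C 1) :
    orderOf (Nat.card F : ZMod r) ∣ P.natDegree := by
  have := Fact.mk hP
  have := Fact.mk hr
  have := finiteDimensional_adjoinRoot hP.ne_zero
  have : Finite (AdjoinRoot P) := Module.finite_of_finite F
  have := Fintype.ofFinite (AdjoinRoot P)
  have h2 : AdjoinRoot.root P ^ r = 1 := by
    simpa [sub_eq_zero] using AdjoinRoot.mk_eq_zero.2 h
  have h3 : orderOf (AdjoinRoot.root P) = r := orderOf_eq_prime h2 fun h3 => h1 <| by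
    refine eq_of_monic_of_associated hm (monic_X_sub_C 1)
      (hP.associated_of_dvd (irreducible_X_sub_C 1) (AdjoinRoot.mk_eq_zero.1 ?_))
    simp [h3]
  have h4 : AdjoinRoot.root P ≠ 0 := by
    intro h4
    rw [h4, zero_pow hr.ne_zero] at h2
    exact zero_ne_one h2
  have h5 := orderOf_dvd_of_pow_eq_one (FiniteField.pow_card_sub_one_eq_one _ h4)
  rw [h3, ← Nat.card_eq_fintype_card, card_adjoinRoot hP.ne_zero] at h5
  rw [orderOf_dvd_iff_pow_eq_one, ← Nat.cast_pow, ← Nat.cast_one (R := ZMod r), eq_comm,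
    ZMod.natCast_eq_natCast_iff]
  exact (Nat.modEq_iff_dvd' (Nat.one_le_pow _ _ Nat.card_pos)).2 h5

theorem edM_eq_singleton_of_le {A : Matrix n n F} {e : F[X]} (he : e ∈ edM A)
    (h : Fintype.card n ≤ e.natDegree) : edM A = {e} := by
  obtain ⟨t, ht⟩ := Multiset.exists_cons_of_mem he
  have h1 := sum_natDegree_edM A
  rw [ht, Multiset.map_cons, Multiset.sum_cons] at h1
  have h3 : t = 0 := Multiset.eq_zero_of_forall_notMem fun a ha => by
    have := (isPP_of_mem_edM (ht ▸ Multiset.mem_cons_of_mem ha : a ∈ edM A)).natDegree_pos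
    have := Multiset.single_le_sum (fun _ _ => Nat.zero_le _) _
      (Multiset.mem_map_of_mem natDegree ha)
    omega
  rw [ht, h3]
  rfl

theorem exists_mem_edM_ne {A : Matrix n n F} {c : F} (h : A ≠ c • 1) :
    ∃ e ∈ edM A, e ≠ X - C c := by
  by_contra h1
  push Not at h1
  exact h (sub_eq_zero.1 ((aeval_X_sub_C' A c).symm.trans
    ((aeval_eq_zero_iff_edM A _).2 fun e he => (h1 e he).dvd)))

end Cyclic

end Cfsg.Agent.Cl.Cls
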