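import Mathlib
import Cfsg.Agent.Cl.ClassCyc

/-!
# Singer groups
-/

set_option autoImplicit false

namespace Cfsg.Agent.Cl.Cls

open Polynomial Module

variable (F K : Type*) [Field F] [Field K] [Algebra F K]

/-- Multiplications by units, as units of the endomorphism algebra. -/
abbrev singerHom : Kˣ →* (End F K)ˣ :=
  Units.map ((Algebra.lmul F K : K →ₐ[F] End F K) : K →* End F K)

variable {F K}

theorem singerHom_apply (a : Kˣ) (x : K) : (singerHom F K a : End F K) x = a * x := rfl

theorem singerHom_injective : Function.Injective (singerHom F K) :=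
  Units.map_injective Algebra.lmul_injective

theorem card_singer : Nat.card (singerHom F K).range = Nat.card K - 1 := by
  rw [← Nat.card_congr (MonoidHom.ofInjective singerHom_injective).toEquiv, Nat.card_units]

theorem mem_singer_iff {g : (End F K)ˣ} :
    g ∈ (singerHom F K).range ↔ ∀ a x : K, (g : End F K) (a * x) = a * (g : End F K) x := by
  constructor
  · rintro ⟨b, rfl⟩ a x
    rw [singerHom_apply, singerHom_apply, mul_left_comm]
  · intro h
    have h1 : (g : End F K) 1 ≠ 0 := fun h1 => one_ne_zero (α := K) <| by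
      rw [← Module.End.one_apply (R := F) (1 : K), ← g.inv_mul, Module.End.mul_apply, h1, map_zero]
    exact ⟨Units.mk0 _ h1, Units.ext (LinearMap.ext fun x => by
      rw [singerHom_apply, Units.val_mk0, mul_comm, ← h, mul_one])⟩

theorem centralizer_singer :
    Subgroup.centralizer ((singerHom F K).range : Set (End F K)ˣ) = (singerHom F K).range := by
  ext g
  rw [Subgroup.mem_centralizer_iff]
  constructor
  · refine fun h => mem_singer_iff.2 fun a x => ?_
    rcases eq_or_ne a 0 with rfl | ha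
    · simp
    · exact (LinearMap.congr_fun (congrArg Units.val (h _ ⟨Units.mk0 a ha, rfl⟩)) x).symm
  · rintro ⟨a, rfl⟩ _ ⟨b, rfl⟩
    rw [← map_mul, ← map_mul, mul_comm]

theorem card_normalizer_singer :
    Nat.card (Subgroup.normalizer ((singerHom F K).range : Set (End F K)ˣ)) =
      Nat.card (K ≃ₐ[F] K) * (Nat.card K - 1) := by
  let u : (K ≃ₐ[F] K) →* (End F K)ˣ := (AlgEquiv.toLinearMapHom F K).toHomUnits
  have hu : ∀ φ x, (u φ : End F K) x = φ x := fun _ _ => rfl
  have h1 : ∀ φ, ∀ h ∈ (singerHom F K).range, u φ * h * (u φ)⁻¹ ∈ (singerHom F K).range := by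
    rintro φ _ ⟨a, rfl⟩
    refine mem_singer_iff.2 fun b x => ?_
    rw [← map_inv]
    simp only [Units.val_mul, Module.End.mul_apply, hu, singerHom_apply, map_mul,
      AlgEquiv.aut_inv, AlgEquiv.apply_symm_apply]
    ring
  have h2 : ∀ φ, u φ ∈ Subgroup.normalizer ((singerHom F K).range : Set (End F K)ˣ) :=
    fun φ => Subgroup.mem_normalizer_iff.2 fun h => ⟨h1 φ h, fun hh => by
      simpa [mul_assoc] using h1 φ⁻¹ _ hh⟩
  rw [← Nat.card_units, ← Nat.card_prod]
  refine (Nat.card_congr (Equiv.ofBijective (fun x => ⟨singerHom F K x.2 * u x.1,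
    mul_mem (Subgroup.le_normalizer ⟨_, rfl⟩) (h2 _)⟩) ⟨?_, ?_⟩)).symm
  · rintro ⟨φ, a⟩ ⟨ψ, b⟩ h
    have h3 : ∀ x, (a : K) * φ x = b * ψ x := fun x =>
      LinearMap.congr_fun (congrArg Units.val (congrArg Subtype.val h)) x
    obtain rfl : a = b := Units.ext (by simpa using h3 1)
    rw [AlgEquiv.ext fun x => mul_left_cancel₀ a.ne_zero (h3 x)]
  · rintro ⟨g, hg⟩
    have h3 : ∀ a : K, ∃ b : K, ∀ x, (g : End F K) (a * x) = b * (g : End F K) x := fun a => by
      rcases eq_or_ne a 0 with rfl | ha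
      · exact ⟨0, by simp⟩
      · obtain ⟨b, hb⟩ := (Subgroup.mem_normalizer_iff.1 hg _).1 ⟨Units.mk0 a ha, rfl⟩
        exact ⟨b, fun x => (LinearMap.congr_fun (congrArg Units.val
          (eq_mul_inv_iff_mul_eq.1 hb)) x).symm⟩
    have h4 : Function.Bijective (g : End F K) := (Module.End.isUnit_iff _).1 g.isUnit
    have h5 : (g : End F K) 1 ≠ 0 := fun h => one_ne_zero (h4.1 (h.trans (map_zero _).symm))
    let ψ : K →ₐ[F] K := AlgHom.ofLinearMap (LinearMap.mulLeft F ((g : End F K) 1)⁻¹ ∘ₗ g)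
      (inv_mul_cancel₀ h5) fun a x => by
        obtain ⟨b, hb⟩ := h3 a
        have h6 := hb 1
        rw [mul_one] at h6
        simp only [LinearMap.comp_apply, LinearMap.mulLeft_apply, hb, h6]
        field_simp
    refine ⟨⟨AlgEquiv.ofBijective ψ ((mulLeft_bijective₀ _ (inv_ne_zero h5)).comp h4),
      Units.mk0 _ h5⟩, Subtype.ext (Units.ext (LinearMap.ext fun x => ?_))⟩
    exact mul_inv_cancel_left₀ h5 _

theorem exists_conj_singer [Finite F] [FiniteDimensional F K] {x : End F K} {P : F[X]}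
    (hP : Irreducible P) (hx : ed x = {P}) : ∃ (g : (End F K)ˣ) (a : K),
      (∀ b : K, ∃ f : F[X], aeval a f = b) ∧ g * x * (g⁻¹).val = Algebra.lmul F K a := by
  have := Fact.mk hP
  have := finiteDimensional_adjoinRoot hP.ne_zero
  have hs := sim_cyc_of_ed_eq_singleton hx
  have : Finite K := Module.finite_of_finite F
  obtain ⟨φ⟩ := FiniteField.nonempty_algHom_of_finrank_dvd (F := F) (K := AdjoinRoot P) (L := K)
    hs.finrank_eq.symm.dvd
  have hφ : Function.Surjective φ := (LinearMap.injective_iff_surjective_of_finrank_eq_finrank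
    (f := φ.toLinearMap) hs.finrank_eq.symm).1 φ.injective
  have h1 : Sim (cyc P) (Algebra.lmul F K (φ (AdjoinRoot.root P))) :=
    sim_of_bijective φ.toLinearMap ⟨φ.injective, hφ⟩ fun v => map_mul φ _ _
  obtain ⟨g, hg⟩ := isConj_iff_exists_unit.1 (isConj_end_iff_sim.2 (hs.trans h1))
  refine ⟨g, _, fun b => ?_, hg⟩
  obtain ⟨b, rfl⟩ := hφ b
  obtain ⟨f, rfl⟩ := AdjoinRoot.mk_surjective b
  exact ⟨f, by rw [aeval_algHom_apply, AdjoinRoot.aeval_eq]⟩

theorem ed_eq_singleton_of_orderOf [Finite F] {V : Type*} [AddCommGroup V] [Module F V]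
    [FiniteDimensional F V] {x : End F V} {r : ℕ} (hr : r.Prime) (hx : orderOf x = r)
    (hn : orderOf (Nat.card F : ZMod r) = finrank F V) (hr0 : (r : F) ≠ 0) :
    ∃ P, Irreducible P ∧ ed x = {P} := by
  let b := Module.finBasis F V
  have h1 : orderOf (LinearMap.toMatrix b b x) = r :=
    ((LinearMap.toMatrixAlgEquiv b).toMulEquiv.orderOf_eq x).trans hx
  have h2 : LinearMap.toMatrix b b x ^ r = 1 := h1 ▸ pow_orderOf_eq_one _
  obtain ⟨P, hP, hP1⟩ := exists_mem_edM_ne (A := LinearMap.toMatrix b b x) (c := 1) fun h => by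
    rw [h, one_smul, orderOf_one] at h1
    exact hr.one_lt.ne h1
  have h3 := isSS_of_pow_eq_one hr0 h2 P hP
  have h4 := orderOf_dvd_natDegree (isPP_of_mem_edM hP).monic h3 hr
    ((pow_eq_one_iff_edM _ r).1 h2 P hP) hP1
  exact ⟨P, h3, (edM_toMatrix b x).symm.trans (edM_eq_singleton_of_le hP (by
    rw [Fintype.card_fin, ← hn]
    exact Nat.le_of_dvd h3.natDegree_pos h4))⟩

end Cfsg.Agent.Cl.Cls
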