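import Mathlib
import Cfsg.Agent.Cl.ClassDet
import Cfsg.Agent.Cl.ClassSemis

/-!
# Involutions of `SL` and `SU` in characteristic two; explicit representatives
-/

set_option autoImplicit false

namespace Cfsg.Agent.Cl.SpO

open Polynomial Matrix Cfsg.Agent.Cl.Cls

section Rank
variable {F : Type*} [Field F] {n : Type*} [Fintype n] [DecidableEq n]

theorem rank_sub_one_eq_of_isConj {A B : Matrix n n F} (h : IsConj A B) :
    (A - 1).rank = (B - 1).rank := by
  have := isConj_iff_rank.1 h (X - 1)
  rwa [map_sub, map_sub, aeval_X, aeval_X, map_one, map_one] at this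

/-- Unipotent matrices are conjugate iff the powers of `A - 1` have the same ranks. -/
theorem isConj_of_unipotent {A B : Matrix n n F} {N : ℕ} (hA : (A - 1) ^ N = 0)
    (hB : (B - 1) ^ N = 0) (h : ∀ k, ((A - 1) ^ k).rank = ((B - 1) ^ k).rank) : IsConj A B := by
  refine isConj_of_rank_eq fun P k hP hPi => ?_
  by_cases hP1 : P = X - C 1
  · subst hP1
    simpa using h k
  · have hc : IsCoprime (P ^ k) ((X - C (1 : F)) ^ N) := by
      refine IsCoprime.pow (hPi.isRelPrime_iff_not_dvd.2 fun hd => hP1 ?_).isCoprime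
      exact eq_of_monic_of_associated hP (monic_X_sub_C 1)
        (hPi.associated_of_dvd (irreducible_X_sub_C 1) hd)
    have key : ∀ M : Matrix n n F, (M - 1) ^ N = 0 → (aeval M (P ^ k)).rank = Fintype.card n := by
      intro M hM
      obtain ⟨a, b, hab⟩ := hc
      have := congrArg (aeval M) hab
      rw [map_add, map_mul, map_mul, map_pow _ (X - C 1), map_sub, aeval_X, aeval_C, map_one, hM,
        mul_zero, add_zero, map_one] at this
      exact Matrix.rank_of_isUnit _ (IsUnit.of_mul_eq_one_right _ this)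
    rw [key A hA, key B hB]

theorem isConj_of_sq_zero {A B : Matrix n n F} (hA : (A - 1) ^ 2 = 0) (hB : (B - 1) ^ 2 = 0)
    (h : (A - 1).rank = (B - 1).rank) : IsConj A B := by
  refine isConj_of_unipotent hA hB fun k => ?_
  rcases k with _ | _ | k
  · simp
  · simpa using h
  · rw [show k + 1 + 1 = 2 + k by omega, pow_add, pow_add, hA, hB, zero_mul, zero_mul]

omit [DecidableEq n] in
theorem rank_eq_of_factor {l : ℕ} (A : Matrix n (Fin l) F) (C : Matrix (Fin l) n F)
    (E : Matrix (Fin l) n F) (E' : Matrix n (Fin l) F) (h1 : E * A = 1) (h2 : C * E' = 1) :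
    (A * C).rank = l := by
  refine le_antisymm ((rank_mul_le_left A C).trans ((rank_le_card_width A).trans (Fintype.card_fin l).le)) ?_
  have : E * (A * C) * E' = 1 := by rw [← Matrix.mul_assoc, h1, Matrix.one_mul, h2]
  have h3 := (rank_mul_le_left (E * (A * C)) E').trans (rank_mul_le_right E (A * C))
  rwa [this, rank_one, Fintype.card_fin] at h3

variable [CharP F 2]

theorem sub_one_sq_of_mul_self {A : Matrix n n F} (h : A * A = 1) : (A - 1) ^ 2 = 0 := by
  have h2 : (2 : F) = 0 := CharTwo.two_eq_zero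
  have : (A - 1) ^ 2 = A * A - (2 : F) • A + (2 : F) • (1 : Matrix n n F) - 1 := by
    rw [two_smul, two_smul]; noncomm_ring
  rw [this, h, h2]; simp

theorem det_eq_one_of_mul_self {A : Matrix n n F} (h : A * A = 1) : A.det = 1 := by
  have h1 : A.det * A.det = 1 := by rw [← det_mul, h, det_one]
  rcases mul_self_eq_one_iff.1 h1 with h2 | h2
  · exact h2
  · rw [h2, CharTwo.neg_eq]

theorem one_add_mul_self {l : ℕ} (A : Matrix n (Fin l) F) (C : Matrix (Fin l) n F)
    (h : C * A = 0) : (1 + A * C) * (1 + A * C) = 1 := by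
  have h2 : (2 : F) = 0 := CharTwo.two_eq_zero
  have h3 : A * C * (A * C) = 0 := by
    rw [Matrix.mul_assoc, ← Matrix.mul_assoc C, h, Matrix.zero_mul, Matrix.mul_zero]
  have : (1 + A * C) * (1 + A * C) = 1 + (2 : F) • (A * C) + A * C * (A * C) := by
    rw [two_smul]; noncomm_ring
  rw [this, h2, h3]; simp

theorem exists_pow_mem_edM {A : Matrix n n F} (h : A * A = 1) (hn : 0 < Fintype.card n) :
    ∃ k, (k = 1 ∨ k = 2) ∧ (X - C 1) ^ k ∈ edM A := by
  obtain ⟨e, he⟩ := Multiset.exists_mem_of_ne_zero (edM_ne_zero A hn)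
  have h1 : e ∣ (X - C 1) ^ 2 :=
    (aeval_eq_zero_iff_edM A _).1 (by simpa using sub_one_sq_of_mul_self h) e he
  obtain ⟨k, hk, hek⟩ := (dvd_prime_pow (prime_X_sub_C 1) 2).1 h1
  have h2 := eq_of_monic_of_associated (isPP_of_mem_edM he).monic ((monic_X_sub_C 1).pow k) hek
  refine ⟨k, ?_, h2 ▸ he⟩
  have h3 : k ≠ 0 := by
    rintro rfl
    exact (isPP_of_mem_edM he).not_isUnit (by rw [h2]; simp)
  omega

theorem exists_units_sq [Finite F] (u : Fˣ) : ∃ a : Fˣ, a ^ 2 = u := by
  obtain ⟨a, ha⟩ := (frobeniusEquiv F 2).surjective u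
  rw [frobeniusEquiv_def] at ha
  have h0 : a ≠ 0 := by
    rintro rfl
    exact u.ne_zero (by rw [← ha]; simp)
  exact ⟨Units.mk0 a h0, Units.ext (by simpa using ha)⟩

theorem isConj_SL_of_invol [Finite F] {a b : SpecialLinearGroup n F} (ha : a * a = 1)
    (hn : 0 < Fintype.card n) (h : IsConj (a : Matrix n n F) (b : Matrix n n F)) :
    IsConj a b := by
  have h' : IsConj (SpecialLinearGroup.toGL a : GL n F) (SpecialLinearGroup.toGL b) :=
    (isConj_units_iff (M := Matrix n n F)).2 h
  refine isConj_of_isConj_of_centralizer (G := GL n F) SpecialLinearGroup.toGL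
    SpecialLinearGroup.toGL_injective Matrix.GeneralLinearGroup.det range_toGL (fun g => ?_) h'
  obtain ⟨k, hk, he⟩ := exists_pow_mem_edM (A := (a : Matrix n n F))
    (congrArg Subtype.val ha) hn
  obtain ⟨u, hu⟩ : ∃ u : Fˣ, u ^ k = Matrix.GeneralLinearGroup.det g := by
    rcases hk with rfl | rfl
    · exact ⟨_, pow_one _⟩
    · exact exists_units_sq _
  rw [← hu]
  exact exists_GL_commute_det_eq (x := SpecialLinearGroup.toGL a) (monic_X_sub_C 1)
    (irreducible_X_sub_C 1) he u

theorem isConj_SU_of_invol {σ : F →+* F} {N q : ℕ} (hσ : UField σ q) {a b : SU N F q}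
    (ha : a * a = 1) (hn : 0 < N)
    (h : IsConj ((a : SpecialLinearGroup (Fin N) F) : Matrix (Fin N) (Fin N) F)
      ((b : SpecialLinearGroup (Fin N) F) : Matrix (Fin N) (Fin N) F)) : IsConj a b := by
  have := hσ.finite
  refine isConj_of_isConj_of_centralizer (suToGU F N q) suToGU_injective (detGU F N q)
    range_suToGU (fun g => ?_) ((isConj_GU_iff hσ _ _).2
      ((isConj_units_iff (M := Matrix (Fin N) (Fin N) F)).2 h))
  obtain ⟨k, hk, he⟩ := exists_pow_mem_edM
    (A := ((a : SpecialLinearGroup (Fin N) F) : Matrix (Fin N) (Fin N) F))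
    (congrArg (fun x : SU N F q => x.1.1) ha) (by simpa using hn)
  obtain ⟨u, hu1, hu⟩ : ∃ u ∈ uNormOne σ, u ^ k = detGU F N q g := by
    have h1 := detGU_mem_uNormOne hσ g
    rcases hk with rfl | rfl
    · exact ⟨_, h1, pow_one _⟩
    · obtain ⟨u, hu⟩ := exists_units_sq (detGU F N q g)
      refine ⟨u, ?_, hu⟩
      rw [← hu, mem_uNormOne, Units.val_pow_eq_pow_val, map_pow, ← mul_pow, sq] at h1
      rcases mul_self_eq_one_iff.1 h1 with h2 | h2
      · exact h2
      · rw [mem_uNormOne, h2, CharTwo.neg_eq]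
  rw [← hu]
  exact exists_GU_commute_det_eq hσ (x := suToGU F N q a) (monic_X_sub_C 1)
    (irreducible_X_sub_C 1) he hu1

end Rank

section Sel
variable {F : Type*} [Field F] {n l : ℕ}

variable (F) in
/-- Selection matrix with shift `s`. -/
def selM (n l s : ℕ) : Matrix (Fin n) (Fin l) F :=
  Matrix.of fun i k => if i.val = k.val + s then 1 else 0

theorem selM_transpose_mul {s t : ℕ} (hs : l + s ≤ n) (k k' : Fin l) :
    ((selM F n l s)ᵀ * selM F n l t) k k' = if k.val + s = k'.val + t then 1 else 0 := by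
  rw [Matrix.mul_apply, Finset.sum_eq_single (⟨k.val + s, by omega⟩ : Fin n)]
  · simp [selM]
  · intro i _ hi
    have : i.val ≠ k.val + s := fun h => hi (Fin.ext h)
    simp [selM, this]
  · simp

theorem selM_transpose_mul_self {s : ℕ} (hs : l + s ≤ n) :
    (selM F n l s)ᵀ * selM F n l s = 1 := by
  ext k k'
  rw [selM_transpose_mul hs, Matrix.one_apply]
  simp [Fin.ext_iff]

theorem selM_transpose_mul_of_le {s t : ℕ} (hs : l + s ≤ n) (h : l + s ≤ t ∨ l + t ≤ s) :
    (selM F n l s)ᵀ * selM F n l t = 0 := by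
  ext k k'
  rw [selM_transpose_mul hs, if_neg (by omega), Matrix.zero_apply]

theorem selM_mul_transpose (s t : ℕ) (i j : Fin n) :
    (selM F n l s * (selM F n l t)ᵀ) i j =
      if t ≤ j.val ∧ j.val < l + t ∧ i.val + t = j.val + s then 1 else 0 := by
  rw [Matrix.mul_apply]
  split_ifs with h
  · rw [Finset.sum_eq_single (⟨j.val - t, by omega⟩ : Fin l)]
    · simp only [selM, of_apply, transpose_apply]
      rw [if_pos (by omega), if_pos (by omega), one_mul]
    · intro k _ hk
      have : j.val ≠ k.val + t := fun h' => hk (Fin.ext (by simp only; omega))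
      simp [selM, this]
    · simp
  · refine Finset.sum_eq_zero fun k _ => ?_
    simp only [selM, of_apply, transpose_apply]
    split_ifs
    · exfalso; omega
    all_goals simp

end Sel

end Cfsg.Agent.Cl.SpO
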