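import Mathlib
import Cfsg.Agent.Cl.ClassSpOSpec
import Cfsg.Agent.Cl.FormPi
import Cfsg.Agent.Cl.SpOrder

/-!
`r`-adic valuations of `q ^ k - 1` and of cyclotomic values; homocyclic Sylow subgroups of
symplectic groups for large primes.
-/

set_option autoImplicit false

namespace Cfsg.Agent.Cl.SpO

open Module Polynomial

variable {q r : ℕ} [Fact r.Prime]

theorem padicValNat_cyclotomic (hq : 2 ≤ q) (hq' : (q : ZMod r) ≠ 0) :
    padicValNat r ((cyclotomic (orderOf (q : ZMod r)) ℤ).eval (q : ℤ)).natAbs =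
      padicValNat r (q ^ orderOf (q : ZMod r) - 1) := by
  have hd := orderOf_cast_pos hq'
  have h1 : ∀ e, ((X ^ e - 1 : ℤ[X]).eval (q : ℤ)).natAbs = q ^ e - 1 := fun e => by
    rw [eval_sub, eval_pow, eval_X, eval_one, ← o_cast_pow_sub_one q e (by omega),
      Int.natAbs_natCast]
  have h2 := h1 (orderOf (q : ZMod r))
  rw [← prod_cyclotomic_eq_X_pow_sub_one hd, ← Nat.cons_self_properDivisors hd.ne',
    Finset.prod_cons, eval_mul, Int.natAbs_mul] at h2
  have h3 := h2.trans_ne (pow_sub_one_pos hq hd).ne'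
  rw [← h2, padicValNat.mul (left_ne_zero_of_mul h3) (right_ne_zero_of_mul h3), left_eq_add]
  refine padicValNat.eq_zero_of_not_dvd fun h => ?_
  rw [← Int.natCast_dvd, eval_prod,
    (Nat.prime_iff_prime_int.1 Fact.out).dvd_finsetProd_iff] at h
  obtain ⟨e, he, h4⟩ := h
  have h5 := Int.natCast_dvd.1 (h4.trans (eval_dvd (cyclotomic.dvd_X_pow_sub_one e ℤ)))
  rw [h1, Der.dvd_pow_sub_one_iff (by omega)] at h5
  exact (Nat.mem_properDivisors.1 he).2.not_ge
    (Nat.le_of_dvd (Nat.pos_of_mem_properDivisors he) h5)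

theorem padicValNat_pow_sub_one (hq : 2 ≤ q) (hq' : (q : ZMod r) ≠ 0) (hr2 : r ≠ 2) {k : ℕ}
    (hk : ¬ r ∣ k) : padicValNat r (q ^ k - 1) =
      if orderOf (q : ZMod r) ∣ k then padicValNat r (q ^ orderOf (q : ZMod r) - 1) else 0 := by
  split_ifs with h
  · obtain ⟨c, rfl⟩ := h
    have := padicValNat.pow_sub_pow ((Fact.out : r.Prime).odd_of_ne_two hr2)
      (Nat.one_lt_pow (orderOf_cast_pos hq').ne' hq)
      ((Der.dvd_pow_sub_one_iff (by omega) _).2 dvd_rfl)
      (fun h => hq' ((ZMod.natCast_eq_zero_iff _ _).2 ((Fact.out : r.Prime).dvd_of_dvd_pow h)))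
      (n := c) (by rintro rfl; simp at hk)
    rwa [one_pow, ← pow_mul, padicValNat.eq_zero_of_not_dvd fun h => hk (h.mul_left _),
      add_zero] at this
  · exact padicValNat.eq_zero_of_not_dvd fun h1 => h ((Der.dvd_pow_sub_one_iff (by omega) _).1 h1)

theorem exists_hom_pi_sp {F : Type*} [Field F] {e a n : ℕ} (he : 0 < e) (h : a * e ≤ n) :
    ∃ f : (Fin a → Matrix.symplecticGroup (Fin e) F) →* Matrix.symplecticGroup (Fin n) F,
      Function.Injective f := by
  have : Nontrivial (Fin e ⊕ Fin e → F) :=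
    Module.nontrivial_of_finrank_pos (R := F) (by rw [sp_finrank_std]; omega)
  obtain ⟨φ⟩ := sp_nonempty_equiv (m := n)
    (spProd_nondegenerate (spPi_nondegenerate (ι := Fin a) (spB_nondegenerate (m := e) (R := F)))
      (spB_nondegenerate (m := n - a * e)))
    (spProd_isAlt (spPi_isAlt spB_isAlt) spB_isAlt) (by
      rw [finrank_prod, spPi_finrank, sp_finrank_std, sp_finrank_std, Fintype.card_fin,
        mul_left_comm]
      omega)
  exact ⟨((((φ.toMonoidHom.comp (spProdHom _ _)).comp (MonoidHom.inl _ _)).comp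
    (spWrHom _ _)).comp SemidirectProduct.inl).comp ((spStdEquiv e F).toMonoidHom.compLeft _),
    ((((φ.injective.comp spProdHom_injective).comp (Prod.mk_left_injective 1)).comp
      spWrHom_injective).comp SemidirectProduct.inl_injective).comp
        (spStdEquiv e F).injective.comp_left⟩

theorem exists_hom_zmod {G : Type*} [Group G] (x : G) :
    ∃ f : Multiplicative (ZMod (orderOf x)) →* G, Function.Injective f :=
  ⟨(Subgroup.zpowers x).subtype.comp (zmodMulEquivOfGenerator (g := ⟨x, Subgroup.mem_zpowers x⟩)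
    (fun ⟨_, k, hk⟩ => ⟨k, Subtype.ext hk⟩) (Nat.card_zpowers x)).toMonoidHom,
    Subtype.val_injective.comp (MulEquiv.injective _)⟩

/-- A symplectic element of order `N` in dimension `2 e` for odd `N` dividing `q ^ e ± 1`. -/
theorem exists_sp_orderOf {F : Type*} [Field F] [Fintype F] {e N : ℕ} (he : 0 < e) (hN : Odd N)
    (h : N ∣ Fintype.card F ^ e - 1 ∨ N ∣ Fintype.card F ^ e + 1) :
    ∃ A : Matrix.symplecticGroup (Fin e) F, orderOf A = N := by
  obtain ⟨p, hp⟩ := CharP.exists F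
  have := Fact.mk (CharP.char_is_prime F p)
  obtain ⟨μ, h1, rfl, h3⟩ := spec_exists_torus_gen p (AlgebraicClosure F) he h
  obtain ⟨A, h4, h5⟩ := Stab.exists_sp (F := F) (R := specPM (Fintype.card F) μ e)
    ⟨fun a ha => (SpecOrb.of_mem_specPM ha).pow_eq_one (pow_orderOf_eq_one μ),
      specPM_map_pow h3, specPM_map_inv⟩ hN card_specPM
  exact ⟨A, Nat.dvd_antisymm (orderOf_dvd_of_pow_eq_one h4) (orderOf_dvd_of_pow_eq_one
    (pow_eq_one_of_mem_evs (x := specSp F e A) (by rw [← map_pow, pow_orderOf_eq_one, map_one])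
      (h5 ▸ self_mem_specPM he)))⟩

end Cfsg.Agent.Cl.SpO
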