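import Mathlib
import Cfsg.Agent.Cl.ClassSpONumD

/-!
# Unipotent isometries in characteristic two: successive approximation
-/

set_option autoImplicit false

namespace Cfsg.Agent.Cl.Two

open Module SpO QuadraticMap

variable {F V V' : Type*} [Field F] [AddCommGroup V] [Module F V] [AddCommGroup V'] [Module F V']
  {Q : QuadraticForm F V} {g : End F V} {Q' : QuadraticForm F V'} {g' : End F V'} {h : ℕ}

/-- The `j`-th power of `g - 1`. -/
def nn (g : End F V) (j : ℕ) : End F V := (g - 1) ^ j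

@[simp] theorem nn_zero (v : V) : nn g 0 v = v := rfl

theorem nn_nn (a b : ℕ) (v : V) : nn g a (nn g b v) = nn g (a + b) v := by
  rw [nn, nn, nn, pow_add]; rfl

theorem apply_eq (v : V) : g v = nn g 1 v + v := by simp [nn]

theorem apply_nn (j : ℕ) (v : V) : g (nn g j v) = nn g j (g v) := apply_sub_one_pow_comm g j v

theorem coe_nn {U : Submodule F V} (hU : ∀ u ∈ U, g u ∈ U) (j : ℕ) (u : U) :
    (nn (g.restrict hU) j u : V) = nn g j u := coe_restrict_sub_one_pow hU j u

theorem q_add (x y : V) : Q (x + y) = Q x + Q y + Q.polarBilin x y := by simp [polar]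

theorem q_smul (c : F) (x : V) : Q (c • x) = c ^ 2 * Q x := by
  rw [QuadraticMap.map_smul, smul_eq_mul, pow_two]

theorem b_comm (x y : V) : Q.polarBilin x y = Q.polarBilin y x := polar_comm _ _ _

/-- A unipotent isometry of a nondegenerate quadratic form. -/
structure Uni (Q : QuadraticForm F V) (g : End F V) (h : ℕ) : Prop where
  nd : Q.polarBilin.Nondegenerate
  iso : ∀ v, Q (g v) = Q v
  nil : ∀ v, nn g h v = 0

theorem isom_of_iso (hg : ∀ v, Q (g v) = Q v) : IsIsom Q.polarBilin g :=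
  fun x y => o_polar_congr g hg x y

theorem Uni.isom (H : Uni Q g h) : IsIsom Q.polarBilin g := isom_of_iso H.iso

theorem Uni.nil_le (H : Uni Q g h) {j : ℕ} (hj : h ≤ j) (v : V) : nn g j v = 0 := by
  obtain ⟨k, rfl⟩ := Nat.exists_eq_add_of_le hj
  rw [← nn_nn, H.nil]

theorem Uni.pow_eq (H : Uni Q g h) : (g - 1) ^ h = 0 := LinearMap.ext H.nil

@[elab_as_elim]
theorem down_ind {P : ℕ → Prop} (h : ℕ) (h1 : ∀ a, h ≤ a → P a) (h2 : ∀ a, P (a + 1) → P a)
    (a : ℕ) : P a := by
  have : ∀ d a, h ≤ a + d → P a := fun d => by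
    induction d with
    | zero => exact h1
    | succ d ih => exact fun a ha => h2 a (ih _ (by omega))
  exact this h a (by omega)

theorem exists_gram {ι : Type*} {B : LinearMap.BilinForm F V} {B' : LinearMap.BilinForm F V'}
    (hB : B.Nondegenerate) (hB' : B'.Nondegenerate) {f : ι → V} {f' : ι → V'}
    (hf : Submodule.span F (Set.range f) = ⊤) (hf' : Submodule.span F (Set.range f') = ⊤)
    (hG : ∀ i k, B' (f' i) (f' k) = B (f i) (f k)) :
    ∃ e : V ≃ₗ[F] V', (∀ i, e (f i) = f' i) ∧ ∀ x y, B' (e x) (e y) = B x y := by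
  let L := Finsupp.linearCombination F f
  let L' := Finsupp.linearCombination F f'
  have hL : Function.Surjective L := by
    rw [← LinearMap.range_eq_top, Finsupp.range_linearCombination, hf]
  have hL' : Function.Surjective L' := by
    rw [← LinearMap.range_eq_top, Finsupp.range_linearCombination, hf']
  have h1 : ∀ x y, B' (L' x) (L' y) = B (L x) (L y) := fun x y => by
    have : B'.compl₁₂ L' L' = B.compl₁₂ L L := by
      ext i k; simp [L, L', hG]
    exact LinearMap.congr_fun₂ this x y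
  have h2 : LinearMap.ker L = LinearMap.ker L' := by
    ext x
    refine ⟨fun hx => hB'.1 _ fun y => ?_, fun hx => hB.1 _ fun y => ?_⟩
    · obtain ⟨y, rfl⟩ := hL' y
      rw [h1, LinearMap.mem_ker.1 hx, map_zero, LinearMap.zero_apply]
    · obtain ⟨y, rfl⟩ := hL y
      rw [← h1, LinearMap.mem_ker.1 hx, map_zero, LinearMap.zero_apply]
  let e := (L.quotKerEquivOfSurjective hL).symm ≪≫ₗ Submodule.quotEquivOfEq _ _ h2 ≪≫ₗ
    L'.quotKerEquivOfSurjective hL'
  have h3 : ∀ x, e (L x) = L' x := fun x => by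
    have : (L.quotKerEquivOfSurjective hL).symm (L x) = Submodule.Quotient.mk x :=
      (LinearEquiv.symm_apply_eq _).2 rfl
    simp only [e, LinearEquiv.trans_apply, this]
    rfl
  refine ⟨e, fun i => by simpa [L, L'] using h3 (Finsupp.single i 1), fun x y => ?_⟩
  obtain ⟨x, rfl⟩ := hL x
  obtain ⟨y, rfl⟩ := hL y
  rw [h3, h3, h1]

variable [CharP F 2]

theorem b_self (x : V) : Q.polarBilin x x = 0 := by
  rw [polarBilin_apply_apply, o_polar_self, CharTwo.two_eq_zero, zero_mul]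

theorem b_step (hg : IsIsom Q.polarBilin g) (a b : ℕ) (x y : V) :
    Q.polarBilin (nn g a x) (nn g (b + 1) y) = Q.polarBilin (nn g (a + 1) x) (nn g (b + 1) y) +
      Q.polarBilin (nn g (a + 1) x) (nn g b y) := by
  have := hg (nn g a x) (nn g b y)
  rw [apply_eq (nn g a x), apply_eq (nn g b y), nn_nn, nn_nn, add_comm 1, add_comm 1] at this
  simp only [map_add, LinearMap.add_apply] at this
  linear_combination this - (Q.polarBilin (nn g (a + 1) x) (nn g (b + 1) y) +
    Q.polarBilin (nn g (a + 1) x) (nn g b y)) * CharTwo.two_eq_zero (R := F)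

theorem q_succ (hg : ∀ v, Q (g v) = Q v) (j : ℕ) (x : V) :
    Q (nn g (j + 1) x) = Q.polarBilin (nn g (j + 1) x) (nn g j x) := by
  have := hg (nn g j x)
  rw [apply_eq (nn g j x), nn_nn, add_comm 1, q_add] at this
  linear_combination this - Q.polarBilin (nn g (j + 1) x) (nn g j x) * CharTwo.two_eq_zero (R := F)

theorem b_move (hg : IsIsom Q.polarBilin g) {a b : ℕ} (hab : a + b = h) {u : V}
    (hu : nn g (h + 1) u = 0) (v : V) :
    Q.polarBilin (nn g a u) (nn g b v) = Q.polarBilin (nn g h u) v := by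
  subst hab
  rw [nn, nn, nn, hg.move hu, CharTwo.neg_eq, one_pow, one_mul]

theorem Uni.mv (H : Uni Q g (h + 1)) {a b : ℕ} (hab : a + b = h) (u v : V) :
    Q.polarBilin (nn g a u) (nn g b v) = Q.polarBilin (nn g h u) v :=
  b_move H.isom hab (H.nil u) v

theorem Uni.mz (H : Uni Q g h) {a b : ℕ} (hab : h ≤ a + b) (u v : V) :
    Q.polarBilin (nn g a u) (nn g b v) = 0 := by
  rw [b_move H.isom rfl (H.nil_le (by omega) u), H.nil_le hab, map_zero, LinearMap.zero_apply]

theorem Uni.qz (H : Uni Q g h) {j : ℕ} (hj : h + 1 ≤ 2 * j) (x : V) : Q (nn g j x) = 0 := by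
  obtain ⟨i, rfl⟩ : ∃ i, j = i + 1 := ⟨j - 1, by omega⟩
  rw [q_succ H.iso, H.mz (by omega)]

theorem Uni.symm (H : Uni Q g (h + 1)) (u v : V) :
    Q.polarBilin (nn g h u) v = Q.polarBilin (nn g h v) u := by
  rw [← H.mv (zero_add h), b_comm]; rfl

theorem Uni.even_self (H : Uni Q g (h + 1)) {r : ℕ} (hr : h ≤ 2 * r) (v : V) :
    Q.polarBilin (nn g (2 * r) v) v = 0 := by
  rw [← b_move H.isom (two_mul r).symm (H.nil_le (by omega) v), b_self]

theorem Uni.odd_self {k : ℕ} (H : Uni Q g (2 * k + 1 + 1)) (v : V) :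
    Q.polarBilin (nn g (2 * k + 1) v) v = Q (nn g (k + 1) v) := by
  rw [q_succ H.iso, H.mv (by omega)]

/-- The Gram data of one orbit. -/
theorem gram_self (hg : ∀ v, Q (g v) = Q v) (hg' : ∀ v, Q' (g' v) = Q' v) {u : V} {u' : V'}
    (hq : ∀ j, Q' (nn g' (j + 1) u') = Q (nn g (j + 1) u)) (a b : ℕ) :
    Q'.polarBilin (nn g' a u') (nn g' b u') = Q.polarBilin (nn g a u) (nn g b u) := by
  have key : ∀ d a, Q'.polarBilin (nn g' a u') (nn g' (a + d) u') =
      Q.polarBilin (nn g a u) (nn g (a + d) u) := by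
    intro d
    induction d using Nat.twoStepInduction with
    | zero => exact fun a => by rw [add_zero, b_self, b_self]
    | one => exact fun a => by rw [b_comm, ← q_succ hg', b_comm, ← q_succ hg, hq]
    | more d h1 h2 =>
      intro a
      have e1 := h1 (a + 1)
      have e2 := h2 (a + 1)
      rw [show a + 1 + d = a + (d + 1) by omega] at e1
      rw [show a + 1 + (d + 1) = a + (d + 1) + 1 by omega] at e2
      rw [show a + (d + 2) = a + (d + 1) + 1 by omega, b_step (isom_of_iso hg),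
        b_step (isom_of_iso hg'), e1, e2]
  rcases le_total a b with hab | hab <;> obtain ⟨d, rfl⟩ := Nat.exists_eq_add_of_le hab
  · exact key d a
  · rw [b_comm, key, b_comm]

/-- The Gram data of two orbits. -/
theorem gram_cross (H : Uni Q g h) (H' : Uni Q' g' h) {u v : V} {u' v' : V'}
    (hc : ∀ j, Q'.polarBilin (nn g' j u') v' = Q.polarBilin (nn g j u) v) (b a : ℕ) :
    Q'.polarBilin (nn g' a u') (nn g' b v') = Q.polarBilin (nn g a u) (nn g b v) := by
  induction b generalizing a with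
  | zero => exact hc a
  | succ b ih =>
    exact down_ind h (fun a ha => by rw [H.mz (by omega), H'.mz (by omega)])
      (fun a ih2 => by rw [b_step H.isom, b_step H'.isom, ih, ih2]) a

/-- The vectors orthogonal to the orbit of `u`. -/
def perp (Q : QuadraticForm F V) (g : End F V) (u : V) : Submodule F V where
  carrier := {x | ∀ j, Q.polarBilin (nn g j u) x = 0}
  add_mem' hx hy j := by rw [map_add, hx j, hy j, add_zero]
  zero_mem' j := map_zero _
  smul_mem' c x hx j := by rw [map_smul, hx j, smul_zero]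

theorem Uni.perp_inv (H : Uni Q g h) (u : V) : ∀ x ∈ perp Q g u, nn g 1 x ∈ perp Q g u :=
  fun x hx j => by
    simpa using gram_cross H H (u := u) (v := 0) (u' := u) (v' := x) (fun j => by
      rw [hx j, map_zero]) 1 j

theorem Uni.exists_target (H : Uni Q g (h + 1)) {u v : V} (hβ : Q.polarBilin (nn g h u) v ≠ 0)
    (t : ℕ → F) : ∃ y, ∀ j < h, Q.polarBilin (nn g j u) (nn g 1 y) = t j := by
  have key : ∀ i ≤ h, ∃ y, ∀ j < h, h ≤ j + i → Q.polarBilin (nn g j u) (nn g 1 y) = t j := by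
    intro i
    induction i with
    | zero => exact fun _ => ⟨0, fun j _ _ => by omega⟩
    | succ i ih =>
      intro hi
      obtain ⟨y, hy⟩ := ih (by omega)
      refine ⟨y + ((t (h - (i + 1)) - Q.polarBilin (nn g (h - (i + 1)) u) (nn g 1 y)) /
        Q.polarBilin (nn g h u) v) • nn g i v, fun j h1 h2 => ?_⟩
      rw [map_add, map_add, map_smul, map_smul, nn_nn, smul_eq_mul]
      by_cases h3 : h ≤ j + i
      · rw [hy j h1 h3, H.mz (a := j) (by omega), mul_zero, add_zero]
      · rw [show h - (i + 1) = j by omega, H.mv (a := j) (b := 1 + i) (by omega),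
          div_mul_cancel₀ _ hβ, add_sub_cancel]
  exact (key h le_rfl).imp fun y hy j hj => hy j hj (by omega)

theorem Uni.exists_perp (H : Uni Q g (h + 1)) {u v : V} (hβ : Q.polarBilin (nn g h u) v ≠ 0)
    (w : V) : ∃ y, ∀ j, Q.polarBilin (nn g j u) (w + nn g 1 y) =
      if j = h then Q.polarBilin (nn g h u) w else 0 := by
  obtain ⟨y, hy⟩ := H.exists_target hβ fun j => -Q.polarBilin (nn g j u) w
  refine ⟨y, fun j => ?_⟩
  rcases lt_trichotomy j h with hj | rfl | hj
  · rw [map_add, hy j hj, if_neg hj.ne, add_neg_cancel]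
  · rw [map_add, H.mz le_rfl, if_pos rfl, add_zero]
  · rw [H.nil_le hj, if_neg hj.ne', map_zero, LinearMap.zero_apply]

variable [FiniteDimensional F V]

theorem Uni.exists_s (H : Uni Q g (h + 1)) {M : Submodule F V} (hM : ∀ x ∈ M, nn g 1 x ∈ M)
    {w : V} (hw : w ∈ M) : ∃ w' ∈ M, nn g h w' = 0 ∧ (∀ j, Q (nn g j w') = Q (nn g (j + 2) w)) ∧
      ∀ j u, Q.polarBilin (nn g j u) (nn g j w') =
        Q.polarBilin (nn g (j + 1) u) (nn g (j + 1) w) := by
  have h1 : ∀ x ∈ M, g x ∈ M := fun x hx => apply_eq (g := g) x ▸ add_mem (hM x hx) hx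
  have h2 := H.isom.injective H.nd
  obtain ⟨⟨w', hw'⟩, h3⟩ := LinearMap.injective_iff_surjective.1
    (show Function.Injective (g.restrict h1) from fun x y e => Subtype.ext
      (h2 (congrArg Subtype.val e))) ⟨_, hM _ (hM _ hw)⟩
  have h4 : ∀ j, g (nn g j w') = nn g (j + 2) w := fun j => by
    rw [apply_nn, show g w' = _ from congrArg Subtype.val h3, nn_nn, nn_nn]
  refine ⟨w', hw', h2 (by rw [h4, map_zero, H.nil_le (by omega)]), fun j => by
    rw [← h4, H.iso], fun j u => ?_⟩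
  rw [← H.isom, h4, apply_eq (nn g j u), nn_nn, add_comm 1, map_add, LinearMap.add_apply,
    b_step H.isom j (j + 1), ← add_assoc, CharTwo.add_self_eq_zero, zero_add]

theorem Uni.hensel' (H : Uni Q g (h + 1)) {M : Submodule F V} (hM : ∀ x ∈ M, nn g 1 x ∈ M)
    (l : ℕ) : ∀ {u w : V}, w ∈ M → (∀ j, l < j → Q.polarBilin (nn g j u) (nn g j w) = 0) →
      Q.polarBilin (nn g l u) (nn g l w) ≠ 0 → (∀ j, l < j → Q (nn g j w) = 0) →
      ∃ x ∈ M, nn g h x = 0 ∧ (∀ j < l, Q (nn g j (u + x)) = 0) ∧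
        ∀ j, l ≤ j → Q (nn g j (u + x)) = Q (nn g j u) := by
  induction l with
  | zero => exact fun _ _ _ _ => ⟨0, zero_mem _, map_zero _, by simp, by simp⟩
  | succ l ih =>
    intro u w hw h1 h2 h3
    obtain ⟨w', a1, a2, a3, a4⟩ := H.exists_s hM hw
    obtain ⟨y, hy⟩ : ∃ y, Q (nn g l u) + y * Q.polarBilin (nn g (l + 1) u) (nn g (l + 1) w) = 0 :=
      ⟨-Q (nn g l u) / _, by rw [div_mul_cancel₀ _ h2, add_neg_cancel]⟩
    have h4 : ∀ j, Q.polarBilin (nn g j (u + y • w')) (nn g j w') =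
        Q.polarBilin (nn g (j + 1) u) (nn g (j + 1) w) := fun j => by
      simp only [map_add, map_smul, LinearMap.add_apply, LinearMap.smul_apply, b_self,
        smul_zero, add_zero]
      exact a4 j u
    have h5 : ∀ j, l ≤ j → Q (nn g j (u + y • w')) =
        Q (nn g j u) + y * Q.polarBilin (nn g (j + 1) u) (nn g (j + 1) w) := fun j hj => by
      rw [map_add, map_smul, q_add, q_smul, a3, h3 _ (by omega), map_smul, a4, mul_zero, add_zero,
        smul_eq_mul]
    obtain ⟨x, b1, b2, b3, b4⟩ := ih (u := u + y • w') a1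
      (fun j hj => by rw [h4, h1 _ (by omega)]) (h4 l ▸ h2) fun j hj => by rw [a3, h3 _ (by omega)]
    refine ⟨y • w' + x, add_mem (M.smul_mem _ a1) b1, by simp [a2, b2], fun j hj => ?_,
      fun j hj => ?_⟩ <;> rw [← add_assoc]
    · rcases (Nat.lt_succ_iff.1 hj).lt_or_eq with hj | rfl
      exacts [b3 j hj, by rw [b4 j le_rfl, h5 j le_rfl, hy]]
    · rw [b4 j (by omega), h5 j (by omega), h1 _ (by omega), mul_zero, add_zero]

theorem Uni.hensel (H : Uni Q g (h + 1)) {M : Submodule F V} (hM : ∀ x ∈ M, nn g 1 x ∈ M)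
    {l : ℕ} {u w : V} (hw : w ∈ M) (h1 : ∀ j, l < j → Q.polarBilin (nn g j u) (nn g j w) = 0)
    (h2 : Q.polarBilin (nn g l u) (nn g l w) ≠ 0) (h3 : ∀ j, l ≤ j → Q (nn g j w) = 0) :
    ∃ (y : F) (x : V), x ∈ M ∧ nn g h x = 0 ∧ (∀ j ≤ l, Q (nn g j (u + y • w + x)) = 0) ∧
      ∀ j, l < j → Q (nn g j (u + y • w + x)) = Q (nn g j u) := by
  obtain ⟨y, hy⟩ : ∃ y, Q (nn g l u) + y * Q.polarBilin (nn g l u) (nn g l w) = 0 :=
    ⟨-Q (nn g l u) / _, by rw [div_mul_cancel₀ _ h2, add_neg_cancel]⟩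
  have h4 : ∀ j, Q.polarBilin (nn g j (u + y • w)) (nn g j w) =
      Q.polarBilin (nn g j u) (nn g j w) := fun j => by
    simp only [map_add, map_smul, LinearMap.add_apply, LinearMap.smul_apply, b_self,
      smul_zero, add_zero]
  have h5 : ∀ j, l ≤ j → Q (nn g j (u + y • w)) =
      Q (nn g j u) + y * Q.polarBilin (nn g j u) (nn g j w) := fun j hj => by
    rw [map_add, map_smul, q_add, q_smul, h3 _ hj, map_smul, mul_zero, add_zero, smul_eq_mul]
  obtain ⟨x, b1, b2, b3, b4⟩ := H.hensel' hM l (u := u + y • w) hw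
    (fun j hj => by rw [h4, h1 _ hj]) (h4 l ▸ h2) fun j hj => h3 _ hj.le
  refine ⟨y, x, b1, b2, fun j hj => ?_, fun j hj => ?_⟩
  · rcases hj.lt_or_eq with hj | rfl
    exacts [b3 j hj, by rw [b4 j le_rfl, h5 j le_rfl, hy]]
  · rw [b4 j hj.le, h5 j hj.le, h1 _ hj, mul_zero, add_zero]

end Cfsg.Agent.Cl.Two
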