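import Mathlib
import Cfsg.Agent.Cl.ClassTwoA

/-!
# Unipotent isometries in characteristic two: the indecomposable pieces
-/

set_option autoImplicit false

namespace Cfsg.Agent.Cl.Two

open Module SpO QuadraticMap

universe v

variable {F V V' : Type*} [Field F] [AddCommGroup V] [Module F V] [AddCommGroup V'] [Module F V']
  {Q : QuadraticForm F V} {g : End F V} {Q' : QuadraticForm F V'} {g' : End F V'} {h : ℕ}
  [Finite F] [CharP F 2]

variable (F) in
theorem exists_asn : ∃ α : F, (∀ t, t ^ 2 + t ≠ α) ∧ ∀ c, (∀ t, t ^ 2 + t ≠ c) →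
    ∃ t, t ^ 2 + t = c + α := by
  obtain ⟨H, h1, h2⟩ := quad_artinSchreier_index (F := F) CharTwo.two_eq_zero
  obtain ⟨α, hα⟩ : ∃ α, α ∉ H := by
    by_contra! h3
    rw [(AddSubgroup.eq_top_iff' H).2 h3, AddSubgroup.index_top] at h1
    omega
  exact ⟨α, fun t ht => hα ((h2 α).2 ⟨t, ht⟩), fun c hc => (h2 _).1
    ((AddSubgroup.add_mem_iff_of_index_two h1).2 (iff_of_false
      (fun h => ((h2 c).1 h).elim hc) hα))⟩

variable (F) in
/-- A fixed element outside the image of `t ↦ t² + t`. -/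
noncomputable def asn : F := (exists_asn F).choose

theorem asn_ne (t : F) : t ^ 2 + t ≠ asn F := (exists_asn F).choose_spec.1 t

theorem exists_asn_eq (c : F) : ∃ (b : Bool) (t : F), c + t ^ 2 + t = if b then asn F else 0 := by
  by_cases hc : ∃ t, t ^ 2 + t = c
  · obtain ⟨t, rfl⟩ := hc
    exact ⟨false, t, by rw [add_assoc, CharTwo.add_self_eq_zero]; rfl⟩
  · obtain ⟨t, ht⟩ := (exists_asn F).choose_spec.2 c (not_exists.1 hc)
    exact ⟨true, t, by rw [add_assoc, ht, ← add_assoc, CharTwo.add_self_eq_zero, zero_add]; rfl⟩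

theorem exists_sq_mul {a : F} (ha : a ≠ 0) (c : F) : ∃ y : F, y ^ 2 * a = c := by
  obtain ⟨y, hy⟩ := quad_isSquare_of_two_eq_zero CharTwo.two_eq_zero (c / a)
  exact ⟨y, by rw [pow_two, ← hy, div_mul_cancel₀ _ ha]⟩

variable (F) in
/-- Values of the form along the orbit of the first generator. -/
noncomputable def qu (p : ℕ × Bool) (j : ℕ) : F :=
  if p.1 % 2 = 1 ∧ j = p.1 / 4 + 1 then 1 else
    if p.2 ∧ j = p.1 / 4 then (if p.1 % 2 = 1 then asn F else 1) else 0

variable (F) in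
/-- Values of the form along the orbit of the second generator. -/
noncomputable def qv (p : ℕ × Bool) (j : ℕ) : F :=
  if p.1 % 2 = 0 ∧ p.2 ∧ j = p.1 / 4 then asn F else 0

/-- Half the dimension of a piece. -/
def wt (r : ℕ) : ℕ := if r % 2 = 0 then r / 2 + 1 else r / 4 + 1

/-- Standard generators.  Rank `2h` stands for two Jordan blocks of size `h + 1`, rank `4k + 1`
for one block of size `2k + 2`. -/
structure Dat (Q : QuadraticForm F V) (g : End F V) (p : ℕ × Bool) (u v : V) : Prop where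
  nu : nn g ((p.1 + 1) / 2 + 1) u = 0
  hu : ∀ j, Q (nn g j u) = qu F p j
  hv : ∀ j, Q (nn g j v) = qv F p j
  hc : ∀ j, Q.polarBilin (nn g j u) v = if p.1 % 2 = 0 ∧ j = p.1 / 2 then 1 else 0

/-- An indecomposable piece. -/
structure IsPiece (p : ℕ × Bool) (Q : QuadraticForm F V) (g : End F V) : Prop where
  uni : Uni Q g ((p.1 + 1) / 2 + 1)
  dim : finrank F V = 2 * wt p.1
  hom : ∀ x, nn g ((p.1 + 1) / 2) x = 0 → ∃ y, nn g 1 y = x
  gen : ∃ u v, Dat Q g p u v ∧ ∀ x, ∃ (s t : F) (y : V), x = s • u + t • v + nn g 1 y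

/-- Forget the bit of the pieces of the lowest node. -/
def er (p : ℕ × Bool) : ℕ × Bool := (p.1, p.2 && decide (4 ≤ p.1))

/-- Isometry of the polar forms carrying `g` to `g'`; under `P` also of the quadratic forms. -/
def IsoP (P : Prop) (Q : QuadraticForm F V) (g : End F V) (Q' : QuadraticForm F V')
    (g' : End F V') : Prop :=
  ∃ e : V ≃ₗ[F] V', (∀ x y, Q'.polarBilin (e x) (e y) = Q.polarBilin x y) ∧
    (∀ x, e (g x) = g' (e x)) ∧ (P → ∀ x, Q' (e x) = Q x)

omit [Finite F] [CharP F 2] in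
theorem Uni.span_eq (H : Uni Q g h) {u v : V}
    (hs : ∀ x, ∃ (s t : F) (y : V), x = s • u + t • v + nn g 1 y) :
    Submodule.span F (Set.range fun i : ℕ × Bool => nn g i.1 (cond i.2 u v)) = ⊤ := by
  have : ∀ j x, nn g j x ∈
      Submodule.span F (Set.range fun i : ℕ × Bool => nn g i.1 (cond i.2 u v)) := fun j =>
    down_ind h (fun a ha x => by rw [H.nil_le ha]; exact zero_mem _) (fun a ih x => by
      obtain ⟨s, t, y, rfl⟩ := hs x
      rw [map_add, map_add, map_smul, map_smul, nn_nn]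
      exact add_mem (add_mem (Submodule.smul_mem _ _ (Submodule.subset_span ⟨(a, true), rfl⟩))
        (Submodule.smul_mem _ _ (Submodule.subset_span ⟨(a, false), rfl⟩))) (ih y)) j
  exact eq_top_iff.2 fun x _ => this 0 x

theorem IsPiece.iso {p p' : ℕ × Bool} {P : Prop} (H : IsPiece p Q g) (H' : IsPiece p' Q' g')
    (he : er p = er p') (hP : P → p = p') : IsoP P Q g Q' g' := by
  obtain ⟨u, v, D, hs⟩ := H.gen
  obtain ⟨u', v', D', hs'⟩ := H'.gen
  obtain ⟨r, b⟩ := p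
  obtain ⟨r', b'⟩ := p'
  obtain ⟨rfl, hb⟩ := Prod.mk.inj he
  have h1 : ∀ j, Q' (nn g' (j + 1) u') = Q (nn g (j + 1) u) ∧
      Q' (nn g' (j + 1) v') = Q (nn g (j + 1) v) := fun j => by
    rw [D.hu, D'.hu, D.hv, D'.hv]
    by_cases h4 : 4 ≤ r
    · obtain rfl : b = b' := by simpa [h4] using hb
      exact ⟨rfl, rfl⟩
    · simp [qu, qv, show r / 4 = 0 by omega]
  have h2 := gram_cross H.uni H'.uni (u := u) (v := v) (u' := u') (v' := v') fun j => by
    rw [D.hc, D'.hc]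
  have h3 := H.uni.span_eq hs
  obtain ⟨e, e1, e2⟩ := exists_gram H.uni.nd H'.uni.nd h3 (H'.uni.span_eq hs') (by
    rintro ⟨i, _ | _⟩ ⟨k, _ | _⟩
    · exact gram_self H.uni.iso H'.uni.iso (fun j => (h1 j).2) i k
    · exact (b_comm _ _).trans ((h2 i k).trans (b_comm _ _))
    · exact h2 k i
    · exact gram_self H.uni.iso H'.uni.iso (fun j => (h1 j).1) i k)
  refine ⟨e, e2, fun x => ?_, fun hp x => ?_⟩
  · have : (e : V →ₗ[F] V') ∘ₗ nn g 1 = nn g' 1 ∘ₗ e := LinearMap.ext_on_range h3 fun i => by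
      simp only [LinearMap.comp_apply, LinearEquiv.coe_coe, e1, nn_nn]
      exact e1 (1 + i.1, i.2)
    rw [apply_eq x, apply_eq (e x), map_add]
    exact congrArg (· + _) (LinearMap.congr_fun this x)
  · obtain rfl : b = b' := (Prod.mk.inj (hP hp)).2
    refine Submodule.span_induction (p := fun x _ => Q' (e x) = Q x) ?_ (by simp)
      (fun x y _ _ hx hy => by rw [map_add, q_add, q_add, hx, hy, e2])
      (fun c x _ hx => by rw [map_smul, q_smul, q_smul, hx]) (h3 ▸ Submodule.mem_top (x := x))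
    rintro _ ⟨⟨i, _ | _⟩, rfl⟩ <;> rw [e1]
    exacts [(D'.hv i).trans (D.hv i).symm, (D'.hu i).trans (D.hu i).symm]

variable [FiniteDimensional F V]

theorem Uni.normV {k : ℕ} (H : Uni Q g (2 * k + 1 + 1)) {u : V} {b : Bool}
    (h1 : Q (nn g (k + 1) u) = 1) (h2 : Q (nn g k u) = if b then asn F else 0) :
    ∃ u', Dat Q g (4 * k + 1, b) u' 0 := by
  have h3 : ∀ j, Q.polarBilin (nn g j u) (nn g j (nn g 1 u)) = Q (nn g (j + 1) u) := fun j => by
    rw [nn_nn, q_succ H.iso, b_comm]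
  obtain ⟨x, -, -, a1, a2⟩ := H.hensel' (M := ⊤) (fun _ _ => trivial) k (u := u) (w := nn g 1 u)
    trivial (fun j hj => by rw [h3, H.qz (by omega)]) (by rw [h3, h1]; exact one_ne_zero)
    fun j hj => by rw [nn_nn, H.qz (by omega)]
  refine ⟨u + x, H.nil_le (by simp only; omega) _, fun j => ?_, fun j => by
    simp [qv, Nat.add_mod, Nat.mul_mod], fun j => by simp [Nat.add_mod, Nat.mul_mod]⟩
  have e1 : (4 * k + 1) % 2 = 1 := by omega
  have e2 : (4 * k + 1) / 4 = k := by omega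
  simp only [qu, e1, e2, true_and, if_true]
  rcases lt_trichotomy j k with hj | rfl | hj
  · rw [a1 j hj, if_neg (by omega), if_neg (by omega)]
  · rw [a2 j le_rfl, h2]; simp
  · rw [a2 j hj.le]
    split_ifs with h4 h5
    exacts [h4 ▸ h1, by omega, H.qz (by omega) _]

omit [Finite F] [FiniteDimensional F V] in
theorem Uni.exists_dual (H : Uni Q g (h + 1)) {u v : V} (hβ : Q.polarBilin (nn g h u) v ≠ 0) :
    ∃ (c : F) (y : V), ∀ j, Q.polarBilin (nn g j u) (c • v + nn g 1 y) =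
      if j = h then 1 else 0 := by
  obtain ⟨y, hy⟩ := H.exists_perp hβ ((Q.polarBilin (nn g h u) v)⁻¹ • v)
  exact ⟨_, y, fun j => by rw [hy, map_smul, smul_eq_mul, inv_mul_cancel₀ hβ]⟩

theorem Uni.normW0 (H : Uni Q g (h + 1)) {u v : V} (hβ : Q.polarBilin (nn g h u) v ≠ 0)
    (hu : Q (nn g ((h + 1) / 2) u) = 0) (hv : Q (nn g ((h + 1) / 2) v) = 0) :
    ∃ u' v', Dat Q g (2 * h, false) u' v' := by
  have h0 : ∀ {x}, Q (nn g ((h + 1) / 2) x) = 0 → ∀ j, (h + 1) / 2 ≤ j → Q (nn g j x) = 0 :=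
    fun hx j hj => hj.eq_or_lt.elim (· ▸ hx) fun hj => H.qz (by omega) _
  have key : ∀ {M : Submodule F V}, (∀ x ∈ M, nn g 1 x ∈ M) → ∀ {u v : V}, nn g (h % 2) v ∈ M →
      Q.polarBilin (nn g h u) v ≠ 0 → Q (nn g ((h + 1) / 2) u) = 0 →
      Q (nn g ((h + 1) / 2) v) = 0 → ∃ x ∈ M, (∀ j, Q (nn g j (u + x)) = 0) ∧
        Q.polarBilin (nn g h (u + x)) v = Q.polarBilin (nn g h u) v := by
    intro M hM u v hm hβ hu hv
    obtain ⟨y, x, a1, a2, a3, a4⟩ := H.hensel hM (l := h / 2) (u := u) hm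
      (fun j hj => by rw [nn_nn, H.mz (by omega)]) (by rwa [nn_nn, H.mv (by omega)])
      fun j hj => by rw [nn_nn, h0 hv _ (by omega)]
    refine ⟨y • nn g (h % 2) v + x, add_mem (M.smul_mem _ hm) a1, fun j => ?_, ?_⟩
    · rw [← add_assoc]
      rcases le_or_gt j (h / 2) with hj | hj
      exacts [a3 j hj, by rw [a4 j hj, h0 hu j (by omega)]]
    · simp only [map_add, map_smul, a2, nn_nn, add_zero, LinearMap.add_apply, LinearMap.smul_apply]
      rw [show h + h % 2 = 2 * ((h + 1) / 2) by omega, H.even_self (by omega), smul_zero, add_zero]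
  obtain ⟨x, -, a1, a2⟩ := key (M := ⊤) (fun _ _ => trivial) trivial hβ hu hv
  obtain ⟨c, y, hc⟩ := H.exists_dual (a2 ▸ hβ :)
  have h1 : ∀ a b, Q.polarBilin (nn g a (u + x)) (nn g b (u + x)) = 0 := fun a b => by
    simpa using gram_self H.iso H.iso (u := 0) (u' := u + x) (fun j => by rw [a1]; simp) a b
  obtain ⟨z, b1, b2, -⟩ := key (H.perp_inv (u + x)) (u := c • v + nn g 1 y) (v := u + x)
    (fun j => h1 j _) (by rw [H.symm, hc, if_pos rfl]; exact one_ne_zero) (by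
      rw [map_add, map_smul, q_add, q_smul, hv, nn_nn, H.qz (by omega), map_smul,
        LinearMap.smul_apply, H.mz (by omega)]; simp) (a1 _)
  exact ⟨u + x, _, H.nil_le (by simp only; omega) _, fun j => by rw [a1]; simp [qu], fun j => by
    rw [b2]; simp [qv], fun j => by rw [map_add, hc, b1 j]; simp⟩

theorem Uni.normW1 {l : ℕ} (H : Uni Q g (2 * l + 1)) {u v : V}
    (hβ : Q.polarBilin (nn g (2 * l) u) v ≠ 0)
    (ha : ∀ x y, Q (nn g l x) = 0 → Q.polarBilin (nn g (2 * l) x) y = 0) :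
    ∃ u' v', Dat Q g (4 * l, true) u' v' := by
  obtain ⟨s, hs⟩ := exists_sq_mul (fun h => hβ (ha u v h)) 1
  have hs0 : s ≠ 0 := by rintro rfl; simp at hs
  have key : ∀ {M : Submodule F V}, (∀ x ∈ M, nn g 1 x ∈ M) → ∀ {u v : V}, v ∈ M →
      Q.polarBilin (nn g (2 * l) u) v ≠ 0 → ∃ x ∈ M, nn g (2 * l) x = 0 ∧
        ∀ j, Q (nn g j (u + x)) = if j = l then Q (nn g l u) else 0 := by
    intro M hM u v hm hβ
    obtain ⟨x, a1, a2, a3, a4⟩ := H.hensel' hM l (u := u) hm (fun j hj => H.mz (by omega) _ _)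
      (by rwa [H.mv (by omega)]) fun j hj => H.qz (by omega) _
    refine ⟨x, a1, a2, fun j => ?_⟩
    rcases lt_trichotomy j l with hj | rfl | hj
    exacts [by rw [a3 j hj, if_neg hj.ne], by rw [a4 j le_rfl, if_pos rfl],
      by rw [H.qz (by omega), if_neg hj.ne']]
  obtain ⟨x, -, a1, a2⟩ := key (M := ⊤) (fun _ _ => trivial) (u := s • u) (v := v) trivial
    (by simp [hs0, -polarBilin_apply_apply, hβ])
  rw [map_smul, q_smul, hs] at a2
  have hβ' : Q.polarBilin (nn g (2 * l) (s • u + x)) v ≠ 0 := by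
    simp [hs0, -polarBilin_apply_apply, hβ, a1]
  generalize s • u + x = u at a2 hβ'
  obtain ⟨c, y, hc⟩ := H.exists_dual hβ'
  generalize c • v + nn g 1 y = v at hc
  obtain ⟨y, hy⟩ := H.exists_perp hβ' u
  have h1 : u + nn g 1 y ∈ perp Q g u := fun j => by rw [hy, H.even_self le_rfl, ite_self]
  have h2 : Q (nn g l (u + nn g 1 y)) = 1 := by
    rw [map_add, q_add, a2, nn_nn, H.qz (by omega), H.mz (by omega)]; simp
  have h3 : Q.polarBilin (nn g (2 * l) (u + nn g 1 y)) v = 1 := by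
    rw [map_add, nn_nn, H.nil, add_zero, hc, if_pos rfl]
  generalize u + nn g 1 y = w at h1 h2 h3
  obtain ⟨b, t, ht⟩ := exists_asn_eq (Q (nn g l v))
  have h4 : Q (nn g l (v + t • w)) = if b then asn F else 0 := by
    rw [map_add, map_smul, q_add, q_smul, h2, map_smul, b_comm, H.mv (by omega), h3, ← ht]; simp
  have h5 : Q.polarBilin (nn g (2 * l) (v + t • w)) w ≠ 0 := by
    rw [H.symm, map_add, map_smul, h3, H.even_self le_rfl]; simp
  obtain rfl : b = true := by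
    by_contra hb
    exact h5 (ha _ _ (by rw [h4, if_neg hb]))
  obtain ⟨z, b1, -, b2⟩ := key (H.perp_inv u) h1 h5
  have e1 : 4 * l % 2 = 0 := by omega
  have e2 : 4 * l / 4 = l := by omega
  have e3 : 4 * l / 2 = 2 * l := by omega
  exact ⟨u, _, H.nil_le (by simp only; omega) _, fun j => by rw [a2]; simp [qu, e1, e2],
    fun j => by rw [b2, h4]; simp [qv, e1, e2],
    fun j => by rw [map_add, map_add, map_smul, hc, b1 j, h1 j]; simp [e1, e3]⟩

/-- Admissible labels. -/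
def Ok (p : ℕ × Bool) : Prop := p.1 % 4 ≠ 3 ∧ (p.2 → p.1 % 4 ≠ 2)

/-- An orthogonal invariant decomposition whose first summand is a piece. -/
def Cut (Q : QuadraticForm F V) (g : End F V) (p : ℕ × Bool) {U U' : Submodule F V}
    (hU : ∀ u ∈ U, g u ∈ U) (_ : ∀ u ∈ U', g u ∈ U') : Prop :=
  IsCompl U U' ∧ (∀ u ∈ U, ∀ w ∈ U', Q.polarBilin u w = 0) ∧
    IsPiece p (Q.comp U.subtype) (g.restrict hU)

omit [Finite F] [CharP F 2] [FiniteDimensional F V] in
theorem Uni.restrict (H : Uni Q g h) {U : Submodule F V} (hU : ∀ u ∈ U, g u ∈ U)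
    (hn : (LinearMap.BilinForm.restrict Q.polarBilin U).Nondegenerate) :
    Uni (Q.comp U.subtype) (g.restrict hU) h :=
  ⟨hn, fun v => H.iso v, fun v => Subtype.ext ((coe_nn hU h v).trans (H.nil v))⟩

omit [FiniteDimensional F V] in
theorem dat_coe {U : Submodule F V} (hU : ∀ u ∈ U, g u ∈ U) {p : ℕ × Bool} {u v : U} :
    Dat (Q.comp U.subtype) (g.restrict hU) p u v ↔ Dat Q g p u v := by
  have h1 : ∀ j (x : U), Q.comp U.subtype (nn (g.restrict hU) j x) = Q (nn g j x) :=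
    fun j x => congrArg Q (coe_nn hU j x)
  have h2 : ∀ j, (Q.comp U.subtype).polarBilin (nn (g.restrict hU) j u) v =
      Q.polarBilin (nn g j u) v := fun j => by rw [← coe_nn hU]; rfl
  exact ⟨fun D => ⟨by rw [← coe_nn hU, D.nu]; rfl, fun j => h1 j u ▸ D.hu j,
    fun j => h1 j v ▸ D.hv j, fun j => h2 j ▸ D.hc j⟩, fun D =>
    ⟨Subtype.ext ((coe_nn hU _ _).trans D.nu), fun j => (h1 j u).trans (D.hu j),
      fun j => (h1 j v).trans (D.hv j), fun j => (h2 j).trans (D.hc j)⟩⟩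

theorem Uni.exists_cut {p : ℕ × Bool} (hp : Ok p) (H : Uni Q g ((p.1 + 1) / 2 + 1)) {u v : V}
    (D : Dat Q g p u v) : ∃ (U U' : Submodule F V) (hU : ∀ u ∈ U, g u ∈ U)
      (hU' : ∀ u ∈ U', g u ∈ U'), Cut Q g p hU hU' ∧ u ∈ U := by
  have hε := isEps_polar Q
  obtain ⟨r, b⟩ := p
  obtain ⟨h1, h2⟩ := hp
  simp only at h1 h2 H
  rcases Nat.mod_two_eq_zero_or_one r with hr | hr
  · have e1 : (r + 1) / 2 = r / 2 := by omega
    have h3 : ∀ x, (∀ j, Q (nn g j x) = qu F (r, b) j) ∨ (∀ j, Q (nn g j x) = qv F (r, b) j) →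
        Q.polarBilin (nn g ((r + 1) / 2) x) x = 0 := fun x hx => by
      obtain ⟨k, hk | hk⟩ := Nat.even_or_odd' ((r + 1) / 2) <;> rw [hk] at H ⊢
      · exact H.even_self le_rfl x
      · obtain rfl : b = false := by by_contra hb; exact h2 (by simpa using hb) (by omega)
        rw [H.odd_self]
        rcases hx with hx | hx <;> simp [hx, qu, qv, hr]
    have h4 : Q.polarBilin (nn g ((r + 1) / 2) u) v = 1 := by rw [D.hc]; simp [hr, e1]
    obtain ⟨U, U', hU, hU', ι, a1, a2, a3, a4⟩ := exists_hom_split (h := (r + 1) / 2) H.nd hε H.isom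
      ((LinearMap.toSpanSingleton F V u).coprod (LinearMap.toSpanSingleton F V v))
      (fun w => H.nil _) fun y hy => by
        have e2 := hy (0, 1)
        have e3 := hy (1, 0)
        rw [beta_apply, ← nn] at e2 e3
        simp only [LinearMap.coprod_apply, LinearMap.toSpanSingleton_apply, zero_smul, one_smul,
          zero_add, add_zero, map_add, map_smul, LinearMap.add_apply, LinearMap.smul_apply, h4,
          h3 u (.inl D.hu), h3 v (.inr D.hv), ← H.symm u v, smul_eq_mul, mul_zero, mul_one] at e2 e3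
        exact Prod.ext e2 e3
    have e2 : (ι (1, 0) : V) = u := by simp [a3]
    have e3 : (ι (0, 1) : V) = v := by simp [a3]
    refine ⟨U, U', hU, hU', ⟨a1, a2, H.restrict hU (nondeg_left H.nd hε.isRefl a1 a2), ?_,
      fun x hx => by simpa [nn] using a4.ker_le_range hx, ι (1, 0), ι (0, 1),
      (dat_coe hU).2 (e2 ▸ e3 ▸ D), fun x => ?_⟩, e2 ▸ (ι (1, 0)).2⟩
    · rw [a4.finrank_eq, wt, if_pos hr, e1]; simp [mul_comm]
    · obtain ⟨w, rfl⟩ := a4.2.2 x
      obtain ⟨y, hy⟩ := phi_eq_add (g := g.restrict hU) (ι := ι) w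
      exact ⟨(w 0).1, (w 0).2, y, by rw [hy, ← map_smul, ← map_smul, ← map_add]; simp [nn]⟩
  · obtain ⟨k, rfl⟩ : ∃ k, r = 4 * k + 1 := ⟨r / 4, by omega⟩
    have e1 : (4 * k + 1 + 1) / 2 = 2 * k + 1 := by omega
    have e2 : (4 * k + 1) / 4 = k := by omega
    obtain ⟨U, U', hU, hU', ι, a1, a2, a3, a4⟩ := exists_block_split (h := (4 * k + 1 + 1) / 2)
      H.nd hε H.isom (H.nil u) (by
        rw [e1] at H ⊢
        rw [← nn, H.odd_self, D.hu]; simp [qu, hr, e2])
    refine ⟨U, U', hU, hU', ⟨a1, a2, H.restrict hU (nondeg_left H.nd hε.isRefl a1 a2), ?_,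
      fun x hx => by simpa [nn] using a4.ker_le_range hx, ι 1, 0,
      (dat_coe hU).2 ⟨a3 ▸ D.nu, a3 ▸ D.hu, fun j => by simp [qv, hr], fun j => by simp [hr]⟩,
      fun x => ?_⟩, a3 ▸ (ι 1).2⟩
    · rw [a4.finrank_eq, wt, if_neg (by omega), e1, e2, finrank_self]; ring
    · obtain ⟨w, rfl⟩ := a4.2.2 x
      obtain ⟨y, hy⟩ := phi_eq_add (g := g.restrict hU) (ι := ι) w
      exact ⟨w 0, 0, y, by rw [hy, ← map_smul]; simp [nn]⟩

end Cfsg.Agent.Cl.Two
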