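import Mathlib
import Cfsg.Agent.Cl.ClassTwoB

/-!
# Unipotent isometries in characteristic two: normal forms
-/

set_option autoImplicit false

namespace Cfsg.Agent.Cl.Two

open Module SpO QuadraticMap

universe v w

variable {F : Type*} [Field F] [Finite F] [CharP F 2]

/-- An orthogonal decomposition into pieces with the given labels. -/
def Form : List (ℕ × Bool) → ∀ (V : Type v) [AddCommGroup V] [Module F V],
    QuadraticForm F V → End F V → Prop
  | [], V, _, _, _, _ => Subsingleton V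
  | p :: d, V, _, _, Q, g => ∃ (U U' : Submodule F V) (hU : ∀ u ∈ U, g u ∈ U)
      (hU' : ∀ u ∈ U', g u ∈ U'), Cut Q g p hU hU' ∧
        Form d U' (Q.comp U'.subtype) (g.restrict hU')

/-- The relation between an earlier and a later label of a normal form. -/
def Rel (p p' : ℕ × Bool) : Prop :=
  p'.1 ≤ p.1 ∧ (p.2 → p'.1 < 4 * (p.1 / 4) ∧ p'.1 + 3 ≠ 4 * (p.1 / 4))

/-- Number of labels of rank `r`. -/
def cnt (d : List (ℕ × Bool)) (r : ℕ) : ℕ := d.countP (·.1 = r)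

/-- Normal forms. -/
structure Good (d : List (ℕ × Bool)) : Prop where
  pw : d.Pairwise Rel
  ok : ∀ p ∈ d, Ok p
  le : ∀ k, cnt d (4 * k + 1) ≤ 2

theorem cnt_cons (p : ℕ × Bool) (d : List (ℕ × Bool)) (r : ℕ) :
    cnt (p :: d) r = cnt d r + if p.1 = r then 1 else 0 := by simp [cnt, List.countP_cons]

theorem cnt_eq_zero {d : List (ℕ × Bool)} {r : ℕ} : cnt d r = 0 ↔ ∀ p ∈ d, p.1 ≠ r := by
  simp only [cnt, List.countP_eq_zero, decide_eq_true_eq]

theorem Good.cons {d : List (ℕ × Bool)} (H : Good d) {p : ℕ × Bool} (hp : Ok p)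
    (h1 : ∀ p' ∈ d, Rel p p') (h2 : p.1 % 4 = 1 → cnt d p.1 ≤ 1) : Good (p :: d) :=
  ⟨List.pairwise_cons.2 ⟨h1, H.pw⟩, List.forall_mem_cons.2 ⟨hp, H.ok⟩, fun k => by
    rw [cnt_cons]
    split_ifs with h
    · have := h2 (by omega)
      rw [h] at this; omega
    · exact H.le k⟩

theorem Good.tail {d : List (ℕ × Bool)} {p : ℕ × Bool} (H : Good (p :: d)) : Good d :=
  ⟨(List.pairwise_cons.1 H.pw).2, fun q hq => H.ok q (List.mem_cons_of_mem _ hq),
    fun k => le_trans (by rw [cnt_cons]; omega) (H.le k)⟩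

variable {V : Type v} [AddCommGroup V] [Module F V] {Q : QuadraticForm F V} {g : End F V} {h : ℕ}

theorem Form.exists_dat {d : List (ℕ × Bool)} : ∀ {V : Type v} [AddCommGroup V] [Module F V]
    {Q : QuadraticForm F V} {g : End F V}, Form d V Q g → ∀ p ∈ d, ∃ u v, Dat Q g p u v := by
  induction d with
  | nil => simp
  | cons p d ih =>
    rintro V _ _ Q g ⟨U, U', hU, hU', C, H⟩ q hq
    rcases List.mem_cons.1 hq with rfl | hq
    · obtain ⟨u, v, D, -⟩ := C.2.2.gen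
      exact ⟨u, v, (dat_coe hU).1 D⟩
    · obtain ⟨u, v, D⟩ := ih H q hq
      exact ⟨u, v, (dat_coe hU').1 D⟩

theorem Form.finrank_eq {d : List (ℕ × Bool)} : ∀ {V : Type v} [AddCommGroup V] [Module F V]
    [FiniteDimensional F V] {Q : QuadraticForm F V} {g : End F V}, Form d V Q g →
      finrank F V = 2 * (d.map fun p => wt p.1).sum := by
  induction d with
  | nil => exact fun H => have : Subsingleton _ := H; finrank_zero_of_subsingleton
  | cons p d ih =>
    rintro V _ _ _ Q g ⟨U, U', hU, hU', C, H⟩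
    rw [← Submodule.finrank_add_eq_of_isCompl C.1, ih H, C.2.2.dim, List.map_cons, List.sum_cons,
      mul_add]

omit [Finite F] [CharP F 2] in
theorem isoP_glue {V' : Type*} [AddCommGroup V'] [Module F V'] {Q' : QuadraticForm F V'}
    {g' : End F V'} {P : Prop} {U W : Submodule F V} {U' W' : Submodule F V'} (hc : IsCompl U W)
    (hc' : IsCompl U' W') (ho : ∀ u ∈ U, ∀ w ∈ W, Q.polarBilin u w = 0)
    (ho' : ∀ u ∈ U', ∀ w ∈ W', Q'.polarBilin u w = 0) {hU : ∀ u ∈ U, g u ∈ U}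
    {hW : ∀ u ∈ W, g u ∈ W} {hU' : ∀ u ∈ U', g' u ∈ U'} {hW' : ∀ u ∈ W', g' u ∈ W'}
    (h₁ : IsoP P (Q.comp U.subtype) (g.restrict hU) (Q'.comp U'.subtype) (g'.restrict hU'))
    (h₂ : IsoP P (Q.comp W.subtype) (g.restrict hW) (Q'.comp W'.subtype) (g'.restrict hW')) :
    IsoP P Q g Q' g' := by
  obtain ⟨e₁, a1, a2, a3⟩ := h₁
  obtain ⟨e₂, b1, b2, b3⟩ := h₂
  exact ⟨glue hc hc' e₁ e₂, glue_isometry hc hc' e₁ e₂
    (fun u w => ⟨ho u u.2 w w.2, (b_comm _ _).trans (ho u u.2 w w.2)⟩)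
    (fun u w => ⟨ho' u u.2 w w.2, (b_comm _ _).trans (ho' u u.2 w w.2)⟩) a1 b1,
    glue_intertwine hc hc' e₁ e₂ hU hW (fun u => congrArg Subtype.val (a2 u))
      fun u => congrArg Subtype.val (b2 u),
    fun hp => glue_isometryQ hc hc' e₁ e₂ (fun u w => ho u u.2 w w.2)
      (fun u w => ho' u u.2 w w.2) (a3 hp) (b3 hp)⟩

theorem Form.iso {P : Prop} {d : List (ℕ × Bool)} : ∀ {d' : List (ℕ × Bool)} {V : Type v}
    [AddCommGroup V] [Module F V] {Q : QuadraticForm F V} {g : End F V} {V' : Type w}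
    [AddCommGroup V'] [Module F V'] {Q' : QuadraticForm F V'} {g' : End F V'}, Form d V Q g →
    Form d' V' Q' g' → d.map er = d'.map er → (P → d = d') → IsoP P Q g Q' g' := by
  induction d with
  | nil =>
    rintro (_ | ⟨p', d'⟩) V _ _ Q g V' _ _ Q' g' H H' he -
    · have : Subsingleton V := H
      have : Subsingleton V' := H'
      exact ⟨LinearEquiv.ofSubsingleton V V', fun x y => by simp [Subsingleton.elim x 0],
        fun _ => Subsingleton.elim _ _, fun _ x => by simp [Subsingleton.elim x 0]⟩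
    · simp at he
  | cons p d ih =>
    rintro (_ | ⟨p', d'⟩) V _ _ Q g V' _ _ Q' g' ⟨U, W, hU, hW, C, H⟩ H' he hP
    · simp at he
    obtain ⟨U', W', hU', hW', C', H'⟩ := H'
    obtain ⟨e1, e2⟩ := List.cons.inj he
    exact isoP_glue C.1 C'.1 C.2.1 C'.2.1 (C.2.2.iso C'.2.2 e1 fun h => (List.cons.inj (hP h)).1)
      (ih H H' e2 fun h => (List.cons.inj (hP h)).2)

theorem Form.not_adj {d : List (ℕ × Bool)} (H : Form d V Q g) (hg : ∀ v, Q (g v) = Q v) {k : ℕ}
    (hk : ∀ w, Q (nn g (k + 1) w) = 0 → Q (nn g k w) = 0) {p : ℕ × Bool} (hp : p ∈ d)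
    (h1 : p.1 ≤ 4 * k + 1) : p.1 < 4 * k ∧ p.1 + 3 ≠ 4 * k := by
  obtain ⟨u, v, D⟩ := H.exists_dat p hp
  obtain ⟨r, b⟩ := p
  by_contra h2
  obtain rfl | rfl | h2 : r = 4 * k + 1 ∨ r = 4 * k ∨ r + 3 = 4 * k := by simp only at h1 h2; omega
  · have e1 : (4 * k + 1) % 2 = 1 := by omega
    have e2 : (4 * k + 1) / 4 = k := by omega
    simpa [nn_nn, D.hu, qu, e1, e2, show k + 1 + 1 ≠ k by omega] using hk (nn g 1 u)
  · have e1 : 4 * k % 2 = 0 := by omega
    have e2 : 4 * k / 4 = k := by omega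
    have e3 : 4 * k / 2 = 2 * k := by omega
    have h3 : ∀ j, k ≤ j → Q.polarBilin (nn g j u) (nn g j v) = if j = k then 1 else 0 :=
      fun j hj => by
        obtain ⟨i, hi⟩ : ∃ i, 2 * j + 1 = i + ((4 * k + 1) / 2 + 1) := ⟨2 * j - 2 * k, by omega⟩
        rw [b_move (isom_of_iso hg) (two_mul j).symm (by rw [hi, ← nn_nn, D.nu, map_zero]), D.hc]
        simp [e1, e3]
    cases b
    · simpa [q_add, D.hu, D.hv, qu, qv, e1, -polarBilin_apply_apply, h3] using hk (u + v)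
    · simpa [D.hu, qu, e1, e2] using hk u
  · have e1 : r % 2 = 1 := by omega
    have e2 : r / 4 + 1 = k := by omega
    simpa [D.hu, qu, e1, e2, show k + 1 ≠ r / 4 by omega] using hk u

/-- Existence of a normal form with ranks below `r - 1`. -/
def NF (r : ℕ) (Q : QuadraticForm F V) (g : End F V) : Prop :=
  ∃ d, Form d V Q g ∧ Good d ∧ ∀ p ∈ d, p.1 + 1 < r

theorem Cut.uni {p : ℕ × Bool} {U U' : Submodule F V} {hU : ∀ u ∈ U, g u ∈ U}
    {hU' : ∀ u ∈ U', g u ∈ U'} (C : Cut Q g p hU hU') (H : Uni Q g h) :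
    Uni (Q.comp U'.subtype) (g.restrict hU') h :=
  H.restrict hU' (nondeg_right H.nd (isEps_polar Q).isRefl C.1 C.2.1)

omit [Finite F] [CharP F 2] in
theorem Uni.lower (H : Uni Q g (h + 1)) (h1 : ∀ x y, Q.polarBilin (nn g h x) y = 0) :
    Uni Q g h := ⟨H.nd, H.iso, fun x => H.nd.1 _ (h1 x)⟩

omit [Finite F] [CharP F 2] in
theorem q_coe {U : Submodule F V} (hU : ∀ u ∈ U, g u ∈ U) (j : ℕ) (x : U) :
    Q.comp U.subtype (nn (g.restrict hU) j x) = Q (nn g j x) := congrArg Q (coe_nn hU j x)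

omit [Finite F] [CharP F 2] in
theorem b_coe {U : Submodule F V} (hU : ∀ u ∈ U, g u ∈ U) (j : ℕ) (x y : U) :
    (Q.comp U.subtype).polarBilin (nn (g.restrict hU) j x) y = Q.polarBilin (nn g j x) y := by
  rw [← coe_nn hU]; rfl

omit [Finite F] [CharP F 2] in
theorem nn_mem {U : Submodule F V} (hU : ∀ u ∈ U, g u ∈ U) (j : ℕ) {x : V} (hx : x ∈ U) :
    nn g j x ∈ U := coe_nn hU j ⟨x, hx⟩ ▸ Subtype.coe_prop _

variable [FiniteDimensional F V]

theorem Uni.exists_cutV {k : ℕ} (H : Uni Q g (2 * k + 1 + 1)) {u : V}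
    (hu : Q (nn g (k + 1) u) ≠ 0) : ∃ (b : Bool) (u : V) (U U' : Submodule F V)
      (hU : ∀ u ∈ U, g u ∈ U) (hU' : ∀ u ∈ U', g u ∈ U'), Cut Q g (4 * k + 1, b) hU hU' ∧ u ∈ U ∧
      Q (nn g (k + 1) u) = 1 ∧ (b → ∀ w ∈ U', Q (nn g (k + 1) w) = 0 → Q (nn g k w) = 0) := by
  have e2 : (4 * k + 1) / 4 = k := by omega
  have key : ∀ (b : Bool) (u : V), Q (nn g (k + 1) u) = 1 →
      Q (nn g k u) = (if b then asn F else 0) → ∃ (u : V) (U U' : Submodule F V)
      (hU : ∀ u ∈ U, g u ∈ U) (hU' : ∀ u ∈ U', g u ∈ U'), Cut Q g (4 * k + 1, b) hU hU' ∧ u ∈ U ∧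
      Q (nn g (k + 1) u) = 1 := fun b u h1 h2 => by
    obtain ⟨u', D⟩ := H.normV h1 h2
    obtain ⟨U, U', hU, hU', C, h3⟩ := Uni.exists_cut (p := (4 * k + 1, b))
      ⟨by simp only; omega, fun _ => by simp only; omega⟩
      (by rwa [show (4 * k + 1 + 1) / 2 = 2 * k + 1 by omega]) D
    exact ⟨u', U, U', hU, hU', C, h3, by rw [D.hu]; simp [qu, e2, Nat.add_mod, Nat.mul_mod]⟩
  obtain ⟨s, hs⟩ := exists_sq_mul hu 1
  rw [← q_smul, ← map_smul] at hs
  generalize s • u = u at hs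
  obtain ⟨b, t, ht⟩ := exists_asn_eq (Q (nn g k u))
  obtain ⟨u', U, U', hU, hU', C, h1, h2⟩ := key b (u + t • nn g 1 u) (by
      rw [map_add, map_smul, q_add, q_smul, hs, nn_nn, H.qz (by omega), map_smul, H.mz (by omega)]
      simp) (by
      rw [map_add, map_smul, q_add, q_smul, nn_nn, hs, map_smul, b_comm, ← q_succ H.iso, hs, ← ht]
      simp)
  by_cases h3 : ∀ w ∈ U', Q (nn g (k + 1) w) = 0 → Q (nn g k w) = 0
  · exact ⟨b, u', U, U', hU, hU', C, h1, h2, fun _ => h3⟩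
  push Not at h3
  obtain ⟨w, a1, a2, a3⟩ := h3
  obtain ⟨y, hy⟩ := exists_sq_mul a3 (Q (nn g k u'))
  have h4 : ∀ j, Q (nn g j (u' + y • w)) = Q (nn g j u') + y ^ 2 * Q (nn g j w) := fun j => by
    rw [map_add, map_smul, q_add, q_smul, map_smul, C.2.1 _ (nn_mem hU j h1) _ (nn_mem hU' j a1),
      smul_zero, add_zero]
  obtain ⟨u', U, U', hU, hU', C, h1, h2⟩ := key false (u' + y • w)
    (by rw [h4, a2, h2, mul_zero, add_zero]) (by rw [h4, hy, CharTwo.add_self_eq_zero]; rfl)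
  exact ⟨false, u', U, U', hU, hU', C, h1, h2, fun h => by simp at h⟩

section Step

variable (ih : ∀ {V : Type v} [AddCommGroup V] [Module F V] [FiniteDimensional F V]
  {Q : QuadraticForm F V} {g : End F V}, Uni Q g h → NF (2 * h) Q g)
include ih

theorem stage_even {l : ℕ} (hl : h = 2 * l) (H : Uni Q g (h + 1))
    (ha : ∀ x y, Q (nn g l x) = 0 → Q.polarBilin (nn g h x) y = 0) : NF (2 * (h + 1)) Q g := by
  subst hl
  by_cases h1 : ∀ x y, Q.polarBilin (nn g (2 * l) x) y = 0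
  · exact (ih (H.lower h1)).imp fun d hd => ⟨hd.1, hd.2.1, fun p hp => by
      have := hd.2.2 p hp; omega⟩
  push Not at h1
  obtain ⟨u, v, hβ⟩ := h1
  obtain ⟨u, v, D⟩ := H.normW1 hβ ha
  obtain ⟨U, U', hU, hU', C, h3⟩ := Uni.exists_cut (p := (4 * l, true))
    ⟨by simp only; omega, fun _ => by simp only; omega⟩
    (by rwa [show (4 * l + 1) / 2 = 2 * l by omega]) D
  obtain ⟨u, v, D, -⟩ := C.2.2.gen
  rw [dat_coe] at D
  have h4 : ∀ w ∈ U', Q (nn g l w) = 0 := fun w hw => by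
    by_contra h4
    obtain ⟨y, hy⟩ := exists_sq_mul h4 (Q (nn g l u))
    have := ha (u + y • w) v (by
      rw [map_add, map_smul, q_add, q_smul, map_smul, C.2.1 _ (nn_mem hU l u.2) _
        (nn_mem hU' l hw), hy, CharTwo.add_self_eq_zero, smul_zero, add_zero])
    rw [map_add, map_add, map_smul, map_smul, LinearMap.add_apply, LinearMap.smul_apply, D.hc,
      b_comm, C.2.1 _ v.2 _ (nn_mem hU' _ hw)] at this
    simp [show 4 * l % 2 = 0 by omega, show 4 * l / 2 = 2 * l by omega] at this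
  obtain ⟨d, d1, d2, d3⟩ := ih ((C.uni H).lower fun x y => by rw [b_coe, ha _ _ (h4 x x.2)])
  refine ⟨_ :: d, ⟨U, U', hU, hU', C, d1⟩, d2.cons ⟨by simp only; omega, fun _ => by
    simp only; omega⟩ (fun p hp => ⟨by have := d3 p hp; omega, fun _ => ?_⟩)
    fun h => by simp only at h; omega, List.forall_mem_cons.2 ⟨by simp only; omega, fun p hp => by
      have := d3 p hp; omega⟩⟩
  rw [show 4 * l / 4 = l by omega]
  exact d1.not_adj (C.uni H).iso (fun w _ => by rw [q_coe, h4 w w.2]) hp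
    (by have := d3 p hp; omega)

theorem stage_one {k : ℕ} (hk : h = 2 * k + 1) (H : Uni Q g (h + 1))
    (ht : ∀ x y, Q.polarBilin (nn g h x) y ^ 2 = Q (nn g (k + 1) x) * Q (nn g (k + 1) y)) :
    ∃ d, Form d V Q g ∧ Good d ∧ (∀ p ∈ d, p.1 ≤ 4 * k + 1) ∧ cnt d (4 * k + 1) ≤ 1 := by
  subst hk
  by_cases h1 : ∀ x, Q (nn g (k + 1) x) = 0
  · obtain ⟨d, d1, d2, d3⟩ := ih (H.lower fun x y => by simpa [h1] using ht x y)
    exact ⟨d, d1, d2, fun p hp => by have := d3 p hp; omega,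
      (cnt_eq_zero.2 fun p hp => by have := d3 p hp; omega).trans_le zero_le_one⟩
  obtain ⟨b, u, U, U', hU, hU', C, a1, a2, a3⟩ := H.exists_cutV (not_forall.1 h1).choose_spec
  have h4 : ∀ w ∈ U', Q (nn g (k + 1) w) = 0 := fun w hw => by
    simpa [a2, C.2.1 _ (nn_mem hU _ a1) _ hw, eq_comm, -polarBilin_apply_apply] using ht u w
  obtain ⟨d, d1, d2, d3⟩ := ih ((C.uni H).lower fun x y => by
    rw [b_coe]; simpa [h4 x x.2] using ht x y)
  have h5 : cnt d (4 * k + 1) = 0 := cnt_eq_zero.2 fun p hp => by have := d3 p hp; omega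
  refine ⟨_ :: d, ⟨U, U', hU, hU', C, d1⟩, d2.cons ⟨by simp only; omega, fun _ => by
    simp only; omega⟩ (fun p hp => ⟨by have := d3 p hp; omega, fun hb => ?_⟩)
    fun _ => h5.trans_le zero_le_one, List.forall_mem_cons.2 ⟨le_rfl, fun p hp => by
      have := d3 p hp; omega⟩, by rw [cnt_cons, h5]; simp⟩
  rw [show (4 * k + 1) / 4 = k by omega]
  exact d1.not_adj (C.uni H).iso (fun w => by rw [q_coe, q_coe]; exact a3 hb w w.2) hp
    (by have := d3 p hp; omega)

theorem stage_two {k : ℕ} (hk : h = 2 * k + 1) (H : Uni Q g (h + 1))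
    (ht : ∀ x y, Q (nn g (k + 1) x) = 0 → Q (nn g (k + 1) y) = 0 →
      Q.polarBilin (nn g h x) y = 0) : NF (2 * (h + 1)) Q g := by
  subst hk
  by_cases h1 : ∀ x, Q (nn g (k + 1) x) = 0
  · exact (ih (H.lower fun x y => ht x y (h1 x) (h1 y))).imp fun d hd =>
      ⟨hd.1, hd.2.1, fun p hp => by have := hd.2.2 p hp; omega⟩
  obtain ⟨b, u, U, U', hU, hU', C, a1, a2, a3⟩ := H.exists_cutV (not_forall.1 h1).choose_spec
  have h4 : ∀ w ∈ U', ∃ c : F, c ^ 2 = Q (nn g (k + 1) w) ∧ Q (nn g (k + 1) (w + c • u)) = 0 :=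
    fun w hw => by
      obtain ⟨c, hc⟩ := exists_sq_mul one_ne_zero (Q (nn g (k + 1) w))
      refine ⟨c, by simpa using hc, ?_⟩
      rw [map_add, map_smul, q_add, q_smul, a2, hc, map_smul, b_comm, C.2.1 _ (nn_mem hU _ a1) _
        (nn_mem hU' _ hw), CharTwo.add_self_eq_zero, smul_zero, add_zero]
  obtain ⟨d, d1, d2, d3, d4⟩ := stage_one ih rfl (C.uni H) fun x y => by
    obtain ⟨c, c1, c2⟩ := h4 x x.2
    obtain ⟨c', c3, c4⟩ := h4 y y.2
    have h5 := ht _ _ c2 c4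
    simp only [map_add, map_smul, LinearMap.add_apply, LinearMap.smul_apply, H.odd_self, a2,
      C.2.1 _ (nn_mem hU _ a1) _ y.2, H.symm x u, C.2.1 _ (nn_mem hU _ a1) _ x.2, mul_zero,
      add_zero, zero_add, smul_eq_mul, mul_one] at h5
    rw [b_coe, q_coe, q_coe, ← c1, ← c3, ← mul_pow, CharTwo.add_eq_zero.1 h5, mul_comm]
  refine ⟨_ :: d, ⟨U, U', hU, hU', C, d1⟩, d2.cons ⟨by simp only; omega, fun _ => by
    simp only; omega⟩ (fun p hp => ⟨d3 p hp, fun hb => ?_⟩) fun _ => d4,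
    List.forall_mem_cons.2 ⟨by simp only; omega, fun p hp => by have := d3 p hp; omega⟩⟩
  rw [show (4 * k + 1) / 4 = k by omega]
  exact d1.not_adj (C.uni H).iso (fun w => by rw [q_coe, q_coe]; exact a3 hb w w.2) hp (d3 p hp)

theorem stage_top (n : ℕ) : ∀ {V : Type v} [AddCommGroup V] [Module F V] [FiniteDimensional F V]
    {Q : QuadraticForm F V} {g : End F V}, finrank F V = n → Uni Q g (h + 1) →
      NF (2 * (h + 1)) Q g := by
  induction n using Nat.strong_induction_on with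
  | _ n ihn =>
  intro V _ _ _ Q g hn H
  by_cases h1 : ∀ x y, Q (nn g ((h + 1) / 2) x) = 0 → Q (nn g ((h + 1) / 2) y) = 0 →
      Q.polarBilin (nn g h x) y = 0
  · obtain ⟨k, hk | hk⟩ := Nat.even_or_odd' h
    · refine stage_even ih hk H fun x y hx => ?_
      by_contra h2
      rw [show (h + 1) / 2 = k by omega] at h1
      have := h1 x (y + (Q (nn g k y) / Q.polarBilin (nn g h x) y) • x) hx (by
        rw [map_add, map_smul, q_add, q_smul, hx, map_smul, b_comm (nn g k y), H.mv (by omega),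
          smul_eq_mul, div_mul_cancel₀ _ h2, mul_zero, add_zero, CharTwo.add_self_eq_zero])
      rw [map_add, map_smul, hk, H.even_self hk.le, smul_zero, add_zero, ← hk] at this
      exact h2 this
    · exact stage_two ih hk H (by rwa [show (h + 1) / 2 = k + 1 by omega] at h1)
  push Not at h1
  obtain ⟨u, v, a1, a2, a3⟩ := h1
  obtain ⟨u, v, D⟩ := H.normW0 a3 a1 a2
  obtain ⟨U, U', hU, hU', C, -⟩ := Uni.exists_cut (p := (2 * h, false))
    ⟨by simp only; omega, by simp⟩ (by rwa [show (2 * h + 1) / 2 = h by omega]) D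
  have h2 := Submodule.finrank_add_eq_of_isCompl C.1
  rw [C.2.2.dim, wt, if_pos (by simp)] at h2
  obtain ⟨d, d1, d2, d3⟩ := ihn _ (by omega) rfl (C.uni H)
  exact ⟨_ :: d, ⟨U, U', hU, hU', C, d1⟩, d2.cons ⟨by simp only; omega, by simp⟩
    (fun p hp => ⟨by have := d3 p hp; omega, by simp⟩) fun h => by simp only at h; omega,
    List.forall_mem_cons.2 ⟨by simp only; omega, d3⟩⟩

end Step

theorem Uni.nf (h : ℕ) : ∀ {V : Type v} [AddCommGroup V] [Module F V] [FiniteDimensional F V]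
    {Q : QuadraticForm F V} {g : End F V}, Uni Q g h → NF (2 * h) Q g := by
  induction h with
  | zero => exact fun H => ⟨[], subsingleton_of_forall_eq 0 H.nil,
      ⟨.nil, by simp, by simp [cnt]⟩, by simp⟩
  | succ h ih => exact fun H => stage_top ih _ rfl H

end Cfsg.Agent.Cl.Two
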