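import Mathlib
import Cfsg.Agent.Cl.ClassTwoC
import Cfsg.Agent.S2619

/-!
# Class numbers in characteristic two: counting normal forms
-/

set_option autoImplicit false

namespace Cfsg.Agent.Cl.Two

open Module SpO QuadraticMap Finset

section Transfer

/-- Weight of the data at node `k`. -/
def wz (k : ℕ) (y : Fin 3 × Bool) : ℕ := (k + 1) * y.1 + if y.2 ∧ y.1 = 0 then 2 * k + 1 else 0

/-- Weight of a sequence of node data, zero when it is not admissible. -/
noncomputable def wp : ∀ K : ℕ, ℕ → Bool → (Fin K → Fin 3 × Bool) → ℝ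
  | 0, _, _, _ => 1
  | K + 1, k, s, z => (if (z 0).2 ∧ s then 0 else (1 / 2) ^ wz k (z 0)) *
      wp K (k + 1) (decide ((z 0).1 ≠ 0)) (Fin.tail z)

theorem wp_nonneg (K : ℕ) : ∀ k s z, 0 ≤ wp K k s z := by
  induction K with
  | zero => exact fun _ _ _ => zero_le_one
  | succ K ih => exact fun k s z => mul_nonneg (by split_ifs <;> positivity) (ih _ _ _)

theorem wp_eq {z : ℕ → Fin 3 × Bool} (hz : ∀ k, (z (k + 1)).2 → (z k).1 = 0) (K : ℕ) :
    ∀ k (s : Bool), ((z k).2 → ¬ s) → wp K k s (fun i => z (k + i)) =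
      (1 / 2) ^ ∑ i ∈ range K, wz (k + i) (z (k + i)) := by
  induction K with
  | zero => exact fun _ _ _ => rfl
  | succ K ih =>
    intro k s hs
    rw [wp, show Fin.tail (fun i : Fin (K + 1) => z (k + i)) = fun i : Fin K => z (k + 1 + i) from
      funext fun i => by simp [Fin.tail, add_assoc, add_comm 1], ih _ _ (by simpa using hz k),
      sum_range_succ', if_neg (by simpa using hs), pow_add, mul_comm]
    simp [add_assoc, add_comm 1]

theorem sum_wp_succ (K k : ℕ) (s : Bool) : ∑ z, wp (K + 1) k s z =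
    (1 + if s then 0 else (1 / 2) ^ (2 * k + 1)) * ∑ z, wp K (k + 1) false z +
      (if s then 1 else 2) * ((1 / 2) ^ (k + 1) + (1 / 2) ^ (2 * k + 2)) *
        ∑ z, wp K (k + 1) true z := by
  rw [← (Fin.consEquiv fun _ => Fin 3 × Bool).sum_comp, Fintype.sum_prod_type]
  simp only [wp, Fin.consEquiv, Equiv.coe_fn_mk, Fin.cons_zero, Fin.tail_cons, ← mul_sum]
  rw [Fintype.sum_prod_type, Fin.sum_univ_three]
  cases s <;> simp [wz] <;> ring

/-- Rational upper bounds for the transfer sums. -/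
def ub : ℕ → ℕ → ℚ × ℚ
  | 0, k => (1 + 3 * (1 / 2) ^ k, 1 + 3 * (1 / 2) ^ k)
  | j + 1, k => let p := ub j (k + 1)
    ((1 + (1 / 2) ^ (2 * k + 1)) * p.1 + 2 * ((1 / 2) ^ (k + 1) + (1 / 2) ^ (2 * k + 2)) * p.2,
      p.1 + ((1 / 2) ^ (k + 1) + (1 / 2) ^ (2 * k + 2)) * p.2)

theorem sum_wp_tail (K : ℕ) : ∀ k s, 3 ≤ k → ∑ z, wp K k s z ≤ 1 + 3 * (1 / 2) ^ k := by
  induction K with
  | zero => exact fun k s _ => by simp [wp]
  | succ K ih =>
    intro k s hk
    have h1 := ih (k + 1) false (by omega)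
    have h2 := ih (k + 1) true (by omega)
    have h3 : (1 / 2 : ℝ) ^ k ≤ (1 / 2) ^ 3 := pow_le_pow_of_le_one (by norm_num) (by norm_num) hk
    have h4 : (0 : ℝ) < (1 / 2) ^ k := by positivity
    rw [sum_wp_succ]
    refine (add_le_add (mul_le_mul_of_nonneg_left h1 (by split_ifs <;> positivity))
      (mul_le_mul_of_nonneg_left h2 (by split_ifs <;> positivity))).trans ?_
    simp only [pow_add, mul_comm 2 k, pow_mul]
    generalize (1 / 2 : ℝ) ^ k = u at h3 h4
    have h5 : u * u ≤ u * (1 / 2) ^ 3 := by gcongr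
    have h6 : u * u * u ≤ u * (1 / 2) ^ 3 * (1 / 2) ^ 3 := by gcongr
    split_ifs <;> nlinarith

theorem sum_wp_le (j : ℕ) : ∀ k, 3 ≤ j + k → (1 ≤ (ub j k).1 ∧ 1 ≤ (ub j k).2) ∧ ∀ K,
    ∑ z, wp K k false z ≤ (ub j k).1 ∧ ∑ z, wp K k true z ≤ (ub j k).2 := by
  induction j with
  | zero =>
    intro k hk
    refine ⟨by simp [ub], fun K => ?_⟩
    simp only [ub]
    push_cast
    exact ⟨sum_wp_tail K k _ (by omega), sum_wp_tail K k _ (by omega)⟩
  | succ j ih =>
    intro k hk
    obtain ⟨⟨h1, h2⟩, h3⟩ := ih (k + 1) (by omega)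
    have h4 : 1 ≤ (ub (j + 1) k).1 ∧ 1 ≤ (ub (j + 1) k).2 := by
      simp only [ub]
      exact ⟨le_add_of_le_of_nonneg (one_le_mul_of_one_le_of_one_le (by simp) h1) (by positivity),
        le_add_of_le_of_nonneg h1 (by positivity)⟩
    refine ⟨h4, fun K => ?_⟩
    cases K with
    | zero => simpa [wp] using (by exact_mod_cast h4 :
        (1 : ℝ) ≤ (ub (j + 1) k).1 ∧ (1 : ℝ) ≤ (ub (j + 1) k).2)
    | succ K =>
      obtain ⟨h5, h6⟩ := h3 K
      simp only [sum_wp_succ, ub, Bool.false_eq_true, if_false, if_true, add_zero, one_mul]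
      push_cast
      constructor <;> gcongr

theorem sum_wp_true (K : ℕ) : ∑ z, wp K 0 true z ≤ 43885 / 10000 :=
  ((sum_wp_le 14 0 (by omega)).2 K).2.trans (((Rat.cast_le (K := ℝ)).2
    (show (ub 14 0).2 ≤ 43885 / 10000 by decide +kernel)).trans_eq (by norm_num))

theorem sum_wp_false (K : ℕ) : ∑ z, wp K 0 false z ≤ 15 / 2 :=
  ((sum_wp_le 14 0 (by omega)).2 K).1.trans (((Rat.cast_le (K := ℝ)).2
    (show (ub 14 0).1 ≤ 15 / 2 by decide +kernel)).trans_eq (by norm_num))

theorem sum_range_mul' (f : ℕ → ℕ) (m K : ℕ) :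
    ∑ i ∈ range (m * K), f i = ∑ k ∈ range K, ∑ j ∈ range m, f (m * k + j) := by
  induction K with
  | zero => rfl
  | succ K ih => rw [mul_add_one, sum_range_add, ih, sum_range_succ]

end Transfer

section Val

variable {K C : Type*} [Field K] {q M n : ℕ}

/-- The invariants attached to a conjugacy class. -/
structure Val (q M n : ℕ) (R : ℕ → Multiset K) (c : ℕ → ℕ) : Prop where
  srm : ∀ i, SRM q (R i) ∧ 1 ∉ R i
  le : ∀ k, c (4 * k + 1) ≤ 2
  three : ∀ k, c (4 * k + 3) = 0
  sum : ∑ i ∈ range (2 * M), (i + 1) * ((R i).card / 2) + ∑ r ∈ range (4 * M), wt r * c r = n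
  hR : ∀ i, 2 * M ≤ i → R i = 0
  hc : ∀ r, 4 * M ≤ r → c r = 0

/-- The nodes that carry a bit. -/
def Adm (s : Bool) (c : ℕ → ℕ) (k : ℕ) : Prop :=
  (c (4 * k + 1) ≠ 0 ∨ c (4 * k) ≠ 0) ∧ (k = 0 → ¬ s) ∧ ∀ j, k = j + 1 → c (4 * j + 1) = 0

theorem srm_rep (a : ℕ) : SRM q (Multiset.replicate (2 * a) (1 : K)) := by simp [SRM]

theorem card_le_val [Finite C]
    (hX : ∀ d (T : Finset (Multiset K)), (∀ R ∈ T, SRM q R ∧ R.card / 2 = d) → T.card ≤ q ^ d)
    (hq : 2 ≤ q) (s : Bool) (R : C → ℕ → Multiset K) (c : C → ℕ → ℕ) (γ : C → ℕ → Bool)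
    (hv : ∀ x, Val q (M + 1) n (R x) (c x)) (hγ : ∀ x k, γ x k → Adm s (c x) k)
    (hi : ∀ x y, R x = R y → c x = c y → γ x = γ y → x = y)
    (T : Finset (Fin (M + 1) → Fin 3 × Bool))
    (hT : ∀ x, (fun k : Fin (M + 1) => ((⟨c x (4 * k + 1), Nat.lt_succ_of_le ((hv x).le k)⟩, γ x k) :
      Fin 3 × Bool)) ∈ T) :
    (Nat.card C : ℝ) ≤ q ^ n * (34634 / 10000 * ∑ z ∈ T, wp (M + 1) 0 s z) := by
  classical
  let z : C → ℕ → Fin 3 × Bool := fun x k =>
    (⟨c x (4 * k + 1), Nat.lt_succ_of_le ((hv x).le k)⟩, γ x k)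
  let δ : C → ℕ → ℕ := fun x i => if i % 2 = 0 ∧ γ x (i / 2) ∧ c x (2 * i + 1) = 0 then 1 else 0
  have hδ : ∀ x i, δ x i ≤ c x (2 * i) := fun x i => by
    simp only [δ]
    split_ifs with h
    · have := (hγ x _ h.2.1).1
      rw [show 4 * (i / 2) = 2 * i by omega] at this
      omega
    · exact Nat.zero_le _
  refine (card_le_master hX (by omega) (x := 1 / 2) (by
      rw [one_div]; exact inv_anti₀ two_pos (by exact_mod_cast hq)) (by norm_num) (N := 2 * M + 1)
    (n := n) (fun x i => R x i + Multiset.replicate (2 * (c x (2 * i) - δ x i)) 1)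
    (fun x (k : Fin (M + 1)) => z x k) (fun y => ∑ k : Fin (M + 1), wz k (y k))
    (fun x i => ((hv x).srm i).1.add (srm_rep _)) (fun x => ?_) (fun x y h1 h2 => ?_) T hT
    (wp (M + 1) 0 s) (fun x => ?_) fun _ _ => wp_nonneg _ _ _ _).trans ?_
  · rw [← (hv x).sum, Fin.sum_univ_eq_sum_range fun k => wz k (z x k),
      show 2 * M + 1 + 1 = 2 * (M + 1) by ring, sum_range_mul', sum_range_mul', sum_range_mul',
      ← sum_add_distrib, ← sum_add_distrib]
    refine sum_congr rfl fun k _ => ?_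
    have h1 := hδ x (2 * k)
    simp only [sum_range_succ, sum_range_zero, Multiset.card_add, Multiset.card_replicate,
      Nat.add_mul_div_left _ _ two_pos, wz, wt, z, δ, (hv x).three, add_zero, zero_add,
      show 2 * (2 * k) = 4 * k by ring, show 2 * (2 * k + 1) = 4 * k + 2 by ring,
      show 2 * k % 2 = 0 by omega, show (2 * k + 1) % 2 = 1 by omega, show 4 * k % 2 = 0 by omega,
      show (4 * k + 1) % 2 = 1 by omega, show (4 * k + 2) % 2 = 0 by omega,
      show 2 * k / 2 = k by omega, show 4 * k / 2 = 2 * k by omega,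
      show (4 * k + 1) / 4 = k by omega, show (4 * k + 2) / 2 = 2 * k + 1 by omega, true_and,
      one_ne_zero, false_and, if_true, if_false, Fin.ext_iff, Fin.val_zero, tsub_zero,
      mul_zero] at h1 ⊢
    split_ifs at h1 ⊢
    · obtain ⟨a, ha⟩ := Nat.exists_eq_add_of_le' h1
      rw [ha, Nat.add_sub_cancel]; ring
    · rw [tsub_zero]; ring
  · have h3 : ∀ k, c x (4 * k + 1) = c y (4 * k + 1) ∧ γ x k = γ y k := fun k => by
      by_cases hk : k < M + 1
      · simpa [z] using congrFun h2 ⟨k, hk⟩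
      · have h4 : ∀ x, γ x k = false := fun x => by
          by_contra h4
          have := (hγ x k (by simpa using h4)).1
          rw [(hv x).hc _ (by omega), (hv x).hc _ (by omega)] at this
          simp at this
        rw [(hv x).hc _ (by omega), (hv y).hc _ (by omega), h4, h4]
        exact ⟨rfl, rfl⟩
    have h4 : ∀ i, R x i = R y i ∧ c x (2 * i) = c y (2 * i) := fun i => by
      by_cases hk : i < 2 * M + 1 + 1
      · have h5 := congrArg (Multiset.count 1) (h1 i hk)
        simp only [Multiset.count_add, Multiset.count_eq_zero.2 ((hv _).srm i).2,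
          Multiset.count_replicate_self, zero_add] at h5
        have h6 : δ x i = δ y i := by
          by_cases h6 : i % 2 = 0
          · simp only [δ, show 2 * i + 1 = 4 * (i / 2) + 1 by omega, h3]
          · simp only [δ, h6, false_and]
        have h7 := hδ x i
        have h8 := hδ y i
        exact ⟨add_right_cancel (h5 ▸ h1 i hk :), by omega⟩
      · rw [(hv x).hc _ (by omega), (hv y).hc _ (by omega), (hv x).hR _ (by omega),
          (hv y).hR _ (by omega)]
        exact ⟨rfl, rfl⟩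
    refine hi x y (funext fun i => (h4 i).1) (funext fun r => ?_) (funext fun k => (h3 k).2)
    obtain ⟨k, rfl | rfl | rfl⟩ : ∃ k, r = 2 * k ∨ r = 4 * k + 1 ∨ r = 4 * k + 3 := by
      rcases Nat.mod_two_eq_zero_or_one r with h | h
      exacts [⟨r / 2, by omega⟩, ⟨r / 4, by omega⟩]
    exacts [(h4 k).2, (h3 k).1, by rw [(hv x).three, (hv y).three]]
  · have := wp_eq (z := z x) (fun k hk => Fin.ext ((hγ x _ hk).2.2 k rfl)) (M + 1) 0 s
      fun h => (hγ x 0 h).2.1 rfl
    simp only [zero_add] at this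
    rw [this, Fin.sum_univ_eq_sum_range fun k => wz k (z x k)]
  · exact mul_le_mul_of_nonneg_left (mul_le_mul_of_nonneg_right (euler_two _)
      (sum_nonneg fun _ _ => wp_nonneg _ _ _ _)) (by positivity)

end Val

section Lists

variable {d d' : List (ℕ × Bool)}

/-- The bit of node `k`. -/
def gam (d : List (ℕ × Bool)) (k : ℕ) : Bool := d.any fun p => p.2 && p.1 / 4 == k

theorem gam_iff {k : ℕ} : gam d k ↔ ∃ p ∈ d, p.2 ∧ p.1 / 4 = k := by simp only [gam,
  List.any_eq_true, Bool.and_eq_true, beq_iff_eq]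

theorem gam_cons (p : ℕ × Bool) (k : ℕ) : gam (p :: d) k = ((p.2 && p.1 / 4 == k) || gam d k) :=
  rfl

theorem Good.gam_tail {p : ℕ × Bool} (H : Good (p :: d)) (hp : p.2) : gam d (p.1 / 4) = false := by
  by_contra h
  obtain ⟨p', h1, -, h2⟩ := gam_iff.1 (by simpa using h)
  have := (((List.pairwise_cons.1 H.pw).1 p' h1).2 hp).1
  omega

theorem Good.adm (H : Good d) {k : ℕ} (hk : gam d k) : Adm false (cnt d) k := by
  obtain ⟨p, h1, h2, rfl⟩ := gam_iff.1 hk
  have h3 := H.ok p h1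
  refine ⟨?_, by simp, fun j hj => cnt_eq_zero.2 fun p' h4 h5 => ?_⟩
  · by_contra! h4
    have h5 := cnt_eq_zero.1 h4.1 p h1
    have h6 := cnt_eq_zero.1 h4.2 p h1
    have h7 := h3.2 h2
    have h8 := h3.1
    omega
  · have h6 : p ≠ p' := by rintro rfl; omega
    have : Std.Symm fun a b => Rel a b ∨ Rel b a := ⟨fun _ _ => Or.symm⟩
    rcases (H.pw.imp (S := fun a b => Rel a b ∨ Rel b a) Or.inl).forall h1 h4 h6 with h | h
    · have := (h.2 h2).2; omega
    · have := h.1; omega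

theorem Good.eq_of : ∀ {d' : List (ℕ × Bool)}, Good d → Good d' → cnt d = cnt d' →
    gam d = gam d' → d = d' := by
  induction d with
  | nil =>
    rintro (_ | ⟨p, d'⟩) - - h -
    · rfl
    · simpa [cnt] using congrFun h p.1
  | cons p d ih =>
    rintro (_ | ⟨p', d'⟩) H H' h1 h2
    · simpa [cnt] using congrFun h1 p.1
    have key : ∀ {p p' : ℕ × Bool} {d d' : List (ℕ × Bool)}, Good (p :: d) → Good (p' :: d') →
        cnt (p :: d) = cnt (p' :: d') → gam (p :: d) = gam (p' :: d') →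
        p'.1 ≤ p.1 ∧ (p.1 = p'.1 → p.2 → p'.2) := by
      intro p p' d d' H H' h1 h2
      have h3 : ∀ r, cnt (p' :: d') r ≠ 0 → r = p.1 ∨ ∃ b, Rel p (r, b) := fun r hr => by
        rw [← h1, Ne, cnt_eq_zero] at hr
        push Not at hr
        obtain ⟨a, h3, rfl⟩ := hr
        exact (List.mem_cons.1 h3).imp (congrArg _) fun h =>
          ⟨a.2, (List.pairwise_cons.1 H.pw).1 a h⟩
      refine ⟨(h3 p'.1 (by simp [cnt_cons])).elim Eq.le fun ⟨_, h⟩ => h.1, fun h4 h5 => ?_⟩
      obtain ⟨a, a1, a2, a3⟩ := gam_iff.1 (h2 ▸ gam_iff.2 ⟨p, List.mem_cons_self, h5, rfl⟩ :)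
      rcases List.mem_cons.1 a1 with rfl | a1
      · exact a2
      have h6 : cnt d' a.1 ≠ 0 := fun h => cnt_eq_zero.1 h a a1 rfl
      rcases h3 a.1 (by rw [cnt_cons]; omega) with h | ⟨_, h⟩
      · have h7 := congrFun h1 p.1
        rw [cnt_cons, cnt_cons, if_pos rfl, if_pos h4.symm, cnt_eq_zero.2 fun b hb e => by
          have := (((List.pairwise_cons.1 H.pw).1 b hb).2 h5).1; omega, ← h] at h7
        omega
      · have := (h.2 h5).1
        simp only at this
        omega
    obtain ⟨a1, a2⟩ := key H H' h1 h2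
    obtain ⟨b1, b2⟩ := key H' H h1.symm h2.symm
    have h3 := le_antisymm b1 a1
    obtain rfl : p = p' := Prod.ext h3 (Bool.eq_iff_iff.2 ⟨a2 h3, b2 h3.symm⟩)
    refine congrArg _ (ih H.tail H'.tail (funext fun r => ?_) (funext fun k => ?_))
    · simpa [cnt_cons] using congrFun h1 r
    · by_cases h4 : p.2 ∧ p.1 / 4 = k
      · rw [← h4.2, H.gam_tail h4.1, H'.gam_tail h4.1]
      · have h5 : (p.2 && p.1 / 4 == k) = false := by simpa using h4
        simpa [gam_cons, h5] using congrFun h2 k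

theorem cnt_er : cnt (d.map er) = cnt d := funext fun r => by
  simp only [cnt, List.countP_map]; rfl

theorem Good.er (H : Good d) : Good (d.map er) :=
  ⟨List.pairwise_map.2 (H.pw.imp fun h => ⟨h.1, fun h1 => h.2 (Bool.and_eq_true_iff.1 h1).1⟩),
    List.forall_mem_map.2 fun p hp => ⟨(H.ok p hp).1, fun h1 => (H.ok p hp).2
      (Bool.and_eq_true_iff.1 h1).1⟩, cnt_er (d := d) ▸ H.le⟩

theorem Good.adm_er (H : Good d) {k : ℕ} (hk : gam (d.map Two.er) k) : Adm true (cnt d) k := by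
  have h1 := H.er.adm hk
  rw [cnt_er] at h1
  refine ⟨h1.1, ?_, h1.2.2⟩
  rintro rfl
  obtain ⟨_, h2, h3, h4⟩ := gam_iff.1 hk
  obtain ⟨p, -, rfl⟩ := List.mem_map.1 h2
  simp only [Two.er, Bool.and_eq_true, decide_eq_true_eq] at h3 h4
  omega

theorem sum_wt {M : ℕ} (h : ∀ p ∈ d, p.1 < M) :
    (d.map fun p => wt p.1).sum = ∑ r ∈ range M, wt r * cnt d r := by
  induction d with
  | nil => simp [cnt]
  | cons p d ih =>
    obtain ⟨h1, h2⟩ := List.forall_mem_cons.1 h
    simp [cnt_cons, mul_add, sum_add_distrib, ih h2, h1, add_comm]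

end Lists

section Top

variable {F V V' : Type*} [Field F] [Fintype F] [CharP F 2] [AddCommGroup V] [Module F V]
  [FiniteDimensional F V] [AddCommGroup V'] [Module F V'] [FiniteDimensional F V']
  {Q : QuadraticForm F V} {g : End F V} {Q' : QuadraticForm F V'} {g' : End F V'}

/-- The layers of the part without the eigenvalue one. -/
noncomputable def rl (g : End F V) (i : ℕ) : Multiset (AlgebraicClosure F) :=
  lay _ (onR g) (i + 1)

theorem exists_form (hQ : Q.polarBilin.Nondegenerate) (hg : ∀ v, Q (g v) = Q v) {n : ℕ}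
    (hV : finrank F V = 2 * n) : ∃ d, Form d (fitK g) (Q.comp (fitK g).subtype) (onK g) ∧ Good d ∧
      Val (Fintype.card F) (n + 1) n (rl g) (cnt d) := by
  classical
  have h1 := isom_of_iso hg
  have hr := (isEps_polar Q).isRefl
  obtain ⟨d, d1, d2, d3⟩ := Uni.nf (finrank F V) (Q := Q.comp (fitK g).subtype) (g := onK g)
    ⟨h1.nondeg_fitK hQ hr, fun v => hg v, LinearMap.congr_fun (onK_sub_one_pow g)⟩
  have h2 : ∀ p ∈ d, p.1 < 4 * (n + 1) := fun p hp => by have := d3 p hp; omega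
  have h3 := Submodule.finrank_add_eq_of_isCompl (isCompl_fit g)
  have h4 : ∀ i, (rl g i).count 1 = 0 := fun i =>
    (count_one_lay _ i.succ_pos).trans (mult_eq_zero_of_isUnit (isUnit_onR_sub_one g) _)
  have h5 : ∀ i, SRM (Fintype.card F) (rl g i) := fun i => srm_of_count (lay_map_frob _ _)
    (lay_map_inv (h1.nondeg_fitR hQ hr) (h1.restrict _) _)
    (zero_notMem_lay ((h1.restrict _).isUnit (h1.nondeg_fitR hQ hr)) _) (by simp [h4])
    (by simp [CharTwo.neg_eq, h4])
  refine ⟨d, d1, d2, fun i => ⟨h5 i, Multiset.count_eq_zero.1 (h4 i)⟩, d2.le,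
    fun k => cnt_eq_zero.2 fun p hp e => (d2.ok p hp).1 (by omega), ?_,
    fun i hi => lay_eq_zero _ (by omega), fun r hr => cnt_eq_zero.2 fun p hp e => by
      have := h2 p hp; omega⟩
  refine Nat.eq_of_mul_eq_mul_left two_pos ?_
  rw [mul_add, ← sum_wt h2, ← d1.finrank_eq, ← hV, ← h3, add_comm, mul_sum,
    ← sum_lay (K := AlgebraicClosure F) (onR g) (N := 2 * (n + 1)) (by omega)]
  refine congrArg _ (sum_congr rfl fun i _ => ?_)
  rw [mul_left_comm, Nat.two_mul_div_two_of_even (h5 i).1, rl]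

theorem isoP_onR (hQ : Q.polarBilin.Nondegenerate) (hg : ∀ v, Q (g v) = Q v)
    (hQ' : Q'.polarBilin.Nondegenerate) (hg' : ∀ v, Q' (g' v) = Q' v) (h : rl g = rl g')
    (P : Prop) : IsoP P (Q.comp (fitR g).subtype) (onR g) (Q'.comp (fitR g').subtype) (onR g') := by
  have h1 := isom_of_iso hg
  have h2 := isom_of_iso hg'
  have h3 := isUnit_onR_sub_one g
  obtain ⟨e, e1, e2⟩ := isoConj_of_isUnit (h1.nondeg_fitR hQ (isEps_polar Q).isRefl)
    (h2.nondeg_fitR hQ' (isEps_polar Q').isRefl) ((isEps_polar Q).restrict _)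
    ((isEps_polar Q').restrict _) (mul_one 1) (h1.restrict (fitR_inv g)) (h2.restrict (fitR_inv g'))
    h3 (by rwa [← neg_one_smul F, CharTwo.neg_eq, one_smul]) (sim_of_lay (K := AlgebraicClosure F)
      (le_max_left _ _) (le_max_right _ _) fun i _ => congrFun h i)
  refine ⟨e, e1, e2, fun _ x => ?_⟩
  obtain ⟨y, rfl⟩ := ((Module.End.isUnit_iff _).1 h3).2 x
  have h4 := q_succ (Q := Q.comp (fitR g).subtype) (g := onR g) (fun v => hg v) 0 y
  have h5 := q_succ (Q := Q'.comp (fitR g').subtype) (g := onR g') (fun v => hg' v) 0 (e y)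
  have h6 : e (nn (onR g) (0 + 1) y) = nn (onR g') (0 + 1) (e y) :=
    intertwine_sub_one_pow (e := (e : fitR g →ₗ[F] fitR g')) e2 _ y
  rw [show (onR g - 1) y = nn (onR g) (0 + 1) y by simp [nn], h4, h6, h5, ← h6]
  exact e1 _ _

theorem isoP_of_form (hQ : Q.polarBilin.Nondegenerate) (hg : ∀ v, Q (g v) = Q v)
    (hQ' : Q'.polarBilin.Nondegenerate) (hg' : ∀ v, Q' (g' v) = Q' v) (h : rl g = rl g')
    {d d' : List (ℕ × Bool)} (H : Form d (fitK g) (Q.comp (fitK g).subtype) (onK g))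
    (H' : Form d' (fitK g') (Q'.comp (fitK g').subtype) (onK g')) (he : d.map er = d'.map er)
    {P : Prop} (hP : P → d = d') : IsoP P Q g Q' g' :=
  isoP_glue (isCompl_fit g) (isCompl_fit g') ((isom_of_iso hg).fit_orth hQ)
    ((isom_of_iso hg').fit_orth hQ') (H.iso H' he hP) (isoP_onR hQ hg hQ' hg' h P)

/-- Every symplectic transformation in characteristic two fixes a quadratic form. -/
theorem exists_quad_fixed {B : LinearMap.BilinForm F V} (hA : B.IsAlt) (hg : IsIsom B g) :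
    ∃ Q : QuadraticForm F V, Q.polarBilin = B ∧ ∀ v, Q (g v) = Q v := by
  obtain ⟨Q, ⟨rfl, -⟩, -⟩ := S2619.result (finBasis F V) B hA 0
  obtain ⟨l, hl⟩ := exists_sqrt_functional (fun w => Q (g w) - Q w)
    (fun x y => by rw [map_add, q_add, q_add, hg]; ring)
    fun a x => by rw [map_smul, q_smul, q_smul]; ring
  obtain ⟨m, hm⟩ : l ∈ LinearMap.range (nn g 1).dualMap := by
    rw [LinearMap.range_dualMap_eq_dualAnnihilator_ker, Submodule.mem_dualAnnihilator]
    intro w hw
    have := hl w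
    rwa [apply_eq w, LinearMap.mem_ker.1 hw, zero_add, sub_self, pow_eq_zero_iff two_ne_zero] at this
  refine ⟨Q + linMulLin m m, LinearMap.ext₂ fun x y => ?_, fun v => ?_⟩
  · simp only [polarBilin_apply_apply, polar, _root_.add_apply, linMulLin_apply, map_add]
    linear_combination m x * m y * CharTwo.two_eq_zero (R := F)
  · have h1 : m (g v) = l v + m v := by rw [apply_eq v, map_add, ← hm]; rfl
    simp only [_root_.add_apply, linMulLin_apply, h1]
    linear_combination -hl v + (l v ^ 2 + l v * m v) * CharTwo.two_eq_zero (R := F)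

theorem card_classes_sp_two_le (n : ℕ) :
    5 * Nat.card (ConjClasses (Matrix.symplecticGroup (Fin n) F)) ≤ 76 * Fintype.card F ^ n := by
  choose Q h1 h2 using fun c : ConjClasses (Matrix.symplecticGroup (Fin n) F) =>
    exists_quad_fixed spB_isAlt (isIsom_specSp (Quotient.out c))
  have h3 : ∀ c, (Q c).polarBilin.Nondegenerate := fun c => h1 c ▸ spB_nondegenerate
  choose d d1 d2 d3 using fun c => exists_form (h3 c) (h2 c) sp_finrank_std
  have h := card_le_val (card_le_of_srm F) Fintype.one_lt_card true _ _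
    (fun c => gam ((d c).map er)) d3 (fun c k => (d2 c).adm_er) (fun c c' e1 e2 e3 => by
      obtain ⟨e, a1, a2, -⟩ := isoP_of_form (h3 c) (h2 c) (h3 c') (h2 c') e1 (d1 c) (d1 c')
        ((d2 c).er.eq_of (d2 c').er (by rw [cnt_er, cnt_er, e2]) e3) (P := False) False.elim
      rw [h1, h1] at a1
      exact eq_of_isConj_out ((sp_isConj_iff _ _).2 ⟨e, a1, a2⟩)) univ fun _ => mem_univ _
  have h4 : (0 : ℝ) ≤ Fintype.card F ^ n := by positivity
  have h5 := h.trans (mul_le_mul_of_nonneg_left (mul_le_mul_of_nonneg_left (sum_wp_true _)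
    (by norm_num)) h4)
  exact_mod_cast (show (5 * Nat.card (ConjClasses (Matrix.symplecticGroup (Fin n) F)) : ℝ) ≤
    76 * Fintype.card F ^ n by linarith)

end Top

end Cfsg.Agent.Cl.Two
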