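/-
A subgroup of `GL₃(F)`, `F` finite of odd order, without abelian normal subgroup modulo the scalars
normalises a quasisimple absolutely irreducible subgroup.
-/
import Mathlib
import Cfsg.Agent.Cl.D3Basic
import Cfsg.Agent.S0205

set_option autoImplicit false

namespace Cfsg.Agent.Cl.D3

open Matrix Cfsg.Geo Cfsg.Agent.Cl.Max Cfsg.Agent.Cl.Mx

variable {F : Type*} [Field F] {T : Subgroup (GL (Fin 3) F)} {U W : Submodule F (Fin 3 → F)}

theorem le_sl_of_perfect (hT : ⁅T, T⁆ = T) : T ≤ specialLinear (Fin 3) F := by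
  rw [← hT, Subgroup.commutator_le]
  intro a _ b _
  rw [mem_specialLinear_iff, commutatorElement_def]
  simp only [Units.val_mul, det_mul]
  have h1 : (a : Matrix (Fin 3) (Fin 3) F).det * (a⁻¹ : GL (Fin 3) F).val.det = 1 := by
    rw [← det_mul, a.mul_inv, det_one]
  have h2 : (b : Matrix (Fin 3) (Fin 3) F).det * (b⁻¹ : GL (Fin 3) F).val.det = 1 := by
    rw [← det_mul, b.mul_inv, det_one]
  linear_combination (b : Matrix (Fin 3) (Fin 3) F).det * (b⁻¹ : GL (Fin 3) F).val.det * h1 + h2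

/-- The elements of `T` acting on `U` modulo `W` as a scalar from `C`. -/
def scalMod (hU : Inv T U) (hW : Inv T W) (C : Subgroup Fˣ) : Subgroup (GL (Fin 3) F) where
  carrier := {g | g ∈ T ∧ ∃ c ∈ C, ∀ x ∈ U, (g : Matrix (Fin 3) (Fin 3) F) *ᵥ x - (c : F) • x ∈ W}
  one_mem' := ⟨T.one_mem, 1, C.one_mem, fun x _ => by simp⟩
  mul_mem' := by
    rintro g h ⟨hg, c, hc, h1⟩ ⟨hh, d, hd, h2⟩
    refine ⟨T.mul_mem hg hh, c * d, C.mul_mem hc hd, fun x hx => ?_⟩
    convert W.add_mem (hW g hg _ (h2 x hx)) (W.smul_mem (d : F) (h1 x hx)) using 1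
    rw [mul_mulVec, mulVec_sub, mulVec_smul, Units.val_mul]
    module
  inv_mem' := by
    rintro g ⟨hg, c, hc, h1⟩
    refine ⟨T.inv_mem hg, c⁻¹, C.inv_mem hc, fun x hx => ?_⟩
    convert W.smul_mem (-((c⁻¹ : Fˣ) : F)) (h1 _ (hU _ (T.inv_mem hg) x hx)) using 1
    rw [mulVec_inv_mulVec, smul_sub, smul_smul, neg_mul, Units.inv_mul]
    module

theorem triv_mod (hT : ⁅T, T⁆ = T) (hU : Inv T U) (hW : Inv T W) (h : T ≤ scalMod hU hW ⊤)
    {g : GL (Fin 3) F} (hg : g ∈ T) {x : Fin 3 → F} (hx : x ∈ U) :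
    (g : Matrix (Fin 3) (Fin 3) F) *ᵥ x - x ∈ W := by
  have key : T ≤ scalMod hU hW ⊥ := by
    conv_lhs => rw [← hT]
    rw [Subgroup.commutator_le]
    intro a ha b hb
    refine ⟨hT ▸ Subgroup.commutator_mem_commutator ha hb, 1, Subgroup.one_mem _, fun y hy => ?_⟩
    obtain ⟨-, c, -, h1⟩ := h ha
    obtain ⟨-, d, -, h2⟩ := h hb
    have hz := hU _ (T.inv_mem ha) _ (hU _ (T.inv_mem hb) y hy)
    set z := ((a⁻¹ : GL (Fin 3) F) : Matrix (Fin 3) (Fin 3) F) *ᵥ
      (((b⁻¹ : GL (Fin 3) F) : Matrix (Fin 3) (Fin 3) F) *ᵥ y) with hz'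
    have e : y = (b : Matrix (Fin 3) (Fin 3) F) *ᵥ ((a : Matrix (Fin 3) (Fin 3) F) *ᵥ z) := by
      rw [hz', mulVec_inv_mulVec, mulVec_inv_mulVec]
    rw [commutatorElement_def, mul_mulVec, mul_mulVec, mul_mulVec, ← hz']
    convert W.sub_mem (W.add_mem (hW a ha _ (h2 z hz)) (W.smul_mem (d : F) (h1 z hz)))
      (W.add_mem (hW b hb _ (h1 z hz)) (W.smul_mem (c : F) (h2 z hz))) using 1
    rw [e]
    simp only [mulVec_sub, mulVec_smul, Units.val_one]
    module
  obtain ⟨-, c, hc, h1⟩ := key hg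
  rw [Subgroup.mem_bot] at hc
  simpa [hc] using h1 x hx

theorem inv_bot (T : Subgroup (GL (Fin 3) F)) : Inv T ⊥ := fun _ _ w hw => by
  rw [Submodule.mem_bot] at hw ⊢; rw [hw, mulVec_zero]

theorem inv_top (T : Subgroup (GL (Fin 3) F)) : Inv T ⊤ := fun _ _ _ _ => Submodule.mem_top

theorem le_scalMod (hU : Inv T U) (hW : Inv T W) {u : Fin 3 → F} (hu : u ∈ U) (hu' : u ∉ W)
    (h : ∀ x ∈ U, ∃ a : F, x - a • u ∈ W) : T ≤ scalMod hU hW ⊤ := fun g hg => by
  obtain ⟨c, hc⟩ := h _ (hU g hg u hu)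
  have h0 : c ≠ 0 := by
    rintro rfl
    have := hW _ (T.inv_mem hg) _ hc
    rw [zero_smul, sub_zero, inv_mulVec_mulVec] at this
    exact hu' this
  refine ⟨hg, Units.mk0 c h0, Subgroup.mem_top _, fun x hx => ?_⟩
  obtain ⟨a, ha⟩ := h x hx
  convert W.add_mem (W.sub_mem (hW g hg _ ha) (W.smul_mem c ha)) (W.smul_mem a hc) using 1
  simp only [mulVec_sub, mulVec_smul, Units.val_mk0]
  module

theorem le_scalMod_of_inv (hU : Inv T U) (hW : Inv T W)
    (hg : T ≤ Subgroup.closure {t | t ∈ T ∧ t * t = 1})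
    (h : ∀ t ∈ T, t * t = 1 → t ≠ 1 → ∀ x ∈ U, (t : Matrix (Fin 3) (Fin 3) F) *ᵥ x + x ∈ W) :
    T ≤ scalMod hU hW ⊤ := by
  refine hg.trans ((Subgroup.closure_le _).2 ?_)
  rintro t ⟨ht, h2⟩
  by_cases h1 : t = 1
  · rw [h1]; exact Subgroup.one_mem _
  · exact ⟨ht, -1, Subgroup.mem_top _, fun x hx => by simpa using h t ht h2 h1 x hx⟩

theorem exists_inv_of_closure (hne : T ≠ ⊥) (hg : T ≤ Subgroup.closure {t | t ∈ T ∧ t * t = 1}) :
    ∃ t ∈ T, t * t = 1 ∧ t ≠ 1 := by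
  by_contra hc
  push Not at hc
  refine hne (eq_bot_iff.2 (hg.trans ((Subgroup.closure_le _).2 ?_)))
  rintro t ⟨ht, h2⟩
  exact hc t ht h2

theorem irr_of_inv (h2 : (2 : F) ≠ 0) (hT : ⁅T, T⁆ = T) (hne : T ≠ ⊥)
    (hg : T ≤ Subgroup.closure {t | t ∈ T ∧ t * t = 1}) : Irr T := by
  intro W hW
  by_contra hc
  push Not at hc
  obtain ⟨t₀, ht₀, s₀, n₀⟩ := exists_inv_of_closure hne hg
  have hsl := le_sl_of_perfect hT
  have half : ∀ {U : Submodule F (Fin 3 → F)} {x : Fin 3 → F}, (2 : F) • x ∈ U → x ∈ U :=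
    fun {U x} hx => (U.smul_mem_iff h2).1 hx
  have hpos : Module.finrank F W ≠ 0 := fun e => hc.1 (Submodule.finrank_eq_zero.1 e)
  have hlt : Module.finrank F W < 3 := by
    have := Submodule.finrank_lt hc.2
    rwa [Module.finrank_fin_fun] at this
  obtain h1 | h1 : Module.finrank F W = 1 ∨ Module.finrank F W = 2 := by omega
  · obtain ⟨u, hu0, hu⟩ := finrank_eq_one_iff'.1 h1
    have hu1 : (u : Fin 3 → F) ∉ (⊥ : Submodule F (Fin 3 → F)) := fun e =>
      hu0 (Subtype.ext ((Submodule.mem_bot F).1 e))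
    have a1 := le_scalMod hW (inv_bot T) u.2 hu1 fun x hx => by
      obtain ⟨c, hc⟩ := hu ⟨x, hx⟩
      exact ⟨c, by rw [Submodule.mem_bot, sub_eq_zero]; exact (congrArg Subtype.val hc).symm⟩
    have a2 : ∀ t ∈ T, t * t = 1 → t ≠ 1 → ∀ x ∈ (⊤ : Submodule F (Fin 3 → F)),
        (t : Matrix (Fin 3) (Fin 3) F) *ᵥ x + x ∈ W := fun t ht s n x _ => by
      obtain ⟨v, φ, -, e⟩ := exists_vec_of_sq h2 (hsl ht) s n
      have e1 := triv_mod hT hW (inv_bot T) a1 ht u.2
      rw [Submodule.mem_bot, e] at e1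
      have e2 : (2 * φ ⬝ᵥ u) • v = (2 : F) • (u : Fin 3 → F) := by
        linear_combination (norm := module) e1
      have e3 : (2 * φ ⬝ᵥ u) ≠ 0 := fun z => by
        rw [z, zero_smul] at e2
        exact hu1 (half (by rw [← e2]; exact zero_mem _))
      have hv : v ∈ W := (W.smul_mem_iff e3).1 (by rw [e2]; exact W.smul_mem _ u.2)
      rw [e]
      convert W.smul_mem (2 * φ ⬝ᵥ x) hv using 1
      abel
    refine hc.2 (eq_top_iff.2 fun x hx => half ?_)
    convert W.sub_mem (a2 t₀ ht₀ s₀ n₀ x hx) (triv_mod hT (inv_top T) hW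
      (le_scalMod_of_inv (inv_top T) hW hg a2) ht₀ hx) using 1
    module
  · obtain ⟨y, hy⟩ : ∃ y, y ∉ W := by
      by_contra hn
      push Not at hn
      exact hc.2 (eq_top_iff.2 fun x _ => hn x)
    have htop : W ⊔ Submodule.span F {y} = ⊤ := by
      apply Submodule.eq_top_of_finrank_eq
      have hl : W < W ⊔ Submodule.span F {y} := lt_of_le_of_ne le_sup_left fun e =>
        hy (e ▸ Submodule.mem_sup_right (Submodule.mem_span_singleton_self y))
      have l1 := Submodule.finrank_lt_finrank_of_lt hl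
      have l2 := Submodule.finrank_le (W ⊔ Submodule.span F {y})
      rw [Module.finrank_fin_fun] at l2 ⊢
      omega
    have a1 := le_scalMod (inv_top T) hW Submodule.mem_top hy fun x hx => by
      rw [← htop, Submodule.mem_sup] at hx
      obtain ⟨w, hw, z, hz, rfl⟩ := hx
      obtain ⟨a, rfl⟩ := Submodule.mem_span_singleton.1 hz
      exact ⟨a, by simpa using hw⟩
    have a2 : ∀ t ∈ T, t * t = 1 → t ≠ 1 → ∀ x ∈ W,
        (t : Matrix (Fin 3) (Fin 3) F) *ᵥ x + x ∈ (⊥ : Submodule F (Fin 3 → F)) :=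
      fun t ht s n x hx => by
      obtain ⟨v, φ, -, e⟩ := exists_vec_of_sq h2 (hsl ht) s n
      have e1 := triv_mod hT (inv_top T) hW a1 ht (x := y) Submodule.mem_top
      have hv : v ∉ W := fun hv => hy (half (by
        convert W.sub_mem (W.smul_mem (2 * φ ⬝ᵥ y) hv) e1 using 1
        rw [e]; module))
      have e2 := W.add_mem (hW t ht x hx) hx
      rw [e] at e2 ⊢
      have e3 : -x + (2 * φ ⬝ᵥ x) • v + x = (2 * φ ⬝ᵥ x) • v := by abel
      rw [e3] at e2 ⊢
      by_cases z : 2 * φ ⬝ᵥ x = 0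
      · rw [z, zero_smul]; exact zero_mem _
      · exact absurd ((W.smul_mem_iff z).1 e2) hv
    refine hc.1 (eq_bot_iff.2 fun x hx => half ?_)
    convert Submodule.sub_mem _ (a2 t₀ ht₀ s₀ n₀ x hx) (triv_mod hT hW (inv_bot T)
      (le_scalMod_of_inv hW (inv_bot T) hg a2) ht₀ hx) using 1
    module

theorem spans_of_inv [Finite F] (h2 : (2 : F) ≠ 0) (hT : ⁅T, T⁆ = T) (hne : T ≠ ⊥)
    (hg : T ≤ Subgroup.closure {t | t ∈ T ∧ t * t = 1}) : Spans T := by
  have hI := irr_of_inv h2 hT hne hg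
  refine spans_of_absIrr hI fun M hM => ?_
  obtain ⟨t, ht, s, n⟩ := exists_inv_of_closure hne hg
  obtain ⟨v, φ, h1, e⟩ := exists_vec_of_sq h2 (le_sl_of_perfect hT ht) s n
  have hv : v ≠ 0 := by rintro rfl; simp at h1
  have e1 : M *ᵥ v = (φ ⬝ᵥ (M *ᵥ v)) • v := by
    have a := congrArg (· *ᵥ v) (hM t ht)
    simp only [← mulVec_mulVec] at a
    rw [e, e, h1, mulVec_add, mulVec_neg, mulVec_smul] at a
    refine smul_right_injective _ h2 ?_
    linear_combination (norm := module) a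
  set c := φ ⬝ᵥ (M *ᵥ v)
  have hE : Inv T (LinearMap.ker (Matrix.toLin' (M - c • (1 : Matrix (Fin 3) (Fin 3) F)))) :=
    fun g hg w hw => by
      rw [LinearMap.mem_ker, toLin'_apply] at hw ⊢
      rw [mulVec_mulVec, sub_mul, hM g hg, smul_mul_assoc, one_mul]
      rw [sub_mulVec, smul_mulVec, one_mulVec, sub_eq_zero] at hw
      rw [sub_mulVec, ← mulVec_mulVec, hw, mulVec_smul, smul_mulVec, sub_self]
  have htop := hI.eq_top_of_mem hE (v := v) (by
    rw [LinearMap.mem_ker, toLin'_apply, sub_mulVec, smul_mulVec, one_mulVec, ← e1, sub_self]) hv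
  rw [LinearMap.ker_eq_top, map_eq_zero_iff _ Matrix.toLin'.injective, sub_eq_zero] at htop
  exact ⟨c, htop⟩

theorem not_isSolvable_of_perfect {Γ : Type*} [Group Γ] {A : Subgroup Γ} (hA : ⁅A, A⁆ = A)
    (hne : A ≠ ⊥) : ¬ Group.IsSolvable A := fun _ => by
  haveI := (Subgroup.nontrivial_iff_ne_bot A).2 hne
  refine (Group.IsSolvable.commutator_lt_top_of_nontrivial A).ne ?_
  apply Subgroup.map_injective A.subtype_injective
  rw [commutator_def, Subgroup.map_commutator, ← MonoidHom.range_eq_map, Subgroup.range_subtype, hA]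

theorem exists_inv_of_perfect {Γ : Type*} [Group Γ] [Finite Γ] {A : Subgroup Γ} (hA : ⁅A, A⁆ = A)
    (hne : A ≠ ⊥) : ∃ t ∈ A, t * t = 1 ∧ t ≠ 1 := by
  have h : 2 ∣ Nat.card A := by
    by_contra h
    exact not_isSolvable_of_perfect hA hne (S0205.result (Nat.odd_iff.2 (by omega)))
  obtain ⟨t, ht⟩ := exists_prime_orderOf_dvd_card' 2 h
  refine ⟨t, t.2, ?_, fun e => ?_⟩
  · have := congrArg Subtype.val (pow_orderOf_eq_one t)
    rwa [ht, pow_two] at this
  · rw [← Subgroup.orderOf_coe, e, orderOf_one] at ht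
    omega

theorem notMem_scalars_of_sq {t : GL (Fin 3) F} (hd : t ∈ specialLinear (Fin 3) F) (h : t * t = 1)
    (h1 : t ≠ 1) : t ∉ scalars (Fin 3) F := fun hs => by
  obtain ⟨c, -, hc⟩ := coe_eq_smul_of_mem_scalars hs
  have h3 := cube_eq_one_of_det hd (specialLinear (Fin 3) F).one_mem hc
  have h2 : c ^ 2 = 1 := by
    have := congrArg Units.val h
    rw [Units.val_mul, hc, smul_mul_smul_comm, one_mul, Units.val_one] at this
    rw [pow_two]
    exact smul_one_inj (this.trans (one_smul _ _).symm)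
  rw [eq_one_of_cube h3 (Or.inl (by norm_num)) h2, one_smul] at hc
  exact h1 (Units.ext hc)

theorem spans_of_min [Finite F] (h2 : (2 : F) ≠ 0) {N : Subgroup (GL (Fin 3) F)} (hT : ⁅T, T⁆ = T)
    (hne : T ≠ ⊥) (hN : NormsG N T)
    (hmin : ∀ K ≤ T, NormsG N K → K ≤ scalars (Fin 3) F ∨ K = T) : Spans T := by
  refine spans_of_inv h2 hT hne ?_
  obtain ⟨t, ht, s, n⟩ := exists_inv_of_perfect hT hne
  refine ((hmin _ ((Subgroup.closure_le _).2 fun _ h => h.1) fun g hg x hx => ?_).resolve_left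
    fun h => notMem_scalars_of_sq (le_sl_of_perfect hT ht) s n
      (h (Subgroup.subset_closure (show t ∈ {t | t ∈ T ∧ t * t = 1} from ⟨ht, s⟩)))).ge
  have : Subgroup.closure {t | t ∈ T ∧ t * t = 1} ≤
      (Subgroup.closure {t | t ∈ T ∧ t * t = 1}).comap (MulAut.conj g).toMonoidHom := by
    rw [Subgroup.closure_le]
    rintro y ⟨hy, sy⟩
    refine Subgroup.subset_closure ⟨hN g hg y hy, ?_⟩
    rw [← map_mul, sy, map_one]
  exact this hx

theorem qs_of_min [Finite F] (h2 : (2 : F) ≠ 0) (hT : ⁅T, T⁆ = T) (hne : T ≠ ⊥)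
    (hmin : ∀ K ≤ T, NormsG T K → K ≤ scalars (Fin 3) F ∨ K = T) : QS T :=
  ⟨by simp, hT, spans_of_min h2 hT hne (normsG_self T) hmin, hmin⟩

theorem exists_minN (H : Subgroup (GL (Fin 3) F)) [Finite F] {N : Subgroup (GL (Fin 3) F)}
    (hN : NormsG H N) (hns : ¬ N ≤ scalars (Fin 3) F) :
    ∃ T ≤ N, NormsG H T ∧ ¬ T ≤ scalars (Fin 3) F ∧
      ∀ K ≤ T, NormsG H K → K ≤ scalars (Fin 3) F ∨ K = T := by
  obtain ⟨T, hT, hTmin⟩ := WellFounded.has_min (wellFounded_lt (α := Subgroup (GL (Fin 3) F)))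
    {T | T ≤ N ∧ NormsG H T ∧ ¬ T ≤ scalars (Fin 3) F} ⟨N, le_rfl, hN, hns⟩
  refine ⟨T, hT.1, hT.2.1, hT.2.2, fun K hK hK' => ?_⟩
  by_contra hc
  push Not at hc
  exact hTmin K ⟨hK.trans hT.1, hK', hc.1⟩ (lt_of_le_of_ne hK hc.2)

theorem exists_qs [Finite F] (h2 : (2 : F) ≠ 0) {M : Subgroup (GL (Fin 3) F)}
    (hM : ¬ M ≤ scalars (Fin 3) F)
    (hA : ∀ N ≤ M, NormsG M N → ⁅N, N⁆ ≤ scalars (Fin 3) F → N ≤ scalars (Fin 3) F) :
    ∃ P ≤ M, QS P ∧ NormsG M P := by
  obtain ⟨N, hle, hN, hns, hmin⟩ := exists_minN M (normsG_self M) hM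
  obtain ⟨T, hT, hT1, hT2, hT3⟩ := exists_minN N (normsG_self N) hns
  have hnc : ∀ g ∈ M, ∀ K, NormsG N K → NormsG N (cG g K) := by
    intro g hg K hK n hn x hx
    rw [mem_cG] at hx ⊢
    have := hK _ (hN g⁻¹ (M.inv_mem hg) n hn) _ hx
    simpa [mul_assoc] using this
  have hcl : ∀ g ∈ M, cG g T ≤ N := by
    rintro g hg _ ⟨x, hx, rfl⟩
    exact hN g hg x (hT hx)
  have hdist : ∀ g ∈ M, T ≤ cG g T ∨ ⁅T, cG g T⁆ ≤ scalars (Fin 3) F := fun g hg => by
    rcases hT3 _ inf_le_left (hT1.inf (hnc g hg T hT1)) with h | h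
    · exact Or.inr ((le_inf (commutator_le_of_normsG_left (hT1.mono (hcl g hg)))
        (commutator_le_of_normsG_right ((hnc g hg T hT1).mono hT))).trans h)
    · exact Or.inl (inf_eq_left.1 h)
  have hTperf : ⁅T, T⁆ = T := by
    refine (hT3 _ (commutator_le_of_normsG_left (normsG_self T))
      (hT1.commutator hT1)).resolve_left fun h => ?_
    have h1 : ∀ g ∈ M, ⁅T, cG g T⁆ ≤ scalars (Fin 3) F := fun g hg => by
      refine (hdist g hg).elim (fun h' => ?_) id
      refine (Subgroup.commutator_mono h' le_rfl).trans ?_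
      rw [← Subgroup.map_commutator]
      exact cG_le_scalars.2 h
    have h1' : ∀ g k : M, ⁅cG g.1 T, cG k.1 T⁆ ≤ scalars (Fin 3) F := fun g k => by
      have e : cG k.1 T = cG g.1 (cG (g.1⁻¹ * k.1) T) := by
        rw [cG_cG, mul_inv_cancel_left]
      rw [e, ← Subgroup.map_commutator]
      exact cG_le_scalars.2 (h1 _ (M.mul_mem (M.inv_mem g.2) k.2))
    refine hT2 (le_trans ?_ (hA (⨆ g : M, cG g.1 T) (iSup_le fun g => (hcl g g.2).trans hle)
      (fun g hg x hx => ?_) ?_))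
    · exact le_trans (cG_one T).ge (le_iSup (fun g : M => cG g.1 T) 1)
    · have : (⨆ g : M, cG g.1 T) ≤ (⨆ g : M, cG g.1 T).comap (MulAut.conj g).toMonoidHom :=
        iSup_le fun k y hy => Subgroup.mem_iSup_of_mem (⟨_, M.mul_mem hg k.2⟩ : M) (by
          have := conj_mem_cG (g := g) hy
          rwa [cG_cG] at this)
      exact this hx
    · rw [Subgroup.commutator_le]
      intro a ha b hb
      rw [commutatorElement_def, commute_mk_iff]
      refine Subgroup.iSup_induction _ (C := fun a => Commute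
        (QuotientGroup.mk' (scalars (Fin 3) F) a) (QuotientGroup.mk' (scalars (Fin 3) F) b)) ha
        (fun S a ha => ?_) (by simp) fun x y hx hy => ?_
      · refine Subgroup.iSup_induction _ (C := fun b => Commute
          (QuotientGroup.mk' (scalars (Fin 3) F) a) (QuotientGroup.mk' (scalars (Fin 3) F) b)) hb
          (fun S' b hb => ?_) (by simp) fun x y hx hy => ?_
        · rw [← commute_mk_iff]
          exact h1' S S' (Subgroup.commutator_mem_commutator ha hb)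
        · rw [map_mul]; exact hx.mul_right hy
      · rw [map_mul]; exact hx.mul_left hy
  have hne : T ≠ ⊥ := fun e => hT2 (e ▸ bot_le)
  have hsp := spans_of_min h2 hTperf hne hT1 hT3
  have hnorm : NormsG M T := fun g hg x hx => by
    rcases hdist g⁻¹ (M.inv_mem hg) with h | h
    · simpa using mem_cG.1 (h hx)
    · refine absurd ((cG_le_scalars (g := g⁻¹)).1 fun y hy => hsp.mem_scalars
        (commute_of_perfect hTperf fun z hz => ?_)) hT2
      rw [Subgroup.commutator_comm] at h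
      exact h (Subgroup.commutator_mem_commutator hy hz)
  have e : T = N := (hmin T hT hnorm).resolve_left hT2
  exact ⟨T, hT.trans hle, ⟨by simp, hTperf, hsp, fun K hK hK' => hT3 K hK (e ▸ hK')⟩, hnorm⟩

end Cfsg.Agent.Cl.D3
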