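import Mathlib
import Cfsg.Agent.Cl.MaxOSing

/-!
# Maximality in `Ω`: local lemmas on non-degenerate subspaces

Vectors of a given square class (`Cls`), connectedness (`conn`) for good subspaces (`Good`),
vectors in hyperplanes, vectors of equal norm with prescribed difference, and additive
subgroups of planes invariant under reflections.
-/

set_option autoImplicit false
set_option linter.unusedSectionVars false
set_option linter.unusedVariables false

namespace Cfsg.Agent.Cl.MaxO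

open Module QuadraticMap

section Field

variable {F : Type*} [Field F]

theorem quad_roots {a b c : F} (h : a ≠ 0 ∨ b ≠ 0 ∨ c ≠ 0) :
    ∃ r s, ∀ x, a * x ^ 2 + b * x + c = 0 → x = r ∨ x = s := by
  by_cases H : ∃ r, a * r ^ 2 + b * r + c = 0
  · obtain ⟨r, hr⟩ := H
    refine ⟨r, -r - b / a, fun x hx => ?_⟩
    have : (x - r) * (a * (x + r) + b) = 0 := by linear_combination hx - hr
    rcases mul_eq_zero.1 this with h1 | h1
    · exact .inl (sub_eq_zero.1 h1)
    · by_cases ha : a = 0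
      · have hb : b = 0 := by simpa [ha] using h1
        have hc : c = 0 := by simpa [ha, hb] using hr
        simp [ha, hb, hc] at h
      · right; field_simp; linear_combination h1
  · exact ⟨0, 0, fun x hx => (H ⟨x, hx⟩).elim⟩

theorem exists_notMem_list [Finite F] (l : List F) (h : l.length < Nat.card F) : ∃ x, x ∉ l := by
  classical
  have := Fintype.ofFinite F
  by_contra H
  push Not at H
  have h1 : (Finset.univ : Finset F) ⊆ l.toFinset := fun x _ => List.mem_toFinset.2 (H x)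
  have := (Finset.card_le_card h1).trans (List.toFinset_card_le l)
  rw [Finset.card_univ, ← Nat.card_eq_fintype_card] at this
  omega

theorem two_le_card [Finite F] : 2 ≤ Nat.card F := Finite.one_lt_card

theorem eq_zero_or_one [Finite F] (h : Nat.card F = 2) (a : F) : a = 0 ∨ a = 1 := by
  classical
  have := Fintype.ofFinite F
  by_contra H
  push Not at H
  have h1 : ({0, 1, a} : Finset F).card ≤ Fintype.card F := Finset.card_le_univ _
  rw [Finset.card_eq_three.2 ⟨0, 1, a, zero_ne_one, H.1.symm, H.2.symm, rfl⟩,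
    ← Nat.card_eq_fintype_card] at h1
  omega

theorem two_eq_zero_of_card [Finite F] (h : Nat.card F = 2) : (2 : F) = 0 := by
  rcases eq_zero_or_one h 2 with h | h
  · exact h
  · exact absurd (by linear_combination h : (1 : F) = 0) one_ne_zero

theorem two_ne_zero_of_card_three [Finite F] (h : Nat.card F = 3) : (2 : F) ≠ 0 := by
  have := Fintype.ofFinite F
  exact o_two_ne_zero_of_odd_card (by rw [← Nat.card_eq_fintype_card, h]; decide)

theorem card_cases [Finite F] (h2 : (2 : F) ≠ 0) (h3 : Nat.card F ≠ 3) : 5 ≤ Nat.card F := by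
  have := Fintype.ofFinite F
  have h := o_odd_card_of_two_ne_zero h2
  rw [← Nat.card_eq_fintype_card] at h
  have := two_le_card (F := F)
  obtain ⟨k, hk⟩ := h
  omega

theorem isSq_trans [Finite F] {a b c : F} (hb : b ≠ 0) (h1 : IsSquare (a * b))
    (h2 : IsSquare (b * c)) : IsSquare (a * c) :=
  quad_isSquare_of_mul (mul_ne_zero hb hb) ⟨b, rfl⟩
    (by rw [show a * c * (b * b) = a * b * (b * c) by ring]; exact h1.mul h2)

theorem isSq_three [Finite F] {a b c : F} (ha : a ≠ 0) :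
    IsSquare (a * b) ∨ IsSquare (a * c) ∨ IsSquare (b * c) := by
  by_contra H
  push Not at H
  exact H.2.2 (quad_isSquare_of_mul (mul_ne_zero ha ha) ⟨a, rfl⟩
    (by convert quad_isSquare_mul_of_not H.1 H.2.1 using 1; ring))

end Field

variable {F V : Type*} [Field F] [AddCommGroup V] [Module F V] {Q : QuadraticForm F V}

theorem exists_notMem_two {S T U : Submodule F V} {x y : V} (hx : x ∈ U) (hy : y ∈ U)
    (hxS : x ∉ S) (hyT : y ∉ T) : ∃ z ∈ U, z ∉ S ∧ z ∉ T := by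
  by_cases a : x ∈ T
  · by_cases b : y ∈ S
    · exact ⟨x + y, U.add_mem hx hy, fun h => hxS (by simpa using S.sub_mem h b),
        fun h => hyT (by simpa using T.sub_mem h a)⟩
    · exact ⟨y, hy, b, hyT⟩
  · exact ⟨x, hx, hxS, a⟩

theorem mem_operp_one {x y : V} : y ∈ operp Q (Submodule.span F {x}) ↔ polar Q x y = 0 := by
  rw [mem_operp_span]; simp

theorem mem_operp_two {x x' y : V} :
    y ∈ operp Q (Submodule.span F {x, x'}) ↔ polar Q x y = 0 ∧ polar Q x' y = 0 := by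
  rw [mem_operp_span]; simp

theorem span_one_le {S : Submodule F V} {x : V} (hx : x ∈ S) : Submodule.span F {x} ≤ S :=
  (Submodule.span_singleton_le_iff_mem x S).2 hx

theorem span_two_le {S : Submodule F V} {x y : V} (hx : x ∈ S) (hy : y ∈ S) :
    Submodule.span F {x, y} ≤ S :=
  Submodule.span_le.2 (by rintro _ (rfl | rfl) <;> assumption)

theorem mem_span_two_left (x y : V) : x ∈ Submodule.span F {x, y} :=
  Submodule.subset_span (by simp)

theorem mem_span_two_right (x y : V) : y ∈ Submodule.span F {x, y} :=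
  Submodule.subset_span (by simp)

theorem finrank_span_two {x y : V} (hx : x ≠ 0) (hy : y ∉ Submodule.span F {x}) :
    finrank F (Submodule.span F {x, y}) = 2 := by
  have h := finrank_span_eq_card (o_linearIndependent_of_notMem hx hy)
  rw [show Set.range ![x, y] = {x, y} by
    ext z; simp [Matrix.range_cons, Matrix.range_empty, or_comm]] at h
  simpa using h

variable (Q) in
/-- `v` is non-singular, of the square class of `γ`. -/
def Cls (γ : F) (v : V) : Prop := Q v ≠ 0 ∧ IsSquare (Q v * γ)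

theorem cls_self {v : V} (hv : Q v ≠ 0) : Cls Q (Q v) v := ⟨hv, ⟨Q v, rfl⟩⟩

theorem cls_of_eq {γ t : F} {v : V} (hγ : γ ≠ 0) (ht : t ≠ 0) (h : Q v = γ * t ^ 2) :
    Cls Q γ v :=
  ⟨by rw [h]; exact mul_ne_zero hγ (pow_ne_zero _ ht), ⟨γ * t, by rw [h]; ring⟩⟩

theorem cls_of_eq' {γ : F} {v : V} (hγ : γ ≠ 0) (h : Q v = γ) : Cls Q γ v :=
  cls_of_eq hγ one_ne_zero (by rw [h]; ring)

theorem Cls.map {γ : F} {v : V} (h : Cls Q γ v) (g : OG Q) : Cls Q γ (g.1 v) := by
  unfold Cls at *; rwa [OG.map_app]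

theorem Cls.of_eq {γ : F} {v w : V} (h : Cls Q γ v) (e : Q w = Q v) : Cls Q γ w := by
  unfold Cls at *; rwa [e]

theorem Cls.sq [Finite F] {γ : F} (hγ : γ ≠ 0) {v w : V} (h : Cls Q γ v) (h' : Cls Q γ w) :
    IsSquare (Q v * Q w) :=
  isSq_trans hγ h.2 (by rw [mul_comm]; exact h'.2)

theorem cls_of_two [Finite F] (h2 : (2 : F) = 0) (γ : F) {v : V} (hv : Q v ≠ 0) : Cls Q γ v :=
  ⟨hv, quad_isSquare_of_two_eq_zero h2 _⟩

variable (Q) in
/-- Plus type. -/
def IsPlus (U : Submodule F V) : Prop :=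
  ∃ T ≤ U, (∀ w ∈ T, Q w = 0) ∧ 2 * finrank F T = finrank F U

theorem isPlus_of_singular {U : Submodule F V} (h2 : finrank F U = 2) {u : V} (hu : u ∈ U)
    (hu0 : u ≠ 0) (hq : Q u = 0) : IsPlus Q U :=
  ⟨Submodule.span F {u}, span_one_le hu, fun w hw => by
    obtain ⟨a, rfl⟩ := Submodule.mem_span_singleton.1 hw
    rw [o_qsmul, hq, mul_zero], by rw [finrank_span_singleton hu0, h2]⟩

theorem aniso_of_not_isPlus {U : Submodule F V} (h2 : finrank F U = 2) (h : ¬ IsPlus Q U) {u : V}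
    (hu : u ∈ U) (hu0 : u ≠ 0) : Q u ≠ 0 := fun hq => h (isPlus_of_singular h2 hu hu0 hq)

theorem IsPlus.exists_singular {U : Submodule F V} (h : IsPlus Q U) (h2 : finrank F U = 2) :
    ∃ u ∈ U, u ≠ 0 ∧ Q u = 0 := by
  obtain ⟨T, hT, h1, h3⟩ := h
  obtain ⟨u, hu, hu0⟩ := Submodule.exists_mem_ne_zero_of_ne_bot (p := T) (fun H => by
    rw [H, finrank_bot] at h3; omega)
  exact ⟨u, hT hu, hu0, h1 u hu⟩

variable (Q) in
/-- The subspaces for which the reflections in one class of vectors act irreducibly. -/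
def Good (U : Submodule F V) : Prop :=
  5 ≤ finrank F U ∨ (finrank F U = 4 ∧ ¬ (Nat.card F = 2 ∧ IsPlus Q U)) ∨
    (finrank F U = 3 ∧ Nat.card F ≠ 3) ∨
    (finrank F U = 2 ∧ (7 ≤ Nat.card F ∨ (¬ IsPlus Q U ∧ Nat.card F ≠ 3)))

theorem Good.two_le {U : Submodule F V} (h : Good Q U) : 2 ≤ finrank F U := by
  rcases h with h | h | h | h <;> omega

variable [FiniteDimensional F V] [Finite F]

theorem ne_bot_of_finrank {S : Submodule F V} (h : 1 ≤ finrank F S) : S ≠ ⊥ := fun H => by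
  rw [H, finrank_bot] at h; omega

theorem ND.exists_dual {U T : Submodule F V} (hU : ND Q U) (hT : T ≤ U) {x : V} (hx : x ∈ U)
    (hxT : x ∉ T) : ∃ y ∈ U, polar Q x y = 1 ∧ ∀ w ∈ T, polar Q w y = 0 := by
  obtain ⟨y, h1, h2⟩ := o_exists_dual hU.nondeg (W := T.comap U.subtype) (x := ⟨x, hx⟩) hxT 1
  exact ⟨y, y.2, h1, fun w hw => h2 ⟨w, hT hw⟩ hw⟩

theorem ND.two_ne_zero_of_one {S : Submodule F V} (hS : ND Q S) (h : finrank F S = 1) :
    (2 : F) ≠ 0 := fun h2 => by
  obtain ⟨x, hx, hx0⟩ := Submodule.exists_mem_ne_zero_of_ne_bot (ne_bot_of_finrank h.ge)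
  have hx1 : Submodule.span F {x} = S := Submodule.eq_of_le_of_finrank_eq (span_one_le hx)
    (by rw [finrank_span_singleton hx0, h])
  refine hx0 (hS x hx fun y hy => ?_)
  rw [← hx1] at hy
  obtain ⟨a, rfl⟩ := Submodule.mem_span_singleton.1 hy
  rw [o_polar_smul_right, o_polar_self, h2, zero_mul, mul_zero]

/-- A non-degenerate subspace of dimension at most two around a vector. -/
theorem ND.exists_around {U : Submodule F V} (hU : ND Q U) {p : V} (hp : p ∈ U) :
    ∃ T ≤ U, ND Q T ∧ p ∈ T ∧ finrank F T ≤ 2 ∧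
      (finrank F T ≤ 1 ∨ (p ≠ 0 ∧ (Q p = 0 ∨ (2 : F) = 0))) := by
  by_cases h0 : p = 0
  · exact ⟨⊥, bot_le, nd_bot, h0, by simp, .inl (by simp)⟩
  by_cases h : Q p = 0 ∨ (2 : F) = 0
  · obtain ⟨y, hy, hpy⟩ := hU.exists_polar_ne hp h0
    refine ⟨_, span_two_le hp hy, nd_span_pair ?_, mem_span_two_left _ _,
      finrank_span_pair_le p y, .inr ⟨h0, h⟩⟩
    rw [show 4 * Q p * Q y = 0 by
      rcases h with h | h
      · rw [h]; ring
      · rw [show (4 : F) = 2 * 2 by norm_num, h]; ring]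
    exact pow_ne_zero _ hpy
  · push Not at h
    exact ⟨_, span_one_le hp, nd_span_one h.2 h.1, Submodule.mem_span_singleton_self p,
      (finrank_span_one_le p).trans (by omega), .inl (finrank_span_one_le p)⟩

theorem ND.two_ne_zero_of_three {S : Submodule F V} (hS : ND Q S) (h : finrank F S = 3) :
    (2 : F) ≠ 0 := fun h2 => by
  obtain ⟨x, hx, hx0⟩ := Submodule.exists_mem_ne_zero_of_ne_bot
    (ne_bot_of_finrank (S := S) (by omega))
  obtain ⟨T, hT, h1, hxT, h3, -⟩ := hS.exists_around hx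
  have h4 := h1.finrank_inf_perp hT
  have h5 : 1 ≤ finrank F T := Submodule.one_le_finrank_iff.2 fun H => hx0 (by rwa [H] at hxT)
  by_cases h6 : finrank F T = 1
  · exact h1.two_ne_zero_of_one h6 h2
  · exact (hS.inf_perp h1 hT).two_ne_zero_of_one (by omega) h2

theorem exists_cls_polar_ne {U : Submodule F V} (hU : ND Q U)
    (hd : 3 ≤ finrank F U ∨ (finrank F U = 2 ∧ Nat.card F ≠ 3 ∧ (Nat.card F = 2 → ¬ IsPlus Q U)))
    {γ : F} (hγ : γ ≠ 0) {z w : V} (hw : w ∈ U) (hzw : polar Q z w ≠ 0) :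
    ∃ v ∈ U, Cls Q γ v ∧ polar Q z v ≠ 0 := by
  have hp := proj_mem hU z
  have hpz : ∀ v ∈ U, polar Q z v = polar Q (proj hU z) v := fun v hv =>
    (polar_proj_left hU hv z).symm
  rw [hpz w hw] at hzw
  suffices ∃ v ∈ U, Cls Q γ v ∧ polar Q (proj hU z) v ≠ 0 by
    obtain ⟨v, h1, h2, h3⟩ := this
    exact ⟨v, h1, h2, by rwa [hpz v h1]⟩
  generalize proj hU z = p at hp hzw
  have hp0 := o_ne_zero_of_polar_left hzw
  by_cases h2 : (2 : F) = 0
  swap
  · obtain ⟨x, t, ht, h1, h3⟩ := o_exists_class_polar_ne hU.nondeg h2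
      (hd.imp id fun h => ⟨h.1.ge, h.2.1⟩) hγ (y := ⟨p, hp⟩) fun H => hp0 (congrArg Subtype.val H)
    exact ⟨x, x.2, cls_of_eq hγ ht h1, h3⟩
  suffices ∃ v ∈ U, Q v ≠ 0 ∧ polar Q p v ≠ 0 by
    obtain ⟨v, h1, h3, h4⟩ := this
    exact ⟨v, h1, cls_of_two h2 γ h3, h4⟩
  by_cases hw0 : Q w = 0
  swap
  · exact ⟨w, hw, hw0, hzw⟩
  have hpp : polar Q p p = 0 := by rw [o_polar_self, h2, zero_mul]
  by_cases h3 : 3 ≤ finrank F U
  · have hT : ND Q (Submodule.span F {p, w}) := nd_span_pair (by simpa [hw0] using hzw)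
    have h4 := hT.finrank_inf_perp (span_two_le hp hw)
    have h5 := finrank_span_pair_le (F := F) p w
    obtain ⟨y, hy, hy0⟩ := (hU.inf_perp hT (span_two_le hp hw)).exists_nonsingular
      (ne_bot_of_finrank (by omega))
    obtain ⟨h6, h7⟩ := mem_operp_two.1 hy.2
    exact ⟨w + y, U.add_mem hw hy.1, by rw [o_qadd, hw0, h7]; simpa using hy0,
      by rw [polar_add_right, h6]; simpa using hzw⟩
  obtain ⟨h4, -, h5⟩ := hd.resolve_left h3
  have hq : Nat.card F ≠ 2 := fun h =>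
    h5 h (isPlus_of_singular h4 hw (o_ne_zero_of_polar_right hzw) hw0)
  obtain ⟨r, s, hrs⟩ := quad_roots (a := Q p) (b := polar Q p w) (c := 0) (.inr (.inl hzw))
  obtain ⟨x, hx⟩ := exists_notMem_list [r, s] (by have := two_le_card (F := F); simp; omega)
  refine ⟨w + x • p, U.add_mem hw (U.smul_mem _ hp), fun H => hx ?_, ?_⟩
  · simp only [oexp, hw0, polar_comm Q w p] at H
    simpa using hrs x (by linear_combination H)
  · rw [polar_add_right, o_polar_smul_right, hpp]; simpa using hzw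

theorem exists_cls_notMem {U : Submodule F V} (hU : ND Q U)
    (hd : 3 ≤ finrank F U ∨ (finrank F U = 2 ∧ Nat.card F ≠ 3 ∧ (Nat.card F = 2 → ¬ IsPlus Q U)))
    {γ : F} (hγ : γ ≠ 0) {P : Submodule F V} {x : V} (hx : x ∈ U) (hxP : x ∉ P) :
    ∃ v ∈ U, Cls Q γ v ∧ v ∉ P := by
  obtain ⟨y, hy, h1, h2⟩ := hU.exists_dual (T := P ⊓ U) inf_le_right hx fun h => hxP h.1
  obtain ⟨v, hv, h3, h4⟩ := exists_cls_polar_ne hU hd hγ (z := y) hx
    (by rw [polar_comm, h1]; exact one_ne_zero)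
  exact ⟨v, hv, h3, fun h => h4 (by rw [polar_comm]; exact h2 v ⟨h, hv⟩)⟩

theorem Good.span_cond {U : Submodule F V} (h : Good Q U) :
    3 ≤ finrank F U ∨ (finrank F U = 2 ∧ Nat.card F ≠ 3 ∧ (Nat.card F = 2 → ¬ IsPlus Q U)) := by
  rcases h with h | h | h | ⟨h, h' | h'⟩
  · left; omega
  · left; omega
  · left; omega
  · right; exact ⟨h, by omega, by omega⟩
  · right; exact ⟨h, h'.2, fun _ => h'.1⟩

theorem conn_plane {U : Submodule F V} (hd : finrank F U = 2)
    (hg : 7 ≤ Nat.card F ∨ (¬ IsPlus Q U ∧ Nat.card F ≠ 3)) (h2 : (2 : F) ≠ 0) {x y : V}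
    (hx : x ∈ U) (hy : y ∈ U) (hx0 : Q x ≠ 0) (hy0 : Q y ≠ 0)
    (hxy : polar Q x y = 0) :
    ∃ a b : F, a ≠ 0 ∧ b ≠ 0 ∧ a ^ 2 * Q x + b ^ 2 * Q y = Q x := by
  obtain ⟨r, s, hrs⟩ := quad_roots (a := Q x) (b := 0) (c := -Q y) (.inl hx0)
  obtain ⟨r', s', hrs'⟩ := quad_roots (a := Q x) (b := 0) (c := Q y) (.inl hx0)
  obtain ⟨α, h0, h1, h3⟩ : ∃ α : F, α ≠ 0 ∧ α ^ 2 * Q x - Q y ≠ 0 ∧ α ^ 2 * Q x + Q y ≠ 0 := by
    rcases hg with hg | hg
    · obtain ⟨α, hα⟩ := exists_notMem_list [0, r, s, r', s'] (by simp; omega)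
      simp only [List.mem_cons, List.not_mem_nil, or_false, not_or] at hα
      exact ⟨α, hα.1, fun H => by have := hrs α (by linear_combination H); tauto,
        fun H => by have := hrs' α (by linear_combination H); tauto⟩
    · obtain ⟨α, hα⟩ := exists_notMem_list [0, r, s] (by have := card_cases h2 hg.2; simp; omega)
      simp only [List.mem_cons, List.not_mem_nil, or_false, not_or] at hα
      refine ⟨α, hα.1, fun H => by have := hrs α (by linear_combination H); tauto, fun H => ?_⟩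
      refine aniso_of_not_isPlus hd hg.1 (U.add_mem (U.smul_mem α hx) hy) (fun H' => ?_) ?_
      · have := congrArg (polar Q y) H'
        simp only [oexp, polar_comm Q y x, hxy] at this
        exact mul_ne_zero h2 hy0 (by linear_combination this)
      · simp only [oexp, hxy]; linear_combination H
  refine ⟨(Q y - α ^ 2 * Q x) / (α ^ 2 * Q x + Q y), 2 * α * Q x / (α ^ 2 * Q x + Q y),
    div_ne_zero (fun H => h1 (by linear_combination -H)) h3,
      div_ne_zero (mul_ne_zero (mul_ne_zero h2 h0) hx0) h3, ?_⟩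
  field_simp; ring

theorem conn_step {U X Y : Submodule F V} (hU : ND Q U) (hg : Good Q U) (hX : ND Q X)
    (hY : ND Q Y) (hXU : X ≤ U) (hYU : Y ≤ U) (hXY : ∀ x ∈ X, ∀ y ∈ Y, polar Q x y = 0)
    (hd : finrank F X + finrank F Y = finrank F U) (hle : finrank F X ≤ finrank F Y)
    (hX0 : X ≠ ⊥) {γ : F} (hγ : γ ≠ 0) :
    ∃ x ∈ X, ∃ y ∈ Y, x ≠ 0 ∧ y ≠ 0 ∧ Cls Q γ (x + y) := by
  have hQ : ∀ x ∈ X, ∀ y ∈ Y, Q (x + y) = Q x + Q y := fun x hx y hy => by
    rw [o_qadd, hXY x hx y hy, add_zero]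
  have hX1 : 1 ≤ finrank F X := Submodule.one_le_finrank_iff.2 hX0
  obtain ⟨x, hx, hx0⟩ := hX.exists_nonsingular hX0
  have hx0' := o_ne_zero_of_norm hx0
  -- it suffices to find `x` and `t` with `γ t² ≠ Q x`
  have key : 2 ≤ finrank F Y → ∀ x ∈ X, x ≠ 0 → ∀ t, t ≠ 0 → γ * t ^ 2 ≠ Q x →
      ∃ x ∈ X, ∃ y ∈ Y, x ≠ 0 ∧ y ≠ 0 ∧ Cls Q γ (x + y) := fun h x hx hx0 t ht hne => by
    obtain ⟨y, hy, hy1⟩ := hY.exists_eq h (γ * t ^ 2 - Q x)
    exact ⟨x, hx, y, hy, hx0, o_ne_zero_of_norm (by rw [hy1]; exact sub_ne_zero.2 hne),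
      cls_of_eq hγ ht (by rw [hQ x hx y hy, hy1]; ring)⟩
  by_cases h3 : 3 ≤ finrank F Y
  · by_cases hxγ : Q x = γ
    · obtain ⟨y, hy, hy0, hy1⟩ := exists_singular_mem (Q := Q) h3
      exact ⟨x, hx, y, hy, hx0', hy0, cls_of_eq' hγ (by rw [hQ x hx y hy, hy1, hxγ, add_zero])⟩
    · exact key (by omega) x hx hx0' 1 one_ne_zero (by simpa using Ne.symm hxγ)
  by_cases h2 : finrank F Y = 2
  · by_cases hq : 4 ≤ Nat.card F
    · obtain ⟨r, s, hrs⟩ := quad_roots (a := γ) (b := 0) (c := -Q x) (.inl hγ)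
      obtain ⟨t, ht⟩ := exists_notMem_list [0, r, s] (by simp; omega)
      simp only [List.mem_cons, List.not_mem_nil, or_false, not_or] at ht
      exact key h2.ge x hx hx0' t ht.1 fun H => by
        have := hrs t (by linear_combination H); tauto
    by_cases hq3 : Nat.card F = 3
    · have hX2 : 2 ≤ finrank F X := by rcases hg with h | h | h | h <;> omega
      obtain ⟨x', hx', h1⟩ := hX.exists_eq hX2 (-γ)
      exact key h2.ge x' hx' (o_ne_zero_of_norm (by rw [h1]; exact neg_ne_zero.2 hγ)) 1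
        one_ne_zero fun H => mul_ne_zero (two_ne_zero_of_card_three hq3) hγ
          (by rw [h1] at H; linear_combination H)
    have hq2 : Nat.card F = 2 := by have := two_le_card (F := F); omega
    have h20 := two_eq_zero_of_card hq2
    have hX2 : finrank F X = 2 := by
      by_contra H
      exact hX.two_ne_zero_of_one (by omega) h20
    by_cases hXp : IsPlus Q X
    · obtain ⟨u, hu, hu0, hu1⟩ := hXp.exists_singular hX2
      exact key h2.ge u hu hu0 1 one_ne_zero (by rw [hu1]; simpa using hγ)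
    by_cases hYp : IsPlus Q Y
    · obtain ⟨u, hu, hu0, hu1⟩ := hYp.exists_singular h2
      exact ⟨x, hx, u, hu, hx0', hu0, cls_of_two h20 γ (by rwa [hQ x hx u hu, hu1, add_zero])⟩
    exfalso
    have hone : ∀ a : F, a ≠ 0 → a = 1 := fun a ha => (eq_zero_or_one hq2 a).resolve_left ha
    obtain ⟨x', hx', hxx'⟩ := hX.exists_polar_ne hx hx0'
    obtain ⟨y, hy, hy0⟩ := hY.exists_nonsingular (ne_bot_of_finrank (by omega))
    obtain ⟨y', hy', hyy'⟩ := hY.exists_polar_ne hy (o_ne_zero_of_norm hy0)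
    have e1 := hone _ hx0
    have e2 := hone _ (aniso_of_not_isPlus hX2 hXp hx' (o_ne_zero_of_polar_right hxx'))
    have e3 := hone _ hy0
    have e4 := hone _ (aniso_of_not_isPlus h2 hYp hy' (o_ne_zero_of_polar_right hyy'))
    have e5 := hone _ hxx'
    have e6 := hone _ hyy'
    have hxx : polar Q x x = 0 := by rw [o_polar_self, h20, zero_mul]
    have hT : finrank F (Submodule.span F {x + y, x' + y'}) = 2 := finrank_span_two (fun H => by
      have := congrArg (polar Q x') H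
      rw [polar_add_right, hXY x' hx' y hy, polar_comm, e5, polar_zero_right] at this
      simp at this) fun H => by
        obtain ⟨a, ha⟩ := Submodule.mem_span_singleton.1 H
        have := congrArg (polar Q x) ha
        simp only [o_polar_smul_right, polar_add_right, hxx, hXY x hx y hy, hXY x hx y' hy',
          e5] at this
        simp at this
    have hp : IsPlus Q U := ⟨_, span_two_le (U.add_mem (hXU hx) (hYU hy))
      (U.add_mem (hXU hx') (hYU hy')), o_singular_span_pair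
        (by rw [hQ x hx y hy, e1, e3]; linear_combination h20)
        (by rw [hQ x' hx' y' hy', e2, e4]; linear_combination h20) (by
          simp only [polar_add_left, polar_add_right, e5, e6, hXY x hx y' hy', polar_comm Q y x',
            hXY x' hx' y hy]
          linear_combination h20), by omega⟩
    rcases hg with h | h | h | h
    · omega
    · exact h.2 ⟨hq2, hp⟩
    · omega
    · omega
  have hU2 : finrank F U = 2 := by omega
  have h20 := hX.two_ne_zero_of_one (by omega)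
  have hg' : 7 ≤ Nat.card F ∨ (¬ IsPlus Q U ∧ Nat.card F ≠ 3) := by
    rcases hg with h | h | h | h
    · omega
    · omega
    · omega
    · exact h.2
  obtain ⟨y, hy, hy0⟩ := hY.exists_nonsingular (ne_bot_of_finrank (by omega))
  obtain ⟨v, hv, hv1⟩ := hU.exists_eq hU2.ge γ
  have hsup : X ⊔ Y = U := Submodule.eq_of_le_of_finrank_eq (sup_le hXU hYU) (by
    have := Submodule.finrank_sup_add_finrank_inf_eq X Y
    rw [hX.disjoint hXY, finrank_bot] at this; omega)
  obtain ⟨a, ha, b, hb, rfl⟩ := Submodule.mem_sup.1 (show v ∈ X ⊔ Y by rwa [hsup])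
  by_cases ha0 : a = 0
  · rw [ha0, zero_add] at hv1
    obtain ⟨s, t, hs, ht, hst⟩ := conn_plane hU2 hg' h20 (hYU hb) (hXU hx) (by rwa [hv1]) hx0
      (by rw [polar_comm]; exact hXY x hx b hb)
    refine ⟨t • x, X.smul_mem _ hx, s • b, Y.smul_mem _ hb, smul_ne_zero ht hx0',
      smul_ne_zero hs (o_ne_zero_of_norm (by rwa [hv1])), cls_of_eq' hγ ?_⟩
    rw [hQ _ (X.smul_mem _ hx) _ (Y.smul_mem _ hb), o_qsmul, o_qsmul, ← hv1]
    linear_combination hst
  by_cases hb0 : b = 0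
  · rw [hb0, add_zero] at hv1
    obtain ⟨s, t, hs, ht, hst⟩ := conn_plane hU2 hg' h20 (hXU ha) (hYU hy) (by rwa [hv1]) hy0
      (hXY a ha y hy)
    refine ⟨s • a, X.smul_mem _ ha, t • y, Y.smul_mem _ hy, smul_ne_zero hs ha0,
      smul_ne_zero ht (o_ne_zero_of_norm hy0), cls_of_eq' hγ ?_⟩
    rw [hQ _ (X.smul_mem _ ha) _ (Y.smul_mem _ hy), o_qsmul, o_qsmul, ← hv1]
    linear_combination hst
  exact ⟨a, ha, b, hb, ha0, hb0, cls_of_eq' hγ hv1⟩

/-- Connectedness of a class of vectors in a good subspace. -/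
theorem conn {U X : Submodule F V} (hU : ND Q U) (hg : Good Q U) {γ : F} (hγ : γ ≠ 0)
    (hXU : X ≤ U) (h : ∀ v ∈ U, Cls Q γ v → v ∈ X ∨ ∀ x ∈ X, polar Q x v = 0) :
    X = ⊥ ∨ X = U := by
  by_contra H
  push Not at H
  have hX : ND Q X := fun z hz hzX => by
    by_contra h0
    obtain ⟨w, hw, hzw⟩ := hU.exists_polar_ne (hXU hz) h0
    obtain ⟨v, hv, h1, h2⟩ := exists_cls_polar_ne hU hg.span_cond hγ hw hzw
    exact h2 ((h v hv h1).elim (hzX v) fun h3 => h3 z hz)
  have hY := hU.inf_perp hX hXU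
  have hd := hX.finrank_inf_perp hXU
  set Y := U ⊓ operp Q X
  have hXY : ∀ x ∈ X, ∀ y ∈ Y, polar Q x y = 0 := fun x hx y hy => mem_operp.1 hy.2 x hx
  have hY0 : Y ≠ ⊥ := fun h0 => H.2 (Submodule.eq_of_le_of_finrank_eq hXU (by
    rw [h0, finrank_bot] at hd; omega))
  obtain ⟨x, hx, y, hy, hx0, hy0, hc⟩ : ∃ x ∈ X, ∃ y ∈ Y, x ≠ 0 ∧ y ≠ 0 ∧ Cls Q γ (x + y) := by
    by_cases hle : finrank F X ≤ finrank F Y
    · exact conn_step hU hg hX hY hXU inf_le_left hXY (by omega) hle H.1 hγ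
    · obtain ⟨y, hy, x, hx, h1, h2, h3⟩ := conn_step hU hg hY hX inf_le_left hXU
        (fun y hy x hx => by rw [polar_comm]; exact hXY x hx y hy) (by omega) (by omega) hY0 hγ
      exact ⟨x, hx, y, hy, h2, h1, by rwa [add_comm]⟩
  rcases h _ (U.add_mem (hXU hx) hy.1) hc with h1 | h1
  · have : y ∈ X ⊓ Y := ⟨by simpa using X.sub_mem h1 hx, hy⟩
    rw [hX.disjoint hXY] at this
    exact hy0 this
  · exact hx0 (hX x hx fun w hw => by
      have := h1 w hw
      rwa [polar_add_right, hXY w hw y hy, add_zero, polar_comm] at this)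

/-! ### Vectors in hyperplanes -/

theorem exists_cls_perp {U : Submodule F V} (hU : ND Q U) (z : V) {γ : F} (hγ : γ ≠ 0)
    (P : Submodule F V)
    (hd : (5 ≤ finrank F U ∧ finrank F P + 3 ≤ finrank F U) ∨ (4 ≤ finrank F U ∧ P = ⊥)) :
    ∃ f ∈ U, Cls Q γ f ∧ polar Q z f = 0 ∧ f ∉ P := by
  obtain ⟨T, hT, h1, hp, h2, -⟩ := hU.exists_around (proj_mem hU z)
  have h3 := h1.finrank_inf_perp hT
  have hY := hU.inf_perp h1 hT
  have hz : ∀ f ∈ U ⊓ operp Q T, polar Q z f = 0 := fun f hf => by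
    rw [← polar_proj_left hU hf.1]; exact mem_operp.1 hf.2 _ hp
  rcases hd with hd | ⟨hd, rfl⟩
  · obtain ⟨x, hx, hxP⟩ := exists_mem_notMem_of_lt (S := U ⊓ operp Q T) (T := P) (by omega)
    obtain ⟨f, hf, h4, h5⟩ := exists_cls_notMem hY (.inl (by omega)) hγ hx hxP
    exact ⟨f, hf.1, h4, hz f hf, h5⟩
  · obtain ⟨f, hf, h4⟩ := hY.exists_eq (by omega) γ
    exact ⟨f, hf.1, cls_of_eq' hγ h4, hz f hf, o_ne_zero_of_norm (by rwa [h4])⟩

theorem notMem_span_add {f p : V} (hp0 : p ≠ 0) (hp : Q p = 0) (hf : Q f ≠ 0) :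
    f + p ∉ Submodule.span F {f} := fun H => by
  obtain ⟨a, ha⟩ := Submodule.mem_span_singleton.1
    (show p ∈ Submodule.span F {f} by
      simpa using Submodule.sub_mem _ H (Submodule.mem_span_singleton_self f))
  rw [← ha, o_qsmul] at hp
  exact hp0 (by rw [← ha, pow_eq_zero_iff two_ne_zero |>.1 ((mul_eq_zero.1 hp).resolve_right hf),
    zero_smul])

theorem exists_cls_perp_two {U : Submodule F V} (hU : ND Q U) (hd : 4 ≤ finrank F U) (z : V)
    {γ : F} (hγ : γ ≠ 0) : ∃ f ∈ U, ∃ h ∈ U, Cls Q γ f ∧ Cls Q γ h ∧ polar Q z f = 0 ∧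
      polar Q z h = 0 ∧ h ∉ Submodule.span F {f} := by
  obtain ⟨T, hT, h1, hp, h2, h2'⟩ := hU.exists_around (proj_mem hU z)
  have h3 := h1.finrank_inf_perp hT
  have hY := hU.inf_perp h1 hT
  have hz : ∀ f ∈ U, polar Q z f = polar Q (proj hU z) f := fun f hf =>
    (polar_proj_left hU hf z).symm
  generalize proj hU z = p at hp h2' hz
  have hz' : ∀ f ∈ U ⊓ operp Q T, polar Q z f = 0 := fun f hf => by
    rw [hz f hf.1]; exact mem_operp.1 hf.2 _ hp
  obtain ⟨f, hf, h4⟩ := hY.exists_eq (by omega) γ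
  have hf0 : Q f ≠ 0 := by rwa [h4]
  by_cases h5 : 3 ≤ finrank F ↥(U ⊓ operp Q T)
  · obtain ⟨x, hx, hxP⟩ := exists_mem_notMem_of_lt (S := U ⊓ operp Q T)
      (T := Submodule.span F {f}) (by have := finrank_span_one_le (F := F) f; omega)
    obtain ⟨h, hh, h6, h7⟩ := exists_cls_notMem hY (.inl h5) hγ hx hxP
    exact ⟨f, hf.1, h, hh.1, cls_of_eq' hγ h4, h6, hz' f hf, hz' h hh, h7⟩
  obtain ⟨hp0, h6⟩ := h2'.resolve_left (by omega)
  have hpf : polar Q p f = 0 := mem_operp.1 hf.2 _ hp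
  by_cases h7 : Q p = 0
  · refine ⟨f, hf.1, f + p, U.add_mem hf.1 (hT hp), cls_of_eq' hγ h4, cls_of_eq' hγ ?_, hz' f hf,
      ?_, notMem_span_add hp0 h7 hf0⟩
    · rw [o_qadd, polar_comm, hpf, h7, h4]; ring
    · rw [hz _ (U.add_mem hf.1 (hT hp)), polar_add_right, hpf, o_polar_self, h7]; ring
  · have h20 := h6.resolve_left h7
    refine ⟨f, hf.1, p, hT hp, cls_of_eq' hγ h4, cls_of_two h20 γ h7, hz' f hf,
      by rw [hz p (hT hp), o_polar_self, h20, zero_mul], fun H => hp0 ?_⟩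
    refine h1 p hp fun y hy => ?_
    rw [polar_comm]
    exact mem_operp.1 (span_one_le (S := operp Q T) hf.2 H) y hy

theorem exists_perp_two_of_three {U : Submodule F V} (hU : ND Q U) (hd : finrank F U = 3)
    (hq : Nat.card F ≠ 3) (z : V) : ∃ f ∈ U, ∃ h ∈ U, Q f ≠ 0 ∧ Cls Q (Q f) h ∧
      polar Q z f = 0 ∧ polar Q z h = 0 ∧ h ∉ Submodule.span F {f} := by
  have h20 := hU.two_ne_zero_of_three hd
  obtain ⟨T, hT, h1, hp, h2, h2'⟩ := hU.exists_around (proj_mem hU z)
  have h3 := h1.finrank_inf_perp hT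
  have hY := hU.inf_perp h1 hT
  have hz : ∀ f ∈ U, polar Q z f = polar Q (proj hU z) f := fun f hf =>
    (polar_proj_left hU hf z).symm
  generalize proj hU z = p at hp h2' hz
  have hz' : ∀ f ∈ U ⊓ operp Q T, polar Q z f = 0 := fun f hf => by
    rw [hz f hf.1]; exact mem_operp.1 hf.2 _ hp
  obtain ⟨f, hf, hf0⟩ := hY.exists_nonsingular (ne_bot_of_finrank (by omega))
  rcases h2' with h5 | ⟨hp0, h5⟩
  · obtain ⟨x, hx, hxP⟩ := exists_mem_notMem_of_lt (S := U ⊓ operp Q T)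
      (T := Submodule.span F {f}) (by have := finrank_span_one_le (F := F) f; omega)
    obtain ⟨h, hh, h6, h7⟩ := exists_cls_notMem hY (by
      by_cases h : 3 ≤ finrank F ↥(U ⊓ operp Q T)
      · exact .inl h
      · exact .inr ⟨by omega, hq, fun h => absurd (two_eq_zero_of_card h) h20⟩) hf0 hx hxP
    exact ⟨f, hf.1, h, hh.1, hf0, h6, hz' f hf, hz' h hh, h7⟩
  · have h7 := h5.resolve_right h20
    have hpf : polar Q p f = 0 := mem_operp.1 hf.2 _ hp
    refine ⟨f, hf.1, f + p, U.add_mem hf.1 (hT hp), hf0, cls_of_eq' hf0 ?_, hz' f hf,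
      ?_, notMem_span_add hp0 h7 hf0⟩
    · rw [o_qadd, polar_comm, hpf, h7]; ring
    · rw [hz _ (U.add_mem hf.1 (hT hp)), polar_add_right, hpf, o_polar_self, h7]; ring

theorem ND.finrank_inf_perp_one {U : Submodule F V} (hU : ND Q U) (z : V) :
    finrank F U ≤ finrank F ↥(U ⊓ operp Q (Submodule.span F {z})) + 1 := by
  let φ : U →ₗ[F] F := (polarBilin Q z).comp U.subtype
  have h1 := LinearMap.finrank_range_add_finrank_ker φ
  have h2 : finrank F (LinearMap.range φ) ≤ 1 := by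
    simpa using Submodule.finrank_le (LinearMap.range φ)
  have h3 : (LinearMap.ker φ).map U.subtype ≤ U ⊓ operp Q (Submodule.span F {z}) := by
    rintro _ ⟨x, hx, rfl⟩
    exact ⟨x.2, mem_operp_one.2 hx⟩
  have h4 := Submodule.finrank_mono h3
  rw [Submodule.finrank_map_subtype_eq] at h4
  omega

theorem exists_nonsingular_perp_mem {U : Submodule F V} (hU : ND Q U) (hd : 3 ≤ finrank F U)
    (z : V) : ∃ f ∈ U, Q f ≠ 0 ∧ polar Q z f = 0 := by
  obtain ⟨w, h1, h2⟩ := o_exists_nonsingular_perp_one hU.nondeg (by omega)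
    ⟨proj hU z, proj_mem hU z⟩
  exact ⟨w, w.2, h1, by rw [← polar_proj_left hU w.2]; exact h2⟩

theorem exists_perp_mem {U : Submodule F V} (hU : ND Q U) (hd : 2 ≤ finrank F U) (z : V) :
    ∃ f ∈ U, f ≠ 0 ∧ polar Q z f = 0 := by
  have := hU.finrank_inf_perp_one z
  obtain ⟨f, hf, h0⟩ := Submodule.exists_mem_ne_zero_of_ne_bot
    (ne_bot_of_finrank (S := U ⊓ operp Q (Submodule.span F {z})) (by omega))
  exact ⟨f, hf.1, h0, mem_operp_one.1 hf.2⟩

theorem exists_singular_perp_mem {U : Submodule F V} (hU : ND Q U) {c : V} (hc0 : c ≠ 0)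
    (hd : 5 ≤ finrank F U ∨ (4 ≤ finrank F U ∧ Q c ≠ 0)) :
    ∃ u ∈ U, u ≠ 0 ∧ Q u = 0 ∧ polar Q c u = 0 ∧ c ∉ Submodule.span F {u} := by
  have h1 := hU.finrank_inf_perp_one c
  rcases hd with hd | hd
  · obtain ⟨Y, hY⟩ := Submodule.exists_isCompl (Submodule.span F {c})
    have h2 := Submodule.finrank_add_eq_of_isCompl hY
    have h3 := Submodule.finrank_sup_add_finrank_inf_eq (U ⊓ operp Q (Submodule.span F {c})) Y
    have h4 := Submodule.finrank_le (U ⊓ operp Q (Submodule.span F {c}) ⊔ Y)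
    have h5 := finrank_span_one_le (F := F) c
    obtain ⟨u, hu, hu0, hq⟩ := exists_singular_mem (Q := Q)
      (S := U ⊓ operp Q (Submodule.span F {c}) ⊓ Y) (by omega)
    refine ⟨u, hu.1.1, hu0, hq, mem_operp_one.1 hu.1.2, fun H => hc0 ?_⟩
    have : c ∈ Submodule.span F {c} ⊓ Y :=
      ⟨Submodule.mem_span_singleton_self c, span_one_le hu.2 H⟩
    rwa [hY.inf_eq_bot] at this
  · obtain ⟨u, hu, hu0, hq⟩ := exists_singular_mem (Q := Q)
      (S := U ⊓ operp Q (Submodule.span F {c})) (by omega)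
    refine ⟨u, hu.1, hu0, hq, mem_operp_one.1 hu.2, fun H => hd.2 ?_⟩
    obtain ⟨a, rfl⟩ := Submodule.mem_span_singleton.1 H
    rw [o_qsmul, hq, mul_zero]

end Cfsg.Agent.Cl.MaxO
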