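import Mathlib
import Cfsg.Agent.Cl.MaxOLocal

/-!
# Maximality in `Ω`: orthogonal decompositions

`ODec Q D` is an orthogonal decomposition into non-degenerate subspaces.  For an overgroup `M` of
the stabiliser in `Ω`, either some product `r_a r_c ∈ M` has `a` in a member and `c` in none, or
`M` is *closed*; in the latter case two different `M`-conjugates of `D` form a `Pair`.
-/

set_option autoImplicit false
set_option linter.unusedSectionVars false
set_option linter.unusedVariables false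

namespace Cfsg.Agent.Cl.MaxO

open Module QuadraticMap

variable {F V : Type*} [Field F] [AddCommGroup V] [Module F V] {Q : QuadraticForm F V}
  [FiniteDimensional F V] [Finite F] {κ : Type*} [Fintype κ] [DecidableEq κ]

variable (Q) in
/-- An orthogonal decomposition into non-degenerate subspaces. -/
structure ODec (D : κ → Submodule F V) : Prop where
  nd : ∀ i, ND Q (D i)
  orth : ∀ i j, i ≠ j → ∀ x ∈ D i, ∀ y ∈ D j, polar Q x y = 0
  top : iSup D = ⊤

variable (Q) in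
/-- The isometries fixing a subspace pointwise. -/
def fixS (Z : Submodule F V) : Subgroup (OG Q) where
  carrier := {g | ∀ z ∈ Z, g.1 z = z}
  mul_mem' {a b} ha hb z hz := by rw [OG.mul_app, hb z hz, ha z hz]
  one_mem' z _ := rfl
  inv_mem' {a} ha z hz := by rw [OG.inv_app_eq_iff, ha z hz]

/-- Correction of the invariants by reflections in a non-degenerate subspace. -/
theorem exists_comp (hQ : (polarBilin Q).Nondegenerate) (hn : 5 ≤ finrank F V)
    {Y : Submodule F V} (hY : ND Q Y) (h2 : 2 ≤ finrank F Y) (g : OG Q) :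
    ∃ k : OG Q, g * k ∈ commutator (OG Q) ∧ (∀ z, (∀ y ∈ Y, polar Q y z = 0) → k.1 z = z) ∧
      ∀ Z : Submodule F V, Y ≤ Z → ∀ y ∈ Z, k.1 y ∈ Z := by
  obtain ⟨k, hk, h⟩ := quad_exists_mul_mem_of_nondeg hQ (not_oExc_of_finrank (by omega))
    (fixS Q (operp Q Y) ⊓ quad_stab Q Y) (nd_iff.1 hY) h2 (fun v hv => ⟨fun z hz =>
      orefl_app_of_polar (by rw [polar_comm]; exact mem_operp.1 hz v hv),
      quad_orefl_mem_stab_of_mem hv⟩) g
  refine ⟨k, h, fun z hz => hk.1 z (mem_operp.2 hz), fun Z hZ y hy => ?_⟩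
  rw [show y = proj hY y + (y - proj hY y) by abel, map_add,
    hk.1 _ (mem_operp.2 fun w hw => polar_sub_proj hY hw y)]
  exact Z.add_mem (hZ (stab_app hk.2 (proj_mem hY y))) (Z.sub_mem hy (hZ (proj_mem hY y)))

namespace ODec

variable {D : κ → Submodule F V} (hD : ODec Q D)
include hD

/-- The component in `D i`. -/
noncomputable def pr (i : κ) : V →ₗ[F] V := proj (hD.nd i)

theorem pr_mem (i : κ) (x : V) : hD.pr i x ∈ D i := proj_mem _ x

theorem pr_of_mem {i : κ} {x : V} (hx : x ∈ D i) : hD.pr i x = x := proj_of_mem _ hx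

theorem pr_of_ne {i j : κ} (h : i ≠ j) {x : V} (hx : x ∈ D j) : hD.pr i x = 0 :=
  proj_of_perp _ fun y hy => hD.orth i j h y hy x hx

theorem polar_pr {i : κ} {y : V} (hy : y ∈ D i) (x : V) : polar Q y (hD.pr i x) = polar Q y x :=
  polar_proj_right _ hy x

theorem polar_pr' {i : κ} {y : V} (hy : y ∈ D i) (x : V) : polar Q (hD.pr i x) y = polar Q x y :=
  polar_proj_left _ hy x

theorem pr_eq_zero_iff {i : κ} {x : V} : hD.pr i x = 0 ↔ ∀ y ∈ D i, polar Q y x = 0 :=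
  proj_eq_zero_iff _

theorem exists_polar_ne {i : κ} {x : V} (h : hD.pr i x ≠ 0) : ∃ y ∈ D i, polar Q x y ≠ 0 := by
  by_contra H
  push Not at H
  exact h (hD.pr_eq_zero_iff.2 fun y hy => by rw [polar_comm]; exact H y hy)

theorem polar_of_pr {i : κ} {x y : V} (h : hD.pr i x = 0) (hy : y ∈ D i) : polar Q x y = 0 := by
  rw [polar_comm]; exact hD.pr_eq_zero_iff.1 h y hy

theorem sum_pr (x : V) : ∑ i, hD.pr i x = x := by
  have hx : x ∈ iSup D := by rw [hD.top]; trivial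
  induction hx using Submodule.iSup_induction' with
  | mem j x hx =>
    rw [Finset.sum_eq_single j (fun i _ hi => hD.pr_of_ne hi hx) (by simp), hD.pr_of_mem hx]
  | zero => simp
  | add x y _ _ hx hy => simp only [map_add, Finset.sum_add_distrib, hx, hy]

theorem mem_of_pr {S : Submodule F V} {x : V} (h : ∀ i, hD.pr i x ∈ S) : x ∈ S := by
  rw [← hD.sum_pr x]; exact S.sum_mem fun i _ => h i

theorem mem_of_pr_eq_zero {i : κ} {x : V} (h : ∀ j, j ≠ i → hD.pr j x = 0) : x ∈ D i :=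
  hD.mem_of_pr fun j => by
    by_cases hj : j = i
    · rw [hj]; exact hD.pr_mem i x
    · rw [h j hj]; exact zero_mem _

theorem exists_pr_ne {i : κ} {x : V} (h : x ∉ D i) : ∃ j, j ≠ i ∧ hD.pr j x ≠ 0 := by
  by_contra H
  push Not at H
  exact h (hD.mem_of_pr_eq_zero H)

theorem exists_pr_ne_zero {x : V} (h : x ≠ 0) : ∃ j, hD.pr j x ≠ 0 := by
  by_contra H
  push Not at H
  exact h (by rw [← hD.sum_pr x]; exact Finset.sum_eq_zero fun i _ => H i)

theorem exists_two_pr {x : V} (h0 : x ≠ 0) (h : ∀ i, x ∉ D i) :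
    ∃ i j, i ≠ j ∧ hD.pr i x ≠ 0 ∧ hD.pr j x ≠ 0 := by
  obtain ⟨i, hi⟩ := hD.exists_pr_ne_zero h0
  obtain ⟨j, hj, hj'⟩ := hD.exists_pr_ne (h i)
  exact ⟨i, j, hj.symm, hi, hj'⟩

theorem Q_sum_aux (x : V) (s : Finset κ) : Q (∑ i ∈ s, hD.pr i x) = ∑ i ∈ s, Q (hD.pr i x) := by
  induction s using Finset.induction_on with
  | empty => simp
  | insert a s ha ih =>
    rw [Finset.sum_insert ha, Finset.sum_insert ha, o_qadd, ih, quad_polar_sum_right,
      Finset.sum_eq_zero fun i hi => hD.orth a i (fun h => ha (h ▸ hi)) _ (hD.pr_mem a x) _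
        (hD.pr_mem i x), add_zero]

theorem exists_pr_nonsingular {x : V} (h : Q x ≠ 0) : ∃ i, Q (hD.pr i x) ≠ 0 := by
  by_contra H
  push Not at H
  exact h (by rw [← hD.sum_pr x, hD.Q_sum_aux]; exact Finset.sum_eq_zero fun i _ => H i)

theorem pr_of_sup {i j l : κ} (hj : i ≠ j) (hl : i ≠ l) {x : V} (hx : x ∈ D j ⊔ D l) :
    hD.pr i x = 0 := by
  obtain ⟨a, ha, b, hb, rfl⟩ := Submodule.mem_sup.1 hx
  rw [map_add, hD.pr_of_ne hj ha, hD.pr_of_ne hl hb, add_zero]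

theorem eq_zero_of_ne {i j : κ} (h : i ≠ j) {x : V} (hi : x ∈ D i) (hj : x ∈ D j) : x = 0 := by
  rw [← hD.pr_of_mem hi, hD.pr_of_ne h hj]

theorem injective (h0 : ∀ i, D i ≠ ⊥) : Function.Injective D := fun i j h => by
  by_contra hij
  obtain ⟨x, hx, hx0⟩ := Submodule.exists_mem_ne_zero_of_ne_bot (h0 i)
  exact hx0 (hD.eq_zero_of_ne hij hx (h ▸ hx))

theorem map (g : OG Q) : ODec Q fun i => (D i).map (g.1 : V →ₗ[F] V) where
  nd i := (hD.nd i).map g
  orth i j h := by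
    rintro _ ⟨x, hx, rfl⟩ _ ⟨y, hy, rfl⟩
    rw [LinearEquiv.coe_coe, OG.polar_app, hD.orth i j h x hx y hy]
  top := by rw [← Submodule.map_iSup, hD.top, Submodule.map_top, LinearEquiv.range]

theorem orefl_mem {i : κ} {a : V} (ha : a ∈ D i) : orefl Q a ∈ dstab Q D :=
  mem_dstab_of_fix fun j x hx => by
    by_cases h : j = i
    · subst h; rw [orefl_app]; exact (D j).sub_mem hx ((D j).smul_mem _ ha)
    · rwa [orefl_app_of_polar (hD.orth j i h x hx a ha)]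

theorem mem_dstab_of_one {i : κ} {g : OG Q} (h1 : ∀ x ∈ D i, g.1 x ∈ D i)
    (h2 : ∀ j, j ≠ i → ∀ x ∈ D j, g.1 x = x) : g ∈ dstab Q D :=
  mem_dstab_of_fix fun j x hx => by
    by_cases h : j = i
    · subst h; exact h1 x hx
    · rwa [h2 j h x hx]

theorem eich_mem {i : κ} {a b : V} (ha : a ∈ D i) (hb : b ∈ D i) : eich Q a b ∈ dstab Q D :=
  hD.mem_dstab_of_one (i := i)
    (fun x hx => by simpa using (D i).add_mem (eich_app_sub_mem (Q := Q) ha hb x) hx)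
    fun j h x hx => eich_app_of_polar (hD.orth j i h x hx a ha) (hD.orth j i h x hx b hb)

theorem app_eq_of_fix {g : OG Q} {x : V} (h : ∀ i, hD.pr i x = 0 ∨ ∀ y ∈ D i, g.1 y = y) :
    g.1 x = x := by
  conv => rw [← hD.sum_pr x]
  rw [map_sum]
  refine Finset.sum_congr rfl fun i _ => ?_
  rcases h i with h | h
  · rw [h, map_zero]
  · exact h _ (hD.pr_mem i x)

/-- An element of `Ω` interchanging two isometric members and fixing the others pointwise. -/
theorem exists_swap (hQ : (polarBilin Q).Nondegenerate) (hn : 5 ≤ finrank F V) {i j : κ}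
    (hij : i ≠ j) (e : D i ≃ₗ[F] D j) (he : ∀ x : D i, Q (e x : V) = Q (x : V))
    (h2 : 2 ≤ finrank F (D j)) :
    ∃ s ∈ dstab Q D, s ∈ commutator (OG Q) ∧ (∀ x : D i, s.1 x = e x) ∧
      (∀ y ∈ D j, s.1 y ∈ D i) ∧ ∀ l, l ≠ i → l ≠ j → ∀ x ∈ D l, s.1 x = x := by
  let pi : V →ₗ[F] D i := (hD.pr i).codRestrict _ (hD.pr_mem i)
  let pj : V →ₗ[F] D j := (hD.pr j).codRestrict _ (hD.pr_mem j)
  let f : V →ₗ[F] V := LinearMap.id - hD.pr i - hD.pr j +
    (D j).subtype ∘ₗ e.toLinearMap ∘ₗ pi + (D i).subtype ∘ₗ e.symm.toLinearMap ∘ₗ pj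
  have hf : ∀ x, f x = x - hD.pr i x - hD.pr j x + e (pi x) + e.symm (pj x) := fun x => rfl
  have f1 : ∀ x : D i, f x = e x := fun x => by
    have a1 : pi x = x := Subtype.ext (hD.pr_of_mem x.2)
    have a2 : pj x = 0 := Subtype.ext (hD.pr_of_ne hij.symm x.2)
    rw [hf, a1, a2, hD.pr_of_mem x.2, hD.pr_of_ne hij.symm x.2]; simp
  have f2 : ∀ y : D j, f y = e.symm y := fun y => by
    have a1 : pi y = 0 := Subtype.ext (hD.pr_of_ne hij y.2)
    have a2 : pj y = y := Subtype.ext (hD.pr_of_mem y.2)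
    rw [hf, a1, a2, hD.pr_of_mem y.2, hD.pr_of_ne hij y.2]; simp
  have f3 : ∀ z, hD.pr i z = 0 → hD.pr j z = 0 → f z = z := fun z h1 h3 => by
    have a1 : pi z = 0 := Subtype.ext h1
    have a2 : pj z = 0 := Subtype.ext h3
    rw [hf, a1, a2, h1, h3]; simp
  have hdec : ∀ x, ∃ (a : D i) (b : D j) (z : V), hD.pr i z = 0 ∧ hD.pr j z = 0 ∧
      x = (a : V) + (b : V) + z := fun x =>
    ⟨pi x, pj x, x - hD.pr i x - hD.pr j x, by
      rw [map_sub, map_sub, hD.pr_of_mem (hD.pr_mem i x), hD.pr_of_ne hij (hD.pr_mem j x)]; simp,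
      by rw [map_sub, map_sub, hD.pr_of_mem (hD.pr_mem j x),
        hD.pr_of_ne hij.symm (hD.pr_mem i x)]; simp, by simp [pi, pj]⟩
  have hff : ∀ x, f (f x) = x := fun x => by
    obtain ⟨a, b, z, h1, h3, rfl⟩ := hdec x
    simp only [map_add, f1, f2, f3 z h1 h3, LinearEquiv.symm_apply_apply,
      LinearEquiv.apply_symm_apply]
  have hQ3 : ∀ (a : D i) (b : D j) z, hD.pr i z = 0 → hD.pr j z = 0 →
      Q ((a : V) + (b : V) + z) = Q a + Q b + Q z := fun a b z h1 h3 => by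
    simp only [oexp, hD.orth i j hij _ a.2 _ b.2, hD.pr_eq_zero_iff.1 h1 _ a.2,
      hD.pr_eq_zero_iff.1 h3 _ b.2]
    ring
  have hfQ : ∀ x, Q (f x) = Q x := fun x => by
    obtain ⟨a, b, z, h1, h3, rfl⟩ := hdec x
    rw [map_add f, map_add f, f1, f2, f3 z h1 h3, add_comm (e a : V), hQ3 _ _ z h1 h3, hQ3 a b z h1 h3,
      he, ← he (e.symm b), LinearEquiv.apply_symm_apply]
    ring
  obtain ⟨k, hk, k1, k2⟩ := exists_comp hQ hn (hD.nd j) h2 (OG.ofLinear f f hff hff hfQ)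
  set s := OG.ofLinear f f hff hff hfQ * k
  have hs : ∀ x, s.1 x = f (k.1 x) := fun x => rfl
  have s1 : ∀ x : D i, s.1 x = e x := fun x => by
    rw [hs, k1 x fun y hy => hD.orth j i hij.symm y hy x x.2, f1]
  have s2 : ∀ y ∈ D j, s.1 y ∈ D i := fun y hy => by
    rw [hs]; exact f2 ⟨_, k2 _ le_rfl y hy⟩ ▸ (e.symm _).2
  have s3 : ∀ l, l ≠ i → l ≠ j → ∀ x ∈ D l, s.1 x = x := fun l h1 h3 x hx => by
    rw [hs, k1 x fun y hy => hD.orth j l h3.symm y hy x hx,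
      f3 x (hD.pr_of_ne h1.symm hx) (hD.pr_of_ne h3.symm hx)]
  have hdim := e.finrank_eq
  refine ⟨s, ⟨Equiv.swap i j, fun l => ?_⟩, hk, s1, s2, s3⟩
  by_cases h1 : l = i
  · rw [h1, Equiv.swap_apply_left]
    exact Submodule.eq_of_le_of_finrank_eq (by
      rintro _ ⟨x, hx, rfl⟩; exact s1 ⟨x, hx⟩ ▸ (e _).2) (by rw [LinearEquiv.finrank_map_eq, hdim])
  by_cases h3 : l = j
  · rw [h3, Equiv.swap_apply_right]
    exact Submodule.eq_of_le_of_finrank_eq (by
      rintro _ ⟨x, hx, rfl⟩; exact s2 x hx) (by rw [LinearEquiv.finrank_map_eq, hdim])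
  · rw [Equiv.swap_apply_of_ne_of_ne h1 h3]
    exact quad_mem_stab_of_le fun x hx => by rwa [s3 l h1 h3 x hx]

theorem eq_of_mem_sup {j l a b : κ} (hjl : j ≠ l) {f : V} (hj : hD.pr j f ≠ 0)
    (hl : hD.pr l f ≠ 0) (hf : f ∈ D a ⊔ D b) : D a ⊔ D b = D j ⊔ D l := by
  have h1 : j = a ∨ j = b := by
    by_contra H; push Not at H; exact hj (hD.pr_of_sup H.1 H.2 hf)
  have h2 : l = a ∨ l = b := by
    by_contra H; push Not at H; exact hl (hD.pr_of_sup H.1 H.2 hf)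
  rcases h1 with rfl | rfl <;> rcases h2 with rfl | rfl
  · exact absurd rfl hjl
  · rfl
  · exact sup_comm _ _
  · exact absurd rfl hjl

theorem refl_sub_mem (f h x : V) :
    (orefl Q f * orefl Q h).1 x - x ∈ Submodule.span F {f, h} := by
  rw [OG.mul_app, show (orefl Q f).1 ((orefl Q h).1 x) - x =
    ((orefl Q f).1 ((orefl Q h).1 x) - (orefl Q h).1 x) + ((orefl Q h).1 x - x) by abel]
  exact Submodule.add_mem _ (orefl_app_sub_mem (mem_span_two_left f h) _)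
    (orefl_app_sub_mem (mem_span_two_right f h) _)

theorem finrank_le_of_move {g : OG Q} {P : Submodule F V} (hP : ∀ x, g.1 x - x ∈ P) {j l : κ}
    (hjl : j ≠ l) (h : ∀ x ∈ D j, g.1 x ∈ D l) :
    finrank F (D j) ≤ finrank F P ∧ (finrank F P ≤ finrank F (D j) → P ≤ D j ⊔ D l) := by
  let φ : D j →ₗ[F] P := (((g.1 : V →ₗ[F] V) - LinearMap.id).comp (D j).subtype).codRestrict P
    fun x => hP x
  have hφ : ∀ x, (φ x : V) = g.1 x - x := fun x => rfl
  have hinj : Function.Injective φ := (injective_iff_map_eq_zero φ).2 fun x hx => by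
    have : g.1 x = x := sub_eq_zero.1 (by rw [← hφ, hx]; rfl)
    exact Subtype.ext (hD.eq_zero_of_ne hjl x.2 (this ▸ h x x.2))
  have h1 := LinearMap.finrank_le_finrank_of_injective hinj
  refine ⟨h1, fun h2 y hy => ?_⟩
  obtain ⟨x, hx⟩ := (LinearMap.injective_iff_surjective_of_finrank_eq_finrank
    (le_antisymm h1 h2)).1 hinj ⟨y, hy⟩
  have : y = g.1 x - x := by rw [← hφ, hx]
  rw [this]
  exact Submodule.sub_mem _ (Submodule.mem_sup_right (h x x.2)) (Submodule.mem_sup_left x.2)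

theorem fix_of_three (h3 : ∀ j, 3 ≤ finrank F (D j)) {f h : V}
    (hx : orefl Q f * orefl Q h ∈ dstab Q D) (j : κ) :
    ∀ v ∈ D j, (orefl Q f * orefl Q h).1 v ∈ D j := by
  obtain ⟨σ, hσ⟩ := hx
  have h1 : ∀ v ∈ D j, (orefl Q f * orefl Q h).1 v ∈ D (σ j) := fun v hv => by
    rw [← hσ]; exact ⟨v, hv, rfl⟩
  by_cases H : j = σ j
  · rwa [← H] at h1
  · have := (hD.finrank_le_of_move (hD.refl_sub_mem f h) H h1).1
    have := finrank_span_pair_le (F := F) f h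
    have := h3 j
    omega

theorem K_aux {f h : V} (hf : Q f ≠ 0) (hh : Q h ≠ 0) {j : κ} (hn : f ∉ D j) (hj : hD.pr j f ≠ 0)
    (hx : ∀ v ∈ D j, (orefl Q f * orefl Q h).1 v ∈ D j) : ∃ v ∈ D j, ∃ a : F, h = v + a • f := by
  obtain ⟨v, hv, hfv⟩ := hD.exists_polar_ne hj
  have h1 : (orefl Q h * orefl Q f).1 v ∈ D j := by
    have := stab_app ((quad_stab Q (D j)).inv_mem (quad_mem_stab_of_le hx)) hv
    rwa [mul_inv_rev, orefl_inv, orefl_inv] at this
  rw [OG.mul_app, orefl_app h, orefl_app f v] at h1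
  set α := (Q f)⁻¹ * polar Q v f with hα
  have hα0 : α ≠ 0 := mul_ne_zero (inv_ne_zero hf) (by rwa [polar_comm])
  generalize (Q h)⁻¹ * polar Q (v - α • f) h = β at h1
  by_cases hβ : β = 0
  · rw [hβ, zero_smul, sub_zero] at h1
    exact absurd ((Submodule.smul_mem_iff _ hα0).1 (by simpa using (D j).sub_mem hv h1)) hn
  · refine ⟨β⁻¹ • (v - (v - α • f - β • h)), (D j).smul_mem _ ((D j).sub_mem hv h1),
      -(β⁻¹ * α), ?_⟩
    match_scalars <;> field_simp <;> ring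

theorem K_fix {f h : V} (hf : Q f ≠ 0) (hh : Q h ≠ 0) (hn : ∀ j, f ∉ D j)
    (hfh : h ∉ Submodule.span F {f}) (hx : ∀ j, ∀ v ∈ D j, (orefl Q f * orefl Q h).1 v ∈ D j)
    {j l : κ} (hjl : j ≠ l) (hj : hD.pr j f ≠ 0) (hl : hD.pr l f ≠ 0) :
    f ∈ Submodule.span F {hD.pr j f, hD.pr l f} ∧ h ∈ Submodule.span F {hD.pr j f, hD.pr l f} := by
  obtain ⟨v, hv, a, ha⟩ := hD.K_aux hf hh (hn j) hj (hx j)
  obtain ⟨w, hw, b, hb⟩ := hD.K_aux hf hh (hn l) hl (hx l)
  have h1 : (b - a) • f = v - w := by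
    rw [sub_smul, sub_eq_sub_iff_add_eq_add, add_comm, ← hb, ← ha]
  have hab : b - a ≠ 0 := fun H => by
    rw [H, zero_smul, eq_comm, sub_eq_zero] at h1
    have := hD.eq_zero_of_ne hjl hv (h1 ▸ hw)
    exact hfh (Submodule.mem_span_singleton.2 ⟨a, by rw [ha, this, zero_add]⟩)
  have h2 : (b - a) • hD.pr j f = v := by
    rw [← map_smul, h1, map_sub, hD.pr_of_mem hv, hD.pr_of_ne hjl hw, sub_zero]
  have h3 : (b - a) • hD.pr l f = -w := by
    rw [← map_smul, h1, map_sub, hD.pr_of_mem hw, hD.pr_of_ne hjl.symm hv, zero_sub]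
  have h4 : f ∈ Submodule.span F {hD.pr j f, hD.pr l f} := by
    rw [← Submodule.smul_mem_iff _ hab, h1, sub_eq_add_neg, ← h3, ← h2]
    exact Submodule.add_mem _ (Submodule.smul_mem _ _ (mem_span_two_left _ _))
      (Submodule.smul_mem _ _ (mem_span_two_right _ _))
  refine ⟨h4, ?_⟩
  rw [ha, ← h2]
  exact Submodule.add_mem _ (Submodule.smul_mem _ _ (mem_span_two_left _ _))
    (Submodule.smul_mem _ _ h4)

theorem K_two (h2 : ∀ j, 2 ≤ finrank F (D j)) {f h : V} (hf : Q f ≠ 0) (hh : Q h ≠ 0)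
    (hn : ∀ j, f ∉ D j) (hfh : h ∉ Submodule.span F {f})
    (hx : orefl Q f * orefl Q h ∈ dstab Q D) {j l : κ} (hjl : j ≠ l) (hj : hD.pr j f ≠ 0)
    (hl : hD.pr l f ≠ 0) : f ∈ D j ⊔ D l ∧ h ∈ D j ⊔ D l := by
  obtain ⟨σ, hσ⟩ := hx
  have h1 : ∀ i, ∀ v ∈ D i, (orefl Q f * orefl Q h).1 v ∈ D (σ i) := fun i v hv => by
    rw [← hσ]; exact ⟨v, hv, rfl⟩
  by_cases H : ∀ i, i = σ i
  · have h3 := hD.K_fix hf hh hn hfh (fun i => by have := h1 i; rwa [← H i] at this) hjl hj hl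
    have h4 : Submodule.span F {hD.pr j f, hD.pr l f} ≤ D j ⊔ D l :=
      span_two_le (Submodule.mem_sup_left (hD.pr_mem j f)) (Submodule.mem_sup_right (hD.pr_mem l f))
    exact ⟨h4 h3.1, h4 h3.2⟩
  · push Not at H
    obtain ⟨i, hi⟩ := H
    have h3 := (hD.finrank_le_of_move (hD.refl_sub_mem f h) hi (h1 i)).2
      ((finrank_span_pair_le f h).trans (h2 i))
    have h4 := h3 (mem_span_two_left f h)
    rw [← hD.eq_of_mem_sup hjl hj hl h4]
    exact ⟨h4, h3 (mem_span_two_right f h)⟩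

end ODec

/-! ### Closed overgroups -/

variable {M : Subgroup (OG Q)} {D D' : κ → Submodule F V}

variable (M D) in
/-- `M` contains the products of two reflections of the same class in members of `D`. -/
def Refl : Prop := ∀ i j, ∀ a ∈ D i, ∀ b ∈ D j, Q a ≠ 0 → Q b ≠ 0 → IsSquare (Q a * Q b) →
  orefl Q a * orefl Q b ∈ M

variable (M D) in
/-- An element of `M` mapping a non-singular vector of a member into a member stabilises `D`. -/
def St : Prop := ∀ g ∈ M, ∀ i j, ∀ a ∈ D i, Q a ≠ 0 → g.1 a ∈ D j → g ∈ dstab Q D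

variable (M D) in
/-- No new reflections. -/
def Closed : Prop := ∀ i, ∀ a ∈ D i, Q a ≠ 0 → ∀ c, Q c ≠ 0 → orefl Q a * orefl Q c ∈ M →
  ∃ j, c ∈ D j

theorem refl_of_le (hQ : (polarBilin Q).Nondegenerate) (hn : 5 ≤ finrank F V) (hD : ODec Q D)
    (hM : dstab Q D ⊓ commutator (OG Q) ≤ M) : Refl M D := fun i j a ha b hb h1 h2 h3 =>
  hM ⟨(dstab Q D).mul_mem (hD.orefl_mem ha) (hD.orefl_mem hb), refl_mem_omega hQ hn h1 h2 h3⟩

theorem Refl.cls (h : Refl M D) {γ : F} (hγ : γ ≠ 0) {i j : κ} {a b : V} (ha : a ∈ D i)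
    (hb : b ∈ D j) (h1 : Cls Q γ a) (h2 : Cls Q γ b) : orefl Q a * orefl Q b ∈ M :=
  h i j a ha b hb h1.1 h2.1 (h1.sq hγ h2)

theorem conj_refl_mem {g : OG Q} (hg : g ∈ M) {a b : V} (h : orefl Q a * orefl Q b ∈ M) :
    orefl Q (g.1 a) * orefl Q (g.1 b) ∈ M := by
  rw [← conj_orefl, ← conj_orefl]
  convert M.mul_mem (M.mul_mem hg h) (M.inv_mem hg) using 1
  group

theorem closed_maps (hD : ODec Q D) (hR : Refl M D) (hC : Closed M D) {g : OG Q} (hg : g ∈ M)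
    {i j : κ} {a : V} (ha : a ∈ D i) (ha0 : Q a ≠ 0) (hga : g.1 a ∈ D j) {l : κ}
    (hl : Good Q (D l)) : ∃ m, ∀ x ∈ D l, g.1 x ∈ D m := by
  have h1 : ∀ b ∈ D l, Cls Q (Q a) b → ∃ m, g.1 b ∈ D m := fun b hb hc =>
    hC j _ hga (by rwa [OG.map_app]) _ (by rw [OG.map_app]; exact hc.1)
      (conj_refl_mem hg (hR.cls ha0 ha hb (cls_self ha0) hc))
  obtain ⟨b, hb, hb1⟩ := (hD.nd l).exists_eq hl.two_le (Q a)
  obtain ⟨m, hm⟩ := h1 b hb (cls_of_eq' ha0 hb1)
  refine ⟨m, ?_⟩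
  rcases conn (X := D l ⊓ (D m).comap (g.1 : V →ₗ[F] V)) (hD.nd l) hl ha0 inf_le_left
    (fun v hv hc => by
      obtain ⟨m', hm'⟩ := h1 v hv hc
      by_cases H : m' = m
      · exact .inl ⟨hv, H ▸ hm'⟩
      · exact .inr fun x hx => by
          rw [← OG.polar_app g]; exact hD.orth m m' (Ne.symm H) _ hx.2 _ hm') with h | h
  · have : b ∈ D l ⊓ (D m).comap (g.1 : V →ₗ[F] V) := ⟨hb, hm⟩
    rw [h] at this
    exact absurd this (o_ne_zero_of_norm (by rwa [hb1]))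
  · intro x hx
    rw [← h] at hx
    exact hx.2

theorem st_of_closed (hD : ODec Q D) (hR : Refl M D) (hC : Closed M D) (hg : ∀ l, Good Q (D l))
    (hd : ∀ i j, finrank F (D i) = finrank F (D j)) : St M D := fun g hgM i j a ha ha0 hga =>
  mem_dstab_of_maps (hD.injective fun l => ne_bot_of_finrank (by have := (hg l).two_le; omega)) hd
    fun l => closed_maps hD hR hC hgM ha ha0 hga (hg l)

theorem Refl.map (h : Refl M D) {g : OG Q} (hg : g ∈ M) :
    Refl M fun i => (D i).map (g.1 : V →ₗ[F] V) := by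
  rintro i j _ ⟨a, ha, rfl⟩ _ ⟨b, hb, rfl⟩ h1 h2 h3
  simp only [LinearEquiv.coe_coe, OG.map_app] at h1 h2 h3
  exact conj_refl_mem hg (h i j a ha b hb h1 h2 h3)

theorem mem_dstab_map {g x : OG Q} (h : g⁻¹ * x * g ∈ dstab Q D) :
    x ∈ dstab Q fun i => (D i).map (g.1 : V →ₗ[F] V) := by
  obtain ⟨σ, hσ⟩ := h
  refine ⟨σ, fun i => ?_⟩
  beta_reduce
  rw [← hσ, ← quad_map_mul, ← quad_map_mul]
  congr 3
  group

theorem St.map (h : St M D) {g : OG Q} (hg : g ∈ M) :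
    St M fun i => (D i).map (g.1 : V →ₗ[F] V) := by
  rintro x hx i j _ ⟨a, ha, rfl⟩ h1 h2
  simp only [LinearEquiv.coe_coe, OG.map_app] at h1
  exact mem_dstab_map (h _ (M.mul_mem (M.mul_mem (M.inv_mem hg) hx) hg) i j a ha h1
    ((mem_map_iff _ _ _).1 h2))

variable (M D D') in
/-- Two conjugate decompositions without common non-singular vectors. -/
structure Pair : Prop where
  dec : ODec Q D
  dec' : ODec Q D'
  refl : Refl M D
  refl' : Refl M D'
  st : St M D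
  st' : St M D'
  disj : ∀ i j, ∀ a ∈ D i, Q a ≠ 0 → a ∉ D' j

theorem Pair.symm (h : Pair M D D') : Pair M D' D :=
  ⟨h.dec', h.dec, h.refl', h.refl, h.st', h.st, fun i j a ha h0 hj => h.disj j i a hj h0 ha⟩

theorem pair_of_notMem (hD : ODec Q D) (hR : Refl M D) (hS : St M D) {g : OG Q} (hg : g ∈ M)
    (hn : g ∉ dstab Q D) : Pair M D fun i => (D i).map (g.1 : V →ₗ[F] V) :=
  ⟨hD, hD.map g, hR, hR.map hg, hS, hS.map hg, fun i j a ha h0 hj =>
    hn ((dstab Q D).inv_mem_iff.1 (hS _ (M.inv_mem hg) i j a ha h0 ((mem_map_iff _ _ _).1 hj)))⟩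

theorem Pair.refl_mem (h : Pair M D D') {m : κ} {a : V} (ha : a ∈ D' m) (ha0 : Q a ≠ 0) {γ : F}
    (hγ : γ ≠ 0) {i j : κ} {f e : V} (hf : f ∈ D i) (he : e ∈ D j) (h1 : Cls Q γ f)
    (h2 : Cls Q γ e) (h3 : polar Q a f = 0) (h4 : polar Q a e = 0) :
    orefl Q f * orefl Q e ∈ dstab Q D' :=
  h.st' _ (h.refl.cls hγ hf he h1 h2) m m a ha ha0 (by
    rwa [OG.mul_app, orefl_app_of_polar h4, orefl_app_of_polar h3])

/-- Three independent vectors of one class orthogonal to a vector of the other decomposition. -/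
theorem Pair.three (h : Pair M D D')
    (hfix : ∀ f e, orefl Q f * orefl Q e ∈ dstab Q D' →
      ∀ j, ∀ v ∈ D' j, (orefl Q f * orefl Q e).1 v ∈ D' j)
    {m : κ} {a : V} (ha : a ∈ D' m) (ha0 : Q a ≠ 0) {γ : F} (hγ : γ ≠ 0) {i j l : κ} {f e x : V}
    (hf : f ∈ D i) (he : e ∈ D j) (hx : x ∈ D l) (h1 : Cls Q γ f) (h2 : Cls Q γ e)
    (h3 : Cls Q γ x) (h4 : polar Q a f = 0) (h5 : polar Q a e = 0) (h6 : polar Q a x = 0)
    (h7 : e ∉ Submodule.span F {f}) (h8 : x ∉ Submodule.span F {f, e}) : False := by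
  have hf0 := o_ne_zero_of_norm h1.1
  have hn := fun j => h.disj i j f hf h1.1
  obtain ⟨p, r, hpr, hp, hr⟩ := h.dec'.exists_two_pr hf0 hn
  have a1 := h.dec'.K_fix h1.1 h2.1 hn h7
    (hfix _ _ (h.refl_mem ha ha0 hγ hf he h1 h2 h4 h5)) hpr hp hr
  have a2 := h.dec'.K_fix h1.1 h3.1 hn (fun H => h8 (Submodule.span_mono (by simp) H))
    (hfix _ _ (h.refl_mem ha ha0 hγ hf hx h1 h3 h4 h6)) hpr hp hr
  have a3 := Submodule.eq_of_le_of_finrank_le (span_two_le a1.1 a1.2)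
    (by rw [finrank_span_two hf0 h7]; exact finrank_span_pair_le _ _)
  exact h8 (a3 ▸ a2.2)

end Cfsg.Agent.Cl.MaxO
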