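import Mathlib
import Cfsg.Agent.Cl.MaxODec

/-!
# Maximality in `Ω`: new reflections, non-degenerate subspaces, decompositions with `k ≥ 3`
-/

set_option autoImplicit false
set_option linter.unusedSectionVars false
set_option linter.unusedVariables false

namespace Cfsg.Agent.Cl.MaxO

open Module QuadraticMap

variable {F V : Type*} [Field F] [AddCommGroup V] [Module F V] {Q : QuadraticForm F V}
  [FiniteDimensional F V] [Finite F] {κ : Type*} [Fintype κ] [DecidableEq κ]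
  {M : Subgroup (OG Q)} {D : κ → Submodule F V}

theorem exists_diff {U : Submodule F V} (hU : ND Q U) (h3 : 3 ≤ finrank F U) (h2 : (2 : F) ≠ 0)
    {c : V} (hc : c ∈ U) (hc0 : Q c ≠ 0) (x : F) : ∃ u ∈ U, Q u = x ∧ polar Q c u = x := by
  have hT := nd_span_one h2 hc0
  have h4 := hT.finrank_inf_perp (span_one_le hc)
  have h5 := finrank_span_one_le (F := F) c
  obtain ⟨y, hy, h6⟩ := (hU.inf_perp hT (span_one_le hc)).exists_eq (by omega)
    (Q c * (1 - (1 - x / (2 * Q c)) ^ 2))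
  have h7 := mem_operp_one.1 hy.2
  refine ⟨(x / (2 * Q c)) • c - y, U.sub_mem (U.smul_mem _ hc) hy.1, ?_, ?_⟩
  · simp only [oexp, h6, h7]; field_simp; ring
  · simp only [oexp, h7]; field_simp; ring

variable (Q) in
/-- Every non-singular vector can be reflected to a non-proportional, non-orthogonal one. -/
def Mv (U : Submodule F V) : Prop := ∀ c ∈ U, Q c ≠ 0 →
  ∃ u ∈ U, Q u ≠ 0 ∧ polar Q c u = Q u ∧ u ∉ Submodule.span F {c} ∧ 2 * Q c ≠ Q u

theorem mv_three {U : Submodule F V} (hU : ND Q U) (h3 : finrank F U = 3) (hq : Nat.card F ≠ 3) :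
    Mv Q U := fun c hc hc0 => by
  have h2 := hU.two_ne_zero_of_three h3
  obtain ⟨x, hx⟩ := exists_notMem_list [0, 2 * Q c, 4 * Q c]
    (by have := card_cases h2 hq; simp; omega)
  simp only [List.mem_cons, List.not_mem_nil, or_false, not_or] at hx
  obtain ⟨u, hu, h4, h5⟩ := exists_diff hU h3.ge h2 hc hc0 x
  refine ⟨u, hu, by rw [h4]; exact hx.1, by rw [h4, h5], fun H => ?_, by rw [h4]; exact Ne.symm hx.2.1⟩
  obtain ⟨a, rfl⟩ := Submodule.mem_span_singleton.1 H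
  simp only [oexp] at h4 h5
  have : a * (a - 2) * Q c = 0 := by linear_combination h4 - h5
  rcases mul_eq_zero.1 ((mul_eq_zero.1 this).resolve_right hc0) with h | h
  · exact hx.1 (by rw [← h4, h]; ring)
  · exact hx.2.2 (by rw [← h4, sub_eq_zero.1 h]; ring)

theorem orefl_app_of_diff {c u : V} (hu : Q u ≠ 0) (h : polar Q c u = Q u) :
    (orefl Q u).1 c = c - u := by
  rw [orefl_app, h, inv_mul_cancel₀ hu, one_smul]

theorem refl_trans {a b c : V} (h1 : orefl Q a * orefl Q b ∈ M) (h2 : orefl Q a * orefl Q c ∈ M) :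
    orefl Q b * orefl Q c ∈ M := by
  convert M.mul_mem (M.inv_mem h1) h2 using 1
  rw [mul_inv_rev, orefl_inv, orefl_inv, mul_assoc, ← mul_assoc (orefl Q a), orefl_mul_self,
    one_mul]

theorem refl_refl {a b c : V} (h1 : orefl Q a * orefl Q b ∈ M) (h2 : orefl Q a * orefl Q c ∈ M) :
    orefl Q a * orefl Q ((orefl Q b).1 c) ∈ M := by
  rw [← conj_orefl, orefl_inv]
  convert M.mul_mem h1 (refl_trans h2 h1) using 1
  simp only [mul_assoc]

section Ctx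

variable (hQ : (polarBilin Q).Nondegenerate) (hn : 5 ≤ finrank F V) (hD : ODec Q D)
  (hM : dstab Q D ⊓ commutator (OG Q) ≤ M)
include hQ hn hD hM

theorem refl_move {i : κ} {a c : V} (ha : a ∈ D i) (ha0 : Q a ≠ 0)
    (h : orefl Q a * orefl Q c ∈ M) {g : OG Q} (hg : g ∈ dstab Q D) (hg' : g ∈ commutator (OG Q)) :
    orefl Q a * orefl Q (g.1 c) ∈ M := by
  have h1 := conj_refl_mem (hM ⟨hg, hg'⟩) h
  obtain ⟨σ, hσ⟩ := hg
  refine refl_trans (refl_of_le hQ hn hD hM (σ i) i _ ?_ a ha (by rwa [OG.map_app]) ha0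
    ⟨Q a, by rw [OG.map_app]⟩) h1
  rw [← hσ]; exact ⟨a, ha, rfl⟩

theorem EA_of_move {i : κ} {a c u : V} (ha : a ∈ D i) (ha0 : Q a ≠ 0) (hc : Q c ≠ 0)
    (h : orefl Q a * orefl Q c ∈ M) {g : OG Q} (hg : g ∈ dstab Q D) (hg' : g ∈ commutator (OG Q))
    (hu : Q u = 0) (hgc : g.1 c = c + u) : (Q c)⁻¹ • c ∈ EA M hu := by
  refine mem_EA_of_refl hu hc ?_ (hgc ▸ refl_trans h (refl_move hQ hn hD hM ha ha0 h hg hg'))
  have := OG.map_app g c
  rw [hgc, o_qadd, hu, polar_comm] at this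
  linear_combination this

theorem eich_mem_M {i : κ} : ∀ a ∈ D i, ∀ b ∈ D i, eich Q a b ∈ M := fun a ha b hb =>
  hM ⟨hD.eich_mem ha hb, eich_mem_omega hQ hn a b⟩

theorem EA_of_big {i j : κ} {a c : V} (ha : a ∈ D i) (ha0 : Q a ≠ 0) (hc : Q c ≠ 0)
    (h : orefl Q a * orefl Q c ∈ M) (h0 : hD.pr j c ≠ 0)
    (hd : 5 ≤ finrank F (D j) ∨ (4 ≤ finrank F (D j) ∧ Q (hD.pr j c) ≠ 0)) :
    ∃ u ∈ D j, u ≠ 0 ∧ ∃ hu : Q u = 0, (Q c)⁻¹ • c ∈ EA M hu := by
  obtain ⟨u, hu, hu0, hq, h1, h2⟩ := exists_singular_perp_mem (hD.nd j) h0 hd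
  obtain ⟨v, hv, h3, h4⟩ := (hD.nd j).exists_dual (span_one_le hu) (hD.pr_mem j c) h2
  rw [hD.polar_pr' hu] at h1
  rw [hD.polar_pr' hv] at h3
  have hq' : Q (-u) = 0 := by rw [o_qneg, hq]
  refine ⟨-u, neg_mem hu, neg_ne_zero.2 hu0, hq', EA_of_move hQ hn hD hM ha ha0 hc h
    (hD.eich_mem hu hv) (eich_mem_omega hQ hn u v) hq' ?_⟩
  rw [eich_app_of_polar_left hq (h4 u (Submodule.mem_span_singleton_self u)) h1, h3, one_smul,
    sub_eq_add_neg]

theorem EA_of_singular_comp {i j : κ} {a c : V} (ha : a ∈ D i) (ha0 : Q a ≠ 0) (hc : Q c ≠ 0)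
    (h : orefl Q a * orefl Q c ∈ M) (h0 : hD.pr j c ≠ 0) (h1 : Q (hD.pr j c) = 0)
    (hd : 3 < Nat.card F ∨ (4 ≤ finrank F (D j) ∧ Nat.card F ≠ 2)) :
    ∃ u ∈ D j, u ≠ 0 ∧ ∃ hu : Q u = 0, (Q c)⁻¹ • c ∈ EA M hu := by
  have hp := hD.pr_mem j c
  have hz : ∀ y ∈ D j, polar Q y (c - hD.pr j c) = 0 := fun y hy => by
    rw [polar_sub_right, hD.polar_pr hy, sub_self]
  generalize hD.pr j c = p at hp h0 h1 hz
  obtain ⟨p', hp', h2, h3⟩ := (hD.nd j).exists_partner hp h0 h1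
  have hot : ∀ t, otor Q p p' t ∈ dstab Q D := fun t => (dstab Q D).mul_mem
    (hD.orefl_mem ((D j).add_mem hp hp')) (hD.orefl_mem ((D j).add_mem hp ((D j).smul_mem _ hp')))
  obtain ⟨g, t, hg, hg', ht, hgc⟩ : ∃ (g : OG Q) (t : F), g ∈ dstab Q D ∧ g ∈ commutator (OG Q) ∧
      t ≠ 1 ∧ g.1 c = c + (t - 1) • p := by
    have hc' : ∀ t, t ≠ 0 → (otor Q p p' t).1 c = c + (t - 1) • p := fun t ht => by
      conv_lhs => rw [show c = p + (c - p) by abel]
      rw [map_add, otor_left h1 h2 h3 ht, otor_perp t (hz p hp) (hz p' hp')]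
      module
    rcases hd with hd | hd
    · obtain ⟨t, ht0, ht⟩ := o_exists_sq_ne_one hd
      exact ⟨_, t ^ 2, hot _, omega_eq hQ hn ▸ otor_sq_mem_EO hQ h1 h2 h3 (by omega) ht0, ht,
        hc' _ (pow_ne_zero _ ht0)⟩
    · obtain ⟨t, ht0, ht⟩ := o_exists_ne_zero_one hd.2
      have hT : ND Q (Submodule.span F {p, p'}) := nd_span_pair (by simp [h1, h3])
      have h4 := hT.finrank_inf_perp (span_two_le hp hp')
      have h5 := finrank_span_pair_le (F := F) p p'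
      obtain ⟨k, hk, k1, k2⟩ := exists_comp hQ hn ((hD.nd j).inf_perp hT (span_two_le hp hp'))
        (by omega) (otor Q p p' t)
      refine ⟨_, t, (dstab Q D).mul_mem (hot t) (hD.mem_dstab_of_one (k2 _ inf_le_left)
        fun l hl x hx => k1 x fun y hy => hD.orth j l hl.symm y hy.1 x hx), hk, ht, ?_⟩
      rw [OG.mul_app, k1 c fun y hy => ?_, hc' t ht0]
      have := hz y hy.1
      rwa [polar_sub_right, polar_comm Q y p, (mem_operp_two.1 hy.2).1, sub_zero] at this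
  have hq : Q ((t - 1) • p) = 0 := by rw [o_qsmul, h1, mul_zero]
  exact ⟨_, (D j).smul_mem _ hp, smul_ne_zero (sub_ne_zero.2 ht) h0, hq,
    EA_of_move hQ hn hD hM ha ha0 hc h hg hg' hq hgc⟩

theorem swap_EA (hiso : ∀ i j, ∃ e : D i ≃ₗ[F] D j, ∀ x : D i, Q (e x : V) = Q (x : V))
    (h2 : ∀ i, 2 ≤ finrank F (D i)) {u : V} (hu : Q u = 0) {i j : κ} (hi : hD.pr i u = 0)
    (hj : hD.pr j u = 0) (h : ∀ v ∈ D i, v ∈ EA M hu) : ∀ v ∈ D j, v ∈ EA M hu := by
  by_cases hij : i = j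
  · rwa [← hij]
  obtain ⟨e, he⟩ := hiso i j
  obtain ⟨s, hs, hs', s1, -, s3⟩ := hD.exists_swap hQ hn hij e he (h2 j)
  intro v hv
  have := EA_fix (hM ⟨hs, hs'⟩) (hD.app_eq_of_fix fun l => by
    by_cases h1 : l = i
    · exact .inl (h1 ▸ hi)
    by_cases h3 : l = j
    · exact .inl (h3 ▸ hj)
    exact .inr (s3 l h1 h3)) (h _ (e.symm ⟨v, hv⟩).2)
  rwa [s1, LinearEquiv.apply_symm_apply] at this

/-- The final step for decompositions into isometric subspaces. -/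
theorem fin_dec (hiso : ∀ i j, ∃ e : D i ≃ₗ[F] D j, ∀ x : D i, Q (e x : V) = Q (x : V))
    (hg : ∀ i, Good Q (D i)) (L : Finset κ) (S : Submodule F V) (hL1 : ∀ l ∈ L, D l ≤ S)
    (hL2 : ∀ i ∉ L, ∀ y ∈ S, hD.pr i y = 0) {u : V} (hu : Q u = 0) (hu0 : u ≠ 0)
    (hA : ∀ y ∈ S, y ∈ EA M hu) {l₀ : κ} (hl₀ : l₀ ∈ L) {y₀ : V} (hy₀ : y₀ ∈ S) (hy0 : y₀ ≠ 0)
    (hyq : Q y₀ = 0)
    (hsp : ∀ y ∈ S, ∀ hy : Q y = 0, ∀ i ∉ L, ∀ x ∈ EA M hy, hD.pr i x ≠ 0 →
      ∀ v ∈ D i, v ∈ EA M hy) : EO Q ≤ M := by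
  have hS : ND Q S := fun x hx H => by
    by_contra h0
    obtain ⟨j, hj⟩ := hD.exists_pr_ne_zero h0
    by_cases h : j ∈ L
    · obtain ⟨y, hy, h1⟩ := hD.exists_polar_ne hj
      exact h1 (H y (hL1 j h hy))
    · exact hj (hL2 j h x hx)
  have huS : ∀ y ∈ S, polar Q u y = 0 := fun y hy => (hA y hy).1
  obtain ⟨i, hi⟩ := hD.exists_pr_ne_zero hu0
  obtain ⟨w, hw, huw⟩ := hD.exists_polar_ne hi
  have hiL : i ∉ L := fun h => huw (huS w (hL1 i h hw))
  obtain ⟨a, ha, ⟨ha0, -⟩, hua⟩ := exists_cls_polar_ne (hD.nd i) (hg i).span_cond one_ne_zero hw huw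
  obtain ⟨a', ha', ha1⟩ := (hD.nd l₀).exists_eq (hg l₀).two_le (Q a)
  have hr : orefl Q a * orefl Q a' ∈ M := refl_of_le hQ hn hD hM i l₀ a ha a' ha' ha0
    (by rwa [ha1]) ⟨Q a, by rw [ha1]⟩
  have haS : ∀ y ∈ S, polar Q y a = 0 := fun y hy => hD.polar_of_pr (hL2 i hiL y hy) ha
  set u' := (orefl Q a).1 u with hu'
  have hq' : Q u' = 0 := by rw [hu', OG.map_app, hu]
  have huu' : polar Q u u' ≠ 0 := by
    rw [hu', orefl_app]
    simp only [oexp, hu]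
    simpa using ⟨ha0, hua⟩
  have hu'S : ∀ y ∈ S, polar Q u' y = 0 := fun y hy => by
    rw [hu', orefl_app]; simp only [oexp, huS y hy, polar_comm Q a y, haS y hy]; ring
  have hA' : ∀ y ∈ S, y ∈ EA M hq' := fun y hy => by
    have h1 : (orefl Q a').1 y ∈ S := by
      rw [orefl_app]; exact S.sub_mem hy (S.smul_mem _ (hL1 l₀ hl₀ ha'))
    have := EA_map hq' hr (by
      rw [OG.mul_app, orefl_app_of_polar (huS a' (hL1 l₀ hl₀ ha'))]) (hA _ h1)
    rwa [OG.mul_app, orefl_orefl_app, orefl_app_of_polar (haS y hy)] at this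
  have hT : ND Q (Submodule.span F {u, u'}) := nd_span_pair (by simpa [hu] using huu')
  have hTS : ∀ x ∈ Submodule.span F {u, u'}, ∀ y ∈ S, polar Q x y = 0 := fun x hx y hy => by
    obtain ⟨s, t, rfl⟩ := Submodule.mem_span_pair.1 hx
    simp only [oexp, huS y hy, hu'S y hy]; ring
  have hE : ∀ y ∈ Submodule.span F {u, u'} ⊔ S, ∀ v ∈ Submodule.span F {u, u'} ⊔ S,
      eich Q y v ∈ M := fun y hy v hv => by
    refine eich_mem_of_pair (hT.sup hS hTS) (Submodule.mem_sup_left (mem_span_two_left u u'))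
      (Submodule.mem_sup_left (mem_span_two_right u u')) hu hq' huu' (fun z hz h => ?_)
      (fun z hz h => ?_) hy hv
    · obtain ⟨x, hx, y, hy, rfl⟩ := Submodule.mem_sup.1 hz
      obtain ⟨s, t, rfl⟩ := Submodule.mem_span_pair.1 hx
      simp only [oexp, hu, huS y hy] at h
      have ht : t = 0 := by simpa [huu'] using h
      rw [ht, zero_smul, add_zero]
      exact (EA M hu).add_mem (smul_self_mem_EA hu s) (hA y hy)
    · obtain ⟨x, hx, y, hy, rfl⟩ := Submodule.mem_sup.1 hz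
      obtain ⟨s, t, rfl⟩ := Submodule.mem_span_pair.1 hx
      simp only [oexp, hq', hu'S y hy, polar_comm Q u' u] at h
      have ht : s = 0 := by simpa [huu'] using h
      rw [ht, zero_smul, zero_add]
      exact (EA M hq').add_mem (smul_self_mem_EA hq' t) (hA' y hy)
  have hfull : ∀ y ∈ S, Q y = 0 → Full M y := fun y hy hq => full_of_EA hq fun v hv => by
    have h1 := hsp y hy hq i hiL u ⟨by rw [polar_comm]; exact huS y hy, hE y
      (Submodule.mem_sup_right hy) u (Submodule.mem_sup_left (mem_span_two_left u u'))⟩ hi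
    have h2 : ∑ j ∈ Lᶜ, hD.pr j v ∈ EA M hq := (EA M hq).sum_mem fun j hj =>
      swap_EA hQ hn hD hM hiso (fun i => (hg i).two_le) hq (hL2 i hiL y hy)
        (hL2 j (Finset.mem_compl.1 hj) y hy) h1 _ (hD.pr_mem j v)
    have h3 : ∑ j ∈ L, hD.pr j v ∈ S := S.sum_mem fun j hj => hL1 j hj (hD.pr_mem j v)
    have h4 := Finset.sum_add_sum_compl L fun j => hD.pr j v
    rw [hD.sum_pr] at h4
    rw [← h4] at hv ⊢
    refine (EA M hq).add_mem ⟨?_, hE y (Submodule.mem_sup_right hy) _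
      (Submodule.mem_sup_right h3)⟩ h2
    rwa [polar_add_right, h2.1, add_zero] at hv
  obtain ⟨y', hy', h1, h2⟩ := hS.exists_partner hy₀ hy0 hyq
  exact EO_le_of_full hQ (hfull y₀ hy₀ hyq) (hfull y' hy' h1) (by rw [h2]; exact one_ne_zero)

theorem spread_three {j : κ} (h3 : 3 ≤ finrank F (D j)) {u x : V} (hu : Q u = 0)
    (hj : hD.pr j u = 0) (hx : x ∈ EA M hu) (hx0 : hD.pr j x ≠ 0) : ∀ v ∈ D j, v ∈ EA M hu := by
  obtain ⟨w, hw, hxw⟩ := hD.exists_polar_ne hx0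
  exact le_EA_of_three (hD.nd j) h3 (eich_mem_M hQ hn hD hM) hu
    (fun w hw => hD.polar_of_pr hj hw) hx hw hxw

theorem top_of_EA_three (hiso : ∀ i j, ∃ e : D i ≃ₗ[F] D j, ∀ x : D i, Q (e x : V) = Q (x : V))
    (hg : ∀ i, Good Q (D i)) (h3 : ∀ i, 3 ≤ finrank F (D i)) {u x : V} (hu : Q u = 0)
    (hu0 : u ≠ 0) {j : κ} (hj : hD.pr j u = 0) (hx : x ∈ EA M hu) (hx0 : hD.pr j x ≠ 0) :
    EO Q ≤ M := by
  obtain ⟨y, hy, hy0, hq⟩ := exists_singular_mem (Q := Q) (h3 j)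
  refine fin_dec hQ hn hD hM hiso hg {j} (D j) (by simp) (fun i hi y hy =>
    hD.pr_of_ne (by simpa using hi) hy) hu hu0 (spread_three hQ hn hD hM (h3 j) hu hj hx hx0)
    (Finset.mem_singleton_self j) hy hy0 hq fun y hy hq i hi x hx hx0 =>
      spread_three hQ hn hD hM (h3 i) hq (hD.pr_of_ne (by simpa using hi) hy) hx hx0

/-- From a new reflection with two components to one with three components. -/
theorem exists_three_comp
    (hiso : ∀ i j, ∃ e : D i ≃ₗ[F] D j, ∀ x : D i, Q (e x : V) = Q (x : V))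
    (h2 : ∀ i, 2 ≤ finrank F (D i)) (hmv : ∀ i, Mv Q (D i)) {i₀ i j l : κ} (hij : i ≠ j)
    (hil : i ≠ l) (hjl : j ≠ l) {a c : V} (ha : a ∈ D i₀) (ha0 : Q a ≠ 0) (hc : Q c ≠ 0)
    (h : orefl Q a * orefl Q c ∈ M) (hi : Q (hD.pr i c) ≠ 0) (hj : hD.pr j c ≠ 0)
    (hl : ∀ m, m ≠ i → m ≠ j → hD.pr m c = 0) :
    ∃ c', Q c' ≠ 0 ∧ orefl Q a * orefl Q c' ∈ M ∧ hD.pr i c' ≠ 0 ∧ hD.pr j c' ≠ 0 ∧
      hD.pr l c' ≠ 0 ∧ ∀ m, m ≠ i → m ≠ j → m ≠ l → hD.pr m c' = 0 := by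
  obtain ⟨u, hu, hu0, h1, h3, h4⟩ := hmv i _ (hD.pr_mem i c) hi
  obtain ⟨e, he⟩ := hiso j l
  obtain ⟨s, hs, -, s1, -, s3⟩ := hD.exists_swap hQ hn hjl e he (h2 l)
  obtain ⟨k, hk, k1, k2⟩ := exists_comp hQ hn (hD.nd l) (h2 l) (s * orefl Q u)
  have hkD : k ∈ dstab Q D := hD.mem_dstab_of_one (k2 _ le_rfl)
    fun m hm x hx => k1 x fun y hy => hD.orth l m hm.symm y hy x hx
  have hp := hD.pr_mem i c
  have hr := hD.pr_mem j c
  have hcc : c = hD.pr i c + hD.pr j c := by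
    conv_lhs => rw [← hD.sum_pr c]
    exact Fintype.sum_eq_add i j hij fun m hm => hl m hm.1 hm.2
  have hlc := hl l hil.symm hjl.symm
  generalize hD.pr i c = p at *
  generalize hD.pr j c = r at *
  have hgc : (s * orefl Q u * k).1 c = p - u + e ⟨r, hr⟩ := by
    rw [OG.mul_app, OG.mul_app, k1 c (hD.pr_eq_zero_iff.1 hlc), hcc, map_add,
      orefl_app_of_diff hu0 h1, orefl_app_of_polar (hD.orth j i hij.symm r hr u hu), map_add,
      s3 i hij hil _ ((D i).sub_mem hp hu), ← s1]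
  have h5 := refl_move hQ hn hD hM ha ha0 h ((dstab Q D).mul_mem ((dstab Q D).mul_mem hs
    (hD.orefl_mem hu)) hkD) hk
  have hQc : Q (p - u + e ⟨r, hr⟩) = Q c := by rw [← hgc, OG.map_app]
  rw [hgc] at h5
  have he2 := (e ⟨r, hr⟩).2
  have he0 : (e ⟨r, hr⟩ : V) ≠ 0 := fun H => hj (congrArg Subtype.val
    (e.map_eq_zero_iff.1 (Subtype.ext H)))
  generalize (e ⟨r, hr⟩ : V) = z at *
  have hβ : (Q c)⁻¹ * polar Q (p - u + z) c ≠ 0 := by
    refine mul_ne_zero (inv_ne_zero hc) ?_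
    rw [hcc]
    simp only [oexp, hD.orth i j hij p hp r hr, hD.orth i j hij u hu r hr, polar_comm Q u p, h1,
      hD.orth l i hil.symm z he2 p hp, hD.orth l j hjl.symm z he2 r hr]
    intro H; exact h4 (by linear_combination H)
  refine ⟨_, by rw [OG.map_app, hQc]; exact hc, refl_refl h h5, ?_⟩
  rw [orefl_app]
  generalize (Q c)⁻¹ * polar Q (p - u + z) c = β at hβ
  rw [hcc]
  simp only [map_sub, map_add, map_smul]
  refine ⟨fun H => h3 ?_, ?_, ?_, fun m h1 h2 h3 => ?_⟩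
  · rw [hD.pr_of_mem hp, hD.pr_of_mem hu, hD.pr_of_ne hil he2, hD.pr_of_ne hij hr] at H
    exact Submodule.mem_span_singleton.2 ⟨1 - β, by
      rw [← sub_eq_zero, ← H]; module⟩
  · rw [hD.pr_of_mem hr, hD.pr_of_ne hij.symm hp, hD.pr_of_ne hij.symm hu, hD.pr_of_ne hjl he2]
    simpa using ⟨hβ, hj⟩
  · rw [hD.pr_of_mem he2, hD.pr_of_ne hil.symm hp, hD.pr_of_ne hil.symm hu,
      hD.pr_of_ne hjl.symm hr]
    simpa using he0
  · rw [hD.pr_of_ne h1 hp, hD.pr_of_ne h1 hu, hD.pr_of_ne h2 hr, hD.pr_of_ne h3 he2]; simp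

theorem pr_smul_ne {j : κ} {c : V} (hc : Q c ≠ 0) (h : hD.pr j c ≠ 0) :
    hD.pr j ((Q c)⁻¹ • c) ≠ 0 := by
  rw [map_smul]; exact smul_ne_zero (inv_ne_zero hc) h

theorem top_of_refl_three
    (hiso : ∀ i j, ∃ e : D i ≃ₗ[F] D j, ∀ x : D i, Q (e x : V) = Q (x : V))
    (hg : ∀ i, Good Q (D i)) (h3 : ∀ i, finrank F (D i) = 3) {i₀ i j l : κ} (hij : i ≠ j)
    (hil : i ≠ l) (hjl : j ≠ l) {a c : V} (ha : a ∈ D i₀) (ha0 : Q a ≠ 0) (hc : Q c ≠ 0)
    (h : orefl Q a * orefl Q c ∈ M) (hi : hD.pr i c ≠ 0) (hj : hD.pr j c ≠ 0)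
    (hl : hD.pr l c ≠ 0) : EO Q ≤ M := by
  have h20 := (hD.nd i).two_ne_zero_of_three (h3 i)
  have hq : 5 ≤ Nat.card F := card_cases h20 (by
    have := h3 i
    rcases hg i with h | h | h | h <;> omega)
  have hsing : ∀ m, m ≠ l → hD.pr m c ≠ 0 → Q (hD.pr m c) = 0 → EO Q ≤ M := fun m hm h1 h2 => by
    obtain ⟨u, hu, hu0, huq, hA⟩ := EA_of_singular_comp hQ hn hD hM ha ha0 hc h h1 h2
      (.inl (by omega))
    exact top_of_EA_three hQ hn hD hM hiso hg (fun i => (h3 i).ge) huq hu0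
      (hD.pr_of_ne hm.symm hu) hA (pr_smul_ne hQ hn hD hM hc hl)
  by_cases h1 : Q (hD.pr i c) = 0
  · exact hsing i hil hi h1
  by_cases h2 : Q (hD.pr j c) = 0
  · exact hsing j hjl hj h2
  obtain ⟨u, hu, u1, u2⟩ := exists_diff (hD.nd i) (h3 i).ge h20 (hD.pr_mem i c) h1 1
  obtain ⟨w, hw, w1, w2⟩ := exists_diff (hD.nd j) (h3 j).ge h20 (hD.pr_mem j c) h2 (-1)
  rw [hD.polar_pr' hu] at u2
  rw [hD.polar_pr' hw] at w2
  have huw := hD.orth i j hij u hu w hw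
  have hT := nd_span_one h20 h1
  have h4 := hT.finrank_inf_perp (span_one_le (hD.pr_mem i c))
  have h5 := finrank_span_one_le (F := F) (hD.pr i c)
  obtain ⟨k, hk, k1, k2⟩ := exists_comp hQ hn ((hD.nd i).inf_perp hT (span_one_le (hD.pr_mem i c)))
    (by have := h3 i; omega) (orefl Q u * orefl Q w)
  have hq0 : Q (-(u + w)) = 0 := by simp only [oexp, u1, w1, huw]; ring
  refine top_of_EA_three hQ hn hD hM hiso hg (fun i => (h3 i).ge) hq0 (fun H => ?_) (j := l) ?_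
    (EA_of_move hQ hn hD hM ha ha0 hc h ((dstab Q D).mul_mem ((dstab Q D).mul_mem
      (hD.orefl_mem hu) (hD.orefl_mem hw)) (hD.mem_dstab_of_one (k2 _ inf_le_left)
      fun l hl x hx => k1 x fun y hy => hD.orth i l hl.symm y hy.1 x hx)) hk hq0 ?_)
    (pr_smul_ne hQ hn hD hM hc hl)
  · have := congrArg (hD.pr i) H
    rw [map_neg, map_add, hD.pr_of_mem hu, hD.pr_of_ne hij hw, map_zero] at this
    rw [show u = 0 by simpa using this] at u1
    simp at u1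
  · rw [map_neg, map_add, hD.pr_of_ne hil.symm hu, hD.pr_of_ne hjl.symm hw]; simp
  · rw [OG.mul_app, OG.mul_app, k1 c fun y hy => by
      rw [← hD.polar_pr hy.1, polar_comm]; exact mem_operp_one.1 hy.2,
      orefl_app_of_diff (u := w) (c := c) (by rw [w1]; simp) (by rw [w1, w2]), map_sub,
      orefl_app_of_diff (u := u) (c := c) (by rw [u1]; simp) (by rw [u1, u2]),
      orefl_app_of_polar (by rw [polar_comm, huw])]
    abel

end Ctx

theorem exists_ne_ne (h : 3 ≤ Fintype.card κ) (i j : κ) : ∃ l, l ≠ i ∧ l ≠ j := by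
  by_contra H
  push Not at H
  have : (Finset.univ : Finset κ) ⊆ {i, j} := fun l _ => by
    by_cases h : l = i
    · simp [h]
    · simp [H l h]
  have := (Finset.card_le_card this).trans Finset.card_le_two
  rw [Finset.card_univ] at this
  omega

theorem exists_notMem_dstab (hQ : (polarBilin Q).Nondegenerate) (hn : 5 ≤ finrank F V)
    (hD : ODec Q D) {u : V} (hu : Q u = 0) {i l : κ} (hi : hD.pr i u ≠ 0) (hl : hD.pr l u = 0)
    (h2 : 2 ≤ finrank F (D i)) (hl0 : D l ≠ ⊥) : ∃ g ∈ commutator (OG Q), g ∉ dstab Q D := by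
  have hil : i ≠ l := fun h => hi (h ▸ hl)
  obtain ⟨v, hv, hv0⟩ := Submodule.exists_mem_ne_zero_of_ne_bot hl0
  obtain ⟨y, hy, h1⟩ := hD.exists_polar_ne hi
  obtain ⟨z, hz, h3⟩ := exists_mem_notMem_of_lt (S := D i) (T := Submodule.span F {hD.pr i u})
    (by have := finrank_span_one_le (F := F) (hD.pr i u); omega)
  obtain ⟨x, hx, h4, h5⟩ := exists_notMem_two (S := operp Q (Submodule.span F {u})) hy hz
    (fun H => h1 (mem_operp_one.1 H)) h3
  have h6 : polar Q x u ≠ 0 := fun H => h4 (mem_operp_one.2 (by rwa [polar_comm]))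
  refine ⟨_, eich_mem_omega hQ hn u v, fun ⟨σ, hσ⟩ => ?_⟩
  have h7 : (eich Q u v).1 x ∈ D (σ i) := by rw [← hσ]; exact ⟨x, hx, rfl⟩
  rw [eich_app hu (hD.polar_of_pr hl hv)] at h7
  by_cases H : σ i = l
  · have := hD.pr_of_ne (H ▸ hil) h7
    simp only [map_sub, map_add, map_smul, hD.pr_of_mem hx, hD.pr_of_ne hil hv] at this
    exact h5 (Submodule.mem_span_singleton.2 ⟨polar Q x v + Q v * polar Q x u, by
      rw [← sub_eq_zero, ← neg_eq_zero, ← this]; module⟩)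
  · have := hD.pr_of_ne (Ne.symm H) h7
    simp only [map_sub, map_add, map_smul, hD.pr_of_mem hv, hD.pr_of_ne hil.symm hx, hl] at this
    exact smul_ne_zero h6 hv0 (by simpa using this)

theorem notMem_span_of_orth (hD : ODec Q D) {i j l : κ} (hi : l ≠ i) (hj : l ≠ j) {f e x : V}
    (hf : f ∈ D i) (he : e ∈ D j) (hx : x ∈ D l) (hx0 : x ≠ 0) : x ∉ Submodule.span F {f, e} :=
  fun H => hx0 (by
    rw [← hD.pr_of_mem hx]
    exact hD.pr_of_sup hi hj (span_two_le (Submodule.mem_sup_left hf) (Submodule.mem_sup_right he) H))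

theorem Pair.false_of_five {D' : κ → Submodule F V} (h : Pair M D D')
    (hfix : ∀ f e, orefl Q f * orefl Q e ∈ dstab Q D' →
      ∀ j, ∀ v ∈ D' j, (orefl Q f * orefl Q e).1 v ∈ D' j) {i m : κ} (h5 : 5 ≤ finrank F (D i))
    (h0 : D' m ≠ ⊥) : False := by
  obtain ⟨a, ha, ha0⟩ := (h.dec'.nd m).exists_nonsingular h0
  obtain ⟨f, hf, f1, f2, -⟩ := exists_cls_perp (h.dec.nd i) a one_ne_zero ⊥ (.inr ⟨by omega, rfl⟩)
  obtain ⟨e, he, e1, e2, e3⟩ := exists_cls_perp (h.dec.nd i) a one_ne_zero (Submodule.span F {f})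
    (.inl ⟨h5, by have := finrank_span_one_le (F := F) f; omega⟩)
  obtain ⟨x, hx, x1, x2, x3⟩ := exists_cls_perp (h.dec.nd i) a one_ne_zero
    (Submodule.span F {f, e}) (.inl ⟨h5, by have := finrank_span_pair_le (F := F) f e; omega⟩)
  exact h.three hfix ha ha0 one_ne_zero hf he hx f1 e1 x1 f2 e2 x2 e3 x3

/-- Decompositions into isometric subspaces of dimension at least three. -/
theorem omax_dec_three (hQ : (polarBilin Q).Nondegenerate) (hD : ODec Q D)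
    (hiso : ∀ i j, ∃ e : D i ≃ₗ[F] D j, ∀ x : D i, Q (e x : V) = Q (x : V))
    (hg : ∀ i, Good Q (D i)) {k : ℕ} (hk : ∀ i, finrank F (D i) = k) (h3 : 3 ≤ k)
    (ht : 2 ≤ Fintype.card κ) (hkt : 5 ≤ k ∨ 3 ≤ Fintype.card κ) : OMax (dstab Q D) := by
  obtain ⟨i₁, i₂, h12⟩ := Fintype.exists_pair_of_one_lt_card (show 1 < Fintype.card κ by omega)
  have h3' : ∀ i, 3 ≤ finrank F (D i) := fun i => by rw [hk]; exact h3
  have hn : 5 ≤ finrank F V := by
    have h1 := Submodule.finrank_sup_add_finrank_inf_eq (D i₁) (D i₂)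
    rw [(hD.nd i₁).disjoint (hD.orth _ _ h12), finrank_bot, hk, hk] at h1
    have := Submodule.finrank_le (D i₁ ⊔ D i₂)
    omega
  refine ⟨?_, fun M hM _ g hgM hgD => ?_⟩
  · obtain ⟨u, hu, hu0, hq⟩ := exists_singular_mem (Q := Q) (h3' i₁)
    exact exists_notMem_dstab hQ hn hD hq (i := i₁) (l := i₂) (by rwa [hD.pr_of_mem hu])
      (hD.pr_of_ne h12.symm hu) (by have := h3' i₁; omega)
      (ne_bot_of_finrank (by have := h3' i₂; omega))
  rw [omega_eq hQ hn]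
  have hR := refl_of_le hQ hn hD hM
  by_cases hC : Closed M D
  · exfalso
    have hP := pair_of_notMem hD hR (st_of_closed hD hR hC hg fun i j => by rw [hk, hk]) hgM hgD
    have hd' : ∀ j, 3 ≤ finrank F ((D j).map (g.1 : V →ₗ[F] V)) := fun j => by
      rw [LinearEquiv.finrank_map_eq]; exact h3' j
    have hfix := fun f e h => hP.dec'.fix_of_three hd' (f := f) (h := e) h
    have h0 : (D i₁).map (g.1 : V →ₗ[F] V) ≠ ⊥ := ne_bot_of_finrank (by have := hd' i₁; omega)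
    by_cases h5 : 5 ≤ k
    · exact hP.false_of_five hfix (i := i₁) (by rwa [hk]) h0
    obtain ⟨i₃, h31, h32⟩ := exists_ne_ne (hkt.resolve_left h5) i₁ i₂
    obtain ⟨a, ha, ha0⟩ := (hP.dec'.nd i₁).exists_nonsingular h0
    by_cases h4 : 4 ≤ k
    · have := fun i => exists_cls_perp (hD.nd i) a one_ne_zero ⊥ (.inr ⟨by rwa [hk], rfl⟩)
      choose f hf f1 f2 f3 using this
      exact hP.three hfix ha ha0 one_ne_zero (hf i₁) (hf i₂) (hf i₃) (f1 _) (f1 _) (f1 _) (f2 _)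
        (f2 _) (f2 _) (fun H => notMem_span_of_orth hD h12.symm h12.symm (hf i₁) (hf i₁) (hf i₂)
          (f3 _) (Submodule.span_mono (by simp) H))
        (notMem_span_of_orth hD h31 h32 (hf i₁) (hf i₂) (hf i₃) (f3 _))
    have hq : Nat.card F ≠ 3 := by
      have := hk i₁
      rcases hg i₁ with h | h | h | h <;> omega
    have := fun i => exists_perp_two_of_three (hD.nd i) (by rw [hk]; omega) hq a
    choose f hf e he f1 e1 f2 e2 e3 using this
    have key : ∀ i j, i ≠ j → IsSquare (Q (f i) * Q (f j)) → False := fun i j hij h =>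
      hP.three hfix ha ha0 (f1 i) (hf i) (he i) (hf j) (cls_self (f1 i)) (e1 i)
        ⟨f1 j, by rwa [mul_comm]⟩ (f2 i) (e2 i) (f2 j) (e3 i)
        (notMem_span_of_orth hD hij.symm hij.symm (hf i) (he i) (hf j) (o_ne_zero_of_norm (f1 j)))
    rcases isSq_three (b := Q (f i₂)) (c := Q (f i₃)) (f1 i₁) with h | h | h
    exacts [key _ _ h12 h, key _ _ h31.symm h, key _ _ h32.symm h]
  simp only [Closed, not_forall, not_exists] at hC
  obtain ⟨i₀, a, ha, ha0, c, hc, h, hcn⟩ := hC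
  obtain ⟨i, hi⟩ := hD.exists_pr_nonsingular hc
  obtain ⟨j, hji, hj⟩ := hD.exists_pr_ne (hcn i)
  by_cases h4 : 4 ≤ k
  · obtain ⟨u, hu, hu0, huq, hA⟩ := EA_of_big hQ hn hD hM ha ha0 hc h (o_ne_zero_of_norm hi)
      (.inr ⟨by rwa [hk], hi⟩)
    exact top_of_EA_three hQ hn hD hM hiso hg h3' huq hu0 (hD.pr_of_ne hji hu) hA
      (pr_smul_ne hQ hn hD hM hc hj)
  have hk3 : ∀ i, finrank F (D i) = 3 := fun i => by rw [hk]; omega
  by_cases H : ∃ l, l ≠ i ∧ l ≠ j ∧ hD.pr l c ≠ 0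
  · obtain ⟨l, h1, h2, hl⟩ := H
    exact top_of_refl_three hQ hn hD hM hiso hg hk3 hji.symm h1.symm h2.symm ha ha0 hc h
      (o_ne_zero_of_norm hi) hj hl
  push Not at H
  obtain ⟨l, h1, h2⟩ := exists_ne_ne (hkt.resolve_left (by omega)) i j
  have hq : Nat.card F ≠ 3 := by
    have := hk i₁
    rcases hg i₁ with h | h | h | h <;> omega
  obtain ⟨c', c1, c2, c3, c4, c5, -⟩ := exists_three_comp hQ hn hD hM hiso
    (fun i => (hg i).two_le) (fun i => mv_three (hD.nd i) (hk3 i) hq) hji.symm h1.symm h2.symm ha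
    ha0 hc h hi hj H
  exact top_of_refl_three hQ hn hD hM hiso hg hk3 hji.symm h1.symm h2.symm ha ha0 c1 c2 c3 c4 c5

end Cfsg.Agent.Cl.MaxO
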