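import Mathlib
import Cfsg.Agent.Cl.MaxORefl

/-!
# Maximality in `Ω`: stabilisers of non-degenerate subspaces
-/

set_option autoImplicit false
set_option linter.unusedSectionVars false
set_option linter.unusedVariables false

namespace Cfsg.Agent.Cl.MaxO

open Module QuadraticMap

variable {F V : Type*} [Field F] [AddCommGroup V] [Module F V] {Q : QuadraticForm F V}
  [FiniteDimensional F V] [Finite F] {M : Subgroup (OG Q)}

theorem exists_plane_refl {W : Submodule F V} (hW : ND Q W) (h2 : finrank F W = 2)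
    (hex : ¬ (Nat.card F ≤ 3 ∧ IsPlus Q W)) {x : V} (hx : x ∈ W) (hx0 : x ≠ 0) :
    ∃ v ∈ W, Q v ≠ 0 ∧ polar Q x v ≠ 0 ∧ v ∉ Submodule.span F {x} := by
  obtain ⟨y, hy, h1⟩ := hW.exists_polar_ne hx hx0
  obtain ⟨z, hz, h3⟩ := exists_mem_notMem_of_lt (S := W) (T := Submodule.span F {x})
    (by have := finrank_span_one_le (F := F) x; omega)
  obtain ⟨w, hw, h4, h5⟩ := exists_notMem_two (S := operp Q (Submodule.span F {x})) hy hz
    (fun H => h1 (mem_operp_one.1 H)) h3
  have h6 : polar Q x w ≠ 0 := fun H => h4 (mem_operp_one.2 H)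
  by_cases hp : IsPlus Q W
  swap
  · exact ⟨w, hw, aniso_of_not_isPlus h2 hp hw (o_ne_zero_of_polar_right h6), h6, h5⟩
  have hq : 3 < Nat.card F := by
    by_contra H; exact hex ⟨by omega, hp⟩
  obtain ⟨r, s, hrs⟩ := quad_roots (a := Q x) (b := polar Q x w) (c := Q w) (.inr (.inl h6))
  obtain ⟨t, ht⟩ := exists_notMem_list [r, s, -polar Q x w / (2 * Q x)] (by simp; omega)
  simp only [List.mem_cons, List.not_mem_nil, or_false, not_or] at ht
  refine ⟨w + t • x, W.add_mem hw (W.smul_mem _ hx), fun H => ?_, fun H => ?_, fun H => h5 ?_⟩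
  · simp only [oexp, polar_comm Q w x] at H
    have := hrs t (by linear_combination H); tauto
  · simp only [oexp] at H
    have h7 : 2 * Q x ≠ 0 := fun h => h6 (by rw [h] at H; linear_combination H)
    exact ht.2.2 (by rw [eq_div_iff h7]; linear_combination H)
  · simpa using Submodule.sub_mem _ H (Submodule.smul_mem _ t (Submodule.mem_span_singleton_self x))

section Two

variable {κ : Type*} [Fintype κ] [DecidableEq κ] {D : κ → Submodule F V}
  (hQ : (polarBilin Q).Nondegenerate) (hn : 5 ≤ finrank F V) (hD : ODec Q D)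
  (hM : dstab Q D ⊓ commutator (OG Q) ≤ M) {i j : κ} (hij : i ≠ j) (hall : ∀ l, l = i ∨ l = j)
include hQ hn hD hM hij hall

theorem fin_two (h3 : 3 ≤ finrank F (D i)) {u : V} (hu : u ∈ D i) (hu0 : u ≠ 0) (hq : Q u = 0)
    (hA : ∀ v ∈ D j, v ∈ EA M hq) : EO Q ≤ M := by
  have hfull : Full M u := full_of_EA hq fun v hv => by
    have h1 : v = hD.pr i v + hD.pr j v := by
      conv_lhs => rw [← hD.sum_pr v]
      exact Fintype.sum_eq_add i j hij fun m hm => by rcases hall m with h | h <;> tauto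
    rw [h1]
    exact (EA M hq).add_mem ⟨by rwa [hD.polar_pr hu], eich_mem_M hQ hn hD hM u hu _
      (hD.pr_mem i v)⟩ (hA _ (hD.pr_mem j v))
  obtain ⟨y, hy, h1, h2⟩ := (hD.nd i).exists_partner hu hu0 hq
  obtain ⟨z, hz, h4, h5⟩ := exists_nonsingular_perp_mem (hD.nd i) h3 y
  refine EO_le_of_full_move hQ hfull (eich_mem_M hQ hn hD hM y hy z hz) ?_
  rw [polar_eich_partner hq h1 h2 h5]; exact neg_ne_zero.2 h4

theorem spread_small (h4 : 4 ≤ finrank F (D i))
    (hex : ¬ (Nat.card F ≤ 3 ∧ finrank F (D j) = 2 ∧ IsPlus Q (D j))) {u x : V} (hu : u ∈ D i)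
    (hu0 : u ≠ 0) (hq : Q u = 0) (hx : x ∈ EA M hq) (hx0 : hD.pr j x ≠ 0) :
    ∀ v ∈ D j, v ∈ EA M hq := by
  by_cases h3 : 3 ≤ finrank F (D j)
  · exact spread_three hQ hn hD hM h3 hq (hD.pr_of_ne hij.symm hu) hx hx0
  have h1 : x = hD.pr i x + hD.pr j x := by
    conv_lhs => rw [← hD.sum_pr x]
    exact Fintype.sum_eq_add i j hij fun m hm => by rcases hall m with h | h <;> tauto
  have hw : hD.pr j x ∈ EA M hq := by
    have := (EA M hq).sub_mem hx ⟨by rw [hD.polar_pr hu]; exact hx.1, eich_mem_M hQ hn hD hM u hu _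
      (hD.pr_mem i x)⟩
    rwa [sub_eq_of_eq_add' h1] at this
  have hwj := hD.pr_mem j x
  generalize hD.pr j x = w at hw hwj hx0
  obtain ⟨u', hu', h2, h5⟩ := (hD.nd i).exists_partner hu hu0 hq
  have hT : ND Q (Submodule.span F {u, u'}) := nd_span_pair (by simp [hq, h5])
  have h6 := hT.finrank_inf_perp (span_two_le hu hu')
  have h7 := finrank_span_pair_le (F := F) u u'
  have hcomp : ∀ g ∈ dstab Q D, ∃ k : OG Q, g * k ∈ M ∧ k.1 u = u ∧ ∀ y ∈ D j, k.1 y = y :=
    fun g hg => by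
      obtain ⟨k, hk, k1, k2⟩ := exists_comp hQ hn ((hD.nd i).inf_perp hT (span_two_le hu hu'))
        (by omega) g
      have k3 : ∀ l, l ≠ i → ∀ x ∈ D l, k.1 x = x := fun l hl x hx =>
        k1 x fun y hy => hD.orth i l hl.symm y hy.1 x hx
      exact ⟨k, hM ⟨(dstab Q D).mul_mem hg (hD.mem_dstab_of_one (k2 _ inf_le_left) k3), hk⟩,
        k1 u fun y hy => by rw [polar_comm]; exact (mem_operp_two.1 hy.2).1, k3 j hij.symm⟩
  have hsc : ∀ (t : F), ∀ y ∈ D j, y ∈ EA M hq → t • y ∈ EA M hq := fun t y hy h => by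
    by_cases ht : t = 0
    · rw [ht, zero_smul]; exact zero_mem _
    obtain ⟨k, hk, k1, k2⟩ := hcomp (otor Q u u' t) ((dstab Q D).mul_mem
      (hD.orefl_mem ((D i).add_mem hu hu')) (hD.orefl_mem ((D i).add_mem hu ((D i).smul_mem _ hu'))))
    have := EA_scale hk ht (by rw [OG.mul_app, k1, otor_left hq h2 h5 ht]) h
    rwa [OG.mul_app, k2 y hy, otor_perp t (hD.orth i j hij u hu y hy)
      (hD.orth i j hij u' hu' y hy)] at this
  by_cases h8 : finrank F (D j) = 2
  · obtain ⟨v, hv, v1, v2, v3⟩ := exists_plane_refl (hD.nd j) h8 (fun H => hex ⟨H.1, h8, H.2⟩)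
      hwj hx0
    obtain ⟨k, hk, k1, k2⟩ := hcomp (orefl Q v) (hD.orefl_mem hv)
    have h9 := (EA M hq).sub_mem hw (EA_fix hk (by
      rw [OG.mul_app, k1, orefl_app_of_polar (hD.orth i j hij u hu v hv)]) hw)
    rw [OG.mul_app, k2 w hwj, orefl_app, sub_sub_cancel] at h9
    have h10 := hsc ((Q v)⁻¹ * polar Q w v)⁻¹ _ ((D j).smul_mem _ hv) h9
    rw [smul_smul, inv_mul_cancel₀ (mul_ne_zero (inv_ne_zero v1) v2), one_smul] at h10
    intro y hy
    rw [← Submodule.eq_of_le_of_finrank_eq (span_two_le hwj hv)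
      (by rw [finrank_span_two hx0 v3, h8])] at hy
    obtain ⟨s, t, rfl⟩ := Submodule.mem_span_pair.1 hy
    exact (EA M hq).add_mem (hsc s w hwj hw) (hsc t v hv h10)
  · intro y hy
    rw [← Submodule.eq_of_le_of_finrank_le (span_one_le hwj)
      (by rw [finrank_span_singleton hx0]; omega)] at hy
    obtain ⟨s, rfl⟩ := Submodule.mem_span_singleton.1 hy
    exact hsc s w hwj hw

omit hn hM in
theorem mem_dstab_two {g : OG Q} (h : ∀ x ∈ D i, g.1 x ∈ D i) : g ∈ dstab Q D :=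
  mem_dstab_of_fix fun l x hx => by
    rcases hall l with rfl | rfl
    · exact h x hx
    · refine hD.mem_of_pr_eq_zero fun m hm => ?_
      rw [(hall m).resolve_right hm]
      refine hD.pr_eq_zero_iff.2 fun y hy => ?_
      rw [← OG.polar_inv_left]
      exact hD.orth i l hij _ (stab_app ((quad_stab Q _).inv_mem (quad_mem_stab_of_le h)) hy) x hx

omit hQ hn hD hM in
theorem fix_of_mem_dstab_two (hns : ∀ g : OG Q, ¬ ∀ x ∈ D i, g.1 x ∈ D j) {g : OG Q}
    (h : g ∈ dstab Q D) (l : κ) : ∀ x ∈ D l, g.1 x ∈ D l := by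
  obtain ⟨σ, hσ⟩ := h
  have h1 : ∀ l, ∀ x ∈ D l, g.1 x ∈ D (σ l) := fun l x hx => by rw [← hσ]; exact ⟨x, hx, rfl⟩
  have h2 : σ i = i := (hall (σ i)).resolve_right fun H => hns g (H ▸ h1 i)
  have h3 : σ l = l := by
    rcases hall l with rfl | rfl
    · exact h2
    · exact (hall (σ l)).resolve_left fun H => hij (σ.injective (h2.trans H.symm))
  have := h1 l
  rwa [h3] at this

omit hM in
theorem omax_two (hg : Good Q (D i)) (h4 : 4 ≤ finrank F (D i))
    (h5 : 5 ≤ finrank F (D i) ∨ 3 ≤ finrank F (D j)) (h0 : D j ≠ ⊥)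
    (hns : ∀ g : OG Q, ¬ ∀ x ∈ D i, g.1 x ∈ D j)
    (hex : ¬ (Nat.card F ≤ 3 ∧ finrank F (D j) = 2 ∧ IsPlus Q (D j))) : OMax (dstab Q D) := by
  refine ⟨?_, fun M hM _ g hgM hgD => ?_⟩
  · obtain ⟨u, hu, hu0, hq⟩ := exists_singular_mem (Q := Q) (S := D i) (by omega)
    exact exists_notMem_dstab hQ hn hD hq (i := i) (l := j) (by rwa [hD.pr_of_mem hu])
      (hD.pr_of_ne hij.symm hu) (by omega) h0
  rw [omega_eq hQ hn]
  have hR := refl_of_le hQ hn hD hM
  by_cases hC : Closed M D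
  · exfalso
    have hS : St M D := fun g hg l m a ha ha0 hga => by
      obtain ⟨m, hm⟩ := closed_maps hD hR hC hg ha ha0 hga ‹Good Q (D i)›
      rcases hall m with rfl | rfl
      · exact mem_dstab_two hQ hD hij hall hm
      · exact absurd hm (hns g)
    have hP := pair_of_notMem hD hR hS hgM hgD
    have hfix := fun f e (h : orefl Q f * orefl Q e ∈ dstab Q _) =>
      fix_of_mem_dstab_two (D := fun i => (D i).map (g.1 : V →ₗ[F] V)) hij hall (fun k H =>
        hns (g⁻¹ * k * g) fun x hx => (mem_map_iff _ _ _).1 (H _ ⟨x, hx, rfl⟩)) h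
    have h0' : (D i).map (g.1 : V →ₗ[F] V) ≠ ⊥ :=
      ne_bot_of_finrank (by rw [LinearEquiv.finrank_map_eq]; omega)
    rcases h5 with h5 | h5
    · exact hP.false_of_five hfix h5 h0'
    obtain ⟨a, ha, ha0⟩ := (hP.dec'.nd i).exists_nonsingular h0'
    obtain ⟨f, hf, f1, f2⟩ := exists_nonsingular_perp_mem (hD.nd j) h5 a
    obtain ⟨e, he, x, hx, e1, x1, e2, x2, x3⟩ := exists_cls_perp_two (hD.nd i) h4 a f1
    exact hP.three hfix ha ha0 f1 he hx hf e1 x1 (cls_self f1) e2 x2 f2 x3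
      (notMem_span_of_orth hD hij.symm hij.symm he hx hf (o_ne_zero_of_norm f1))
  simp only [Closed, not_forall, not_exists] at hC
  obtain ⟨i₀, a, ha, ha0, c, hc, h, hcn⟩ := hC
  have hi : hD.pr i c ≠ 0 := by
    obtain ⟨l, h1, h2⟩ := hD.exists_pr_ne (hcn j)
    rwa [(hall l).resolve_right h1] at h2
  have hj : hD.pr j c ≠ 0 := by
    obtain ⟨l, h1, h2⟩ := hD.exists_pr_ne (hcn i)
    rwa [(hall l).resolve_left h1] at h2
  have key : (∃ u ∈ D i, u ≠ 0 ∧ ∃ hu : Q u = 0, (Q c)⁻¹ • c ∈ EA M hu) → EO Q ≤ M := by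
    rintro ⟨u, hu, hu0, hq, hA⟩
    exact fin_two hQ hn hD hM hij hall (by omega) hu hu0 hq
      (spread_small hQ hn hD hM hij hall h4 hex hu hu0 hq hA (pr_smul_ne hQ hn hD hM hc hj))
  by_cases h6 : 5 ≤ finrank F (D i) ∨ Q (hD.pr i c) ≠ 0
  · exact key (EA_of_big hQ hn hD hM ha ha0 hc h hi (h6.imp id fun H => ⟨h4, H⟩))
  push Not at h6
  by_cases hq : Nat.card F = 2
  swap
  · exact key (EA_of_singular_comp hQ hn hD hM ha ha0 hc h hi h6.2 (.inr ⟨h4, hq⟩))
  have h7 : Q (hD.pr j c) ≠ 0 := by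
    obtain ⟨l, hl⟩ := hD.exists_pr_nonsingular hc
    rcases hall l with rfl | rfl
    · exact absurd h6.2 hl
    · exact hl
  have h8 : 4 ≤ finrank F (D j) := by
    by_contra H
    exact (hD.nd j).two_ne_zero_of_three (by omega) (two_eq_zero_of_card hq)
  obtain ⟨u, hu, hu0, hq, hA⟩ := EA_of_big hQ hn hD hM ha ha0 hc h hj (.inr ⟨h8, h7⟩)
  exact fin_two hQ hn hD hM hij.symm (fun l => (hall l).symm) (by omega) hu hu0 hq
    (spread_three hQ hn hD hM (by omega) hq (hD.pr_of_ne hij hu) hA (pr_smul_ne hQ hn hD hM hc hi))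

end Two

theorem odec_perp (hQ : (polarBilin Q).Nondegenerate) {W : Submodule F V} (hW : ND Q W) :
    ODec Q ![W, operp Q W] where
  nd i := by
    fin_cases i
    exacts [hW, hW.perp hQ]
  orth i j h x hx y hy := by
    fin_cases i <;> fin_cases j
    · exact absurd rfl h
    · exact mem_operp.1 hy x hx
    · rw [polar_comm]; exact mem_operp.1 hx y hy
    · exact absurd rfl h
  top := by
    rw [eq_top_iff, ← hW.isCompl.sup_eq_top]
    exact sup_le (le_iSup ![W, operp Q W] 0) (le_iSup ![W, operp Q W] 1)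

theorem fin_two_cases (l : Fin 2) : l = 0 ∨ l = 1 := by fin_cases l <;> simp

theorem stab_perp (hQ : (polarBilin Q).Nondegenerate) (W : Submodule F V) :
    quad_stab Q (operp Q W) = quad_stab Q W := by
  have key : ∀ W : Submodule F V, quad_stab Q W ≤ quad_stab Q (operp Q W) := fun W g hg =>
    quad_mem_stab_of_le fun x hx => mem_operp.2 fun w hw => by
      rw [← OG.polar_inv_left]
      exact mem_operp.1 hx _ (stab_app ((quad_stab Q W).inv_mem hg) hw)
  refine le_antisymm ?_ (key W)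
  conv_rhs => rw [← operp_operp hQ W]
  exact key _

/-- The stabiliser of a non-degenerate subspace `U` (the larger one of `U`, `U^⊥`). -/
theorem omax_nondeg (hQ : (polarBilin Q).Nondegenerate) {U : Submodule F V} (hU : ND Q U)
    (hg : Good Q U) (h4 : 4 ≤ finrank F U) (h5 : 5 ≤ finrank F U ∨ 3 ≤ finrank F (operp Q U))
    (h0 : U ≠ ⊤) (hns : ∀ g : OG Q, ¬ ∀ x ∈ U, g.1 x ∈ operp Q U)
    (hex : ¬ (Nat.card F ≤ 3 ∧ finrank F (operp Q U) = 2 ∧ IsPlus Q (operp Q U))) :
    OMax (quad_stab Q U) := by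
  have h1 := finrank_operp hQ U
  have h2 := Submodule.finrank_lt h0
  have hD := odec_perp hQ hU
  have h3 : dstab Q ![U, operp Q U] = quad_stab Q U := le_antisymm
    (fun g hg => quad_mem_stab_of_le
      (fix_of_mem_dstab_two (i := 0) (j := 1) (by simp) fin_two_cases hns hg 0))
    fun g hg => mem_dstab_two hQ hD (i := 0) (j := 1) (by simp) fin_two_cases
      fun x hx => stab_app hg hx
  rw [← h3]
  exact omax_two hQ (by omega) hD (i := 0) (j := 1) (by simp) fin_two_cases hg h4 h5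
    (ne_bot_of_finrank (by change 1 ≤ finrank F (operp Q U); omega)) hns hex

theorem not_maps_of_lt {U W : Submodule F V} (h : finrank F W < finrank F U) (g : OG Q) :
    ¬ ∀ x ∈ U, g.1 x ∈ W := fun H => by
  have := Submodule.finrank_mono (show U.map (g.1 : V →ₗ[F] V) ≤ W by
    rintro _ ⟨x, hx, rfl⟩; exact H x hx)
  rw [LinearEquiv.finrank_map_eq] at this
  omega

theorem exists_isom_of_maps {U W : Submodule F V} (h : finrank F U = finrank F W) (g : OG Q)
    (H : ∀ x ∈ U, g.1 x ∈ W) : ∃ e : U ≃ₗ[F] W, ∀ x : U, Q (e x : V) = Q (x : V) := by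
  have h1 : U.map (g.1 : V →ₗ[F] V) = W := Submodule.eq_of_le_of_finrank_eq (by
    rintro _ ⟨x, hx, rfl⟩; exact H x hx) (by rw [LinearEquiv.finrank_map_eq, h])
  exact ⟨g.1.ofSubmodules U W h1, fun x => OG.map_app g x⟩

/-- Non-degenerate subspaces of dimension different from `n / 2`. -/
theorem omax_nondeg_ne (hQ : (polarBilin Q).Nondegenerate) (hn : 7 ≤ finrank F V)
    {W : Submodule F V} (hW : ND Q W) (h0 : W ≠ ⊥) (h1 : W ≠ ⊤)
    (hd : 2 * finrank F W ≠ finrank F V)
    (hex : ¬ (Nat.card F ≤ 3 ∧ finrank F W = 2 ∧ IsPlus Q W))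
    (hex' : ¬ (Nat.card F ≤ 3 ∧ finrank F (operp Q W) = 2 ∧ IsPlus Q (operp Q W))) :
    OMax (quad_stab Q W) := by
  have key : ∀ U : Submodule F V, ND Q U → U ≠ ⊤ → finrank F V < 2 * finrank F U →
      ¬ (Nat.card F ≤ 3 ∧ finrank F (operp Q U) = 2 ∧ IsPlus Q (operp Q U)) →
      OMax (quad_stab Q U) := fun U hU h1 h2 h3 => by
    have h4 := finrank_operp hQ U
    refine omax_nondeg hQ hU ?_ (by omega) (by omega) h1 (not_maps_of_lt (by omega)) h3
    by_cases h5 : 5 ≤ finrank F U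
    · exact .inl h5
    · exact .inr (.inl ⟨by omega, fun H => (hU.perp hQ).two_ne_zero_of_three (by omega)
        (two_eq_zero_of_card H.1)⟩)
  have h4 := finrank_operp hQ W
  by_cases h : finrank F V < 2 * finrank F W
  · exact key W hW h1 h hex'
  · rw [← stab_perp hQ]
    refine key _ (hW.perp hQ) (fun H => h0 ?_) (by omega) (by rwa [operp_operp hQ])
    rw [H, finrank_top] at h4
    exact Submodule.finrank_eq_zero.1 (by omega)

theorem IsPlus.of_isom {U W : Submodule F V} (e : U ≃ₗ[F] W) (he : ∀ x : U, Q (e x : V) = Q (x : V))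
    (h : IsPlus Q U) : IsPlus Q W := by
  obtain ⟨T, hT, h1, h2⟩ := h
  refine ⟨((T.comap U.subtype).map e.toLinearMap).map W.subtype, Submodule.map_subtype_le _ _,
    ?_, ?_⟩
  · rintro _ ⟨_, ⟨x, hx, rfl⟩, rfl⟩
    exact (he x).trans (h1 _ hx)
  · rw [Submodule.finrank_map_subtype_eq, LinearEquiv.finrank_map_eq,
      (Submodule.comapSubtypeEquivOfLe hT).finrank_eq, h2, e.finrank_eq]

theorem exists_anti_isometry (hQ : (polarBilin Q).Nondegenerate) (he : Even (finrank F V)) :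
    ∃ φ : V ≃ₗ[F] V, ∀ x, Q (φ x) = -Q x := by
  obtain ⟨m, hm⟩ := he
  have hm' : finrank F V = 2 * m := by omega
  have hQ' := o_nondeg_smul (neg_ne_zero.2 (one_ne_zero (α := F))) hQ
  have hneg : ∀ x, ((-1 : F) • Q) x = -Q x := fun x => by simp
  by_cases H : ∃ U : Submodule F V, (∀ u ∈ U, Q u = 0) ∧ finrank F U = m
  · obtain ⟨U, h1, h2⟩ := H
    obtain ⟨g, hg⟩ := quad_equiv_plus_of_singular hQ hm' h1 h2
    obtain ⟨g', hg'⟩ := quad_equiv_plus_of_singular hQ' hm'
      (fun u hu => by rw [hneg, h1 u hu, neg_zero]) h2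
    exact ⟨g'.trans g.symm, fun x => by
      rw [LinearEquiv.trans_apply, ← hg, LinearEquiv.apply_symm_apply, hg', hneg]⟩
  obtain ⟨U, h1, h2⟩ := quad_plus_exists_singular (F := F) m
  obtain ⟨ζ, hζ⟩ := quad_exists_aniso F
  rcases quad_classify_even hQ hm' with ⟨g, hg⟩ | ⟨-, hg⟩
  · refine (H ⟨U.map g.symm.toLinearMap, ?_, by rw [LinearEquiv.finrank_map_eq, h2]⟩).elim
    rintro _ ⟨x, hx, rfl⟩
    rw [← hg]; simpa using h1 x hx
  rcases quad_classify_even hQ' hm' with ⟨g', hg'⟩ | ⟨-, hg'⟩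
  · refine (H ⟨U.map g'.symm.toLinearMap, ?_, by rw [LinearEquiv.finrank_map_eq, h2]⟩).elim
    rintro _ ⟨x, hx, rfl⟩
    rw [← neg_eq_zero, ← hneg, ← hg']; simpa using h1 x hx
  obtain ⟨g, hg⟩ := hg 1 ζ hζ
  obtain ⟨g', hg'⟩ := hg' 1 ζ hζ
  exact ⟨g'.trans g.symm, fun x => by
    rw [LinearEquiv.trans_apply, ← hg, LinearEquiv.apply_symm_apply, hg', hneg]⟩

/-- Two isometric halves of even dimension give a space of plus type. -/
theorem isPlus_of_halves (hQ : (polarBilin Q).Nondegenerate) {U : Submodule F V} (hU : ND Q U)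
    (he : Even (finrank F U)) (e : U ≃ₗ[F] operp Q U) (h : ∀ x : U, Q (e x : V) = Q (x : V)) :
    IsPlus Q ⊤ := by
  obtain ⟨φ, hφ⟩ := exists_anti_isometry hU.nondeg he
  let f : U →ₗ[F] V := U.subtype + (operp Q U).subtype ∘ₗ e.toLinearMap ∘ₗ φ.toLinearMap
  have hf : ∀ x, f x = x + e (φ x) := fun x => rfl
  have hinj : Function.Injective f := (injective_iff_map_eq_zero f).2 fun x hx =>
    Subtype.ext (hU x x.2 fun y hy => by
      have := congrArg (polar Q y) hx
      rwa [hf, polar_add_right, mem_operp.1 (e (φ x)).2 y hy, add_zero, polar_zero_right,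
        polar_comm] at this)
  refine ⟨LinearMap.range f, le_top, ?_, ?_⟩
  · rintro _ ⟨x, rfl⟩
    rw [hf, o_qadd, mem_operp.1 (e (φ x)).2 _ x.2, h]
    have := hφ x
    change Q (φ x : V) = -Q (x : V) at this
    rw [this]; ring
  · rw [LinearMap.finrank_range_of_inj hinj, finrank_top, ← finrank_operp hQ U, ← e.finrank_eq]
    ring

/-- Non-degenerate subspaces of even dimension `n / 2` in a space of minus type. -/
theorem omax_nondeg_half (hQ : (polarBilin Q).Nondegenerate) (hn : 8 ≤ finrank F V)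
    (hV : ¬ IsPlus Q ⊤) {W : Submodule F V} (hW : ND Q W) (hd : 2 * finrank F W = finrank F V)
    (he : Even (finrank F W)) : OMax (quad_stab Q W) := by
  have key : ∀ U : Submodule F V, ND Q U → 2 * finrank F U = finrank F V → Even (finrank F U) →
      (finrank F U = 4 → ¬ IsPlus Q U) → OMax (quad_stab Q U) := fun U hU h1 h2 h3 => by
    have h4 := finrank_operp hQ U
    refine omax_nondeg hQ hU ?_ (by omega) (by omega) (fun H => by
      rw [H, finrank_top] at h1; omega) (fun g H => ?_) (by omega)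
    · by_cases h5 : 5 ≤ finrank F U
      · exact .inl h5
      · exact .inr (.inl ⟨by omega, fun H => h3 (by omega) H.2⟩)
    · obtain ⟨e, he⟩ := exists_isom_of_maps (by omega) g H
      exact hV (isPlus_of_halves hQ hU h2 e he)
  have h4 := finrank_operp hQ W
  by_cases h : IsPlus Q W
  swap
  · exact key W hW hd he fun _ => h
  rw [← stab_perp hQ]
  refine key _ (hW.perp hQ) (by omega) (by rwa [show finrank F (operp Q W) = finrank F W by omega])
    fun _ h' => hV ?_
  obtain ⟨T, hT, t1, t2⟩ := h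
  obtain ⟨S, hS, s1, s2⟩ := h'
  refine ⟨T ⊔ S, le_top, fun w hw => ?_, ?_⟩
  · obtain ⟨a, ha, b, hb, rfl⟩ := Submodule.mem_sup.1 hw
    rw [o_qadd, t1 a ha, s1 b hb, mem_operp.1 (hS hb) a (hT ha)]; ring
  · have h5 := Submodule.finrank_sup_add_finrank_inf_eq T S
    rw [show T ⊓ S = ⊥ from eq_bot_iff.2 ((inf_le_inf hT hS).trans (nd_iff.1 hW).le),
      finrank_bot] at h5
    rw [finrank_top]; omega

theorem odec_of_geo {ι : Type} [Fintype ι] [DecidableEq ι] {P : QuadraticForm F (ι → F)} {t k : ℕ}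
    {D : Fin t → Submodule F (ι → F)} (h : Geo.IsNondegenerateMDecomposition (polar ⇑P) k D) :
    ODec P D :=
  ⟨fun i => nd_of_isNondegenerateOn (h.nondegenerate i), h.orthogonal, h.decomp.iSup_eq_top⟩

theorem isNondegenerateOn_of_nd {ι : Type} [Fintype ι] [DecidableEq ι]
    {P : QuadraticForm F (ι → F)} {W : Submodule F (ι → F)} (h : ND P W) :
    Geo.IsNondegenerateOn (polar ⇑P) W := fun x hx h0 => by
  obtain ⟨y, hy, h1⟩ := h.exists_polar_ne hx h0
  exact ⟨⟨y, hy, by rwa [polar_comm]⟩, y, hy, h1⟩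

end Cfsg.Agent.Cl.MaxO
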