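import Mathlib
import Cfsg.Agent.Cl.MaxOND

/-!
# Maximality in `Ω`: local lemmas on planes
-/

set_option autoImplicit false
set_option linter.unusedSectionVars false
set_option linter.unusedVariables false

namespace Cfsg.Agent.Cl.MaxO

open Module QuadraticMap

variable {F V : Type*} [Field F] [AddCommGroup V] [Module F V] {Q : QuadraticForm F V}
  [FiniteDimensional F V] [Finite F]

theorem Good.plane {U : Submodule F V} (hg : Good Q U) (h2 : finrank F U = 2) :
    7 ≤ Nat.card F ∨ (¬ IsPlus Q U ∧ Nat.card F ≠ 3) := by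
  rcases hg with h | h | h | h
  · omega
  · omega
  · omega
  · exact h.2

theorem Good.not_small {U : Submodule F V} (hg : Good Q U) (h2 : finrank F U = 2) :
    ¬ (Nat.card F ≤ 3 ∧ IsPlus Q U) := fun H => by
  rcases hg.plane h2 with h | h
  · omega
  · exact h.1 H.2

theorem eq_span_two {U : Submodule F V} (h2 : finrank F U = 2) {x y : V} (hx : x ∈ U) (hy : y ∈ U)
    (hx0 : x ≠ 0) (hyx : y ∉ Submodule.span F {x}) : Submodule.span F {x, y} = U :=
  Submodule.eq_of_le_of_finrank_eq (span_two_le hx hy) (by rw [finrank_span_two hx0 hyx, h2])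

theorem nonsingular_of_perp_plane {U : Submodule F V} (hU : ND Q U) (h2 : finrank F U = 2)
    {p f : V} (hp : p ∈ U) (hf : f ∈ U) (hp0 : Q p ≠ 0) (hf0 : f ≠ 0) (hpf : polar Q p f = 0) :
    Q f ≠ 0 := fun hq => by
  have hn : p ∉ Submodule.span F {f} := fun H => by
    obtain ⟨a, rfl⟩ := Submodule.mem_span_singleton.1 H
    exact hp0 (by rw [o_qsmul, hq, mul_zero])
  refine hf0 (hU f hf fun y hy => ?_)
  rw [← eq_span_two h2 hf hp hf0 hn] at hy
  obtain ⟨s, t, rfl⟩ := Submodule.mem_span_pair.1 hy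
  simp only [oexp, hq, polar_comm Q f p, hpf]; ring

theorem mv_plane {U : Submodule F V} (hU : ND Q U) (hg : Good Q U) (h2 : finrank F U = 2) :
    Mv Q U := fun c hc hc0 => by
  by_cases h20 : (2 : F) = 0
  · obtain ⟨v, hv, v1, v2, v3⟩ := exists_plane_refl hU h2 (hg.not_small h2) hc
      (o_ne_zero_of_norm hc0)
    have hβ : (Q v)⁻¹ * polar Q c v ≠ 0 := mul_ne_zero (inv_ne_zero v1) v2
    have hq : Q (((Q v)⁻¹ * polar Q c v) • v) ≠ 0 := by
      rw [o_qsmul]; exact mul_ne_zero (pow_ne_zero _ hβ) v1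
    refine ⟨_, U.smul_mem _ hv, hq, ?_, fun H => v3 ((Submodule.smul_mem_iff _ hβ).1 H), ?_⟩
    · simp only [oexp]; field_simp
    · rw [h20, zero_mul]; exact hq.symm
  obtain ⟨y, hy, y0, y1⟩ := exists_perp_mem hU h2.ge c
  have y2 := nonsingular_of_perp_plane hU h2 hc hy hc0 y0 y1
  obtain ⟨a, b, ha, hb, h⟩ := conn_plane h2 (hg.plane h2) h20 hc hy hc0 y2 y1
  have hq : Q ((1 - a) • c - b • y) = 2 * Q c * (1 - a) := by
    simp only [oexp, y1]; linear_combination h
  have ha1 : 1 - a ≠ 0 := fun H => mul_ne_zero (pow_ne_zero 2 hb) y2 (by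
    rw [show a = 1 by linear_combination -H] at h; linear_combination h)
  refine ⟨(1 - a) • c - b • y, U.sub_mem (U.smul_mem _ hc) (U.smul_mem _ hy),
    by rw [hq]; exact mul_ne_zero (mul_ne_zero h20 hc0) ha1, ?_, fun H => ?_, fun H => ?_⟩
  · rw [hq]; simp only [oexp, y1]; ring
  · obtain ⟨s, hs⟩ := Submodule.mem_span_singleton.1 H
    have := congrArg (polar Q y) hs
    simp only [oexp, polar_comm Q y c, y1] at this
    exact mul_ne_zero hb (mul_ne_zero h20 y2) (by linear_combination this)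
  · rw [hq] at H
    exact mul_ne_zero (mul_ne_zero h20 hc0) ha (by linear_combination H)

theorem IsPlus.exists_hyp {U : Submodule F V} (h : IsPlus Q U) (hU : ND Q U)
    (h2 : finrank F U = 2) :
    ∃ e f, Q e = 0 ∧ Q f = 0 ∧ polar Q e f = 1 ∧ Submodule.span F {e, f} = U := by
  obtain ⟨e, he, e0, e1⟩ := h.exists_singular h2
  obtain ⟨f, hf, f1, f2⟩ := hU.exists_partner he e0 e1
  refine ⟨e, f, e1, f1, f2, eq_span_two h2 he hf e0 fun H => ?_⟩
  obtain ⟨a, rfl⟩ := Submodule.mem_span_singleton.1 H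
  simp only [oexp, e1] at f2
  simp at f2

theorem hyp_diff {U : Submodule F V} (h : IsPlus Q U) (hU : ND Q U) (h2 : finrank F U = 2)
    {c : V} (hc : c ∈ U) {s : F} (hs : s ≠ 0) (hs1 : s + 1 ≠ 0) :
    ∃ u ∈ U, Q u = -Q c / (s * (s + 1)) ∧ polar Q c u = Q u := by
  obtain ⟨e, f, e1, f1, ef, rfl⟩ := h.exists_hyp hU h2
  obtain ⟨x, y, rfl⟩ := Submodule.mem_span_pair.1 hc
  refine ⟨(x / (s + 1)) • e + (-y / s) • f, Submodule.mem_span_pair.2 ⟨_, _, rfl⟩, ?_, ?_⟩
  · simp only [oexp, e1, f1, ef]; field_simp; ring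
  · simp only [oexp, e1, f1, ef, polar_comm Q f e]; field_simp; ring

theorem pair_aniso {U W : Submodule F V} (hU : ND Q U) (hW : ND Q W) (hU2 : finrank F U = 2)
    (hW2 : finrank F W = 2) (hUW : ∀ x ∈ U, ∀ y ∈ W, polar Q x y = 0) (hp : ¬ IsPlus Q U)
    (hp' : ¬ IsPlus Q W) {c d : V} (hc : c ∈ U) (hd : d ∈ W) (hc0 : Q c ≠ 0) (hd0 : Q d ≠ 0) :
    ∃ a ∈ U, ∃ b ∈ W, Q a + Q b = 0 ∧ polar Q c a ≠ 0 ∧ polar Q c a + polar Q d b = 0 := by
  by_cases h20 : (2 : F) = 0
  · obtain ⟨H, hH, hH'⟩ := quad_artinSchreier_index h20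
    have key : ∀ {S : Submodule F V} {z : V}, ND Q S → finrank F S = 2 → ¬ IsPlus Q S → z ∈ S →
        Q z ≠ 0 → ∃ x₀, Q z * x₀ ∉ H ∧ ∀ x, Q z * x ∉ H → ∃ a ∈ S, Q a = x ∧ polar Q z a = 1 :=
      fun {S z} hS h2 hp hz hz0 => by
        obtain ⟨w, hw, h1, -⟩ := hS.exists_dual bot_le hz (o_ne_zero_of_norm hz0)
        have hQ : ∀ t : F, Q z * Q (w + (t / Q z) • z) = t ^ 2 + t + Q z * Q w := fun t => by
          simp only [oexp, polar_comm Q w z, h1]; field_simp; ring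
        have hP : ∀ t : F, polar Q z (w + t • z) = 1 := fun t => by
          simp only [oexp, h1, h20]; ring
        have h3 : Q z * Q w ∉ H := fun h => by
          obtain ⟨t, ht⟩ := (hH' _).1 h
          refine aniso_of_not_isPlus h2 hp (S.add_mem hw (S.smul_mem (t / Q z) hz))
            (o_ne_zero_of_polar_right (by rw [hP]; exact one_ne_zero))
            (mul_left_cancel₀ hz0 ?_)
          rw [hQ, ht]; linear_combination Q z * Q w * h20
        refine ⟨Q w, h3, fun x hx => ?_⟩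
        obtain ⟨t, ht⟩ := (hH' _).1 ((H.add_mem_iff_of_index_two hH).2 (iff_of_false hx h3))
        refine ⟨_, S.add_mem hw (S.smul_mem (t / Q z) hz), mul_left_cancel₀ hz0 ?_, hP _⟩
        rw [hQ, ht]; linear_combination Q z * Q w * h20
    obtain ⟨x, hx, k1⟩ := key hU hU2 hp hc hc0
    obtain ⟨y, hy, k2⟩ := key hW hW2 hp' hd hd0
    obtain ⟨z, h1, h2⟩ : ∃ z, Q c * z ∉ H ∧ Q d * z ∉ H := by
      by_cases a : Q d * x ∈ H
      · by_cases b : Q c * y ∈ H
        · exact ⟨x + y, fun h => hx (by simpa [mul_add] using H.sub_mem h b),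
            fun h => hy (by simpa [mul_add] using H.sub_mem h a)⟩
        · exact ⟨y, b, hy⟩
      · exact ⟨x, hx, a⟩
    obtain ⟨a, ha, a1, a2⟩ := k1 z h1
    obtain ⟨b, hb, b1, b2⟩ := k2 z h2
    exact ⟨a, ha, b, hb, by rw [a1, b1]; linear_combination z * h20, by rw [a2]; exact one_ne_zero,
      by rw [a2, b2]; linear_combination h20⟩
  obtain ⟨y, hy, y0, y1⟩ := exists_perp_mem hU hU2.ge c
  obtain ⟨z, hz, z0, z1⟩ := exists_perp_mem hW hW2.ge d
  have y2 := aniso_of_not_isPlus hU2 hp hy y0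
  have z2 := aniso_of_not_isPlus hW2 hp' hz z0
  have hyz := hUW y hy z hz
  have hT : ND Q (Submodule.span F {y, z}) := nd_span_pair (by
    rw [hyz, show (4 : F) = 2 * 2 by norm_num]
    simpa using ⟨⟨h20, y2⟩, z2⟩)
  obtain ⟨x, hx, h1⟩ := hT.exists_eq (finrank_span_two y0 fun H => z0 (hW z hz fun w hw =>
    hUW z (span_one_le hy H) w hw)).ge (-(Q c + Q c ^ 2 / Q d))
  obtain ⟨s, t, rfl⟩ := Submodule.mem_span_pair.1 hx
  refine ⟨c + s • y, U.add_mem hc (U.smul_mem _ hy), (-Q c / Q d) • d + t • z,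
    W.add_mem (W.smul_mem _ hd) (W.smul_mem _ hz), ?_, ?_, ?_⟩
  · simp only [oexp, y1, z1, hyz] at h1 ⊢
    field_simp at h1 ⊢
    linear_combination h1
  · simp only [oexp, y1]; simpa using ⟨h20, hc0⟩
  · simp only [oexp, y1, z1]; field_simp; ring

theorem pair_plane {U W : Submodule F V} (hU : ND Q U) (hW : ND Q W) (hg : Good Q U)
    (hU2 : finrank F U = 2) (hUW : ∀ x ∈ U, ∀ y ∈ W, polar Q x y = 0) (e : U ≃ₗ[F] W)
    (he : ∀ x : U, Q (e x : V) = Q (x : V)) {c d : V} (hc : c ∈ U) (hd : d ∈ W) (hc0 : Q c ≠ 0)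
    (hd0 : Q d ≠ 0) : ∃ u ∈ U, ∃ w ∈ W, Q u ≠ 0 ∧ Q u + Q w = 0 ∧ polar Q c u = Q u ∧
      polar Q d w = Q w := by
  have hW2 : finrank F W = 2 := by rw [← e.finrank_eq, hU2]
  by_cases hp : IsPlus Q U
  · have hq : 7 ≤ Nat.card F := (hg.plane hU2).resolve_right fun H => H.1 hp
    obtain ⟨r, s, hrs⟩ := quad_roots (a := Q c) (b := 0) (c := Q d) (.inl hc0)
    obtain ⟨m, hm⟩ := exists_notMem_list [0, 1, r, s, -Q d / Q c] (by simp; omega)
    simp only [List.mem_cons, List.not_mem_nil, or_false, not_or] at hm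
    have h1 : Q c * m ^ 2 + Q d ≠ 0 := fun H => by
      have := hrs m (by linear_combination H); tauto
    have h2 : Q c * m + Q d ≠ 0 := fun H => hm.2.2.2.2 (by field_simp; linear_combination H)
    obtain ⟨t, ht', t0⟩ : ∃ t, t * (Q c * m ^ 2 + Q d) = -(Q c * m + Q d) ∧ t ≠ 0 :=
      ⟨-(Q c * m + Q d) / (Q c * m ^ 2 + Q d), by field_simp, div_ne_zero (neg_ne_zero.2 h2) h1⟩
    have t1 : t + 1 ≠ 0 := fun H => mul_ne_zero (mul_ne_zero hc0 hm.1) (sub_ne_zero.2 hm.2.1)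
      (by linear_combination (Q c * m ^ 2 + Q d) * H - ht')
    have t2 : m * t + 1 ≠ 0 := fun H => mul_ne_zero hd0 t1 (by linear_combination ht' - Q c * m * H)
    obtain ⟨u, hu, u1, u2⟩ := hyp_diff hp hU hU2 hc t0 t1
    obtain ⟨w, hw, w1, w2⟩ := hyp_diff (hp.of_isom e he) hW hW2 hd (mul_ne_zero hm.1 t0) t2
    refine ⟨u, hu, w, hw, by rw [u1]; exact div_ne_zero (neg_ne_zero.2 hc0) (mul_ne_zero t0 t1),
      ?_, u2, w2⟩
    rw [u1, w1, div_add_div _ _ (mul_ne_zero t0 t1) (mul_ne_zero (mul_ne_zero hm.1 t0) t2),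
      div_eq_zero_iff]
    exact .inl (by linear_combination -t * ht')
  · obtain ⟨a, ha, b, hb, h1, h2, h3⟩ := pair_aniso hU hW hU2 hW2 hUW hp
      (fun H => hp (H.of_isom e.symm fun x => by rw [← he, LinearEquiv.apply_symm_apply])) hc hd
      hc0 hd0
    have h4 := aniso_of_not_isPlus hU2 hp ha (o_ne_zero_of_polar_right h2)
    have h5 : Q b = -Q a := by linear_combination h1
    have h6 : polar Q d b = -polar Q c a := by linear_combination h3
    refine ⟨(polar Q c a / Q a) • a, U.smul_mem _ ha, (polar Q c a / Q a) • b, W.smul_mem _ hb,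
      ?_, ?_, ?_, ?_⟩
    · rw [o_qsmul]; exact mul_ne_zero (pow_ne_zero _ (div_ne_zero h2 h4)) h4
    · simp only [oexp, h5]; ring
    · simp only [oexp]; field_simp
    · simp only [oexp, h5, h6]; field_simp

theorem subring_inv_mem (R : Subring F) {x : F} (hx : x ∈ R) : x⁻¹ ∈ R := by
  have := Fintype.ofFinite F
  by_cases h0 : x = 0
  · rw [h0, inv_zero]; exact R.zero_mem
  have h1 := FiniteField.pow_card_sub_one_eq_one x h0
  have h2 : Fintype.card F - 1 = (Fintype.card F - 2) + 1 := by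
    have := Fintype.one_lt_card (α := F); omega
  rw [h2, pow_succ] at h1
  rw [← eq_inv_of_mul_eq_one_left h1]
  exact R.pow_mem hx _

theorem line_le_of_refl {W : Submodule F V} (hW : ND Q W) (hg : Good Q W) (h2 : finrank F W = 2)
    (A : AddSubgroup V)
    (hA : ∀ a ∈ W, Q a ≠ 0 → ∀ x ∈ W, x ∈ A → ((Q a)⁻¹ * polar Q x a) • a ∈ A) {x : V}
    (hx : x ∈ W) (hxA : x ∈ A) (hx0 : Q x ≠ 0) (t : F) : t • x ∈ A := by
  let R : Subring F :=
    { carrier := {τ | ∀ s : F, s • x ∈ A → (τ * s) • x ∈ A}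
      mul_mem' := fun {a b} ha hb s hs => by rw [mul_assoc]; exact ha _ (hb s hs)
      one_mem' := fun s hs => by rwa [one_mul]
      add_mem' := fun {a b} ha hb s hs => by
        rw [add_mul, add_smul]; exact A.add_mem (ha s hs) (hb s hs)
      zero_mem' := fun s hs => by rw [zero_mul, zero_smul]; exact A.zero_mem
      neg_mem' := fun {a} ha s hs => by rw [neg_mul, neg_smul]; exact A.neg_mem (ha s hs) }
  suffices H : t ∈ R by simpa using H 1 (by rwa [one_smul])
  have hθ : ∀ a ∈ W, polar Q x a ≠ 0 → Q a * Q x / polar Q x a ^ 2 ∈ R := fun a ha h => by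
    by_cases ha0 : Q a = 0
    · rw [ha0, zero_mul, zero_div]; exact R.zero_mem
    rw [← inv_div]
    refine subring_inv_mem R fun s hs => ?_
    have := hA x hx hx0 _ (W.smul_mem _ ha) (hA a ha ha0 _ (W.smul_mem s hx) hs)
    convert this using 2
    simp only [oexp, polar_comm Q a x]; field_simp
  by_cases h20 : (2 : F) = 0
  · obtain ⟨H, hH, hH'⟩ := quad_artinSchreier_index h20
    obtain ⟨y, hy, h1, -⟩ := hW.exists_dual bot_le hx (o_ne_zero_of_norm hx0)
    have hQ : ∀ s : F, Q (y + (s / Q x) • x) * Q x = s ^ 2 + s + Q x * Q y := fun s => by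
      simp only [oexp, polar_comm Q y x, h1]; field_simp; ring
    have hP : ∀ s : F, polar Q x (y + s • x) = 1 := fun s => by
      simp only [oexp, h1, h20]; ring
    have h3 : ∀ s : F, s ^ 2 + s + Q x * Q y ∈ R := fun s => by
      have := hθ _ (W.add_mem hy (W.smul_mem (s / Q x) hx)) (by rw [hP]; exact one_ne_zero)
      rwa [hP, hQ, one_pow, div_one] at this
    have h4 : Q x * Q y ∈ R := by simpa using h3 0
    have h5 : ∀ z ∈ H, z ∈ R := fun z hz => by
      obtain ⟨s, rfl⟩ := (hH' z).1 hz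
      simpa using R.sub_mem (h3 s) h4
    by_contra ht
    have ht' : t ∉ H := fun h => ht (h5 t h)
    have key : ∀ z, z ∉ H → t + z ∈ R := fun z hz =>
      h5 _ ((H.add_mem_iff_of_index_two hH).2 (iff_of_false ht' hz))
    rcases hg.plane h2 with hq | hq
    · obtain ⟨r, s, hrs⟩ := quad_roots (a := (1 : F)) (b := 1) (c := 0) (.inl one_ne_zero)
      obtain ⟨r', s', hrs'⟩ := quad_roots (a := (1 : F)) (b := 1) (c := 1) (.inl one_ne_zero)
      obtain ⟨m, hm⟩ := exists_notMem_list [r, s, r', s'] (by simp; omega)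
      simp only [List.mem_cons, List.not_mem_nil, or_false, not_or] at hm
      have m0 : m ^ 2 + m ≠ 0 := fun H => by have := hrs m (by linear_combination H); tauto
      have m1 : 1 + (m ^ 2 + m) ≠ 0 := fun H => by
        have := hrs' m (by linear_combination H); tauto
      have m2 := h5 _ ((hH' _).2 ⟨m, rfl⟩)
      have m3 : (m ^ 2 + m) * t ∉ H := fun h => ht (by
        have := R.mul_mem (subring_inv_mem R m2) (h5 _ h)
        rwa [inv_mul_cancel_left₀ m0] at this)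
      have := R.mul_mem (subring_inv_mem R (R.add_mem R.one_mem m2)) (key _ m3)
      rw [show t + (m ^ 2 + m) * t = (1 + (m ^ 2 + m)) * t by ring, inv_mul_cancel_left₀ m1] at this
      exact ht this
    · refine ht ((add_sub_cancel_right t (Q x * Q y)) ▸ R.sub_mem (key (Q x * Q y) fun h => ?_) h4)
      obtain ⟨s, hs⟩ := (hH' _).1 h
      refine aniso_of_not_isPlus h2 hq.1 (W.add_mem hy (W.smul_mem (s / Q x) hx))
        (o_ne_zero_of_polar_right (by rw [hP]; exact one_ne_zero)) (mul_right_cancel₀ hx0 ?_)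
      rw [hQ, hs]; linear_combination Q x * Q y * h20
  obtain ⟨y, hy, y0, y1⟩ := exists_perp_mem hW h2.ge x
  have y2 := nonsingular_of_perp_plane hW h2 hx hy hx0 y0 y1
  have h2R : (2 : F) ∈ R := by simp
  have h3 : ∀ s : F, Q y / Q x * s ^ 2 ∈ R := fun s => by
    have := R.sub_mem (R.mul_mem (R.mul_mem h2R h2R) (hθ _ (W.add_mem hx (W.smul_mem s hy)) (by
      simp only [oexp, y1]; simpa using ⟨h20, hx0⟩))) R.one_mem
    convert this using 1
    simp only [oexp, y1]; field_simp; ring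
  have h4 : ∀ s : F, s ^ 2 ∈ R := fun s => by
    have := R.mul_mem (subring_inv_mem R (h3 1)) (h3 s)
    convert this using 1
    field_simp
  have := R.mul_mem (subring_inv_mem R h2R) (R.sub_mem (R.sub_mem (h4 (t + 1)) (h4 t)) R.one_mem)
  convert this using 1
  field_simp; ring

theorem le_of_refl_invariant {W : Submodule F V} (hW : ND Q W) (hg : Good Q W)
    (h2 : finrank F W = 2) (A : AddSubgroup V)
    (hA : ∀ a ∈ W, Q a ≠ 0 → ∀ x ∈ W, x ∈ A → (orefl Q a).1 x ∈ A) {x : V} (hx : x ∈ W)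
    (hxA : x ∈ A) (hx0 : x ≠ 0) : ∀ y ∈ W, y ∈ A := by
  have hA' : ∀ a ∈ W, Q a ≠ 0 → ∀ x ∈ W, x ∈ A → ((Q a)⁻¹ * polar Q x a) • a ∈ A :=
    fun a ha h0 x hx hxA => by
      have := A.sub_mem hxA (hA a ha h0 x hx hxA)
      rwa [orefl_app, sub_sub_cancel] at this
  have key : ∀ x ∈ W, x ∈ A → x ≠ 0 → ∃ v ∈ W, v ∈ A ∧ Q v ≠ 0 ∧ v ∉ Submodule.span F {x} :=
    fun x hx hxA hx0 => by
      obtain ⟨v, hv, v1, v2, v3⟩ := exists_plane_refl hW h2 (hg.not_small h2) hx hx0
      have hβ : (Q v)⁻¹ * polar Q x v ≠ 0 := mul_ne_zero (inv_ne_zero v1) v2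
      exact ⟨_, W.smul_mem _ hv, hA' v hv v1 x hx hxA,
        by rw [o_qsmul]; exact mul_ne_zero (pow_ne_zero _ hβ) v1,
        fun H => v3 ((Submodule.smul_mem_iff _ hβ).1 H)⟩
  obtain ⟨v, hv, v1, v2, -⟩ := key x hx hxA hx0
  obtain ⟨w, hw, w1, w2, w3⟩ := key v hv v1 (o_ne_zero_of_norm v2)
  intro y hy
  rw [← eq_span_two h2 hv hw (o_ne_zero_of_norm v2) w3] at hy
  obtain ⟨s, t, rfl⟩ := Submodule.mem_span_pair.1 hy
  exact A.add_mem (line_le_of_refl hW hg h2 A hA' hv v1 v2 s)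
    (line_le_of_refl hW hg h2 A hA' hw w1 w2 t)

theorem exists_cls_two {W : Submodule F V} (hW : ND Q W) (hg : Good Q W) :
    ∃ a ∈ W, ∃ b ∈ W, Cls Q 1 a ∧ Cls Q 1 b ∧ b ∉ Submodule.span F {a} := by
  obtain ⟨a, ha, h1⟩ := hW.exists_eq hg.two_le 1
  obtain ⟨x, hx, hxP⟩ := exists_mem_notMem_of_lt (S := W) (T := Submodule.span F {a})
    (by have := finrank_span_one_le (F := F) a; have := hg.two_le; omega)
  obtain ⟨b, hb, h2, h3⟩ := exists_cls_notMem hW hg.span_cond one_ne_zero hx hxP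
  exact ⟨a, ha, b, hb, cls_of_eq' one_ne_zero h1, h2, h3⟩

theorem Good.map {U : Submodule F V} (h : Good Q U) (g : OG Q) :
    Good Q (U.map (g.1 : V →ₗ[F] V)) := by
  have h1 : IsPlus Q (U.map (g.1 : V →ₗ[F] V)) → IsPlus Q U := fun H =>
    H.of_isom (g.1.submoduleMap U).symm fun x => by
      rw [← OG.map_app g]
      exact congrArg (fun y : U.map (g.1 : V →ₗ[F] V) => Q (y : V))
        ((g.1.submoduleMap U).apply_symm_apply x)
  unfold Good at *
  rw [LinearEquiv.finrank_map_eq]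
  tauto

end Cfsg.Agent.Cl.MaxO
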