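import Mathlib
import Cfsg.Agent.Cl.MaxOPlane

/-!
# Maximality in `Ω`: decompositions into planes
-/

set_option autoImplicit false
set_option linter.unusedSectionVars false
set_option linter.unusedVariables false

namespace Cfsg.Agent.Cl.MaxO

open Module QuadraticMap

variable {F V : Type*} [Field F] [AddCommGroup V] [Module F V] {Q : QuadraticForm F V}
  [FiniteDimensional F V] [Finite F] {κ : Type*} [Fintype κ] [DecidableEq κ]
  {M : Subgroup (OG Q)} {D D' : κ → Submodule F V}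

theorem exists_idx (l : List κ) (h : l.length < Fintype.card κ) : ∃ x, x ∉ l := by
  by_contra H
  push Not at H
  have h1 : (Finset.univ : Finset κ) ⊆ l.toFinset := fun x _ => List.mem_toFinset.2 (H x)
  have := (Finset.card_le_card h1).trans (List.toFinset_card_le l)
  rw [Finset.card_univ] at this
  omega

theorem ODec.finrank_sup (hD : ODec Q D) {i j : κ} (h : i ≠ j) :
    finrank F ↥(D i ⊔ D j) = finrank F (D i) + finrank F (D j) := by
  have h1 := Submodule.finrank_sup_add_finrank_inf_eq (D i) (D j)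
  rwa [(hD.nd i).disjoint (hD.orth _ _ h), finrank_bot, add_zero] at h1

theorem ODec.isPlus (hD : ODec Q D) (h : ∀ i, IsPlus Q (D i)) : IsPlus Q ⊤ := by
  rw [← hD.top, ← Finset.sup_univ_eq_iSup]
  induction (Finset.univ : Finset κ) using Finset.induction_on with
  | empty => exact ⟨⊥, le_rfl, by simp, by rw [Finset.sup_empty, finrank_bot]⟩
  | insert i s hi ih =>
    obtain ⟨T, hT, t1, t2⟩ := h i
    obtain ⟨S, hS, s1, s2⟩ := ih
    have a1 : ∀ x ∈ D i, ∀ y ∈ s.sup D, polar Q x y = 0 := fun x hx y hy =>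
      (show s.sup D ≤ operp Q (D i) from Finset.sup_le fun j hj y hy x hx =>
        hD.orth i j (fun H => hi (H ▸ hj)) x hx y hy) hy x hx
    have a2 := (hD.nd i).disjoint a1
    have a3 := Submodule.finrank_sup_add_finrank_inf_eq T S
    have a4 := Submodule.finrank_sup_add_finrank_inf_eq (D i) (s.sup D)
    rw [show T ⊓ S = ⊥ from eq_bot_iff.2 ((inf_le_inf hT hS).trans a2.le), finrank_bot] at a3
    rw [a2, finrank_bot] at a4
    rw [Finset.sup_insert]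
    refine ⟨T ⊔ S, sup_le_sup hT hS, fun w hw => ?_, by omega⟩
    obtain ⟨a, ha, b, hb, rfl⟩ := Submodule.mem_sup.1 hw
    rw [o_qadd, t1 a ha, s1 b hb, a1 a (hT ha) b (hS hb)]; ring

variable (Q D) in
/-- All members are good planes. -/
def Pl : Prop := ∀ i, finrank F (D i) = 2 ∧ Good Q (D i)

theorem Pl.map (h : Pl Q D) (g : OG Q) : Pl Q fun i => (D i).map (g.1 : V →ₗ[F] V) := fun i =>
  ⟨by rw [LinearEquiv.finrank_map_eq]; exact (h i).1, (h i).2.map g⟩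

theorem Pair.perp_three (h : Pair M D D') (hp : Pl Q D) (hp' : Pl Q D') {m i j l : κ} {a : V}
    (ha : a ∈ D' m) (ha0 : Q a ≠ 0) (hij : i ≠ j) (hil : i ≠ l) (hjl : j ≠ l)
    (hi : h.dec.pr i a = 0) (hj : h.dec.pr j a = 0) (hl : h.dec.pr l a = 0) : False := by
  obtain ⟨f, hf, f', hf', f1, f2, f3⟩ := exists_cls_two (h.dec.nd i) (hp i).2
  have hn := fun j => h.disj i j f hf f1.1
  obtain ⟨p, r, hpr, h1, h2⟩ := h.dec'.exists_two_pr (o_ne_zero_of_norm f1.1) hn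
  have key : ∀ s, h.dec.pr s a = 0 → ∀ e ∈ D s, Cls Q 1 e → e ∉ Submodule.span F {f} →
      f ∈ D' p ⊔ D' r ∧ e ∈ D' p ⊔ D' r := fun s hs e he e1 e2 =>
    h.dec'.K_two (fun j => (hp' j).1.ge) f1.1 e1.1 hn e2 (h.refl_mem ha ha0 one_ne_zero hf he f1 e1
      (h.dec.polar_of_pr hi hf) (h.dec.polar_of_pr hs he)) hpr h1 h2
  have key2 : ∀ s, h.dec.pr s a = 0 → D s ≤ D' p ⊔ D' r := fun s hs => by
    have : ∀ e ∈ D s, Cls Q 1 e → e ∈ D' p ⊔ D' r := fun e he e1 => by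
      by_cases H : e ∈ Submodule.span F {f}
      · exact span_one_le (key i hi f' hf' f2 f3).1 H
      · exact (key s hs e he e1 H).2
    obtain ⟨e, he, e', he', e1, e2, e3⟩ := exists_cls_two (h.dec.nd s) (hp s).2
    rw [← eq_span_two (hp s).1 he he' (o_ne_zero_of_norm e1.1) e3]
    exact span_two_le (this e he e1) (this e' he' e2)
  have h3 : D i ⊔ D j = D' p ⊔ D' r := Submodule.eq_of_le_of_finrank_eq
    (sup_le (key2 i hi) (key2 j hj))
    (by rw [h.dec.finrank_sup hij, h.dec'.finrank_sup hpr, (hp i).1, (hp j).1, (hp' p).1, (hp' r).1])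
  obtain ⟨x, hx, -, -, x1, -⟩ := exists_cls_two (h.dec.nd l) (hp l).2
  refine o_ne_zero_of_norm x1.1 ?_
  rw [← h.dec.pr_of_mem hx]
  exact h.dec.pr_of_sup hil.symm hjl.symm (h3 ▸ key2 l hl hx)

theorem Pair.uniq (h : Pair M D D') (hp : Pl Q D) (hp' : Pl Q D') (ht : 5 ≤ Fintype.card κ)
    {i : κ} {f e : V} (hf : f ∈ D i) (hf0 : Q f ≠ 0) (he0 : Q e ≠ 0)
    (hfe : e ∉ Submodule.span F {f}) : orefl Q f * orefl Q e ∉ dstab Q D' := fun H => by
  have hn := fun j => h.disj i j f hf hf0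
  obtain ⟨p, r, hpr, h1, h2⟩ := h.dec'.exists_two_pr (o_ne_zero_of_norm hf0) hn
  have h3 := (h.dec'.K_two (fun j => (hp' j).1.ge) hf0 he0 hn hfe H hpr h1 h2).1
  obtain ⟨a, ha⟩ := exists_idx [p, r] (by simp; omega)
  obtain ⟨b, hb⟩ := exists_idx [p, r, a] (by simp; omega)
  obtain ⟨c, hc⟩ := exists_idx [p, r, a, b] (by simp; omega)
  simp only [List.mem_cons, List.not_mem_nil, or_false, not_or] at ha hb hc
  exact h.symm.perp_three hp' hp hf hf0 (Ne.symm hb.2.2) (Ne.symm hc.2.2.1) (Ne.symm hc.2.2.2)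
    (h.dec'.pr_of_sup ha.1 ha.2 h3) (h.dec'.pr_of_sup hb.1 hb.2.1 h3)
    (h.dec'.pr_of_sup hc.1 hc.2.1 h3)

theorem Pair.pr_ne (h : Pair M D D') (hp : Pl Q D) (hp' : Pl Q D') (ht : 5 ≤ Fintype.card κ)
    {m : κ} {a : V} (ha : a ∈ D' m) (ha0 : Q a ≠ 0) (i : κ) : h.dec.pr i a ≠ 0 := fun hi => by
  obtain ⟨f, hf, e, he, f1, e1, e2⟩ := exists_cls_two (h.dec.nd i) (hp i).2
  exact h.uniq hp hp' ht hf f1.1 e1.1 e2 (h.refl_mem ha ha0 one_ne_zero hf he f1 e1
    (h.dec.polar_of_pr hi hf) (h.dec.polar_of_pr hi he))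

theorem Pair.not_three (h : Pair M D D') (hp : Pl Q D) (hp' : Pl Q D') (ht : 5 ≤ Fintype.card κ)
    {m i j l : κ} {a : V} (ha : a ∈ D' m) (ha0 : Q a ≠ 0) (hij : i ≠ j) (hil : i ≠ l)
    (hjl : j ≠ l) (hi : Q (h.dec.pr i a) ≠ 0) (hj : Q (h.dec.pr j a) ≠ 0)
    (hl : Q (h.dec.pr l a) ≠ 0) : False := by
  have h1 : ∀ s, Q (h.dec.pr s a) ≠ 0 → ∃ f ∈ D s, Q f ≠ 0 ∧ polar Q a f = 0 := fun s hs => by
    obtain ⟨f, hf, f0, f1⟩ := exists_perp_mem (h.dec.nd s) (hp s).1.ge a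
    exact ⟨f, hf, nonsingular_of_perp_plane (h.dec.nd s) (hp s).1 (h.dec.pr_mem s a) hf hs f0
      (by rwa [h.dec.polar_pr' hf]), f1⟩
  have h2 : ∀ s r, s ≠ r → ∀ f ∈ D s, ∀ e ∈ D r, Q f ≠ 0 → Q e ≠ 0 → polar Q a f = 0 →
      polar Q a e = 0 → ¬ IsSquare (Q f * Q e) := fun s r hsr f hf e he f0 e0 f1 e1 H =>
    h.uniq hp hp' ht hf f0 e0 (fun H => o_ne_zero_of_norm e0
      (h.dec.eq_zero_of_ne hsr (span_one_le hf H) he))
      (h.refl_mem ha ha0 f0 hf he (cls_self f0) ⟨e0, by rwa [mul_comm]⟩ f1 e1)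
  obtain ⟨x, hx, x0, x1⟩ := h1 i hi
  obtain ⟨y, hy, y0, y1⟩ := h1 j hj
  obtain ⟨z, hz, z0, z1⟩ := h1 l hl
  rcases isSq_three (b := Q y) (c := Q z) x0 with H | H | H
  exacts [h2 i j hij x hx y hy x0 y0 x1 y1 H, h2 i l hil x hx z hz x0 z0 x1 z1 H,
    h2 j l hjl y hy z hz y0 z0 y1 z1 H]

theorem Pair.perp_sing (h : Pair M D D') (hp : Pl Q D) (hp' : Pl Q D')
    (ht : 5 ≤ Fintype.card κ) (hq : 3 < Nat.card F) {m i : κ} {e f : V} (he : e ∈ D' m)
    (hf : f ∈ D' m) (e1 : Q e = 0) (f1 : Q f = 0) (ef : polar Q e f = 1)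
    (hi : h.dec.pr i e = 0) (j : κ) : (j ≠ i → h.dec.pr j e ≠ 0) ∧ Q (h.dec.pr j e) = 0 := by
  obtain ⟨t, ht0, ht1⟩ := o_exists_sq_ne_one hq
  have a1 : Q (e + f) = 1 := by simp only [oexp, e1, f1, ef]; ring
  have a2 : Q (e + t ^ 2 • f) = t ^ 2 := by simp only [oexp, e1, f1, ef]; ring
  have a3 := (D' m).add_mem he hf
  have hρ : otor Q e f (t ^ 2) ∈ M := h.refl' m m _ a3 _ ((D' m).add_mem he ((D' m).smul_mem _ hf))
    (by rw [a1]; exact one_ne_zero) (by rw [a2]; exact pow_ne_zero _ ht0)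
    ⟨t, by rw [a1, a2]; ring⟩
  have hρ' : otor Q e f (t ^ 2) ∉ dstab Q D := h.symm.uniq hp' hp ht a3
    (by rw [a1]; exact one_ne_zero) (by rw [a2]; exact pow_ne_zero _ ht0) fun H => by
      obtain ⟨s, hs⟩ := Submodule.mem_span_singleton.1 H
      have b1 := congrArg (polar Q e) hs
      have b2 := congrArg (polar Q f) hs
      simp only [oexp, e1, f1, ef, polar_comm Q f e] at b1 b2
      exact ht1 (by linear_combination b2 - b1)
  have hP := pair_of_notMem h.dec h.refl h.st hρ hρ'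
  obtain ⟨y, hy, -, -, y1, -⟩ := exists_cls_two (h.dec.nd i) (hp i).2
  have y2 := h.dec.polar_of_pr hi hy
  have y3 : (otor Q e f (t ^ 2)).1 y = y + ((t ^ 2 - 1) * polar Q f y) • e := by
    conv_lhs => rw [show y = (y - polar Q f y • e) + polar Q f y • e by abel]
    rw [map_add, map_smul, otor_left e1 f1 ef (pow_ne_zero _ ht0), otor_perp _
      (by simp only [oexp, e1, y2]; ring) (by simp only [oexp, polar_comm Q f e, ef]; ring)]
    module
  have y4 : Q ((otor Q e f (t ^ 2)).1 y) ≠ 0 := by rw [OG.map_app]; exact y1.1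
  have y5 : ∀ j, j ≠ i → h.dec.pr j ((otor Q e f (t ^ 2)).1 y) =
      ((t ^ 2 - 1) * polar Q f y) • h.dec.pr j e := fun j hj => by
    rw [y3, map_add, map_smul, h.dec.pr_of_ne hj hy, zero_add]
  have y6 := fun j hj => smul_ne_zero_iff.1
    (y5 j hj ▸ hP.pr_ne hp (hp.map _) ht (m := i) ⟨y, hy, rfl⟩ y4 j)
  refine ⟨fun hj => (y6 j hj).2, by_contra fun hj => ?_⟩
  obtain ⟨l, hl⟩ := h.dec.exists_pr_nonsingular (x := e - h.dec.pr j e) fun H => hj (by
    have := o_qadd (Q := Q) (e - h.dec.pr j e) (h.dec.pr j e)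
    rwa [sub_add_cancel, e1, H, h.dec.polar_of_pr (i := j) (by
      rw [map_sub, h.dec.pr_of_mem (h.dec.pr_mem j e), sub_self]) (h.dec.pr_mem j e), zero_add,
      add_zero, eq_comm] at this)
  have hlj : l ≠ j := fun H => hl (by rw [H, map_sub, h.dec.pr_of_mem (h.dec.pr_mem j e)]; simp)
  rw [map_sub, h.dec.pr_of_ne hlj (h.dec.pr_mem j e), sub_zero] at hl
  have y7 : ∀ s, Q (h.dec.pr s e) ≠ 0 → i ≠ s := fun s hs H => hs (by rw [← H, hi, map_zero])
  have y8 : ∀ s, Q (h.dec.pr s e) ≠ 0 → Q (h.dec.pr s ((otor Q e f (t ^ 2)).1 y)) ≠ 0 :=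
    fun s hs => by
      rw [y5 s (y7 s hs).symm, o_qsmul]
      exact mul_ne_zero (pow_ne_zero _ (y6 s (y7 s hs).symm).1) hs
  refine hP.not_three hp (hp.map _) ht (m := i) ⟨y, hy, rfl⟩ y4 (y7 j hj) (y7 l hl) hlj.symm ?_
    (y8 j hj) (y8 l hl)
  change Q (h.dec.pr i ((otor Q e f (t ^ 2)).1 y)) ≠ 0
  rw [y3, map_add, map_smul, hi, smul_zero, add_zero, h.dec.pr_of_mem hy]; exact y1.1

theorem Pair.false_of_planes (h : Pair M D D') (hp : Pl Q D) (hp' : Pl Q D')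
    (ht : 5 ≤ Fintype.card κ) (hpl : (∀ i, ¬ IsPlus Q (D i)) ∨ ∃ m, IsPlus Q (D' m)) : False := by
  classical
  rcases hpl with hpl | ⟨m, hpl⟩
  · obtain ⟨i⟩ : Nonempty κ := Fintype.card_pos_iff.1 (by omega)
    obtain ⟨j, hj⟩ := exists_idx [i] (by simp; omega)
    obtain ⟨l, hl⟩ := exists_idx [i, j] (by simp; omega)
    simp only [List.mem_cons, List.not_mem_nil, or_false, not_or] at hj hl
    obtain ⟨a, ha, -, -, a1, -⟩ := exists_cls_two (h.dec'.nd i) (hp' i).2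
    have := fun s => aniso_of_not_isPlus (hp s).1 (hpl s) (h.dec.pr_mem s a)
      (h.pr_ne hp hp' (by omega) ha a1.1 s)
    exact h.not_three hp hp' (by omega) ha a1.1 (Ne.symm hj) (Ne.symm hl.1) (Ne.symm hl.2)
      (this i) (this j) (this l)
  have hq : 7 ≤ Nat.card F := ((hp' m).2.plane (hp' m).1).resolve_right fun H => H.1 hpl
  obtain ⟨e, f, e1, f1, ef, hs⟩ := hpl.exists_hyp (h.dec'.nd m) (hp' m).1
  have he : e ∈ D' m := hs ▸ mem_span_two_left e f
  have hf : f ∈ D' m := hs ▸ mem_span_two_right e f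
  have hm : ∀ s : F, s • e + f ∈ D' m := fun s => (D' m).add_mem ((D' m).smul_mem _ he) hf
  have hm0 : ∀ s : F, s ≠ 0 → Q (s • e + f) ≠ 0 := fun s hs => by
    simp only [oexp, e1, f1, ef]; simpa using hs
  have := Fintype.ofFinite F
  let thin : κ → Prop := fun i => Q (h.dec.pr i e) = 0 ∧ polar Q (h.dec.pr i e) (h.dec.pr i f) = 0 ∧
    Q (h.dec.pr i f) = 0
  have h1 := Finset.card_mul_le_card_mul (s := Finset.univ.filter fun i => ¬ thin i)
    (t := Finset.univ.erase (0 : F)) (m := Nat.card F - 3) (n := 2)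
    (fun i s => Q (h.dec.pr i (s • e + f)) ≠ 0) (fun i hi => by
      have hi' := (Finset.mem_filter.1 hi).2
      obtain ⟨r, s, hrs⟩ := quad_roots (a := Q (h.dec.pr i e))
        (b := polar Q (h.dec.pr i e) (h.dec.pr i f)) (c := Q (h.dec.pr i f)) (by tauto)
      have a1 : Finset.univ \ {0, r, s} ⊆ (Finset.univ.erase (0 : F)).bipartiteAbove
          (fun i s => Q (h.dec.pr i (s • e + f)) ≠ 0) i := fun x hx => by
        simp only [Finset.mem_sdiff, Finset.mem_univ, Finset.mem_insert, Finset.mem_singleton,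
          true_and, not_or] at hx
        refine Finset.mem_filter.2 ⟨by simpa using hx.1, fun H => ?_⟩
        simp only [map_add, map_smul, oexp] at H
        have := hrs x (by linear_combination H)
        tauto
      have a2 := Finset.card_le_card a1
      have a3 := Finset.le_card_sdiff ({0, r, s} : Finset F) Finset.univ
      have a4 : ({0, r, s} : Finset F).card ≤ 3 := Finset.card_le_three
      rw [Finset.card_univ, ← Nat.card_eq_fintype_card] at a3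
      omega) (fun s hs => by
      by_contra H
      obtain ⟨i, hi, j, hj, l, hl, a1, a2, a3⟩ := Finset.two_lt_card.1 (not_le.1 H)
      exact h.not_three hp hp' (by omega) (hm s) (hm0 s (Finset.ne_of_mem_erase hs)) a1 a2 a3
        (Finset.mem_filter.1 hi).2 (Finset.mem_filter.1 hj).2 (Finset.mem_filter.1 hl).2)
  rw [Finset.card_erase_of_mem (Finset.mem_univ _), Finset.card_univ,
    ← Nat.card_eq_fintype_card] at h1
  have h2 := Finset.card_filter_add_card_filter_not (s := Finset.univ) thin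
  rw [Finset.card_univ] at h2
  have h3 : 1 < (Finset.univ.filter thin).card := by
    by_contra H
    have := Nat.mul_le_mul_right (Nat.card F - 3)
      (show 4 ≤ (Finset.univ.filter fun i => ¬ thin i).card by omega)
    omega
  have h4 : ∀ i, thin i → h.dec.pr i e = 0 ∨ h.dec.pr i f = 0 := fun i hi => by
    by_contra H
    push Not at H
    have a1 : h.dec.pr i f ∈ Submodule.span F {h.dec.pr i e} := by
      by_contra a1
      refine H.1 (h.dec.nd i _ (h.dec.pr_mem i e) fun y hy => ?_)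
      rw [← eq_span_two (hp i).1 (h.dec.pr_mem i e) (h.dec.pr_mem i f) H.1 a1] at hy
      obtain ⟨s, t, rfl⟩ := Submodule.mem_span_pair.1 hy
      simp only [oexp, hi.1, hi.2.1]; ring
    obtain ⟨s, hs⟩ := Submodule.mem_span_singleton.1 a1
    have a2 : -s ≠ 0 := fun a2 => H.2 (by rw [← hs, neg_eq_zero.1 a2, zero_smul])
    exact h.pr_ne hp hp' (by omega) (hm (-s)) (hm0 _ a2) i
      (by rw [map_add, map_smul, ← hs]; simp)
  have key : ∀ i j, h.dec.pr i e = 0 → h.dec.pr j f = 0 → False := fun i j b1 b2 => by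
    have k1 := h.perp_sing hp hp' ht (by omega) he hf e1 f1 ef b1
    have k2 := h.perp_sing hp hp' ht (by omega) hf he f1 e1 (by rwa [polar_comm]) b2
    have k3 : ∀ l, l ≠ i → l ≠ j → Q (h.dec.pr l ((1 : F) • e + f)) ≠ 0 := fun l a1 a2 H => by
      simp only [map_add, one_smul, o_qadd, (k1 l).2, (k2 l).2, zero_add] at H
      exact (h4 l ⟨(k1 l).2, H, (k2 l).2⟩).elim ((k1 l).1 a1) ((k2 l).1 a2)
    obtain ⟨a, ha⟩ := exists_idx [i, j] (by simp; omega)
    obtain ⟨b, hb⟩ := exists_idx [i, j, a] (by simp; omega)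
    obtain ⟨c, hc⟩ := exists_idx [i, j, a, b] (by simp; omega)
    simp only [List.mem_cons, List.not_mem_nil, or_false, not_or] at ha hb hc
    exact h.not_three hp hp' ht (hm 1) (hm0 1 one_ne_zero) (Ne.symm hb.2.2) (Ne.symm hc.2.2.1)
      (Ne.symm hc.2.2.2) (k3 a ha.1 ha.2) (k3 b hb.1 hb.2.1) (k3 c hc.1 hc.2.1)
  obtain ⟨i, hi, j, hj, a1⟩ := Finset.one_lt_card.1 h3
  rcases h4 i (Finset.mem_filter.1 hi).2 with b1 | b1 <;>
    rcases h4 j (Finset.mem_filter.1 hj).2 with b2 | b2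
  exacts [(h.perp_sing hp hp' ht (by omega) he hf e1 f1 ef b1 j).1 a1.symm b2, key i j b1 b2,
    key j i b2 b1,
    (h.perp_sing hp hp' ht (by omega) hf he f1 e1 (by rwa [polar_comm]) b1 j).1 a1.symm b2]

section Ctx

variable (hQ : (polarBilin Q).Nondegenerate) (hn : 5 ≤ finrank F V) (hD : ODec Q D)
  (hM : dstab Q D ⊓ commutator (OG Q) ≤ M) (hp : Pl Q D)
include hQ hn hD hM hp

theorem exists_EA_two {l : κ} {u x : V} (hu : Q u = 0) (hl : hD.pr l u = 0) (hx : x ∈ EA M hu)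
    (hx0 : hD.pr l x ≠ 0) : ∃ v ∈ D l, v ∈ EA M hu ∧ v ≠ 0 := by
  obtain ⟨a, ha, b, hb, a1, b1, hab⟩ := exists_cls_two (hD.nd l) (hp l).2
  have h1 := EA_fix ((refl_of_le hQ hn hD hM).cls one_ne_zero ha hb a1 b1) (by
    rw [OG.mul_app, orefl_app_of_polar (hD.polar_of_pr hl hb),
      orefl_app_of_polar (hD.polar_of_pr hl ha)]) hx
  refine ⟨_, span_two_le ha hb (hD.refl_sub_mem a b x), (EA M hu).sub_mem h1 hx, fun H => hx0 ?_⟩
  · have h2 : (orefl Q b).1 x = (orefl Q a).1 x := by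
      rw [OG.mul_app, sub_eq_zero] at H
      conv_rhs => rw [← H]
      rw [orefl_orefl_app]
    rw [orefl_app, orefl_app, sub_right_inj] at h2
    have h3 : polar Q x b = 0 := by
      by_contra h3
      exact hab ((Submodule.smul_mem_iff _ (mul_ne_zero (inv_ne_zero b1.1) h3)).1
        (h2 ▸ Submodule.smul_mem _ _ (Submodule.mem_span_singleton_self a)))
    have h4 : polar Q x a = 0 := by
      rw [h3, mul_zero, zero_smul, eq_comm, smul_eq_zero] at h2
      simpa [a1.1] using h2.resolve_right (o_ne_zero_of_norm a1.1)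
    refine hD.pr_eq_zero_iff.2 fun y hy => ?_
    rw [← eq_span_two (hp l).1 ha hb (o_ne_zero_of_norm a1.1) hab] at hy
    obtain ⟨s, t, rfl⟩ := Submodule.mem_span_pair.1 hy
    simp only [oexp, polar_comm Q a x, polar_comm Q b x, h3, h4]; ring

theorem spread_two {l m : κ} (hlm : l ≠ m) {u x : V} (hu : Q u = 0) (hl : hD.pr l u = 0)
    (hm : hD.pr m u = 0) (hx : x ∈ EA M hu) (hx0 : hD.pr l x ≠ 0) : ∀ v ∈ D l, v ∈ EA M hu := by
  obtain ⟨v, v1, v2, v3⟩ := exists_EA_two hQ hn hD hM hp hu hl hx hx0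
  refine le_of_refl_invariant (hD.nd l) (hp l).2 (hp l).1 _ (fun c hc c0 y hy hyA => ?_) v1 v2 v3
  obtain ⟨k, hk, k1, k2⟩ := exists_comp hQ hn (hD.nd m) (hp m).1.ge (orefl Q c)
  have := EA_fix (hM ⟨(dstab Q D).mul_mem (hD.orefl_mem hc) (hD.mem_dstab_of_one (k2 _ le_rfl)
    fun j hj x hx => k1 x fun y hy => hD.orth m j hj.symm y hy x hx), hk⟩) (by
      rw [OG.mul_app, k1 u (hD.pr_eq_zero_iff.1 hm),
        orefl_app_of_polar (hD.polar_of_pr hl hc)]) hyA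
  rwa [OG.mul_app, k1 y fun z hz => hD.orth m l hlm.symm z hz y hy] at this

theorem exists_neg_two (hiso : ∀ i j, ∃ e : D i ≃ₗ[F] D j, ∀ x : D i, Q (e x : V) = Q (x : V))
    (h2 : (2 : F) ≠ 0) {i j : κ} (hij : i ≠ j) {u : V} (hu : u ∈ D i) (u0 : Q u ≠ 0) :
    ∃ g ∈ dstab Q D, g ∈ commutator (OG Q) ∧ g.1 u = -u ∧ (∀ w ∈ D j, g.1 w = -w) ∧
      ∀ z, hD.pr i z = 0 → hD.pr j z = 0 → g.1 z = z := by
  obtain ⟨e, he⟩ := hiso i j
  obtain ⟨f, hf, f0, f1⟩ := exists_perp_mem (hD.nd i) (hp i).1.ge u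
  have f2 := nonsingular_of_perp_plane (hD.nd i) (hp i).1 hu hf u0 f0 f1
  obtain ⟨a, ha, a1, b, hb, b1, ab⟩ : ∃ a ∈ D j, Q a = Q u ∧ ∃ b ∈ D j, Q b = Q f ∧
      polar Q a b = 0 := ⟨_, (e ⟨u, hu⟩).2, he _, _, (e ⟨f, hf⟩).2, he _, by
    have := he (⟨u, hu⟩ + ⟨f, hf⟩)
    rw [map_add, Submodule.coe_add, o_qadd, he, he, Submodule.coe_add, o_qadd, f1] at this
    exact add_left_cancel this⟩
  have o1 := fun x hx y hy => polar_comm Q x y ▸ hD.orth i j hij x hx y hy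
  have ng : ∀ {x}, Q x ≠ 0 → (orefl Q x).1 x = -x := fun {x} hx => by
    rw [orefl_app, o_polar_self, mul_comm 2, inv_mul_cancel_left₀ hx]; module
  refine ⟨orefl Q u * orefl Q a * (orefl Q f * orefl Q b), mul_mem (mul_mem (hD.orefl_mem hu)
    (hD.orefl_mem ha)) (mul_mem (hD.orefl_mem hf) (hD.orefl_mem hb)), mul_mem
    (refl_mem_omega hQ hn u0 (a1 ▸ u0) ⟨_, by rw [a1]⟩) (refl_mem_omega hQ hn f2 (b1 ▸ f2)
      ⟨_, by rw [b1]⟩), ?_, fun w hw => ?_, fun z z1 z2 => ?_⟩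
  · simp only [OG.mul_app, orefl_app_of_polar (hD.orth i j hij u hu b hb), orefl_app_of_polar f1,
      orefl_app_of_polar (hD.orth i j hij u hu a ha), ng u0]
  · rw [← eq_span_two (hp j).1 ha hb (o_ne_zero_of_norm (a1 ▸ u0)) fun H => by
      obtain ⟨s, rfl⟩ := Submodule.mem_span_singleton.1 H
      simp [h2, a1, u0] at ab
      simp [ab] at b1
      exact f2 b1.symm] at hw
    obtain ⟨s, t, rfl⟩ := Submodule.mem_span_pair.1 hw
    simp only [OG.mul_app, map_add, map_smul, map_neg, orefl_app_of_polar ab, ng (b1 ▸ f2),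
      orefl_app_of_polar (o1 f hf a ha), orefl_app_of_polar (o1 f hf b hb), ng (a1 ▸ u0),
      orefl_app_of_polar (polar_comm Q a b ▸ ab), orefl_app_of_polar (o1 u hu a ha),
      orefl_app_of_polar (o1 u hu b hb)]
    module
  · simp only [OG.mul_app, orefl_app_of_polar (hD.polar_of_pr z2 hb),
      orefl_app_of_polar (hD.polar_of_pr z1 hf), orefl_app_of_polar (hD.polar_of_pr z2 ha),
      orefl_app_of_polar (hD.polar_of_pr z1 hu)]

theorem top_of_EA_two (hiso : ∀ i j, ∃ e : D i ≃ₗ[F] D j, ∀ x : D i, Q (e x : V) = Q (x : V))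
    (ht : 4 ≤ Fintype.card κ) {l m : κ} (hlm : l ≠ m) {u x : V} (hu : Q u = 0) (hu0 : u ≠ 0)
    (hl : hD.pr l u = 0) (hm : hD.pr m u = 0) (hx : x ∈ EA M hu) (hx0 : hD.pr l x ≠ 0) :
    EO Q ≤ M := by
  have h1 := spread_two hQ hn hD hM hp hlm hu hl hm hx hx0
  have h2 := swap_EA hQ hn hD hM hiso (fun i => (hp i).1.ge) hu hl hm h1
  obtain ⟨y, hy, hy0, hq⟩ := exists_singular_mem (Q := Q) (S := D l ⊔ D m)
    (by rw [hD.finrank_sup hlm, (hp l).1, (hp m).1]; omega)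
  have h3 : ∀ i ∉ ({l, m} : Finset κ), ∀ y ∈ D l ⊔ D m, hD.pr i y = 0 := fun i hi y hy => by
    simp only [Finset.mem_insert, Finset.mem_singleton, not_or] at hi
    exact hD.pr_of_sup hi.1 hi.2 hy
  refine fin_dec hQ hn hD hM hiso (fun i => (hp i).2) {l, m} (D l ⊔ D m) (by simp) h3 hu hu0
    (fun y hy => ?_) (Finset.mem_insert_self l _) hy hy0 hq fun y hy hq i hi x hx hx0 => ?_
  · obtain ⟨a, ha, b, hb, rfl⟩ := Submodule.mem_sup.1 hy
    exact (EA M hu).add_mem (h1 a ha) (h2 b hb)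
  · obtain ⟨j, hj⟩ := exists_idx [i, l, m] (by simp; omega)
    simp only [List.mem_cons, List.not_mem_nil, or_false, not_or] at hj
    exact spread_two hQ hn hD hM hp (Ne.symm hj.1) hq (h3 i hi y hy)
      (hD.pr_of_sup hj.2.1 hj.2.2 hy) hx hx0

theorem pair_move (hiso : ∀ i j, ∃ e : D i ≃ₗ[F] D j, ∀ x : D i, Q (e x : V) = Q (x : V))
    {i j : κ} (hij : i ≠ j) {c : V} (hi : Q (hD.pr i c) ≠ 0) (hj : Q (hD.pr j c) ≠ 0) :
    ∃ u ∈ D i, ∃ w ∈ D j, Q u ≠ 0 ∧ Q w = -Q u ∧ Q (u + w) = 0 ∧ ∀ z, hD.pr i z = 0 →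
      hD.pr j z = 0 → (orefl Q u * orefl Q w).1 (c - z) = c - z - (u + w) := by
  obtain ⟨e, he⟩ := hiso i j
  obtain ⟨u, hu, w, hw, u0, h1, h2, h3⟩ := pair_plane (hD.nd i) (hD.nd j) (hp i).2 (hp i).1
    (hD.orth i j hij) e he (hD.pr_mem i c) (hD.pr_mem j c) hi hj
  rw [hD.polar_pr' hu] at h2
  rw [hD.polar_pr' hw] at h3
  have h4 : Q w = -Q u := by linear_combination h1
  have huw := hD.orth i j hij u hu w hw
  refine ⟨u, hu, w, hw, u0, h4, by rw [o_qadd, huw, h1, zero_add], fun z z1 z2 => ?_⟩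
  rw [OG.mul_app, orefl_app_of_diff (u := w) (by rw [h4]; exact neg_ne_zero.2 u0)
    (by rw [polar_sub_left, h3, hD.polar_of_pr z2 hw, sub_zero]), map_sub,
    orefl_app_of_diff (u := u) u0 (by rw [polar_sub_left, h2, hD.polar_of_pr z1 hu, sub_zero]),
    orefl_app_of_polar (by rw [polar_comm, huw])]
  abel

theorem top_of_refl_two (hiso : ∀ i j, ∃ e : D i ≃ₗ[F] D j, ∀ x : D i, Q (e x : V) = Q (x : V))
    (ht : 5 ≤ Fintype.card κ) {i₀ i j l : κ} (hij : i ≠ j) (hil : i ≠ l) (hjl : j ≠ l) {a c : V}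
    (ha : a ∈ D i₀) (ha0 : Q a ≠ 0) (hc : Q c ≠ 0) (h : orefl Q a * orefl Q c ∈ M)
    (hi : hD.pr i c ≠ 0) (hj : hD.pr j c ≠ 0) (hl : hD.pr l c ≠ 0) : EO Q ≤ M := by
  by_cases hs : ∃ s, hD.pr s c ≠ 0 ∧ Q (hD.pr s c) = 0
  · obtain ⟨s, h1, h2⟩ := hs
    have hq : 7 ≤ Nat.card F := ((hp s).2.plane (hp s).1).resolve_right fun H =>
      H.1 (isPlus_of_singular (hp s).1 (hD.pr_mem s c) h1 h2)
    obtain ⟨u, hu, hu0, huq, hA⟩ := EA_of_singular_comp hQ hn hD hM ha ha0 hc h h1 h2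
      (.inl (by omega))
    obtain ⟨r, hr, hr0⟩ : ∃ r, r ≠ s ∧ hD.pr r c ≠ 0 := by
      by_cases H : i = s
      · exact ⟨j, H ▸ hij.symm, hj⟩
      · exact ⟨i, H, hi⟩
    obtain ⟨m, hm1, hm2⟩ := exists_ne_ne (show 3 ≤ Fintype.card κ by omega) r s
    exact top_of_EA_two hQ hn hD hM hp hiso (by omega) hm1.symm huq hu0 (hD.pr_of_ne hr hu)
      (hD.pr_of_ne hm2 hu) hA (pr_smul_ne hQ hn hD hM hc hr0)
  push Not at hs
  obtain ⟨u, hu, w, hw, u0, w0, huw, h1⟩ := pair_move hQ hn hD hM hp hiso hij (hs i hi) (hs j hj)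
  have hd1 := (dstab Q D).mul_mem (hD.orefl_mem hu) (hD.orefl_mem hw)
  have hpu : hD.pr i (u + w) = u := by rw [map_add, hD.pr_of_mem hu, hD.pr_of_ne hij hw, add_zero]
  have hpu' : ∀ s, s ≠ i → s ≠ j → hD.pr s (u + w) = 0 := fun s a1 a2 => by
    rw [map_add, hD.pr_of_ne a1 hu, hD.pr_of_ne a2 hw, add_zero]
  by_cases hz : ∃ z, hD.pr z c = 0
  · obtain ⟨z, hz⟩ := hz
    obtain ⟨k, hk, k1, k2⟩ := exists_comp hQ hn (hD.nd z) (hp z).1.ge (orefl Q u * orefl Q w)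
    have hq : Q (-(u + w)) = 0 := by rw [o_qneg, huw]
    refine top_of_EA_two hQ hn hD hM hp hiso (by omega) (l := l) (m := z) (fun H => hl (H ▸ hz)) hq
      (fun H => o_ne_zero_of_norm u0 ?_) (by rw [map_neg, hpu' l hil.symm hjl.symm, neg_zero])
      (by rw [map_neg, hpu' z (fun H => hi (H ▸ hz)) (fun H => hj (H ▸ hz)), neg_zero])
      (EA_of_move hQ hn hD hM ha ha0 hc h ((dstab Q D).mul_mem hd1 (hD.mem_dstab_of_one
        (k2 _ le_rfl) fun j hj x hx => k1 x fun y hy => hD.orth z j hj.symm y hy x hx)) hk hq ?_)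
      (pr_smul_ne hQ hn hD hM hc hl)
    · rw [← hpu, neg_eq_zero.1 H, map_zero]
    · have := h1 0 (map_zero _) (map_zero _)
      rw [sub_zero] at this
      rw [OG.mul_app, k1 c (hD.pr_eq_zero_iff.1 hz), this, sub_eq_add_neg]
  push Not at hz
  obtain ⟨r, hr⟩ := exists_idx [i, j, l] (by simp; omega)
  obtain ⟨p, hp1⟩ := exists_idx [i, j, l, r] (by simp; omega)
  simp only [List.mem_cons, List.not_mem_nil, or_false, not_or] at hp1 hr
  have hw0 : Q w ≠ 0 := by rw [w0]; exact neg_ne_zero.2 u0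
  have k1 : ∀ (s : F) (hq : Q (s • (u + w)) = 0), s ≠ 0 → ∀ x ∈ EA M hq, hD.pr l x ≠ 0 →
      EO Q ≤ M := fun s hq s0 x hx x0 =>
    top_of_EA_two hQ hn hD hM hp hiso (by omega) (l := l) (m := r) (Ne.symm hr.2.2) hq
      (fun H => o_ne_zero_of_norm u0 (by rw [← hpu, (smul_eq_zero.1 H).resolve_left s0, map_zero]))
      (by rw [map_smul, hpu' l hil.symm hjl.symm, smul_zero])
      (by rw [map_smul, hpu' r hr.1 hr.2.1, smul_zero]) hx x0
  have k2 : ∀ s : F, Q (s • (u + w)) = 0 := fun s => by rw [o_qsmul, huw, mul_zero]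
  by_cases h2 : (2 : F) = 0
  · refine k1 (-1) (k2 _) (by simp) _ (EA_of_move hQ hn hD hM ha ha0 hc h hd1
      (refl_mem_omega hQ hn u0 hw0 ⟨Q u, by rw [w0]; linear_combination -Q u ^ 2 * h2⟩) _ ?_)
      (pr_smul_ne hQ hn hD hM hc hl)
    simpa [sub_eq_add_neg, add_comm (-w)] using h1 0 (map_zero _) (map_zero _)
  obtain ⟨u', hu', w', hw', u0', w0', huw', h2'⟩ := pair_move hQ hn hD hM hp hiso
    (Ne.symm hp1.2.2.2) (hs r (hz r)) (hs p (hz p))
  have hpv : ∀ s, s ≠ r → s ≠ p → hD.pr s (u' + w') = 0 := fun s a1 a2 => by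
    rw [map_add, hD.pr_of_ne a1 hu', hD.pr_of_ne a2 hw', add_zero]
  have a1 := hpv i (Ne.symm hr.1) (Ne.symm hp1.1)
  have a2 := hpv j (Ne.symm hr.2.1) (Ne.symm hp1.2.1)
  have hq : Q (-(u' + w' + (u + w))) = 0 := by
    rw [o_qneg, o_qadd, huw, huw', polar_add_right, hD.polar_of_pr a1 hu, hD.polar_of_pr a2 hw]
    simp
  have hw0' : Q w' ≠ 0 := by rw [w0']; exact neg_ne_zero.2 u0'
  have a3 : hD.pr l (-(u' + w' + (u + w))) = 0 := by
    rw [map_neg, map_add, hpu' l hil.symm hjl.symm, hpv l (Ne.symm hr.2.2) (Ne.symm hp1.2.2.1)]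
    simp
  obtain ⟨v, v1, v2, v0⟩ := exists_EA_two hQ hn hD hM hp hq a3
    (EA_of_move hQ hn hD hM ha ha0 hc h ((dstab Q D).mul_mem hd1 ((dstab Q D).mul_mem
      (hD.orefl_mem hu') (hD.orefl_mem hw'))) (by
    rw [mem_commutator_OG_iff hQ (not_oExc_of_finrank (by omega))]
    simp only [map_mul, dickson_orefl hQ u0, dickson_orefl hQ u0', dickson_orefl hQ hw0,
      dickson_orefl hQ hw0', ospin_orefl hQ u0, ospin_orefl hQ u0', ospin_orefl hQ hw0,
      ospin_orefl hQ hw0']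
    refine ⟨by decide, ?_⟩
    rw [← sqSign_mul u0 hw0, ← sqSign_mul u0' hw0', ← sqSign_mul (mul_ne_zero u0 hw0)
      (mul_ne_zero u0' hw0'), sqSign_eq_one_iff, w0, w0']
    exact ⟨Q u * Q u', by ring⟩) hq (by
    have := h2' 0 (map_zero _) (map_zero _)
    rw [sub_zero] at this
    rw [OG.mul_app, this, h1 _ a1 a2]
    abel)) (pr_smul_ne hQ hn hD hM hc hl)
  by_cases vq : Q v = 0
  · refine top_of_EA_two hQ hn hD hM hp hiso (by omega) hij vq v0 (hD.pr_of_ne hil v1)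
      (hD.pr_of_ne hjl v1) (x := -(u' + w' + (u + w))) ⟨polar_comm Q v _ ▸ v2.1, ?_⟩ ?_
    · rw [eich_swap hq vq v2.1, ← eich_inv]; exact M.inv_mem v2.2
    · rw [map_neg, map_add, a1, hpu, zero_add]; exact neg_ne_zero.2 (o_ne_zero_of_norm u0)
  obtain ⟨g, g1, g2, g3, g4, g5⟩ := exists_neg_two hQ hn hD hM hp hiso h2 hij hu u0
  have a4 : Q (v + Q v • -(u' + w' + (u + w))) ≠ 0 := by
    rwa [o_qadd, o_qsmul, hq, o_polar_smul_right, polar_comm, v2.1, mul_zero, mul_zero, add_zero,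
      add_zero]
  refine k1 (2 * Q v) (k2 _) (mul_ne_zero h2 vq) _ (EA_of_move hQ hn hD hM v1 vq a4
    (eich_eq_orefl_mul hq v2.1 vq ▸ v2.2) g1 g2 _ ?_) (pr_smul_ne hQ hn hD hM a4 ?_)
  · rw [map_add, map_smul, map_neg, map_add, map_add _ u, g3, g4 w hw, g5 _ a1 a2,
      g5 v (hD.pr_of_ne hil v1) (hD.pr_of_ne hjl v1)]
    module
  · rwa [map_add, map_smul, a3, smul_zero, add_zero, hD.pr_of_mem v1]

end Ctx

/-- Decompositions into at least five isometric planes. -/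
theorem omax_dec_two (hQ : (polarBilin Q).Nondegenerate) (hD : ODec Q D)
    (hiso : ∀ i j, ∃ e : D i ≃ₗ[F] D j, ∀ x : D i, Q (e x : V) = Q (x : V)) (hp : Pl Q D)
    (ht : 5 ≤ Fintype.card κ) : OMax (dstab Q D) := by
  obtain ⟨i₁⟩ : Nonempty κ := Fintype.card_pos_iff.1 (by omega)
  obtain ⟨i₂, h2⟩ := exists_idx [i₁] (by simp; omega)
  obtain ⟨i₃, h3⟩ := exists_idx [i₁, i₂] (by simp; omega)
  simp only [List.mem_cons, List.not_mem_nil, or_false, not_or] at h2 h3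
  have hd := hD.finrank_sup h2
  rw [(hp _).1, (hp _).1] at hd
  have hn : 5 ≤ finrank F V := by
    obtain ⟨x, hx, -, -, x1, -⟩ := exists_cls_two (hD.nd i₃) (hp i₃).2
    have : D i₂ ⊔ D i₁ ≠ ⊤ := fun H => o_ne_zero_of_norm x1.1 (by
      rw [← hD.pr_of_mem hx]; exact hD.pr_of_sup h3.2 h3.1 (H ▸ Submodule.mem_top))
    have := Submodule.finrank_lt this
    omega
  refine ⟨?_, fun M hM _ g hgM hgD => ?_⟩
  · obtain ⟨u, hu, hu0, hq⟩ := exists_singular_mem (Q := Q) (S := D i₂ ⊔ D i₁) (by omega)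
    obtain ⟨i, hi⟩ := hD.exists_pr_ne_zero hu0
    exact exists_notMem_dstab hQ hn hD hq hi (hD.pr_of_sup h3.2 h3.1 hu) (hp i).1.ge
      (ne_bot_of_finrank (by rw [(hp i₃).1]; omega))
  rw [omega_eq hQ hn]
  have hR := refl_of_le hQ hn hD hM
  by_cases hC : Closed M D
  · refine ((pair_of_notMem hD hR (st_of_closed hD hR hC (fun i => (hp i).2) fun i j => by
      rw [(hp i).1, (hp j).1]) hgM hgD).false_of_planes hp (hp.map g) ht ?_).elim
    by_cases H : ∃ m, IsPlus Q (D m)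
    · obtain ⟨m, hm⟩ := H
      exact .inr ⟨m, hm.of_isom (g.1.submoduleMap (D m)) fun x => OG.map_app g x⟩
    · exact .inl fun i hi => H ⟨i, hi⟩
  simp only [Closed, not_forall, not_exists] at hC
  obtain ⟨i₀, a, ha, ha0, c, hc, h, hcn⟩ := hC
  obtain ⟨i, hi⟩ := hD.exists_pr_nonsingular hc
  obtain ⟨j, hji, hj⟩ := hD.exists_pr_ne (hcn i)
  by_cases H : ∃ l, l ≠ i ∧ l ≠ j ∧ hD.pr l c ≠ 0
  · obtain ⟨l, h1, h2, hl⟩ := H
    exact top_of_refl_two hQ hn hD hM hp hiso ht hji.symm h1.symm h2.symm ha ha0 hc h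
      (o_ne_zero_of_norm hi) hj hl
  push Not at H
  obtain ⟨l, h1, h2⟩ := exists_ne_ne (show 3 ≤ Fintype.card κ by omega) i j
  obtain ⟨c', c1, c2, c3, c4, c5, -⟩ := exists_three_comp hQ hn hD hM hiso
    (fun i => (hp i).1.ge) (fun i => mv_plane (hD.nd i) (hp i).2 (hp i).1) hji.symm h1.symm h2.symm
    ha ha0 hc h hi hj H
  exact top_of_refl_two hQ hn hD hM hp hiso ht hji.symm h1.symm h2.symm ha ha0 c1 c2 c3 c4 c5

theorem card_ne_six : Nat.card F ≠ 6 := fun h => by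
  have := Fintype.ofFinite F
  have h1 := FiniteField.isPrimePow_card F
  rw [← Nat.card_eq_fintype_card, h] at h1
  exact absurd h1 (by decide)

/-- Decompositions into isometric subspaces of dimension `k ≥ 2`, in dimension at least `10`. -/
theorem omax_dec (hQ : (polarBilin Q).Nondegenerate) (hD : ODec Q D)
    (hiso : ∀ i j, ∃ e : D i ≃ₗ[F] D j, ∀ x : D i, Q (e x : V) = Q (x : V)) {k : ℕ}
    (hk : ∀ i, finrank F (D i) = k) (h2 : 2 ≤ k) (ht : 2 ≤ Fintype.card κ)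
    (hn : 10 ≤ Fintype.card κ * k)
    (hex : ¬ ((k = 2 ∧ (Nat.card F = 3 ∨ ((∀ i, IsPlus Q (D i)) ∧
      (Nat.card F = 2 ∨ Nat.card F = 4 ∨ Nat.card F = 5)))) ∨ (k = 3 ∧ Nat.card F = 3) ∨
      (k = 4 ∧ Nat.card F = 2 ∧ ∀ i, IsPlus Q (D i)))) : OMax (dstab Q D) := by
  have hpl : ∀ i, IsPlus Q (D i) → ∀ j, IsPlus Q (D j) := fun i hi j => by
    obtain ⟨e, he⟩ := hiso i j
    exact hi.of_isom e he
  have hg : ∀ i, Good Q (D i) := fun i => by
    have h6 := card_ne_six (F := F)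
    have h7 := two_le_card (F := F)
    rw [Good, hk]
    by_cases hp : IsPlus Q (D i)
    · have := hpl i hp
      simp only [this, implies_true, true_and, and_true, not_true, false_and, or_false] at hex ⊢
      omega
    · have : ¬ ∀ i, IsPlus Q (D i) := fun H => hp (H i)
      simp only [this, hp, false_and, and_false, or_false, not_false_iff, and_true,
        true_and] at hex ⊢
      omega
  by_cases h : k = 2
  · subst h
    exact omax_dec_two hQ hD hiso (fun i => ⟨hk i, hg i⟩) (by omega)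
  refine omax_dec_three hQ hD hiso hg hk (by omega) ht ?_
  by_contra H
  push Not at H
  have := Nat.mul_le_mul (show Fintype.card κ ≤ 2 by omega) (show k ≤ 4 by omega)
  omega

end Cfsg.Agent.Cl.MaxO
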