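import Mathlib
import Cfsg.Agent.Cl.MaxOTwo
import Cfsg.Agent.Cl.OrthIso
import Cfsg.Agent.Cl.PSL2Dickson
import Cfsg.Agent.Cl.PSL2A5

/-!
# Reflection groups in dimension three containing a dihedral group of order eight

Dickson's theorem read in `O₃(q)`: a group containing the reflections in `a`, `a - b`, `c`
(`a ⊥ b` of equal norm) contains an Eichler transformation, or `c` is a root of a `B₃` system.
-/

set_option autoImplicit false
set_option linter.unusedSectionVars false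
set_option linter.unusedVariables false

namespace Cfsg.Agent.Cl.MaxO

open Module QuadraticMap Matrix
open scoped MatrixGroups

variable {F V : Type*} [Field F] [AddCommGroup V] [Module F V] {Q : QuadraticForm F V}
  [FiniteDimensional F V] [Finite F]

variable (Q) in
/-- A model of the three-dimensional subspace `S` in the trace-zero matrices. -/
structure Sl2 (S : Submodule F V) (ψ : V →ₗ[F] L2.M2 F) (μ : F) : Prop where
  ne : μ ≠ 0
  tr : ∀ x, (ψ x).trace = 0
  det : ∀ x ∈ S, (ψ x).det = -(μ * Q x)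
  inj : ∀ x ∈ S, ψ x = 0 → x = 0
  surj : ∀ X : L2.M2 F, X.trace = 0 → ∃ x ∈ S, ψ x = X

theorem exists_sl2 {S : Submodule F V} (hS : ND Q S) (h3 : finrank F S = 3) :
    ∃ ψ μ, Sl2 Q S ψ μ := by
  obtain ⟨c, g, hc, hg⟩ := quad_classify_odd' hS.nondeg (m := 1) h3
  let π : V →ₗ[F] S := (proj hS).codRestrict S (proj_mem hS)
  have hπ : ∀ x (hx : x ∈ S), π x = ⟨x, hx⟩ := fun x hx => Subtype.ext (proj_of_mem hS hx)
  refine ⟨oJ3 F ∘ₗ g.toLinearMap ∘ₗ π, c⁻¹, inv_ne_zero hc, fun x => trace_oJ3 _, fun x hx => ?_,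
    fun x hx h => ?_, fun X hX => ?_⟩
  · change (oJ3 F (g (π x))).det = _
    have := hg ⟨x, hx⟩
    change c * quad_odd 1 F _ = Q x at this
    rw [det_oJ3, hπ x hx, ← this]; field_simp
  · change oJ3 F (g (π x)) = 0 at h
    rw [← map_zero (oJ3 F)] at h
    have := g.map_eq_zero_iff.1 (oJ3_injective h)
    rw [hπ x hx] at this
    exact congrArg Subtype.val this
  · obtain ⟨v, hv⟩ := exists_oJ3_eq hX
    refine ⟨g.symm v, (g.symm v).2, ?_⟩
    change oJ3 F (g (π _)) = X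
    rw [hπ _ (g.symm v).2, Subtype.coe_eta, LinearEquiv.apply_symm_apply, hv]

namespace Sl2

variable {S : Submodule F V} {ψ : V →ₗ[F] L2.M2 F} {μ : F} (h : Sl2 Q S ψ μ)
include h

theorem sq {x : V} (hx : x ∈ S) : ψ x * ψ x = (μ * Q x) • (1 : L2.M2 F) := by
  rw [L2.mul_self_two, h.tr, h.det x hx]; simp

theorem anti {x y : V} (hx : x ∈ S) (hy : y ∈ S) :
    ψ x * ψ y + ψ y * ψ x = (μ * polar Q x y) • (1 : L2.M2 F) := by
  have := h.sq (S.add_mem hx hy)
  rw [map_add, add_mul, mul_add, mul_add, h.sq hx, h.sq hy, o_qadd] at this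
  linear_combination (norm := module) this

theorem det_ne {x : V} (hx : x ∈ S) (h0 : Q x ≠ 0) : (ψ x).det ≠ 0 := by
  rw [h.det x hx]; exact neg_ne_zero.2 (mul_ne_zero h.ne h0)

theorem refl {x y : V} (hx : x ∈ S) (h0 : Q x ≠ 0) (hy : y ∈ S) :
    ψ x * ψ y = (-1 : F) • ψ ((orefl Q x).1 y) * ψ x := by
  have h1 := h.anti hx hy
  rw [orefl_app, map_sub, map_smul, smul_sub, sub_mul, smul_mul_assoc, smul_mul_assoc,
    smul_mul_assoc, h.sq hx, smul_smul, smul_smul, polar_comm Q y x,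
    show -1 * ((Q x)⁻¹ * polar Q x y) * (μ * Q x) = -(μ * polar Q x y) by field_simp]
  linear_combination (norm := module) h1

theorem tau_mul (h2 : (2 : F) ≠ 0) {x y : V} (hx : x ∈ S) (hy : y ∈ S) (hx0 : Q x ≠ 0)
    (hy0 : Q y ≠ 0) : L2.tau (L2.pm (ψ x) * L2.pm (ψ y)) = polar Q x y ^ 2 / (Q x * Q y) := by
  have h1 := congrArg Matrix.trace (h.anti hx hy)
  rw [trace_add, trace_mul_comm (ψ y), trace_smul, trace_one] at h1
  have h3 : (ψ x * ψ y).trace = μ * polar Q x y := mul_left_cancel₀ h2 (by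
    simp only [Fintype.card_fin, smul_eq_mul, Nat.cast_ofNat] at h1; linear_combination h1)
  have := h.ne
  rw [← L2.pm_mul (h.det_ne hx hx0) (h.det_ne hy hy0), L2.tau_pm (by
    rw [det_mul]; exact mul_ne_zero (h.det_ne hx hx0) (h.det_ne hy hy0)), h3, det_mul,
    h.det x hx, h.det y hy]
  field_simp

theorem inj' {x y : V} (hx : x ∈ S) (hy : y ∈ S) (e : ψ x = ψ y) : x = y :=
  sub_eq_zero.1 (h.inj _ (S.sub_mem hx hy) (by rw [map_sub, e, sub_self]))

theorem mul_ne_one {x y : V} (hx : x ∈ S) (hy : y ∈ S) (hx0 : Q x ≠ 0) (hy0 : Q y ≠ 0)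
    (hxy : y ∉ Submodule.span F {x}) : L2.pm (ψ x) * L2.pm (ψ y) ≠ 1 := fun H => by
  have h1 : L2.pm (ψ x) * L2.pm (ψ x) = 1 := by
    rw [← L2.pm_mul (h.det_ne hx hx0) (h.det_ne hx hx0), h.sq hx,
      L2.pm_smul (mul_ne_zero h.ne hx0), L2.pm_one]
  obtain ⟨c, -, hc⟩ := (L2.pm_eq_iff (h.det_ne hx hx0) (h.det_ne hy hy0)).1
    (mul_left_cancel (h1.trans H.symm))
  exact hxy (Submodule.mem_span_singleton.2 ⟨c, h.inj' (S.smul_mem _ hx) hy (by rw [map_smul, hc])⟩)

theorem exists_decomp (h2 : (2 : F) ≠ 0) (A : L2.M2 F) : ∃ m ∈ S, A = (A.trace / 2) • 1 + ψ m ∧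
    A.trace ^ 2 - 4 * A.det = 4 * (μ * Q m) := by
  obtain ⟨m, hm, h1⟩ := h.surj (A - (A.trace / 2) • 1) (by
    rw [trace_sub, trace_smul, trace_one]; simp; field_simp; ring)
  refine ⟨m, hm, by rw [h1]; simp, ?_⟩
  have := h.det m hm
  rw [h1] at this
  simp only [det_fin_two, trace_fin_two, Matrix.sub_apply, Matrix.smul_apply, one_apply_eq,
    smul_eq_mul, one_apply_ne (show (0 : Fin 2) ≠ 1 by decide),
    one_apply_ne (show (1 : Fin 2) ≠ 0 by decide)] at this ⊢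
  field_simp at this
  linear_combination -this

end Sl2

/-- The image in `PGL₂` of a group of isometries of `S`. -/
def imS {S : Submodule F V} (ψ : V →ₗ[F] L2.M2 F) (L : Subgroup (OG Q))
    (hL : ∀ g ∈ L, ∀ y ∈ S, g.1 y ∈ S) : Subgroup PGL(2, F) where
  carrier := {h | ∃ A : L2.M2 F, A.det ≠ 0 ∧ L2.pm A = h ∧ ∃ g ∈ L, ∃ ε : F, ε * ε = 1 ∧
    ∀ y ∈ S, A * ψ y = ε • ψ (g.1 y) * A}
  one_mem' := ⟨1, by simp, L2.pm_one, 1, L.one_mem, 1, by simp, fun y _ => by simp⟩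
  mul_mem' := by
    rintro _ _ ⟨A, hA, rfl, g, hg, ε, hε, h1⟩ ⟨B, hB, rfl, k, hk, δ, hδ, h2⟩
    refine ⟨A * B, by rw [det_mul]; exact mul_ne_zero hA hB, L2.pm_mul hA hB, g * k,
      L.mul_mem hg hk, ε * δ, by linear_combination δ * δ * hε + hδ, fun y hy => ?_⟩
    rw [mul_assoc, h2 y hy, ← mul_assoc, mul_smul_comm, h1 _ (hL k hk y hy), OG.mul_app]
    simp only [smul_mul_assoc, smul_smul, mul_assoc, mul_comm δ ε]
  inv_mem' := by
    rintro _ ⟨A, hA, rfl, g, hg, ε, hε, h1⟩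
    refine ⟨adjugate A, by rwa [L2.det_adjugate_two], L2.pm_adjugate hA, g⁻¹, L.inv_mem hg, ε, hε,
      fun y hy => ?_⟩
    have := h1 _ (hL _ (L.inv_mem hg) y hy)
    rw [OG.app_inv_app] at this
    have h3 := L2.conj_symm hA this
    rw [mul_smul_comm] at h3
    rw [smul_mul_assoc, ← h3, smul_smul, hε, one_smul]

theorem S4_sign (x y : L2.S4) (h : Equiv.Perm.sign x = Equiv.Perm.sign y) (h3 : x ^ 3 = 1)
    (h4 : y ^ 4 = 1) : y * y = 1 := by
  have h1 : Equiv.Perm.sign x = 1 := by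
    have := congrArg Equiv.Perm.sign h3
    rw [map_pow, map_one] at this
    rcases Int.units_eq_one_or (Equiv.Perm.sign x) with h | h
    · exact h
    · rw [h] at this; exact absurd this (by decide)
  rw [h] at h1
  clear h h3
  revert y
  decide +kernel

theorem eich_of_unip (hQ : (polarBilin Q).Nondegenerate) (h2 : (2 : F) ≠ 0) {S : Submodule F V}
    (hS : ND Q S) (h3 : finrank F S = 3) {g : OG Q}
    (hg : ∀ z, (∀ y ∈ S, polar Q y z = 0) → g.1 z = z) (hgS : ∀ y ∈ S, g.1 y ∈ S)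
    (hd : dickson hQ g = 1) {u : V} (hu : u ∈ S) (hu0 : u ≠ 0) (hq : Q u = 0) (hgu : g.1 u = u) :
    ∃ v ∈ S, polar Q u v = 0 ∧ g = eich Q u v := by
  obtain ⟨w, hw, w1, w2⟩ := hS.exists_partner hu hu0 hq
  have h1 : polar Q u (g.1 w - w) = 0 := by
    rw [polar_sub_right, w2, ← hgu, OG.polar_app, w2, sub_self]
  have h4 : polar Q w (g.1 w - w) + Q (g.1 w - w) = 0 := by
    have := o_qadd Q w (g.1 w - w)
    rw [add_sub_cancel, OG.map_app, w1] at this
    linear_combination -this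
  refine ⟨g.1 w - w, S.sub_mem (hgS w hw) hw, h1, ?_⟩
  set v := g.1 w - w with hv
  have hvS : v ∈ S := S.sub_mem (hgS w hw) hw
  have hT : ND Q (Submodule.span F {u, w}) := nd_span_pair (by simp [hq, w2])
  have hle : Submodule.span F {u, w} ⊔ operp Q S ≤ ofix ((eich Q u v)⁻¹ * g) := by
    refine sup_le (span_two_le ?_ ?_) fun z hz => ?_ <;>
      rw [mem_ofix, OG.mul_app, OG.inv_app_eq_iff]
    · rw [hgu, eich_app_self]
    · rw [eich_app hq h1, polar_comm Q w u, w2, mul_one, h4, hv]; simp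
    · have hz' := mem_operp.1 hz
      rw [hg z hz', eich_app_of_polar (by rw [polar_comm]; exact hz' u hu)
        (by rw [polar_comm]; exact hz' v hvS)]
  have h5 := Submodule.finrank_sup_add_finrank_inf_eq (Submodule.span F {u, w}) (operp Q S)
  rw [hT.disjoint fun x hx y hy => mem_operp.1 hy x (span_two_le hu hw hx), finrank_bot,
    finrank_span_two hu0 fun H => by
      obtain ⟨s, rfl⟩ := Submodule.mem_span_singleton.1 H
      simp only [oexp, hq] at w2; simp at w2] at h5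
  have h6 := Submodule.finrank_mono hle
  have h7 := Submodule.finrank_add_eq_of_isCompl hS.isCompl
  have h8 := orank_add_finrank_ofix ((eich Q u v)⁻¹ * g)
  have h9 := (dickson_eq_one_iff hQ ((eich Q u v)⁻¹ * g)).1
    (by rw [map_mul, map_inv, dickson_eich, hd]; simp)
  obtain ⟨k, hk⟩ := h9
  exact (inv_mul_eq_one.1 ((orank_eq_zero_iff _).1 (by omega))).symm

/-- **Dickson's theorem for overgroups of `B₂` in `O₃`.** -/
theorem b3 (hQ : (polarBilin Q).Nondegenerate) (h2 : (2 : F) ≠ 0) (h3' : (3 : F) ≠ 0)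
    {S : Submodule F V} (hS : ND Q S) (h3 : finrank F S = 3) {L : Subgroup (OG Q)}
    (hL : ∀ g ∈ L, ∀ z, (∀ y ∈ S, polar Q y z = 0) → g.1 z = z) {a b c : V} (ha : a ∈ S)
    (hb : b ∈ S) (hc : c ∈ S) (hab : polar Q a b = 0) (hba : Q b = Q a) (ha0 : Q a ≠ 0)
    (hc0 : Q c ≠ 0) (hcn : c ∉ Submodule.span F {a, b}) (hac : polar Q a c ≠ 0)
    (r1 : orefl Q a ∈ L) (r2 : orefl Q (a - b) ∈ L) (r3 : orefl Q c ∈ L) :
    (∃ u ∈ S, ∃ v ∈ S, u ≠ 0 ∧ Q u = 0 ∧ polar Q u v = 0 ∧ v ∉ Submodule.span F {u} ∧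
      eich Q u v ∈ L) ∨ (polar Q b c = 0 ∧ polar Q a c ^ 2 = 2 * (Q a * Q c)) ∨
      (polar Q a c ^ 2 = Q a * Q c ∧ polar Q b c ^ 2 = Q a * Q c) := by
  obtain ⟨ψ, μ, h⟩ := exists_sl2 hS h3
  have h4 : (4 : F) ≠ 0 := L2.four_ne_zero_of_two h2
  have hLS : ∀ g ∈ L, ∀ y ∈ S, g.1 y ∈ S := fun g hg y hy => by
    rw [← operp_operp hQ S]
    exact mem_operp.2 fun z hz => by
      rw [← hL g hg z (mem_operp.1 hz), OG.polar_app, polar_comm]; exact mem_operp.1 hz y hy
  set H := imS ψ L hLS with hH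
  have hmem : ∀ x ∈ S, Q x ≠ 0 → orefl Q x ∈ L → L2.pm (ψ x) ∈ H := fun x hx h0 hr =>
    ⟨_, h.det_ne hx h0, rfl, _, hr, -1, by ring, fun y hy => h.refl hx h0 hy⟩
  by_cases hreg : ∀ g ∈ H, g ≠ 1 → L2.tau g ≠ 4
  swap
  · push Not at hreg
    obtain ⟨_, ⟨A, hA, rfl, g, hg, ε, hε, h1⟩, hne, ht⟩ := hreg
    obtain ⟨u, hu, hAu, hd⟩ := h.exists_decomp h2 A
    rw [(L2.tau_pm_eq_iff hA).1 ht, sub_self] at hd
    have hq : Q u = 0 := by simpa [h4, h.ne] using hd
    generalize A.trace / 2 = l at hAu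
    have hu0 : u ≠ 0 := fun H => hne ((L2.pm_eq_one_iff' hA).2 ⟨l, by rw [hAu, H]; simp⟩)
    have huu : ψ u * ψ u = 0 := by rw [h.sq hu, hq]; simp
    have hAi : ∀ X Y : L2.M2 F, X * A = Y * A → X = Y := fun X Y e =>
      (Matrix.isUnit_iff_isUnit_det A).2 hA.isUnit |>.mul_right_cancel e
    have hA2 : ∀ y ∈ S, A * A * ψ y = ψ ((g * g).1 y) * (A * A) := fun y hy => by
      rw [mul_assoc, h1 y hy, ← mul_assoc, mul_smul_comm, h1 _ (hLS g hg y hy), OG.mul_app]
      simp only [smul_mul_assoc, smul_smul, mul_assoc, hε, one_smul]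
    have hgu : (g * g).1 u = u := h.inj' (hLS _ (L.mul_mem hg hg) u hu) hu (hAi _ _ (hAi _ _ (by
      rw [mul_assoc, ← hA2 u hu, hAu]
      simp only [add_mul, mul_add, smul_mul_assoc, mul_smul_comm, one_mul, mul_one, huu])))
    obtain ⟨v, hv, h5, h6⟩ := eich_of_unip hQ h2 hS h3 (hL _ (L.mul_mem hg hg))
      (hLS _ (L.mul_mem hg hg)) (by rw [map_mul, Int.units_mul_self]) hu hu0 hq hgu
    refine .inl ⟨u, hu, v, hv, hu0, hq, h5, fun H => ?_, h6 ▸ L.mul_mem hg hg⟩
    obtain ⟨s, rfl⟩ := Submodule.mem_span_singleton.1 H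
    rw [eich_smul_self] at h6
    obtain ⟨w, hw, w1, w2⟩ := hS.exists_partner hu hu0 hq
    have l0 : l ≠ 0 := fun H => hA (by rw [hAu, H, zero_smul, zero_add, h.det u hu, hq]; simp)
    have h7 := hA2 w hw
    rw [h6, OG.one_app, hAu] at h7
    simp only [add_mul, mul_add, smul_mul_assoc, mul_smul_comm, one_mul, mul_one, huu,
      add_zero] at h7
    have h8 : (2 * l) • (ψ u * ψ w - ψ w * ψ u) = 0 := by linear_combination (norm := module) h7
    rw [smul_eq_zero, sub_eq_zero] at h8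
    have h9 := h.anti hu hw
    rw [w2, ← h8.resolve_left (mul_ne_zero h2 l0)] at h9
    have h10 := congrArg (ψ u * ·) h9
    simp only [mul_add, ← mul_assoc, huu, zero_mul, add_zero, mul_smul_comm, mul_one] at h10
    exact hu0 (h.inj u hu ((smul_eq_zero.1 h10.symm).resolve_left h.ne))
  right
  have hm := S.sub_mem ha hb
  have hp := S.add_mem ha hb
  have q1 : Q (a - b) = 2 * Q a := by simp only [oexp, hab, hba]; ring
  have q2 : Q (a + b) = 2 * Q a := by simp only [oexp, hab, hba]; ring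
  have hm0 : Q (a - b) ≠ 0 := by rw [q1]; exact mul_ne_zero h2 ha0
  have hp0 : Q (a + b) ≠ 0 := by rw [q2]; exact mul_ne_zero h2 ha0
  have hb0 : Q b ≠ 0 := by rwa [hba]
  have e1 : (orefl Q (a - b)).1 a = b := by
    rw [orefl_app_of_diff hm0 (by simp only [oexp, hab, hba]; ring)]; abel
  have e2 : (orefl Q a).1 (a - b) = -(a + b) := by
    rw [map_sub, orefl_app_self ha0, orefl_app_of_polar (by rwa [polar_comm])]; abel
  have r4 : orefl Q b ∈ L := by
    rw [← e1, ← conj_orefl]; exact L.mul_mem (L.mul_mem r2 r1) (L.inv_mem r2)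
  have r5 : orefl Q (a + b) ∈ L := by
    rw [← orefl_neg, ← e2, ← conj_orefl]; exact L.mul_mem (L.mul_mem r1 r2) (L.inv_mem r1)
  have mα := hmem a ha ha0 r1
  have mγ := hmem _ hm hm0 r2
  have mχ := hmem c hc hc0 r3
  have mβ := hmem b hb hb0 r4
  have t1 : L2.tau (L2.pm (ψ a) * L2.pm (ψ (a - b))) = 2 := by
    rw [h.tau_mul h2 ha hm ha0 hm0, q1]; simp only [oexp, hab]; field_simp; ring
  set ρ := L2.pm (ψ a) * L2.pm (ψ (a - b)) with hρ
  have mρ : ρ ∈ H := H.mul_mem mα mγ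
  have ρ1 : ρ ≠ 1 := L2.ne_one_of_tau (by rw [t1]; intro H; exact h2 (by linear_combination -H))
  have ρ2 : ρ * ρ ≠ 1 := fun H => h2 (t1 ▸ (L2.mul_self_eq_one_iff_tau ρ1).1 H)
  have ρ4 : ρ ^ 4 = 1 := (L2.pow_four_eq_one_iff ρ1).2 (.inr t1)
  have hodd : ∀ k, Odd k → ρ ^ k ≠ 1 := fun k hk H => ρ1 (by
    rw [← orderOf_dvd_iff_pow_eq_one] at H ρ4
    rw [← orderOf_eq_one_iff]
    exact Nat.eq_one_of_dvd_coprimes (Nat.Coprime.pow_left 2 (Nat.coprime_two_left.2 hk)) ρ4 H)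
  have hinv : ∀ x ∈ S, Q x ≠ 0 → (L2.pm (ψ x))⁻¹ = L2.pm (ψ x) := fun x hx h0 =>
    inv_eq_of_mul_eq_one_right (by
      rw [← L2.pm_mul (h.det_ne hx h0) (h.det_ne hx h0), h.sq hx,
        L2.pm_smul (mul_ne_zero h.ne h0), L2.pm_one])
  have htr : ∀ {X : Type} [Group X] (e : H ≃* X) (k : ℕ), e ⟨ρ, mρ⟩ ^ k = 1 → ρ ^ k = 1 :=
    fun e k hk => congrArg Subtype.val (e.map_eq_one_iff.1 (by rwa [map_pow]) : (⟨ρ, mρ⟩ : H) ^ k = 1)
  rcases L2.dickson_regular H hreg with ⟨x, hx⟩ | ⟨g, -, hg, hle⟩ | ⟨⟨e⟩⟩ | ⟨⟨e⟩⟩ | ⟨⟨e⟩⟩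
  · have := (L2.commutator_mem_uni (hx _ mα) (hx _ mγ)).2
    rw [hinv a ha ha0, hinv _ hm hm0, mul_assoc, ← hρ] at this
    exact absurd this (hreg _ (H.mul_mem mρ mρ) ρ2)
  · exfalso
    obtain ⟨A, hA, rfl⟩ := L2.exists_pm g
    obtain ⟨m, hmS, hAm, hd⟩ := h.exists_decomp h2 A
    have m0 : Q m ≠ 0 := fun H => hg ((L2.tau_pm_eq_iff hA).2 (by
      rw [H] at hd; linear_combination hd))
    generalize A.trace / 2 = l at hAm
    have key : ∀ x ∈ S, Q x ≠ 0 → L2.pm (ψ x) ∈ H → polar Q m x = 0 ∨ x ∈ Submodule.span F {m} :=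
      fun x hx h0 hxH => by
        have hxi : ∀ X Y : L2.M2 F, X * ψ x = Y * ψ x → X = Y := fun X Y e =>
          (Matrix.isUnit_iff_isUnit_det _).2 (h.det_ne hx h0).isUnit |>.mul_right_cancel e
        have hr := h.refl hx h0 hmS
        have hrS : (orefl Q x).1 m ∈ S := by rw [orefl_app]; exact S.sub_mem hmS (S.smul_mem _ hx)
        obtain ⟨s, hs⟩ : ∃ s : F, (orefl Q x).1 m = s • m := by
          rcases L2.ntor_cases hA (h.det_ne hx h0) hg (hle hxH) with e | e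
          · refine ⟨-1, h.inj' hrS (S.smul_mem _ hmS) (hxi _ _ ?_)⟩
            rw [hAm, mul_add, add_mul, hr] at e
            simp only [mul_smul_comm, smul_mul_assoc, mul_one, one_mul, map_smul] at e ⊢
            linear_combination (norm := module) -e
          · refine ⟨1, h.inj' hrS (S.smul_mem _ hmS) (hxi _ _ ?_)⟩
            rw [L2.adjugate_eq_two, hAm, trace_add, h.tr, trace_smul, trace_one, mul_add, sub_mul,
              add_mul, hr] at e
            simp only [mul_smul_comm, smul_mul_assoc, mul_one, one_mul, map_smul, Fintype.card_fin,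
              smul_eq_mul, Nat.cast_ofNat] at e ⊢
            linear_combination (norm := module) -e
        by_cases H : polar Q m x = 0
        · exact .inl H
        · right
          rw [← Submodule.smul_mem_iff _ (mul_ne_zero (inv_ne_zero h0) H)]
          exact Submodule.mem_span_singleton.2 ⟨1 - s, by
            rw [sub_smul, one_smul, ← hs, orefl_app, sub_sub_cancel]⟩
    have k1 : ∀ x y, x ∈ S → Q x ≠ 0 → Q y ≠ 0 → polar Q x y = 0 → L2.pm (ψ x) ∈ H →
        polar Q m (x - y) = 0 ∨ x - y ∈ Submodule.span F {m} → polar Q m x = 0 :=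
      fun x y hx x0 y0 hxy hxH H => by
        refine (key x hx x0 hxH).resolve_right fun H1 => ?_
        obtain ⟨s, rfl⟩ := Submodule.mem_span_singleton.1 H1
        have s0 : s ≠ 0 := by rintro rfl; simp at x0
        have hmy : polar Q m y = 0 := by simpa [s0] using hxy
        rcases H with H | H
        · simp only [oexp, hmy] at H
          exact mul_ne_zero s0 (mul_ne_zero h2 m0) (by linear_combination H)
        · obtain ⟨t, ht⟩ := Submodule.mem_span_singleton.1 H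
          have := congrArg (polar Q y) ht
          simp only [oexp, polar_comm Q y m, hmy] at this
          exact mul_ne_zero h2 y0 (by linear_combination this)
    have k2 := key _ hm hm0 mγ
    have ma := k1 a b ha ha0 hb0 hab mα k2
    have mb := k1 b a hb hb0 ha0 (by rwa [polar_comm]) mβ (by
      rw [← neg_sub, polar_neg_right, neg_eq_zero, neg_mem_iff]; exact k2)
    rcases key c hc hc0 mχ with H | H
    · have hT := nd_span_one h2 m0
      have d1 := hT.finrank_inf_perp (span_one_le hmS)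
      rw [finrank_span_singleton (o_ne_zero_of_norm m0)] at d1
      refine hcn ((eq_span_two (U := S ⊓ operp Q (Submodule.span F {m})) (by omega)
        ⟨ha, mem_operp_one.2 ma⟩ ⟨hb, mem_operp_one.2 mb⟩ (o_ne_zero_of_norm ha0) fun H => ?_).symm ▸
        ⟨hc, mem_operp_one.2 H⟩)
      obtain ⟨t, rfl⟩ := Submodule.mem_span_singleton.1 H
      simp only [oexp] at hab hb0
      exact hb0 (by rw [(mul_eq_zero.1 hab).resolve_right (mul_ne_zero h2 ha0)]; ring)
    · obtain ⟨t, rfl⟩ := Submodule.mem_span_singleton.1 H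
      exact hac (by simp only [oexp, polar_comm Q a m, ma]; ring)
  · rcases L2.A4_pow (e ⟨ρ, mρ⟩) with H | H
    · exact absurd (by rw [← pow_two]; exact htr e 2 H) ρ2
    · exact absurd (htr e 3 H) (hodd 3 (by decide))
  swap
  · rcases L2.A5_pow (e ⟨ρ, mρ⟩) with H | H | H
    · exact absurd (by rw [← pow_two]; exact htr e 2 H) ρ2
    · exact absurd (htr e 3 H) (hodd 3 (by decide))
    · exact absurd (htr e 5 H) (hodd 5 (by decide))
  have hn : ∀ x ∈ Submodule.span F {a, b}, c ∉ Submodule.span F {x} := fun x hx H =>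
    hcn (span_one_le hx H)
  have hpow : ∀ (g : H) (k : ℕ), e g ^ k = 1 ↔ g.1 ^ k = 1 := fun g k => by
    rw [← map_pow, e.map_eq_one_iff, Subtype.ext_iff]; rfl
  have hθ : ∀ x ∈ Submodule.span F {a, b}, Q x ≠ 0 → orefl Q x ∈ L →
      polar Q x c ^ 2 = 0 ∨ polar Q x c ^ 2 = Q x * Q c ∨ polar Q x c ^ 2 = 2 * (Q x * Q c) :=
    fun x hx h0 hr => by
      have hxS := span_two_le ha hb hx
      have hne := h.mul_ne_one hxS hc h0 hc0 (hn x hx)
      have ht := h.tau_mul h2 hxS hc h0 hc0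
      have := mul_ne_zero h0 hc0
      rcases L2.S4_pow (e ⟨_, H.mul_mem (hmem x hxS h0 hr) mχ⟩) with H | H <;> rw [hpow] at H
      · rw [L2.pow_three_eq_one_iff hne, ht, div_eq_one_iff_eq this] at H
        exact .inr (.inl H)
      · rw [L2.pow_four_eq_one_iff hne, ht, div_eq_iff this, div_eq_iff this, zero_mul] at H
        tauto
  have hsg : ∀ x ∈ Submodule.span F {a, b}, ∀ y ∈ Submodule.span F {a, b}, Q x ≠ 0 → Q y ≠ 0 →
      ∀ (mx : L2.pm (ψ x) ∈ H) (my : L2.pm (ψ y) ∈ H),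
      Equiv.Perm.sign (e ⟨_, mx⟩) = Equiv.Perm.sign (e ⟨_, my⟩) → polar Q x c ^ 2 = Q x * Q c →
      polar Q y c ^ 2 ≠ 2 * (Q y * Q c) := fun x hx y hy x0 y0 mx my hs a1 a2 => by
    have hxS := span_two_le ha hb hx
    have hyS := span_two_le ha hb hy
    have n1 := h.mul_ne_one hxS hc x0 hc0 (hn x hx)
    have n2 := h.mul_ne_one hyS hc y0 hc0 (hn y hy)
    have u2 : L2.tau (L2.pm (ψ y) * L2.pm (ψ c)) = 2 := by
      rw [h.tau_mul h2 hyS hc y0 hc0, a2]; field_simp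
    have := S4_sign (e (⟨_, mx⟩ * ⟨_, mχ⟩)) (e (⟨_, my⟩ * ⟨_, mχ⟩)) (by simp only [map_mul, hs])
      ((hpow _ _).2 ((L2.pow_three_eq_one_iff n1).2 (by
        rw [h.tau_mul h2 hxS hc x0 hc0, a1]; field_simp)))
      ((hpow _ _).2 ((L2.pow_four_eq_one_iff n2).2 (.inr u2)))
    rw [← pow_two, hpow, pow_two] at this
    exact h2 (u2 ▸ (L2.mul_self_eq_one_iff_tau n2).1 this)
  have hs : Equiv.Perm.sign (e ⟨_, mα⟩) = Equiv.Perm.sign (e ⟨_, mβ⟩) := by
    have : (⟨_, mβ⟩ : H) = ⟨_, mγ⟩ * ⟨_, mα⟩ * ⟨_, mγ⟩⁻¹ := Subtype.ext (by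
      change _ = L2.pm _ * L2.pm _ * (L2.pm _)⁻¹
      rw [L2.pm_conj (h.det_ne ha ha0) (h.det_ne hm hm0) (h.refl hm hm0 ha), e1,
        L2.pm_smul (by simp)])
    rw [this, map_mul, map_mul, map_mul, map_mul, map_inv, map_inv, mul_right_comm, mul_inv_cancel,
      one_mul]
  have sa := mem_span_two_left (F := F) a b
  have sb := mem_span_two_right (F := F) a b
  have θa := hθ a sa ha0 r1
  have θb := hθ b sb hb0 r4
  have θm := hθ _ (Submodule.sub_mem _ sa sb) hm0 r2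
  have θp := hθ _ (Submodule.add_mem _ sa sb) hp0 r5
  have s1 := hsg a sa b sb ha0 hb0 mα mβ hs
  have s2 := hsg b sb a sa hb0 ha0 mβ mα hs.symm
  rw [q1, polar_sub_left] at θm
  rw [q2, polar_add_left] at θp
  rw [hba] at θb s1 s2
  have N0 := mul_ne_zero ha0 hc0
  simp only [mul_assoc] at θm θp
  generalize Q a * Q c = N at *
  generalize polar Q a c = p at *
  generalize polar Q b c = r at *
  rcases θa with θa | θa | θa
  · exact absurd (pow_eq_zero_iff two_ne_zero |>.1 θa) hac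
  · rcases θb with θb | θb | θb
    · exfalso
      rw [pow_eq_zero_iff two_ne_zero |>.1 θb, add_zero, θa] at θp
      rcases θp with H | H | H
      exacts [N0 H, N0 (by linear_combination -H), mul_ne_zero h3' N0 (by linear_combination -H)]
    · exact .inr ⟨θa, θb⟩
    · exact absurd θb (s1 θa)
  · rcases θb with θb | θb | θb
    · exact .inl ⟨pow_eq_zero_iff two_ne_zero |>.1 θb, θa⟩
    · exact absurd θa (s2 θb)
    · exfalso
      have z : (p - r) * (p + r) = 0 := by linear_combination θa - θb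
      have w : (p - r) ^ 2 + (p + r) ^ 2 = 8 * N := by linear_combination 2 * θa + 2 * θb
      have f : ∀ x : F, x ^ 2 = 8 * N → ¬ (x ^ 2 = 0 ∨ x ^ 2 = 2 * N ∨ x ^ 2 = 2 * (2 * N)) := by
        rintro x hx (H | H | H)
        · exact mul_ne_zero (mul_ne_zero h2 h4) N0 (by linear_combination H - hx)
        · exact mul_ne_zero (mul_ne_zero h2 h3') N0 (by linear_combination H - hx)
        · exact mul_ne_zero h4 N0 (by linear_combination H - hx)
      rcases mul_eq_zero.1 z with z | z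
      · exact f _ (by rw [← w, z]; ring) θp
      · exact f _ (by rw [← w, z]; ring) θm

end Cfsg.Agent.Cl.MaxO
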