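/-
Explicit matrices for `2.L₂(7) < 2.A₇ < SL₄` over `ℤ[b]`, `b ^ 2 + b + 2 = 0`.
-/
import Mathlib
import Cfsg.Agent.Inv.G168
import Cfsg.Agent.Sym.Present

set_option autoImplicit false
set_option maxRecDepth 100000
set_option exponentiation.threshold 100000

namespace Cfsg.Agent.Cl.D4.L27b

open Matrix Equiv Cfsg.Agent.Sym Cfsg.Agent.Inv

/-- The ring of integers of `ℚ(√-7)`. -/
abbrev R : Type := QuadraticAlgebra ℤ (-2) (-1)

/-- Matrices over `R`. -/
abbrev MR : Type := Matrix (Fin 4) (Fin 4) R

/-- Packed matrices. -/
def tb : ℕ := nat_lit 0x80808080808280807e7e82808080808080807e80807e80828080808082828082808080807e7e8080817e81847f808180817e807e80827e7e808280807e807f7e80808080808480807d7e837e81847f7c7d7c7e82828280848280808082827f82808080807e8280807e7c84827e82827e807a7e8080847e828284808080827e7e80807f7f80807f7f7f7d81818080808281817f7f817f80808080808080827f7f817f8080807f807e82807f827e7e81828180817d7f80807e808181817f7f807e7f7d80827e7f7e807e7c83827e84837e7f7c7b7b7f827e808281817f81837c80817d7f817e7e7e7e807c82847b7f8583827c7d797d817d7d818382807f817d7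b80807f817e7c7f8181817f8180808280817f817f7f817e7c808080807e807f7f7f7d8080827f7e7e80827f7e808081827f827f7f7f7e8280807f817f817f80807d7f82827c7d808482807f828080817e81827d7f7f847e7e80817f7d7f8180827d7b81837e7c7e8282827e808181817f7e827d7d7f817f7f7f7f807c7f817f8180808280808080808082807e8082807e80807e827e8280808080807e807c828281827f80818281807e7e828080807f807f7e8180817e80828080808281827f8081807f80837e7f7e80847e7c82807f827f8283827f7c82807e7e80807f7c818082827e7e8482807e7e82807c82827e807e7e8484827e8282807e8082807e80807f7f7f7e80818081807f818080807f7f7f7f807f81817f817f7f808081817f80818080818081807f7f817f7f807f818280817f80808081807f807f7f808081817f7f807e80808081807f818181807f807f7f807e807f80827f7f807f81807f8180808081818080808080807f8080808180808080807f818180818080807e8182818081817f7f807f7f807f7f8180808180808080807f80817f7f807f81807f8180817f81818180807f7e807e80817f807f807f7f818080827f7f807f81807f81807e817f80807f80818181828080807f807f817f807f808180808180807f8081807e818080817f7f8181808180808080807f808080818080808080808080808180818081818080807f7f807f8080808180818080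807f818180808180807f80818080808181827f7f80817f807f7f8180808180818080808080818081807f808080817f80807f81817f7f807f81817f8180817f808080818180808080808080818080808081817f80807f807f7f81807f807f808081827f7f807f807f8081808080817f807f80818080808180807e80818080807f7f7f818180808180807f8081807f808080827f7e80808080807f8181808080818080807f80808081818080808080807f807f8081808180818080807f80818080807f808180818081807f8080808180808080808080808081808080808080808080818080808080808080808180877d7b7f838080837e80878482818481847c7e80877d8280807f838385808780878385817d7c7e7d82808780807f7c7f7c80808087837e8482817d7d7b8087807f80808081807f8080807f80808081807f807f808080808080807f8080808080808080807f81818080808081817f8081808181807f8080818180818080807f808080807f7f81808080808081808081807f8180807f8080818081818080807f7f7f80808180808180807f7f80818080808080818180808080817f8080808180807f8080808180808080807f807f8081807f808080808080807f807f80808080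

/-- Packed permutations. -/
def pt : ℕ := nat_lit 0x421306562135404150632041625330156241543062540231621463056105432561420335104264603125106354206523144265013645312021643506240513524063145013261306254143562031502464526301246105330426512306145054312652046136345012026543160513241354206163042531052646024351264150335624012354160506312402564134360512064132562045315630241632105441326503420516052614315340263146250035461250421365461320425603104352614321506613240536250145024163103652431642055306412056213436140251345260016453202314651024536263051461234504036251465213034165201360245514603252316401526034243501641236056534201640213540152634562310350146203126542614530560321405341622063451623150421503646510243604231530516425312406241603504532165036142254360142310562105346521360423601541402653451036232041653461502542036125016430213456234510616524036015342325614036410520625341205146314536026420153260354112403654105623156204303216451603452462510324530611265340615042310425635321460365204101235460345621631204516254303402561512306453604214312560142063551320463526410564123020154360132564302461504612352510634203641540512365416302253461065012340614352643510212563044630152120435632651046354021324015643065215164023014652340632156543210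

/-- An integer of the table. -/
def ent (n : ℕ) : ℤ := Int.subNatNat (Nat.land (Nat.shiftRight tb (Nat.mul 8 n)) 255) 128

/-- A ring element of the table. -/
def er (n : ℕ) : R := ⟨ent (Nat.mul 2 n), ent (Nat.succ (Nat.mul 2 n))⟩

/-- A matrix of the table. -/
def mx (k : ℕ) : MR := of fun i j => er (16 * k + 4 * i.1 + j.1)

/-- Conjugation. -/
def cjR (z : R) : R := ⟨z.re - z.im, -z.im⟩

theorem x_three : ∀ i : Fin 7, i ≠ 5 → i ≠ 6 → mx i * (mx i * mx i) = 1 := by decide +kernel

theorem x_two : ∀ i j : Fin 7, i ≠ 5 → i ≠ 6 → j ≠ 5 → j ≠ 6 → i ≠ j →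
    mx i * mx j * (mx i * mx j) = -1 := by decide +kernel

theorem x_det : ∀ i : Fin 7, i ≠ 5 → i ≠ 6 → (mx i).det = 1 := by decide +kernel

theorem x_herm : ∀ i : Fin 7, i ≠ 5 → i ≠ 6 → (mx i)ᵀ * mx 5 * (mx i).map cjR = mx 5 := by
  decide +kernel

theorem s_herm : mx 5 = ((mx 5).map cjR)ᵀ := by decide +kernel

theorem s_inv : mx 5 * mx 6 = (7 : R) • (1 : MR) := by decide +kernel

theorem x_zero : mx 0 0 2 = -1 := by decide +kernel

theorem w_zero : mx 7 = 1 := by decide +kernel

theorem w_one : mx 8 = mx 0 * mx 4 := by decide +kernel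

theorem w_two : mx 9 = mx 2 * mx 3 * (mx 1 * mx 0) := by decide +kernel

theorem w_step : ∀ k < 16, 3 ≤ k → ∃ i < k, ∃ j < k, mx (7 + k) = mx (7 + i) * mx (7 + j) := by
  have : ∀ k < 16, 3 ≤ k → let i := [0, 0, 0, 2, 1, 4, 1, 4, 5, 8, 6, 1, 7, 8, 2, 13].getD k 0
      let j := [0, 0, 0, 2, 2, 1, 3, 6, 5, 3, 5, 5, 5, 10, 11, 3].getD k 0
      i < k ∧ j < k ∧ mx (7 + k) = mx (7 + i) * mx (7 + j) := by decide +kernel
  exact fun k h h' => ⟨_, (this k h h').1, _, (this k h h').2⟩

theorem w_span : ∀ i j : Fin 4, ∑ k : Fin 16, er (16 * (23 + 4 * i.1 + j.1) + k.1) • mx (7 + k.1) =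
    (2 : R) • single i j 1 := by decide +kernel

/-- An off-diagonal minor. -/
def mnr {A : Type*} [CommRing A] (M : Matrix (Fin 4) (Fin 4) A) : A :=
  M 0 2 * M 1 3 - M 0 3 * M 1 2

theorem mnr_a : mnr (mx 1) * (-2) = 2 := by decide +kernel

theorem mnr_b : mnr (mx 1 * mx 4 * (mx 0 * mx 3)) * ⟨0, 1⟩ = 2 := by decide +kernel

theorem mnr_c : mnr (mx 4 * mx 3 * mx 1) * (-2) = 2 := by decide +kernel

/-- The generating 3-cycles. -/
def cc (i : Fin 7) (h : 6 ≠ i := by decide) : alternatingGroup (Fin 7) :=
  altCyc3 (show (5 : Fin 7) ≠ 6 by decide) h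

theorem conj_of {r y : alternatingGroup (Fin 7)} {t : Perm (Fin 7)} (ht : Perm.sign t = -1)
    (hc : t * r = r * t) (h : (r : Perm (Fin 7)).cycleType = (y : Perm (Fin 7)).cycleType) :
    IsConj r y := by
  obtain ⟨s, hs⟩ := isConj_iff.1 (Perm.isConj_iff_cycleType_eq.2 h)
  rcases Int.units_eq_one_or (Perm.sign s) with h1 | h1
  · exact isConj_iff.2 ⟨⟨s, h1⟩, Subtype.ext hs⟩
  · refine isConj_iff.2 ⟨⟨s * t, by simp [h1, ht]⟩, Subtype.ext ?_⟩
    change s * t * r * (s * t)⁻¹ = y
    rw [mul_assoc s, hc, ← hs]; group

theorem ct_a : ((cc 1 :) : Perm (Fin 7)).cycleType = Multiset.replicate (0 + 1) 3 := by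
  decide +kernel

theorem ct_b : ((cc 1 * cc 4 * (cc 0 * cc 3) :) : Perm (Fin 7)).cycleType =
    Multiset.replicate (1 + 1) 3 := by decide +kernel

theorem ct_c : ((cc 4 * cc 3 * cc 1 :) : Perm (Fin 7)).cycleType = Multiset.replicate (0 + 1) 5 := by
  decide +kernel

theorem classes {y : alternatingGroup (Fin 7)} {p : ℕ} (hp : p.Prime) (h2 : p ≠ 2) (h7 : p ≠ 7)
    (hy : orderOf y = p) :
    IsConj (cc 1) y ∨ IsConj (cc 1 * cc 4 * (cc 0 * cc 3)) y ∨ IsConj (cc 4 * cc 3 * cc 1) y := by
  rw [← Subgroup.orderOf_coe] at hy
  obtain ⟨n, hn⟩ := Perm.cycleType_prime_order (hy ▸ hp)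
  have h1 := Perm.sum_cycleType_le (y : Perm (Fin 7))
  rw [hy] at hn
  rw [hn, Multiset.sum_replicate, smul_eq_mul, Fintype.card_fin] at h1
  have h3 := hp.two_le
  have h4 : p ≤ 7 := le_trans (Nat.le_mul_of_pos_left p n.succ_pos) h1
  have h5 : (p = 3 ∧ (n = 0 ∨ n = 1)) ∨ (p = 5 ∧ n = 0) := by
    interval_cases p <;> first | omega | exact absurd hp (by decide)
  rcases h5 with ⟨rfl, rfl | rfl⟩ | ⟨rfl, rfl⟩
  · exact .inl (conj_of (t := swap 0 2) (by decide +kernel) (by decide +kernel)
      (ct_a.trans hn.symm))
  · exact .inr (.inl (conj_of (t := swap 0 3 * swap 1 4 * swap 5 6) (by decide +kernel)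
      (by decide +kernel) (ct_b.trans hn.symm)))
  · exact .inr (.inr (conj_of (t := swap 0 2) (by decide +kernel) (by decide +kernel)
      (ct_c.trans hn.symm)))

/-- The action of the group of order `168` on seven points. -/
def act (x : G168.T) (i : Fin 7) : Fin 7 :=
  ⟨Nat.mod (Nat.land (Nat.shiftRight pt (Nat.mul 4 (Nat.add (Nat.mul 7 x.1) i.1))) 15) 7,
    Nat.mod_lt _ (by decide)⟩

theorem act_one : ∀ i, act 1 i = i := by decide +kernel

theorem act_a : ∀ x i, act (x * G168.el 1) i = act x (act (G168.el 1) i) := by decide +kernel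

theorem act_b : ∀ x i, act (x * G168.el 2) i = act x (act (G168.el 2) i) := by decide +kernel

theorem act_mul (x y : G168.T) (i : Fin 7) : act (x * y) i = act x (act y i) := by
  induction y using G168.induct generalizing i with
  | h1 => rw [mul_one, act_one]
  | ha y ih => rw [← mul_assoc, act_a, ih, act_a y]
  | hb y ih => rw [← mul_assoc, act_b, ih, act_b y]

theorem exists_hom : ∃ θ : G168.T →* alternatingGroup (Fin 7), Function.Injective θ ∧
    θ (G168.el 1) = cc 0 * cc 4 ∧ θ (G168.el 2) = cc 2 * cc 3 * (cc 1 * cc 0) := by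
  let _ : MulAction G168.T (Fin 7) := { smul := act, one_smul := act_one, mul_smul := act_mul }
  have h1 : MulAction.toPermHom G168.T (Fin 7) (G168.el 1) = (cc 0 * cc 4 :) :=
    Equiv.ext (show ∀ i, act (G168.el 1) i = ((cc 0 * cc 4 :) : Perm (Fin 7)) i by decide +kernel)
  have h2 : MulAction.toPermHom G168.T (Fin 7) (G168.el 2) = (cc 2 * cc 3 * (cc 1 * cc 0) :) :=
    Equiv.ext (show ∀ i, act (G168.el 2) i = ((cc 2 * cc 3 * (cc 1 * cc 0) :) : Perm (Fin 7)) i by
      decide +kernel)
  have h3 : ∀ x, MulAction.toPermHom G168.T (Fin 7) x ∈ alternatingGroup (Fin 7) := fun x => by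
    induction x using G168.induct with
    | h1 => rw [map_one]; exact one_mem _
    | ha x ih => rw [map_mul, h1]; exact mul_mem ih (Subtype.prop _)
    | hb x ih => rw [map_mul, h2]; exact mul_mem ih (Subtype.prop _)
  refine ⟨MonoidHom.codRestrict _ _ h3, ?_, Subtype.ext h1, Subtype.ext h2⟩
  rw [← MonoidHom.ker_eq_bot_iff]
  refine (IsSimpleGroup.eq_bot_or_eq_top_of_normal _ inferInstance).resolve_right fun e => ?_
  have h4 : G168.el 1 ∈ (MonoidHom.codRestrict _ _ h3).ker := e ▸ Subgroup.mem_top _
  have h5 := congrArg Subtype.val (MonoidHom.mem_ker.1 h4)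
  exact absurd (h1.symm.trans h5) (by decide +kernel)

end Cfsg.Agent.Cl.D4.L27b
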