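/-
The model `2.L₂(7) < 2.A₇ < SL₄`.
-/
import Mathlib
import Cfsg.Agent.Cl.D4W
import Cfsg.Agent.Cl.D4L27bD
import Cfsg.Agent.S0495

set_option autoImplicit false
set_option linter.unusedSectionVars false

namespace Cfsg.Agent.Cl.D4

open Matrix Cfsg.Geo Cfsg.Agent.Cl.Max Cfsg.Agent.Cl.Mx Subgroup
open Cfsg.Agent.Cl.D5 (MT Root TrGen Cov NoTv)
open scoped MatrixGroups commutatorElement

variable {F : Type*} [Field F] [Fintype F] {G : Type*} [Group G] {P : Subgroup (G4 F)}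
  {π : P →* G}

namespace L27b

theorem ctx_of_pc (h : PC P π) (hs : Spans P) (hG : IsSimpleGroup G) (hn : ¬ IsMulCommutative G) :
    Ctx ⁅P, P⁆ (π.comp (inclusion (commutator_le_self P))) := by
  have h1 : (commutator P).map π = ⊤ := by
    rw [map_commutator_eq, MonoidHom.range_eq_top.2 h.surj, ← commutator_def,
      commutator_top_of_simple hG hn]
  have h2 : ∀ x : G, ∃ a : P, π a = x ∧ (a : G4 F) ∈ ⁅P, P⁆ := fun x => by
    obtain ⟨a, ha, e⟩ : x ∈ (commutator P).map π := h1 ▸ mem_top _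
    exact ⟨a, e, mem_commutator_iff.1 ha⟩
  have h3 : ∀ {N : Subgroup (G4 F)}, N ≤ P → (N.subgroupOf P).map π = ⊤ → ⁅P, P⁆ ≤ ⁅N, N⁆ :=
    fun {N} hN e => by
      have := Subgroup.map_mono (f := P.subtype) (h.commutator_le e)
      rwa [Subgroup.map_subtype_commutator, Subgroup.map_commutator, subgroupOf_map_subtype,
        inf_eq_left.2 hN] at this
  have h0 : (⁅P, P⁆.subgroupOf P).map π = ⊤ := by
    rw [← h1]
    congr 1
    exact Subgroup.ext fun a => mem_commutator_iff.symm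
  refine ⟨⟨commutator_le_sl P, fun x => ?_, fun g => h.ker _⟩, ⟨by simp,
    le_antisymm (commutator_le_self _) (h3 (commutator_le_self P) h0),
    h.mem_of_gen hs (S := (⁅P, P⁆.subgroupOf P : Subgroup P))
      (by rw [← coe_map, closure_eq, h0]) _ fun a ha => coe_mem_spanAlg ha,
    fun N hN hn => ?_⟩, hG, hn⟩
  · obtain ⟨a, e, ha⟩ := h2 x
    exact ⟨⟨a, ha⟩, e⟩
  have hN' := hN.trans (commutator_le_self P)
  refine (hG.eq_bot_or_eq_top_of_normal ((N.subgroupOf P).map π) ⟨?_⟩).imp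
    (fun e g hg => (h.ker ⟨g, hN' hg⟩).1 (Subgroup.mem_bot.1 (e.le (mem_map_of_mem π hg))))
    fun e => le_antisymm hN ((h3 hN' e).trans (commutator_le_self _))
  rintro _ ⟨a, ha, rfl⟩ x
  obtain ⟨b, rfl, hb⟩ := h2 x
  exact ⟨b * a * b⁻¹, hn _ hb _ ha, by simp⟩

/-- The projective general linear group. -/
abbrev PG (F : Type*) [Field F] := G4 F ⧸ scalars (Fin 4) F

/-- The projection. -/
abbrev pj : G4 F →* PG F := QuotientGroup.mk' (scalars (Fin 4) F)

theorem pj_eq_one {g : G4 F} : pj g = 1 ↔ g ∈ scalars (Fin 4) F := QuotientGroup.eq_one_iff g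

/-- Classes of transvections. -/
def TV (γ : PG F) : Prop :=
  ∃ g : G4 F, pj g = γ ∧ ∃ v χ : Fin 4 → F, ∀ y, (g : M4 F) *ᵥ y = y + (χ ⬝ᵥ y) • v

theorem TV.conj {γ δ : PG F} (h : TV δ) (e : IsConj γ δ) : TV γ := by
  obtain ⟨k, rfl⟩ := isConj_iff.1 e.symm
  obtain ⟨k, rfl⟩ := QuotientGroup.mk'_surjective _ k
  obtain ⟨g, rfl, v, χ, e⟩ := h
  refine ⟨k * g * k⁻¹, by simp, (k : M4 F) *ᵥ v, χ ᵥ* ((k⁻¹ : G4 F) : M4 F), fun y => ?_⟩
  rw [mul_mulVec, mul_mulVec, e, mulVec_add, mulVec_smul, mulVec_inv_mulVec, dotProduct_mulVec]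

theorem TV.mnr {r : G4 F} (h : TV (pj r)) : mnr (r : M4 F) = 0 := by
  obtain ⟨g, e, v, χ, h⟩ := h
  obtain ⟨z, hz, rfl⟩ := (QuotientGroup.mk'_eq_mk' _).1 e
  obtain ⟨c, -, hc⟩ := coe_eq_smul_of_mem_scalars hz
  have h1 : (g : M4 F) = 1 + vecMulVec v χ := ext_of_mulVec_single fun i => by
    rw [h, add_mulVec, one_mulVec, vecMulVec_mulVec]; simp
  rw [Units.val_mul, hc, h1]
  simp [L27b.mnr, vecMulVec_apply]
  ring

theorem spans_of (h2 : (2 : F) ≠ 0) (ev : R →+* F) {H : Subgroup (G4 F)}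
    (ha : Mem H ((mx 8).map ev)) (hb : Mem H ((mx 9).map ev)) : Spans H := by
  have h1 : ∀ k < 16, Mem H ((mx (7 + k)).map ev) := fun k => by
    induction k using Nat.strong_induction_on with
    | _ k ih =>
      intro hk
      by_cases h3 : 3 ≤ k
      · obtain ⟨i, hi, j, hj, e⟩ := w_step k hk h3
        rw [e, Matrix.map_mul]
        exact (ih i hi (by omega)).mul (ih j hj (by omega))
      · obtain rfl | rfl | rfl : k = 0 ∨ k = 1 ∨ k = 2 := by omega
        · exact ⟨1, H.one_mem, by rw [w_zero]; simp⟩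
        · exact ha
        · exact hb
  have h3 : ∀ i j : Fin 4, single i j (1 : F) ∈ spanAlg H := fun i j => by
    have e := congrArg ev.mapMatrix (w_span i j)
    have e1 : ∀ (c : R) (M : MR), ev.mapMatrix (c • M) = ev c • M.map ev := fun c M => by
      ext; simp
    rw [map_sum, e1, map_ofNat, Matrix.map_single, map_one] at e
    rw [← inv_smul_smul₀ h2 (single i j (1 : F)), ← e]
    refine Subalgebra.smul_mem _ (Subalgebra.sum_mem _ fun k _ => ?_) _
    obtain ⟨g, hg, e2⟩ := h1 k k.2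
    rw [e1, ← e2]
    exact Subalgebra.smul_mem _ (coe_mem_spanAlg hg) _
  intro X
  rw [matrix_eq_sum_single X]
  refine Subalgebra.sum_mem _ fun i _ => Subalgebra.sum_mem _ fun j _ => ?_
  have := Subalgebra.smul_mem _ (h3 i j) (X i j)
  rwa [smul_single, smul_eq_mul, mul_one] at this

end L27b

open L27b in
/-- The model: `2.L₂(7) < 2.A₇ < SL₄`. -/
theorem exists_model (h2 : (2 : F) ≠ 0) (h7 : (7 : F) ≠ 0) {b : F} (hb : b ^ 2 + b + 2 = 0) :
    ∃ (K P₀ : Subgroup (G4 F)) (L : Subgroup (alternatingGroup (Fin 7))) (π₀ : P₀ →* L),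
      Ctx P₀ π₀ ∧ IsoL2 L 7 ∧ P₀ ≤ K ∧ K ≤ specialLinear (Fin 4) F ∧
      ¬ K ≤ P₀ ⊔ scalars (Fin 4) F ∧ NoTv (K ⊔ scalars (Fin 4) F) ∧
      ∀ σ : F →+* F, (∀ a, σ (σ a) = a) → σ b = -1 - b →
        ∃ f : (Fin 4 → F) → (Fin 4 → F) → F, HForm σ 1 f ∧ K ≤ isoG f := by
  obtain ⟨ev, hev⟩ : ∃ ev : R →+* F, ∀ z, ev z = z.re + z.im * b :=
    ⟨(QuadraticAlgebra.lift ⟨b, by simp; linear_combination hb⟩ : R →ₐ[ℤ] F), fun z => by simp⟩
  have hx : ∀ i : Fin 7, i ≠ 5 → i ≠ 6 → ∃ g : G4 F, (g : M4 F) = (mx i).map ev := fun i h h' =>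
    ⟨GeneralLinearGroup.mkOfDetNeZero ((mx i).map ev) (by
      rw [← RingHom.mapMatrix_apply, ← RingHom.map_det, x_det i h h']; simp), rfl⟩
  have : Nonempty (G4 F) := ⟨1⟩
  choose! x hx using hx
  obtain ⟨φ, hφ⟩ := Sym.exists_hom_of_carmichael (show (5 : Fin 7) ≠ 6 by decide)
    (fun i => pj (x i)) (fun i h h' => by
      rw [← map_pow, show x i ^ 3 = 1 from Units.ext (by
        rw [pow_three, Units.val_mul, Units.val_mul, hx i h h', ← Matrix.map_mul, ← Matrix.map_mul,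
          x_three i h h']; simp), map_one])
    (fun i j h1 h3 h4 h5 h6 => by
      rw [← map_mul, ← map_pow, pj_eq_one]
      refine mem_scalars_of_eq_smul (c := -1) ?_
      rw [pow_two, Units.val_mul, Units.val_mul, hx i h1 h3, hx j h4 h5, ← Matrix.map_mul,
        ← Matrix.map_mul, x_two i j h1 h3 h4 h5 h6, ← RingHom.mapMatrix_apply, map_neg, map_one,
        neg_one_smul])
  have hs7 := alternatingGroup.isSimpleGroup (α := Fin 7) (by simp)
  have hi : Function.Injective φ := by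
    rw [← MonoidHom.ker_eq_bot_iff]
    refine (hs7.eq_bot_or_eq_top_of_normal _ inferInstance).resolve_right fun e => ?_
    have h4 : cc 0 ∈ φ.ker := e ▸ Subgroup.mem_top _
    rw [MonoidHom.mem_ker, cc, hφ 0 (by decide), pj_eq_one] at h4
    obtain ⟨c, -, hc⟩ := coe_eq_smul_of_mem_scalars h4
    have h5 := congrFun (congrFun hc 0) 2
    rw [hx 0 (by decide) (by decide)] at h5
    simp [x_zero] at h5
  let K : Subgroup (G4 F) := closure (Set.range fun i : {i : Fin 7 // i ≠ 5 ∧ i ≠ 6} => x i)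
  have hxK : ∀ i : Fin 7, i ≠ 5 → i ≠ 6 → x i ∈ K := fun i h h' => subset_closure ⟨⟨i, h, h'⟩, rfl⟩
  have hr : K.map pj = φ.range := by
    rw [MonoidHom.range_eq_map, ← Sym.closure_altCyc3 (show (5 : Fin 7) ≠ 6 by decide),
      MonoidHom.map_closure, MonoidHom.map_closure, ← Set.range_comp, ← Set.range_comp]
    congr 2
    exact funext fun i => (hφ i i.2.1 _).symm
  let Lk : MR → alternatingGroup (Fin 7) → Prop := fun M y =>
    ∃ g ∈ K, (g : M4 F) = M.map ev ∧ pj g = φ y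
  have lk1 : ∀ (i : Fin 7) (h : 6 ≠ i), i ≠ 5 → Lk (mx i) (cc i h) := fun i h h' =>
    ⟨x i, hxK i h' h.symm, hx i h' h.symm, (hφ i h' h).symm⟩
  have lkm : ∀ {M N y z}, Lk M y → Lk N z → Lk (M * N) (y * z) :=
    fun ⟨g, h1, h3, h4⟩ ⟨k, h5, h6, h8⟩ => ⟨g * k, K.mul_mem h1 h5,
      by rw [Units.val_mul, h3, h6, Matrix.map_mul], by rw [map_mul, map_mul, h4, h8]⟩
  have l0 := lk1 0 (by decide) (by decide)
  have l1 := lk1 1 (by decide) (by decide)
  have l2 := lk1 2 (by decide) (by decide)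
  have l3 := lk1 3 (by decide) (by decide)
  have l4 := lk1 4 (by decide) (by decide)
  obtain ⟨θ, hθ, t1, t2⟩ := exists_hom
  let H : Subgroup (G4 F) := K ⊓ (θ.range.map φ).comap pj
  let e := Subgroup.equivMapOfInjective θ.range φ hi
  let πH : H →* θ.range := e.symm.toMonoidHom.comp
    ((pj.comp H.subtype).codRestrict (θ.range.map φ) fun h => h.2.2)
  have hπ : ∀ h : H, φ (πH h) = pj h := fun h =>
    congrArg Subtype.val (e.apply_symm_apply ⟨pj h, h.2.2⟩)
  have hpc : PC H πH := ⟨fun l => by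
      obtain ⟨g, hg, e1⟩ : φ l ∈ K.map pj := hr ▸ ⟨l, rfl⟩
      exact ⟨⟨g, hg, l, l.2, e1.symm⟩, Subtype.ext (hi ((hπ _).trans e1))⟩,
    fun g => by
      rw [← pj_eq_one, ← hπ, map_eq_one_iff _ hi, OneMemClass.coe_eq_one]⟩
  have hmem : ∀ {M y}, Lk M y → y ∈ θ.range → Mem H (M.map ev) := fun ⟨g, h1, h3, h4⟩ hy =>
    ⟨g, ⟨h1, _, hy, h4.symm⟩, h3⟩
  have eT := MonoidHom.ofInjective hθ
  have hsL : IsSimpleGroup θ.range := eT.symm.isSimpleGroup
  have hcL : Nat.card θ.range = 168 := (Nat.card_congr eT.toEquiv).symm.trans Inv.G168.card_T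
  have hnL : ¬ IsMulCommutative θ.range := fun hc => by
    have := hc.is_comm.comm ⟨_, Inv.G168.el 1, rfl⟩ ⟨_, Inv.G168.el 2, rfl⟩
    have h3 := congrArg Subtype.val this
    simp only [Subgroup.coe_mul, ← map_mul] at h3
    exact absurd (hθ h3) (by decide +kernel)
  have := Fact.mk (show Nat.Prime 7 by decide)
  refine ⟨K, ⁅H, H⁆, θ.range, _, ctx_of_pc hpc (spans_of h2 ev
      (w_one ▸ hmem (lkm l0 l4) ⟨_, t1⟩) (w_two ▸ hmem (lkm (lkm l2 l3) (lkm l1 l0)) ⟨_, t2⟩))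
      hsL hnL, ⟨ZMod 7, inferInstance, inferInstance, ZMod.card 7,
      S0495.result hcL (ZMod.card 7)⟩, (commutator_le_self H).trans inf_le_left, ?_, fun hK => ?_,
      ?_, fun σ hσ hσb => ?_⟩
  · rw [closure_le]
    rintro _ ⟨i, rfl⟩
    refine (mem_specialLinear_iff _).2 ?_
    rw [hx i i.2.1 i.2.2, ← RingHom.mapMatrix_apply, ← RingHom.map_det, x_det i i.2.1 i.2.2, map_one]
  · have h1 : K ≤ (θ.range.map φ).comap pj := hK.trans (sup_le
      ((commutator_le_self H).trans inf_le_right) fun g hg => by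
        rw [mem_comap, pj_eq_one.2 hg]; exact one_mem _)
    have h3 : θ.range = ⊤ := eq_top_iff.2 fun y _ => by
      obtain ⟨g, hg, e1⟩ : φ y ∈ K.map pj := hr ▸ ⟨y, rfl⟩
      have := h1 hg
      rwa [mem_comap, e1, mem_map_iff_mem hi] at this
    rw [h3, card_top, nat_card_alternatingGroup] at hcL
    simp [Nat.factorial] at hcL
  · rintro v χ ⟨h0, g, hg, e1⟩
    by_contra hne
    push Not at hne
    have h1 : K ⊔ scalars (Fin 4) F ≤ φ.range.comap pj := sup_le
      (fun g hg => hr ▸ mem_map_of_mem _ hg) fun g hg => by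
        rw [mem_comap, pj_eq_one.2 hg]; exact one_mem _
    obtain ⟨y, hy⟩ := h1 hg
    obtain ⟨p, hp⟩ := CharP.exists F
    have hp' := CharP.char_is_prime F p
    have h3 : ∀ (n : ℕ) u, ((g ^ n : G4 F) : M4 F) *ᵥ u = u + ((n : F) * χ ⬝ᵥ u) • v := fun n => by
      induction n with
      | zero => simp
      | succ n ih =>
        intro u
        rw [pow_succ', mul_mulVec, ih, e1]
        simp only [dotProduct_add, dotProduct_smul, h0, smul_zero, add_zero, Nat.cast_succ]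
        module
    have h4 : g ^ p = 1 := gl_ext fun u => by rw [h3]; simp
    have h5 : y ≠ 1 := fun e => by
      obtain ⟨u, hu⟩ : ∃ u, χ ⬝ᵥ u ≠ 0 := by
        by_contra hu
        push Not at hu
        exact hne.2 (dotProduct_eq_zero _ hu)
      refine notMem_scalars_of_fix (g := g) (v := u) hne.1 (by rw [e1, h0, zero_smul, add_zero]) ?_
        (pj_eq_one.1 (by rw [← hy, e, map_one]))
      rw [e1]
      simp [hu, hne.1]
    have := Fact.mk hp'
    have h6 : orderOf y = p := orderOf_eq_prime (hi (by rw [map_pow, hy, ← map_pow, h4]; simp)) h5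
    have h8 : ∀ {M r} {c : R}, Lk M r → mnr M * c = 2 → ¬ IsConj r y :=
      fun {M r c} ⟨k, _, h9, h10⟩ hc hj => by
        have h11 : TV (pj k) := TV.conj ⟨g, hy.symm, v, χ, e1⟩ (h10 ▸ φ.map_isConj hj)
        have h12 : mnr (M.map ev) = ev (mnr M) := by simp [mnr]
        have h13 := congrArg ev hc
        rw [map_mul, ← h12, ← h9, h11.mnr, zero_mul, map_ofNat] at h13
        exact h2 h13.symm
    rcases classes hp' (fun e => h2 (by exact_mod_cast e ▸ CharP.cast_eq_zero F p))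
      (fun e => h7 (by exact_mod_cast e ▸ CharP.cast_eq_zero F p)) h6 with h | h | h
    · exact h8 l1 mnr_a h
    · exact h8 (lkm (lkm l1 l4) (lkm l0 l3)) mnr_b h
    · exact h8 (lkm (lkm l4 l3) l1) mnr_c h
  · have hc : ∀ z, σ (ev z) = ev (cjR z) := fun z => by
      simp only [hev, cjR, map_add, map_mul, map_intCast, hσb]
      push_cast
      ring
    have hc' : ∀ M : MR, (M.map ev).map σ = (M.map cjR).map ev := fun M => by
      ext; simp [hc]
    refine ⟨formOfGram σ ((mx 5).map ev), hform_formOfGram hσ (.inl rfl) ?_ fun i j => ?_, ?_⟩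
    · refine IsUnit.of_mul_eq_one ((7 : F)⁻¹ • (mx 6).map ev) ?_
      rw [mul_smul_comm, ← Matrix.map_mul, s_inv]
      ext i j
      by_cases h : i = j <;> simp [h, map_ofNat, h7, one_apply]
    · rw [one_mul, map_apply, map_apply, hc]
      exact congrArg ev (congrFun (congrFun s_herm i) j)
    · rw [closure_le]
      rintro _ ⟨i, rfl⟩ u v
      have e1 := congrArg ev.mapMatrix (x_herm i i.2.1 i.2.2)
      rw [map_mul, map_mul] at e1
      simp only [RingHom.mapMatrix_apply] at e1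
      change formOfGram σ _ ((x i : M4 F) *ᵥ u) ((x i : M4 F) *ᵥ v) = _
      rw [formOfGram_eq, formOfGram_eq, comp_mulVec, hx i i.2.1 i.2.2, hc', ← vecMul_transpose,
        ← dotProduct_mulVec, mulVec_mulVec, mulVec_mulVec, ← transpose_map, e1]

end Cfsg.Agent.Cl.D4
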