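/-
Subgroups of `SL₅(F)`: vocabulary, transvections and invariant families.
-/
import Mathlib
import Cfsg.Agent.Cl.D3DL

set_option autoImplicit false

namespace Cfsg.Agent.Cl.D5

open Matrix Cfsg.Geo Cfsg.Agent.Cl.Max Cfsg.Agent.Cl.Mx
open Cfsg.Agent.Cl.D3 (upS loS)
open scoped MatrixGroups

variable {F : Type*} [Field F] {ι : Type} [Fintype ι] [DecidableEq ι]

/-- `P` contains the transvection `x ↦ x + (φ ⬝ x) v`. -/
def MT (P : Subgroup (GL ι F)) (v φ : ι → F) : Prop :=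
  φ ⬝ᵥ v = 0 ∧ ∃ g ∈ P, ∀ x, (g : Matrix ι ι F) *ᵥ x = x + (φ ⬝ᵥ x) • v

/-- `P` contains at least `n` transvections (counting `1`) with one centre and one axis. -/
def Root (P : Subgroup (GL ι F)) (n : ℕ) : Prop :=
  ∃ v φ : ι → F, v ≠ 0 ∧ φ ≠ 0 ∧ ∃ A : Finset F, n ≤ A.card ∧ ∀ a ∈ A, MT P v (a • φ)

/-- The traces of the elements of `P` generate the field. -/
def TrGen (P : Subgroup (GL ι F)) : Prop :=
  ∀ k : Subfield F, (∀ g ∈ P, (g : Matrix ι ι F).trace ∈ k) → k = ⊤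

/-- `π` identifies `P ≤ SL(ι, F)` modulo its scalars with `G`. -/
structure Cov (P : Subgroup (GL ι F)) {G : Type*} [Group G] (π : P →* G) : Prop where
  sl : P ≤ specialLinear ι F
  surj : Function.Surjective π
  ker : ∀ g : P, π g = 1 ↔ (g : GL ι F) ∈ scalars ι F

/-- The action of `N` on the span of `v` and `w`, in coordinates. -/
def planeL (N : Subgroup (GL ι F)) (v w : ι → F) : Subgroup (GL (Fin 2) F) where
  carrier := {M | ∃ g ∈ N,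
    (g : Matrix ι ι F) *ᵥ v =
      (M : Matrix (Fin 2) (Fin 2) F) 0 0 • v + (M : Matrix (Fin 2) (Fin 2) F) 1 0 • w ∧
    (g : Matrix ι ι F) *ᵥ w =
      (M : Matrix (Fin 2) (Fin 2) F) 0 1 • v + (M : Matrix (Fin 2) (Fin 2) F) 1 1 • w}
  one_mem' := ⟨1, N.one_mem, by simp, by simp⟩
  mul_mem' := by
    rintro A B ⟨g, hg, a1, a2⟩ ⟨h, hh, b1, b2⟩
    refine ⟨g * h, N.mul_mem hg hh, ?_, ?_⟩
    · rw [mul_mulVec, b1, mulVec_add, mulVec_smul, mulVec_smul, a1, a2]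
      simp only [Units.val_mul, mul_apply, Fin.sum_univ_two]
      module
    · rw [mul_mulVec, b2, mulVec_add, mulVec_smul, mulVec_smul, a1, a2]
      simp only [Units.val_mul, mul_apply, Fin.sum_univ_two]
      module
  inv_mem' := by
    rintro A ⟨g, hg, a1, a2⟩
    have h : ∀ i j, (A : Matrix (Fin 2) (Fin 2) F) i 0 * (A⁻¹ : GL (Fin 2) F) 0 j +
        (A : Matrix (Fin 2) (Fin 2) F) i 1 * (A⁻¹ : GL (Fin 2) F) 1 j =
          (1 : Matrix (Fin 2) (Fin 2) F) i j := fun i j => by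
      rw [← A.mul_inv, mul_apply, Fin.sum_univ_two]
    have h00 := h 0 0
    have h01 := h 0 1
    have h10 := h 1 0
    have h11 := h 1 1
    simp only [one_apply_eq, ne_eq, zero_ne_one, one_ne_zero, not_false_eq_true,
      one_apply_ne] at h00 h01 h10 h11
    refine ⟨g⁻¹, N.inv_mem hg, mulVec_injective g ?_, mulVec_injective g ?_⟩
    · simp only [mulVec_inv_mulVec, mulVec_add, mulVec_smul, a1, a2]
      linear_combination (norm := module) (-h00) • v - h10 • w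
    · simp only [mulVec_inv_mulVec, mulVec_add, mulVec_smul, a1, a2]
      linear_combination (norm := module) (-h01) • v - h11 • w

/-- `P` contains no transvection. -/
def NoTv (P : Subgroup (GL ι F)) : Prop := ∀ v φ, MT P v φ → v = 0 ∨ φ = 0

/-- `P` contains `x ↦ -x + (φ ⬝ x) v`, the negative of a reflection. -/
def Rf (P : Subgroup (GL (Fin 5) F)) (v φ : Fin 5 → F) : Prop :=
  φ ⬝ᵥ v = 2 ∧ ∃ g ∈ P, ∀ x, (g : Matrix (Fin 5) (Fin 5) F) *ᵥ x = -x + (φ ⬝ᵥ x) • v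

/-- Every involution of `P` fixes a space of dimension at least `3`. -/
def Inv2 (P : Subgroup (GL (Fin 5) F)) : Prop :=
  ∀ g ∈ P, g * g = 1 → ((g : Matrix (Fin 5) (Fin 5) F) - 1).rank ≤ 2

/-- `P` preserves a non-degenerate symmetric form, in odd characteristic. -/
def Orth (P : Subgroup (GL (Fin 5) F)) : Prop :=
  (2 : F) ≠ 0 ∧ ∃ f : (Fin 5 → F) → (Fin 5 → F) → F, HForm (RingHom.id F) 1 f ∧ P ≤ isoG f

/-- `P` preserves a non-degenerate hermitian form, and `|F| = q ^ 2`. -/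
def Uni (P : Subgroup (GL (Fin 5) F)) (q : ℕ) : Prop :=
  ∃ (σ : F →+* F) (f : (Fin 5 → F) → (Fin 5 → F) → F), UField σ q ∧ HForm σ 1 f ∧ P ≤ isoG f

/-- `P` is the special linear group or a special unitary group. -/
def Big (P : Subgroup (GL (Fin 5) F)) : Prop :=
  P = specialLinear (Fin 5) F ∨ ∃ (σ : F →+* F) (q : ℕ) (f : (Fin 5 → F) → (Fin 5 → F) → F),
    UField σ q ∧ HForm σ 1 f ∧ P = suG f

/-- The field conditions for `L₂(11)`. -/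
def C11 (P : Subgroup (GL (Fin 5) F)) (p : ℕ) : Prop :=
  (Nat.card F = p ∧ (p % 11 = 1 ∨ p % 11 = 3 ∨ p % 11 = 4 ∨ p % 11 = 5 ∨ p % 11 = 9)) ∨
    ((p % 11 = 2 ∨ p % 11 = 6 ∨ p % 11 = 7 ∨ p % 11 = 8 ∨ p % 11 = 10) ∧ Uni P p)

/-- The field conditions for `U₄(2)`. -/
def C42 (P : Subgroup (GL (Fin 5) F)) (p : ℕ) : Prop :=
  (Nat.card F = p ∧ p % 6 = 1) ∨ (p % 6 = 5 ∧ Uni P p)

/-- `P` is isomorphic to `U₄(2)`. -/
def IsoU42 (G : Type*) [Group G] : Prop :=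
  ∃ (K : Type) (_ : Field K) (_ : Fintype K), Fintype.card K = 4 ∧ Nonempty (G ≃* PSU 4 K 2)

/-- The trace of an element of `P`. -/
abbrev tr {P : Subgroup (GL ι F)} (g : P) : F :=
  ((g : GL ι F) : Matrix ι ι F).trace

/-- The codimension of the fixed space of an element of `P`. -/
noncomputable abbrev cd {P : Subgroup (GL ι F)} (g : P) : ℕ :=
  (((g : GL ι F) : Matrix ι ι F) - 1).rank

namespace MT

variable {P : Subgroup (GL ι F)} {v w φ ψ : ι → F}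

theorem zero (P : Subgroup (GL ι F)) (v : ι → F) : MT P v 0 :=
  ⟨by simp, 1, P.one_mem, by simp⟩

theorem zero_left (P : Subgroup (GL ι F)) (φ : ι → F) : MT P 0 φ :=
  ⟨by simp, 1, P.one_mem, by simp⟩

theorem mono {Q : Subgroup (GL ι F)} (h : MT P v φ) (hQ : P ≤ Q) : MT Q v φ :=
  let ⟨h0, g, hg, e⟩ := h
  ⟨h0, g, hQ hg, e⟩

theorem smul_iff (c : F) : MT P (c • v) φ ↔ MT P v (c • φ) := by
  simp only [MT, dotProduct_smul, smul_dotProduct, smul_eq_mul, smul_smul, mul_comm c]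

theorem add (h : MT P v φ) (h' : MT P v ψ) : MT P v (φ + ψ) := by
  obtain ⟨h0, g, hg, e⟩ := h
  obtain ⟨h1, k, hk, e'⟩ := h'
  refine ⟨by rw [add_dotProduct, h0, h1, add_zero], g * k, P.mul_mem hg hk, fun x => ?_⟩
  rw [mul_mulVec, e', e]
  simp only [dotProduct_add, dotProduct_smul, add_dotProduct, h0, smul_zero]
  module

theorem add_left (h : MT P v φ) (h' : MT P w φ) : MT P (v + w) φ := by
  obtain ⟨h0, g, hg, e⟩ := h
  obtain ⟨h1, k, hk, e'⟩ := h'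
  refine ⟨by rw [dotProduct_add, h0, h1, add_zero], g * k, P.mul_mem hg hk, fun x => ?_⟩
  rw [mul_mulVec, e', e]
  simp only [dotProduct_add, dotProduct_smul, h1, smul_zero]
  module

theorem inv_mulVec {g : GL ι F} (h0 : φ ⬝ᵥ v = 0)
    (e : ∀ x, (g : Matrix ι ι F) *ᵥ x = x + (φ ⬝ᵥ x) • v) (x : ι → F) :
    ((g⁻¹ : GL ι F) : Matrix ι ι F) *ᵥ x = x - (φ ⬝ᵥ x) • v :=
  mulVec_injective g (by
    simp only [mulVec_inv_mulVec]
    rw [e, dotProduct_sub, dotProduct_smul, h0, smul_zero]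
    module)

theorem neg (h : MT P v φ) : MT P v (-φ) := by
  obtain ⟨h0, g, hg, e⟩ := h
  refine ⟨by rw [neg_dotProduct, h0, neg_zero], g⁻¹, P.inv_mem hg, fun x => ?_⟩
  rw [inv_mulVec h0 e, neg_dotProduct]
  module

theorem sub (h : MT P v φ) (h' : MT P v ψ) : MT P v (φ - ψ) := by
  rw [sub_eq_add_neg]; exact h.add h'.neg

theorem nsmul (h : MT P v φ) (n : ℕ) : MT P v ((n : F) • φ) := by
  induction n with
  | zero => simpa using zero P v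
  | succ n ih => rw [Nat.cast_succ, add_smul, one_smul]; exact ih.add h

/-- Conjugation by an element normalising `P`. -/
theorem conj' (h : MT P v φ) {g : GL ι F} (hg : ∀ x ∈ P, g * x * g⁻¹ ∈ P) :
    MT P ((g : Matrix ι ι F) *ᵥ v)
      (φ ᵥ* ((g⁻¹ : GL ι F) : Matrix ι ι F)) := by
  obtain ⟨h0, k, hk, e⟩ := h
  refine ⟨by rw [← dotProduct_mulVec, inv_mulVec_mulVec, h0], g * k * g⁻¹, hg k hk, fun x => ?_⟩
  rw [mul_mulVec, mul_mulVec, e, mulVec_add, mulVec_smul, mulVec_inv_mulVec, dotProduct_mulVec]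

theorem conj (h : MT P v φ) {g : GL ι F} (hg : g ∈ P) :
    MT P ((g : Matrix ι ι F) *ᵥ v)
      (φ ᵥ* ((g⁻¹ : GL ι F) : Matrix ι ι F)) :=
  h.conj' fun _ hx => P.mul_mem (P.mul_mem hg hx) (P.inv_mem hg)

/-- Conjugation of one transvection by another. -/
theorem move (h : MT P v φ) (h' : MT P w ψ) :
    MT P (v + (ψ ⬝ᵥ v) • w) (φ - (φ ⬝ᵥ w) • ψ) := by
  obtain ⟨h1, k, hk, e⟩ := h'
  have h2 := h.conj hk
  rw [e] at h2
  convert h2 using 1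
  refine dotProduct_eq _ _ fun x => ?_
  rw [← dotProduct_mulVec, inv_mulVec h1 e]
  simp only [sub_dotProduct, smul_dotProduct, dotProduct_sub, dotProduct_smul, smul_eq_mul]
  ring

/-- The commutator of two transvections. -/
theorem comm (h : MT P v φ) (h' : MT P w ψ) (h0 : ψ ⬝ᵥ v = 0) : MT P v ((φ ⬝ᵥ w) • ψ) := by
  have h2 := h.move h'
  rw [h0, zero_smul, add_zero] at h2
  simpa using h.sub h2

end MT

theorem Root.mono {P : Subgroup (GL ι F)} {m n : ℕ} (h : Root P n) (hmn : m ≤ n) :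
    Root P m :=
  let ⟨v, φ, hv, hφ, A, hA, e⟩ := h
  ⟨v, φ, hv, hφ, A, hmn.trans hA, e⟩

theorem qs_le_sl {P : Subgroup (GL ι F)} (hP : QS P) : P ≤ specialLinear ι F := by
  rw [← hP.perfect, Subgroup.commutator_le]
  intro a _ b _
  rw [mem_specialLinear_iff, commutatorElement_def]
  simp only [Units.val_mul, det_mul]
  have h1 : (a : Matrix ι ι F).det * (a⁻¹ : GL ι F).val.det = 1 := by
    rw [← det_mul, a.mul_inv, det_one]
  have h2 : (b : Matrix ι ι F).det * (b⁻¹ : GL ι F).val.det = 1 := by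
    rw [← det_mul, b.mul_inv, det_one]
  linear_combination (b : Matrix ι ι F).det * (b⁻¹ : GL ι F).val.det * h1 + h2

/-- A non-empty invariant family of non-trivial transvections generates `P`. -/
theorem le_of_tv {P : Subgroup (GL ι F)} (hP : QS P) (T : (ι → F) → (ι → F) → Prop)
    (hT : ∀ v φ, T v φ → MT P v φ)
    (hc : ∀ v φ, T v φ → ∀ g ∈ P, T ((g : Matrix ι ι F) *ᵥ v)
      (φ ᵥ* ((g⁻¹ : GL ι F) : Matrix ι ι F)))
    (hne : ∃ v φ, T v φ ∧ v ≠ 0 ∧ φ ≠ 0) {M : Subgroup (GL ι F)}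
    (hM : ∀ v φ, T v φ → ∀ g : GL ι F,
      (∀ x, (g : Matrix ι ι F) *ᵥ x = x + (φ ⬝ᵥ x) • v) → g ∈ M) : P ≤ M := by
  let S : Set (GL ι F) := {g | ∃ v φ, T v φ ∧
    ∀ x, (g : Matrix ι ι F) *ᵥ x = x + (φ ⬝ᵥ x) • v}
  have hS : ∀ g ∈ S, g ∈ P := by
    rintro g ⟨v, φ, h, e⟩
    obtain ⟨-, k, hk, e'⟩ := hT v φ h
    rwa [gl_ext (g := g) (h := k) fun x => by rw [e, e']]
  have hn : NormsG P (Subgroup.closure S) := fun h hh x hx => by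
    induction hx using Subgroup.closure_induction with
    | mem x hx =>
      obtain ⟨v, φ, h1, e⟩ := hx
      refine Subgroup.subset_closure ⟨_, _, hc v φ h1 h hh, fun y => ?_⟩
      rw [mul_mulVec, mul_mulVec, e, mulVec_add, mulVec_smul, mulVec_inv_mulVec, dotProduct_mulVec]
    | one => simp
    | mul x y _ _ hx hy =>
      have := Subgroup.mul_mem _ hx hy
      rwa [show h * x * h⁻¹ * (h * y * h⁻¹) = h * (x * y) * h⁻¹ by group] at this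
    | inv x _ hx =>
      have := Subgroup.inv_mem _ hx
      rwa [show (h * x * h⁻¹)⁻¹ = h * x⁻¹ * h⁻¹ by group] at this
  rcases hP.simple _ ((Subgroup.closure_le _).2 hS) hn with h | h
  · exfalso
    obtain ⟨v, φ, h1, hv, hφ⟩ := hne
    obtain ⟨h0, k, -, e⟩ := hT v φ h1
    obtain ⟨x, hx⟩ : ∃ x, φ ⬝ᵥ x ≠ 0 := by
      by_contra hx
      push Not at hx
      exact hφ (dotProduct_eq_zero _ hx)
    refine notMem_scalars_of_fix (g := k) (v := x) hv (by rw [e, h0, zero_smul, add_zero]) ?_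
      (h (Subgroup.subset_closure ⟨v, φ, h1, e⟩))
    rw [e]
    simp [hx, hv]
  · rw [← h, Subgroup.closure_le]
    rintro g ⟨v, φ, h1, e⟩
    exact hM v φ h1 g e

variable {P : Subgroup (GL ι F)} {v w φ ψ : ι → F}

/-- The parameters of the transvections with given centre and axis. -/
def tvA (P : Subgroup (GL ι F)) (v φ : ι → F) : Set F := {a | MT P v (a • φ)}

/-- The elements of `P` fixing the common kernel of two functionals. -/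
def fixK (P : Subgroup (GL ι F)) (φ ψ : ι → F) : Subgroup (GL ι F) where
  carrier := {g | g ∈ P ∧ ∀ y, φ ⬝ᵥ y = 0 → ψ ⬝ᵥ y = 0 → (g : Matrix ι ι F) *ᵥ y = y}
  one_mem' := ⟨P.one_mem, fun y _ _ => by simp⟩
  mul_mem' := fun ha hb => ⟨P.mul_mem ha.1 hb.1, fun y h1 h2 => by
    rw [mul_mulVec, hb.2 y h1 h2, ha.2 y h1 h2]⟩
  inv_mem' := fun {a} ha => ⟨P.inv_mem ha.1, fun y h1 h2 => mulVec_injective a (by
    simp only [mulVec_inv_mulVec, ha.2 y h1 h2])⟩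

theorem fixK_apply {g : GL ι F} (hg : g ∈ fixK P φ ψ) (h1 : φ ⬝ᵥ v = 0) (h2 : ψ ⬝ᵥ w = 0)
    (h3 : φ ⬝ᵥ w ≠ 0) (h4 : ψ ⬝ᵥ v ≠ 0) (y : ι → F) :
    (g : Matrix ι ι F) *ᵥ y = y +
      (φ ⬝ᵥ y / φ ⬝ᵥ w) • ((g : Matrix ι ι F) *ᵥ w - w) +
      (ψ ⬝ᵥ y / ψ ⬝ᵥ v) • ((g : Matrix ι ι F) *ᵥ v - v) := by
  have h := hg.2 (y - (φ ⬝ᵥ y / φ ⬝ᵥ w) • w - (ψ ⬝ᵥ y / ψ ⬝ᵥ v) • v)
    (by simp only [dotProduct_sub, dotProduct_smul, h1, smul_eq_mul]; field_simp; ring)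
    (by simp only [dotProduct_sub, dotProduct_smul, h2, smul_eq_mul]; field_simp; ring)
  simp only [mulVec_sub, mulVec_smul] at h
  linear_combination (norm := module) h

theorem mem_upS_plane (h1 : φ ⬝ᵥ v = 0) (h2 : ψ ⬝ᵥ w = 0) (h3 : φ ⬝ᵥ w ≠ 0) (h4 : ψ ⬝ᵥ v ≠ 0)
    {a : F} : a * φ ⬝ᵥ w ∈ upS (planeL (fixK P φ ψ) v w) ↔ a ∈ tvA P v φ := by
  constructor
  · rintro ⟨M, ⟨g, hg, e1, e2⟩, hM⟩
    refine ⟨by simp [h1], g, hg.1, fun y => ?_⟩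
    rw [hM] at e1 e2
    simp only [of_apply, cons_val', cons_val_zero, cons_val_one, cons_val_fin_one, one_smul,
      zero_smul, add_zero] at e1 e2
    rw [fixK_apply hg h1 h2 h3 h4, e1, e2, smul_dotProduct, smul_eq_mul,
      show a * φ ⬝ᵥ y = φ ⬝ᵥ y / φ ⬝ᵥ w * (a * φ ⬝ᵥ w) by field_simp]
    module
  · rintro ⟨-, g, hg, e⟩
    refine ⟨GeneralLinearGroup.mkOfDetNeZero !![1, a * φ ⬝ᵥ w; 0, 1] (by simp),
      ⟨g, ⟨hg, fun y hy _ => by simp [e, hy]⟩, ?_, ?_⟩, rfl⟩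
    · simp [e, h1, GeneralLinearGroup.mkOfDetNeZero]
    · simp [e, GeneralLinearGroup.mkOfDetNeZero, add_comm]

theorem mem_loS_plane (h1 : φ ⬝ᵥ v = 0) (h2 : ψ ⬝ᵥ w = 0) (h3 : φ ⬝ᵥ w ≠ 0) (h4 : ψ ⬝ᵥ v ≠ 0)
    {a : F} : a * ψ ⬝ᵥ v ∈ loS (planeL (fixK P φ ψ) v w) ↔ a ∈ tvA P w ψ := by
  constructor
  · rintro ⟨M, ⟨g, hg, e1, e2⟩, hM⟩
    refine ⟨by simp [h2], g, hg.1, fun y => ?_⟩
    rw [hM] at e1 e2
    simp only [of_apply, cons_val', cons_val_zero, cons_val_one, cons_val_fin_one, one_smul,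
      zero_smul, zero_add] at e1 e2
    rw [fixK_apply hg h1 h2 h3 h4, e1, e2, smul_dotProduct, smul_eq_mul,
      show a * ψ ⬝ᵥ y = ψ ⬝ᵥ y / ψ ⬝ᵥ v * (a * ψ ⬝ᵥ v) by field_simp]
    module
  · rintro ⟨-, g, hg, e⟩
    refine ⟨GeneralLinearGroup.mkOfDetNeZero !![1, 0; a * ψ ⬝ᵥ v, 1] (by simp),
      ⟨g, ⟨hg, fun y _ hy => by simp [e, hy]⟩, ?_, ?_⟩, rfl⟩
    · simp [e, GeneralLinearGroup.mkOfDetNeZero]
    · simp [e, h2, GeneralLinearGroup.mkOfDetNeZero]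

theorem planeL_pow [Finite F] {N : Subgroup (GL ι F)} (hN : N ≤ P) (h1 : φ ⬝ᵥ v = 0)
    (h2 : ψ ⬝ᵥ w = 0) (h3 : φ ⬝ᵥ w ≠ 0) (h4 : ψ ⬝ᵥ v ≠ 0) {M : GL (Fin 2) F}
    (hM : M ∈ planeL N v w) : M ^ Nat.card P = 1 := by
  obtain ⟨g, hg, e1, e2⟩ := hM
  have key : ∀ n : ℕ, ((g ^ n : GL ι F) : Matrix ι ι F) *ᵥ v =
      ((M ^ n : GL (Fin 2) F) : Matrix (Fin 2) (Fin 2) F) 0 0 • v +
        ((M ^ n : GL (Fin 2) F) : Matrix (Fin 2) (Fin 2) F) 1 0 • w ∧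
      ((g ^ n : GL ι F) : Matrix ι ι F) *ᵥ w =
      ((M ^ n : GL (Fin 2) F) : Matrix (Fin 2) (Fin 2) F) 0 1 • v +
        ((M ^ n : GL (Fin 2) F) : Matrix (Fin 2) (Fin 2) F) 1 1 • w := by
    intro n
    induction n with
    | zero => simp
    | succ n ih =>
      rw [pow_succ, pow_succ, mul_mulVec, mul_mulVec, e1, e2]
      simp only [mulVec_add, mulVec_smul, ih.1, ih.2, Units.val_mul, mul_apply,
        Fin.sum_univ_two]
      constructor <;> module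
  have h0 : g ^ Nat.card P = 1 :=
    congrArg Subtype.val (pow_card_eq_one' (G := P) (x := ⟨g, hN hg⟩))
  obtain ⟨k1, k2⟩ := key (Nat.card P)
  rw [h0, Units.val_one, one_mulVec] at k1 k2
  have a1 := congrArg (φ ⬝ᵥ ·) k1
  have a2 := congrArg (ψ ⬝ᵥ ·) k1
  have a3 := congrArg (φ ⬝ᵥ ·) k2
  have a4 := congrArg (ψ ⬝ᵥ ·) k2
  simp only [dotProduct_add, dotProduct_smul, h1, h2, smul_eq_mul, mul_zero, zero_add,
    add_zero] at a1 a2 a3 a4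
  refine Units.ext (Matrix.ext fun i j => ?_)
  rw [Units.val_one]
  fin_cases i <;> fin_cases j
  · exact mul_right_cancel₀ h4 (a2.symm.trans (one_mul _).symm)
  · exact (mul_eq_zero.1 a4.symm).resolve_right h4
  · exact (mul_eq_zero.1 a1.symm).resolve_right h3
  · exact mul_right_cancel₀ h3 (a3.symm.trans (one_mul _).symm)

theorem ncard_eq_of_mul {A B : Set F} {c : F} (hc : c ≠ 0) (h : ∀ a, a * c ∈ B ↔ a ∈ A) :
    A.ncard = B.ncard :=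
  Set.ncard_congr (fun a _ => a * c) (fun a ha => (h a).2 ha)
    (fun _ _ _ _ e => mul_right_cancel₀ hc e)
    fun b hb => ⟨b / c, (h _).1 (by rwa [div_mul_cancel₀ _ hc]), div_mul_cancel₀ _ hc⟩

theorem pair_field [Finite F] (h1 : φ ⬝ᵥ v = 0) (h2 : ψ ⬝ᵥ w = 0) (h3 : φ ⬝ᵥ w ≠ 0)
    (h4 : ψ ⬝ᵥ v ≠ 0) (h5 : MT P w ψ)
    (h : 4 ≤ (tvA P v φ).ncard ∨ (3 ≤ (tvA P v φ).ncard ∧ ¬ 5 ∣ Nat.card P)) :
    ∃ k : Subfield F, (∀ a, a ∈ tvA P v φ ↔ a * (φ ⬝ᵥ w * ψ ⬝ᵥ v) ∈ k) ∧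
      ∀ a, a ∈ tvA P w ψ ↔ a ∈ k := by
  rw [ncard_eq_of_mul h3 fun a => mem_upS_plane h1 h2 h3 h4] at h
  obtain ⟨k, e1, e2⟩ := D3.dl (L := planeL (fixK P φ ψ) v w) (h.imp_right fun h => ⟨h.1, _, h.2,
    fun g hg => planeL_pow (N := fixK P φ ψ) (fun _ hx => hx.1) h1 h2 h3 h4 hg⟩) (b := ψ ⬝ᵥ v)
    (by simpa using (mem_loS_plane (a := 1) h1 h2 h3 h4).2 (by simpa [tvA] using h5)) h4
  refine ⟨k, fun a => ?_, fun a => ?_⟩
  · rw [← mem_upS_plane h1 h2 h3 h4, e1, mul_assoc]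
  · rw [← mem_loS_plane h1 h2 h3 h4, e2, mul_inv_cancel_right₀ h4]

theorem tvA_conj {g : GL ι F} (hg : g ∈ P) : tvA P v φ ⊆
    tvA P ((g : Matrix ι ι F) *ᵥ v)
      (φ ᵥ* ((g⁻¹ : GL ι F) : Matrix ι ι F)) := fun a ha => by
  have := MT.conj ha hg
  rwa [smul_vecMul] at this

theorem vecMul_gl_ne_zero (hφ : φ ≠ 0) (g : GL ι F) :
    φ ᵥ* (g : Matrix ι ι F) ≠ 0 := fun h => hφ (by
  have := congrArg (· ᵥ* ((g⁻¹ : GL ι F) : Matrix ι ι F)) h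
  simpa using this)

theorem mulVec_gl_ne_zero (hv : v ≠ 0) (g : GL ι F) :
    (g : Matrix ι ι F) *ᵥ v ≠ 0 := fun h =>
  hv (mulVec_injective g (by simpa using h))

theorem exists_dot_ne_zero (hφ : φ ≠ 0) : ∃ x, φ ⬝ᵥ x ≠ 0 := by
  by_contra hx
  push Not at hx
  exact hφ (dotProduct_eq_zero _ hx)

/-- An invariant family of non-trivial transvections. -/
structure Fam (P : Subgroup (GL ι F)) (T : (ι → F) → (ι → F) → Prop) : Prop where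
  mt : ∀ v φ, T v φ → MT P v φ
  ne : ∀ v φ, T v φ → v ≠ 0 ∧ φ ≠ 0
  conj : ∀ v φ, T v φ → ∀ g ∈ P, T ((g : Matrix ι ι F) *ᵥ v)
      (φ ᵥ* ((g⁻¹ : GL ι F) : Matrix ι ι F))

/-- The common kernel of a family of functionals. -/
def kerS (S : (ι → F) → Prop) : Submodule F (ι → F) where
  carrier := {x | ∀ φ, S φ → φ ⬝ᵥ x = 0}
  zero_mem' := fun _ _ => by simp
  add_mem' := fun ha hb φ h => by rw [dotProduct_add, ha φ h, hb φ h, add_zero]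
  smul_mem' := fun c x hx φ h => by rw [dotProduct_smul, hx φ h, smul_zero]

theorem kerS_ne_top {S : (ι → F) → Prop} (h : S φ) (hφ : φ ≠ 0) : kerS S ≠ ⊤ := fun e =>
  hφ (dotProduct_eq_zero _ fun x => (show x ∈ kerS S by rw [e]; trivial) φ h)

namespace Fam

variable {T : (ι → F) → (ι → F) → Prop}

theorem move (hT : Fam P T) (h : T v φ) (h' : MT P w ψ) :
    T (v + (ψ ⬝ᵥ v) • w) (φ - (φ ⬝ᵥ w) • ψ) := by
  obtain ⟨h1, k, hk, e⟩ := h'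
  have h2 := hT.conj v φ h k hk
  rw [e] at h2
  convert h2 using 1
  refine dotProduct_eq _ _ fun x => ?_
  rw [← dotProduct_mulVec, MT.inv_mulVec h1 e]
  simp only [sub_dotProduct, smul_dotProduct, dotProduct_sub, dotProduct_smul, smul_eq_mul]
  ring

theorem le (hT : Fam P T) (hP : QS P) (h : T v φ) {M : Subgroup (GL ι F)}
    (hM : ∀ v φ, T v φ → ∀ g : GL ι F,
      (∀ x, (g : Matrix ι ι F) *ᵥ x = x + (φ ⬝ᵥ x) • v) → g ∈ M) : P ≤ M :=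
  le_of_tv hP T hT.mt hT.conj ⟨v, φ, h, hT.ne v φ h⟩ hM

theorem bot_or_top (hT : Fam P T) (hP : QS P) (h : T v φ) (W : Submodule F (ι → F))
    (hW : ∀ v φ, T v φ → ∀ x ∈ W, (φ ⬝ᵥ x) • v ∈ W) : W = ⊥ ∨ W = ⊤ :=
  hP.irr W (inv_iff_le.2 (hT.le hP h fun v φ h g e =>
    mem_subspaceStabilizer_of_maps fun x hx => by
      rw [e]; exact W.add_mem hx (hW v φ h x hx)))

theorem exists_pair (hT : Fam P T) (hP : QS P) (h : T v φ) {χ u : ι → F} (hχ : χ ≠ 0)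
    (hu : u ≠ 0) : ∃ w ψ, T w ψ ∧ χ ⬝ᵥ w ≠ 0 ∧ ψ ⬝ᵥ u ≠ 0 := by
  by_contra hn
  push Not at hn
  obtain ⟨v', φ', h', h1⟩ : ∃ v' φ', T v' φ' ∧ χ ⬝ᵥ v' ≠ 0 := by
    by_contra h1
    push Not at h1
    refine (hT.bot_or_top hP h (kerS (· = χ)) fun w ψ hw x _ _ e => ?_).elim
      (fun e => (hT.ne v φ h).1 ?_) (kerS_ne_top rfl hχ)
    · rw [e, dotProduct_smul, h1 w ψ hw, smul_zero]
    · rw [← Submodule.mem_bot F, ← e]
      exact fun _ e' => by rw [e', h1 v φ h]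
  refine (hT.bot_or_top hP h (kerS fun ψ => ∃ w, T w ψ ∧ χ ⬝ᵥ w ≠ 0) ?_).elim
    (fun e => hu ?_) (kerS_ne_top ⟨v', h', h1⟩ (hT.ne _ _ h').2)
  · rintro w ψ hw x hx φ' ⟨v', h', h1⟩
    rw [dotProduct_smul, smul_eq_mul]
    by_cases h0 : χ ⬝ᵥ w = 0
    · have := hx _ ⟨_, hT.move h' (hT.mt _ _ hw), by simpa [h0] using h1⟩
      rw [sub_dotProduct, hx φ' ⟨v', h', h1⟩, smul_dotProduct, smul_eq_mul] at this
      linear_combination -this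
    · rw [hx ψ ⟨w, hw, h0⟩, zero_mul]
  · rw [← Submodule.mem_bot F, ← e]
    rintro ψ ⟨w, hw, h0⟩
    exact hn w ψ hw h0

end Fam

/-- Pairs with many transvections. -/
def T0 (P : Subgroup (GL ι F)) (m : ℕ) (v φ : ι → F) : Prop :=
  v ≠ 0 ∧ φ ≠ 0 ∧ MT P v φ ∧ m ≤ (tvA P v φ).ncard

theorem fam_T0 [Finite F] (m : ℕ) : Fam P (T0 P m) where
  mt _ _ h := h.2.2.1
  ne _ _ h := ⟨h.1, h.2.1⟩
  conj _ _ h g hg := ⟨mulVec_gl_ne_zero h.1 g, vecMul_gl_ne_zero h.2.1 _, h.2.2.1.conj hg,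
    h.2.2.2.trans (Set.ncard_le_ncard (tvA_conj hg))⟩

/-- Pairs carrying a full `k`-group of transvections. -/
def TK (P : Subgroup (GL ι F)) (k : Subfield F) (v φ : ι → F) : Prop :=
  v ≠ 0 ∧ φ ≠ 0 ∧ ∀ c ∈ k, MT P v (c • φ)

theorem fam_TK (k : Subfield F) : Fam P (TK P k) where
  mt _ _ h := by simpa using h.2.2 1 k.one_mem
  ne _ _ h := ⟨h.1, h.2.1⟩
  conj _ _ h g hg := ⟨mulVec_gl_ne_zero h.1 g, vecMul_gl_ne_zero h.2.1 _,
    fun c hc => tvA_conj hg (h.2.2 c hc)⟩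


/-- A family of transvection groups over the subfield `k`. -/
structure TF (P : Subgroup (GL ι F)) (k : Subfield F) (T : (ι → F) → (ι → F) → Prop) : Prop where
  qs : QS P
  fam : Fam P T
  ex : ∃ v φ, T v φ
  smul : ∀ {v φ}, T v φ → ∀ {c d : F}, c ≠ 0 → d ≠ 0 → c * d ∈ k → T (c • v) (d • φ)
  two : ∀ {v φ w ψ}, T v φ → T w ψ → φ ⬝ᵥ w * ψ ⬝ᵥ v ∈ k
  max : ∀ v φ, v ≠ 0 → φ ≠ 0 → (tvA P v φ).ncard ≤ Nat.card k

/-- The product along a triangle. -/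
abbrev cyc3 (v₁ φ₁ v₂ φ₂ v₃ φ₃ : ι → F) : F := φ₁ ⬝ᵥ v₂ * φ₂ ⬝ᵥ v₃ * φ₃ ⬝ᵥ v₁

/-- The family looks like a family of isometries of a `σ`-skew form. -/
structure Coh (σ : F →+* F) (T : (ι → F) → (ι → F) → Prop) : Prop where
  zero : ∀ {v φ w ψ}, T v φ → T w ψ → φ ⬝ᵥ w = 0 → ψ ⬝ᵥ v = 0
  two : ∀ {v φ w ψ}, T v φ → T w ψ → σ (φ ⬝ᵥ w * ψ ⬝ᵥ v) = φ ⬝ᵥ w * ψ ⬝ᵥ v
  three : ∀ {v₁ φ₁ v₂ φ₂ v₃ φ₃}, T v₁ φ₁ → T v₂ φ₂ → T v₃ φ₃ →
    σ (cyc3 v₁ φ₁ v₂ φ₂ v₃ φ₃) = -cyc3 v₁ φ₁ v₃ φ₃ v₂ φ₂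

/-- All non-trivial transvections. -/
def TA (P : Subgroup (GL ι F)) (v φ : ι → F) : Prop := v ≠ 0 ∧ φ ≠ 0 ∧ MT P v φ

theorem fam_TA : Fam P (TA P) where
  mt _ _ h := h.2.2
  ne _ _ h := ⟨h.1, h.2.1⟩
  conj _ _ h g hg := ⟨mulVec_gl_ne_zero h.1 g, vecMul_gl_ne_zero h.2.1 _, h.2.2.conj hg⟩

theorem TK.smul {k : Subfield F} (h : TK P k v φ) {c d : F} (hc : c ≠ 0) (hd : d ≠ 0)
    (hk : c * d ∈ k) : TK P k (c • v) (d • φ) :=
  ⟨smul_ne_zero hc h.1, smul_ne_zero hd h.2.1, fun a ha => by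
    rw [MT.smul_iff, smul_smul, smul_smul, mul_right_comm]
    exact h.2.2 _ (k.mul_mem hk ha)⟩

theorem TF.tk {k : Subfield F} {T : (ι → F) → (ι → F) → Prop} (H : TF P k T) (h : T v φ) :
    TK P k v φ :=
  ⟨(H.fam.ne v φ h).1, (H.fam.ne v φ h).2, fun c hc => by
    by_cases h0 : c = 0
    · simpa [h0] using MT.zero P v
    · simpa using H.fam.mt _ _ (H.smul h one_ne_zero h0 (by simpa using hc))⟩

theorem root_of_ncard [Finite F] (hv : v ≠ 0) (hφ : φ ≠ 0) : Root P (tvA P v φ).ncard :=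
  ⟨v, φ, hv, hφ, (Set.toFinite (tvA P v φ)).toFinset, (Set.ncard_eq_toFinset_card _ _).le,
    fun a ha => by simpa [tvA] using ha⟩

theorem exists_field [Finite F] (hP : QS P)
    (hr : Root P 4 ∨ (Root P 3 ∧ ¬ 5 ∣ Nat.card P)) :
    ∃ k : Subfield F, 3 ≤ (k : Set F).ncard ∧ TF P k (TK P k) := by
  classical
  have hroot : ∀ n, 2 ≤ n → Root P n → ∃ v φ, T0 P n v φ := by
    rintro n hn ⟨v, φ, hv, hφ, A, hA, e⟩
    obtain ⟨a, ha, ha0⟩ := Finset.exists_mem_ne (s := A) (by omega) 0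
    refine ⟨v, a • φ, hv, smul_ne_zero ha0 hφ, e a ha, hA.trans ?_⟩
    rw [ncard_eq_of_mul (B := tvA P v φ) ha0 fun b => by simp [tvA, smul_smul],
      ← Set.ncard_coe_finset]
    exact Set.ncard_le_ncard fun b hb => e b hb
  obtain ⟨v₀, φ₀, h₀⟩ := hroot 3 (by omega) (hr.elim (fun h => h.mono (by omega)) And.left)
  obtain ⟨⟨v₁, φ₁⟩, h₁, hmax⟩ := Set.exists_max_image
    {p : (ι → F) × (ι → F) | T0 P 0 p.1 p.2} (fun p => (tvA P p.1 p.2).ncard)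
    (Set.toFinite _) ⟨(v₀, φ₀), h₀.1, h₀.2.1, h₀.2.2.1, Nat.zero_le _⟩
  set m := (tvA P v₁ φ₁).ncard
  have hm : ∀ {n v φ}, T0 P n v φ → (tvA P v φ).ncard ≤ m := fun {n v φ} h =>
    hmax (v, φ) ⟨h.1, h.2.1, h.2.2.1, Nat.zero_le _⟩
  have hm' : 4 ≤ m ∨ (3 ≤ m ∧ ¬ 5 ∣ Nat.card P) := by
    refine hr.imp (fun h => ?_) fun h => ⟨h₀.2.2.2.trans (hm h₀), h.2⟩
    obtain ⟨v, φ, h⟩ := hroot 4 (by omega) h
    exact h.2.2.2.trans (hm h)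
  have hpf : ∀ {v φ w ψ}, T0 P m v φ → MT P w ψ → φ ⬝ᵥ w ≠ 0 → ψ ⬝ᵥ v ≠ 0 →
      ∃ k : Subfield F, (∀ a, a ∈ tvA P v φ ↔ a * (φ ⬝ᵥ w * ψ ⬝ᵥ v) ∈ k) ∧
        ∀ a, a ∈ tvA P w ψ ↔ a ∈ k := fun h h' h3 h4 =>
    pair_field h.2.2.1.1 h'.1 h3 h4 h' (hm'.imp (fun e => e.trans h.2.2.2)
      fun e => ⟨e.1.trans h.2.2.2, e.2⟩)
  have h1 : T0 P m v₁ φ₁ := ⟨h₁.1, h₁.2.1, h₁.2.2.1, le_rfl⟩
  obtain ⟨w, ψ, h2, h3, h4⟩ := (fam_T0 m).exists_pair hP h1 h1.2.1 h1.1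
  obtain ⟨k, -, e⟩ := hpf h1 h2.2.2.1 h3 h4
  have hk : m ≤ (k : Set F).ncard := h2.2.2.2.trans (Set.ncard_le_ncard fun a ha => (e a).1 ha)
  have hT : ∀ {v φ}, TK P k v φ → T0 P m v φ := fun h => ⟨h.1, h.2.1,
    by simpa using h.2.2 1 k.one_mem, hk.trans (Set.ncard_le_ncard fun a ha => h.2.2 a ha)⟩
  refine ⟨k, (hm'.elim (fun h => by omega) And.left).trans hk, hP, fam_TK k,
    ⟨w, ψ, h2.1, h2.2.1, fun c hc => (e c).2 hc⟩, fun h _ _ hc hd hk => h.smul hc hd hk,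
    fun {v φ w ψ} h1 h2 => ?_, fun v φ hv hφ => ?_⟩
  swap
  · refine le_trans ?_ hk
    by_cases h0 : ∃ a ∈ tvA P v φ, a ≠ 0
    · obtain ⟨a, ha, ha0⟩ := h0
      rw [← ncard_eq_of_mul (A := tvA P v (a • φ)) (B := tvA P v φ) ha0
        fun b => by simp [tvA, smul_smul]]
      exact hm (n := 0) ⟨hv, smul_ne_zero ha0 hφ, ha, Nat.zero_le _⟩
    · push Not at h0
      refine (Set.ncard_le_ncard (t := {0}) h0).trans ?_
      rw [Set.ncard_singleton]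
      omega
  by_cases h3 : φ ⬝ᵥ w = 0
  · rw [h3, zero_mul]; exact k.zero_mem
  by_cases h4 : ψ ⬝ᵥ v = 0
  · rw [h4, mul_zero]; exact k.zero_mem
  obtain ⟨k', e1, e2⟩ := hpf (hT h1) (hT h2).2.2.1 h3 h4
  have h5 : (k : Set F) = tvA P w ψ :=
    Set.eq_of_subset_of_ncard_le (fun a ha => h2.2.2 a ha) ((hm (hT h2)).trans hk)
  have h6 := (e2 _).2 ((e1 1).1 (h1.2.2 1 k.one_mem))
  rwa [← h5, one_mul] at h6

end Cfsg.Agent.Cl.D5
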