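/-
Subgroups of `SL₅(F)`: lifts, traces, invariant forms, weights.
-/
import Mathlib
import Cfsg.Agent.Cl.D5Defs
import Cfsg.Agent.Cl.D3MasterB
import Cfsg.Agent.Spor.MB.Scott
import Cfsg.Prelude.Def_KGroupFacts

set_option autoImplicit false

namespace Cfsg.Agent.Cl.D5

open Matrix Cfsg.Geo Cfsg.Agent.Cl.Max Cfsg.Agent.Cl.Mx
open scoped MatrixGroups

variable {F : Type*} [Field F] {P : Subgroup (GL (Fin 5) F)} {G : Type*} [Group G] {π : P →* G}

theorem smul_one_inj {a b : F}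
    (h : a • (1 : Matrix (Fin 5) (Fin 5) F) = b • (1 : Matrix (Fin 5) (Fin 5) F)) : a = b := by
  simpa using congrFun (congrFun h 0) 0

theorem eq_zero_of_notMem_scalars {g : GL (Fin 5) F} (hg : g ∉ scalars (Fin 5) F) {a b : F}
    (h : a • (g : Matrix (Fin 5) (Fin 5) F) = b • (1 : Matrix (Fin 5) (Fin 5) F)) :
    a = 0 ∧ b = 0 := by
  have ha : a = 0 := by
    by_contra ha
    exact hg (mem_scalars_of_eq_smul (c := a⁻¹ * b)
      (by rw [mul_smul, ← h, inv_smul_smul₀ ha]))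
  rw [ha, zero_smul, ← zero_smul F (1 : Matrix (Fin 5) (Fin 5) F)] at h
  exact ⟨ha, (smul_one_inj h).symm⟩

theorem pow_five_of_det {g h : GL (Fin 5) F} (hg : g ∈ specialLinear (Fin 5) F)
    (hh : h ∈ specialLinear (Fin 5) F) {c : F}
    (e : (g : Matrix (Fin 5) (Fin 5) F) = c • (h : Matrix (Fin 5) (Fin 5) F)) : c ^ 5 = 1 := by
  have := congrArg det e
  rw [det_smul, (mem_specialLinear_iff g).1 hg, (mem_specialLinear_iff h).1 hh] at this
  simpa using this.symm

theorem eq_one_of_pow_five {c : F} (h3 : c ^ 5 = 1) {n : ℕ} (hn : ¬ 5 ∣ n ∨ (5 : F) = 0)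
    (h : c ^ n = 1) : c = 1 := by
  rcases hn with hn | hn
  · have := (pow_gcd_eq_one.2 ⟨h3, h⟩)
    rwa [(Nat.prime_five.coprime_iff_not_dvd.2 hn).gcd_eq_one, pow_one] at this
  · have : (c - 1) ^ 5 = 0 := by
      linear_combination h3 + (c - 2 * c ^ 2 + 2 * c ^ 3 - c ^ 4) * hn
    exact sub_eq_zero.1 (pow_eq_zero_iff (by norm_num) |>.1 this)

/-! ### Covers -/

theorem Cov.comp (hπ : Cov P π) {G' : Type*} [Group G'] (e : G ≃* G') :
    Cov P ((e : G →* G').comp π) :=
  ⟨hπ.sl, e.surjective.comp hπ.surj, fun g => by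
    rw [← hπ.ker, MonoidHom.comp_apply, MonoidHom.coe_coe, map_eq_one_iff _ e.injective]⟩

theorem Cov.map_eq_iff (hπ : Cov P π) (g h : P) : π g = π h ↔ ∃ c : F, c ^ 5 = 1 ∧
    ((g : GL (Fin 5) F) : Matrix (Fin 5) (Fin 5) F) =
      c • ((h : GL (Fin 5) F) : Matrix (Fin 5) (Fin 5) F) := by
  rw [← mul_inv_eq_one, ← map_inv, ← map_mul, hπ.ker]
  constructor
  · intro h1
    obtain ⟨c, -, hc⟩ := coe_eq_smul_of_mem_scalars h1
    have e : ((g : GL (Fin 5) F) : Matrix (Fin 5) (Fin 5) F) =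
        c • ((h : GL (Fin 5) F) : Matrix (Fin 5) (Fin 5) F) := by
      rw [← one_mul ((h : GL (Fin 5) F) : Matrix (Fin 5) (Fin 5) F), ← smul_mul_assoc, ← hc,
        ← Units.val_mul]
      simp
    exact ⟨c, pow_five_of_det (hπ.sl g.2) (hπ.sl h.2) e, e⟩
  · rintro ⟨c, -, e⟩
    refine mem_scalars_of_eq_smul (c := c) ?_
    rw [Subgroup.coe_mul, Units.val_mul, e, smul_mul_assoc, Subgroup.coe_inv, Units.mul_inv]

section Gen6

variable {ι : Type} [Fintype ι] [DecidableEq ι] {P : Subgroup (GL ι F)}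

theorem coe_coe_pow (g : P) (n : ℕ) : (((g ^ n : P) : GL ι F) : Matrix ι ι F) =
    ((g : GL ι F) : Matrix ι ι F) ^ n := by
  rw [Subgroup.coe_pow, Units.val_pow_eq_pow_val]

theorem sub_ext {g h : P} (e : ((g : GL ι F) : Matrix ι ι F) =
    ((h : GL ι F) : Matrix ι ι F)) : g = h := Subtype.ext (Units.ext e)

end Gen6

theorem Cov.lift_unique (hπ : Cov P π) {n : ℕ} (hn : ¬ 5 ∣ n ∨ (5 : F) = 0) {g h : P}
    (e : π g = π h) (hg : g ^ n = 1) (hh : h ^ n = 1) : g = h := by
  obtain ⟨c, h3, e⟩ := (hπ.map_eq_iff g h).1 e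
  have h1 := coe_coe_pow g n
  rw [e, smul_pow, ← coe_coe_pow, hg, hh] at h1
  have h2 : c ^ n = 1 := (smul_one_inj (a := 1) (by simpa using h1)).symm
  rw [eq_one_of_pow_five h3 hn h2, one_smul] at e
  exact sub_ext e

theorem Cov.pow_five_of_ker (hπ : Cov P π) {g : P} (h : π g = 1) : g ^ 5 = 1 := by
  obtain ⟨c, h3, e⟩ := (hπ.map_eq_iff g 1).1 (by rw [h, map_one])
  refine sub_ext ?_
  rw [coe_coe_pow, e, smul_pow, h3]
  simp

theorem Cov.commute_of_ker (hπ : Cov P π) {g : P} (h : π g = 1) (k : P) : Commute g k :=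
  Subtype.ext (mul_comm_of_mem_scalars ((hπ.ker g).1 h) k)

theorem Cov.exists_lift (hπ : Cov P π) {n : ℕ} (hn : ¬ 5 ∣ n ∨ (5 : F) = 0) {x : G}
    (hx : x ^ n = 1) : ∃ g : P, π g = x ∧ g ^ n = 1 := by
  obtain ⟨g, rfl⟩ := hπ.surj x
  have h1 : π (g ^ n) = 1 := by rw [map_pow, hx]
  have h3 := hπ.pow_five_of_ker h1
  rcases hn with hn | hn
  · obtain ⟨k, hk⟩ : ∃ k, 5 ∣ 1 + n * k := by
      have : n % 5 = 1 ∨ n % 5 = 2 ∨ n % 5 = 3 ∨ n % 5 = 4 := by omega
      rcases this with h | h | h | h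
      exacts [⟨4, by omega⟩, ⟨2, by omega⟩, ⟨3, by omega⟩, ⟨1, by omega⟩]
    obtain ⟨j, hj⟩ := hk
    refine ⟨g ^ (1 + n * k), by rw [map_pow, pow_add, pow_mul, hx, one_pow, mul_one, pow_one], ?_⟩
    rw [← pow_mul, mul_comm, pow_mul, hj, pow_mul, h3, one_pow]
  · exact ⟨g, rfl, hπ.lift_unique (n := 5) (Or.inr hn) (by rw [h1, map_one]) h3 (one_pow _)⟩

/-- Conjugacy of elements of order prime to `5` lifts. -/
theorem Cov.isConj_lift (hπ : Cov P π) {n : ℕ} (hn : ¬ 5 ∣ n ∨ (5 : F) = 0) {g h : P}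
    (hg : g ^ n = 1) (hh : h ^ n = 1) (e : IsConj (π g) (π h)) : IsConj g h := by
  obtain ⟨y, hy⟩ := isConj_iff.1 e
  obtain ⟨y, rfl⟩ := hπ.surj y
  exact isConj_iff.2 ⟨y, hπ.lift_unique hn (by rw [← hy]; simp) (by rw [conj_pow, hg]; simp) hh⟩

theorem Cov.commute_lift (hπ : Cov P π) {n : ℕ} (hn : ¬ 5 ∣ n ∨ (5 : F) = 0) {g h : P}
    (hg : g ^ n = 1) (e : Commute (π g) (π h)) : Commute g h := by
  have : h * g * h⁻¹ = g := hπ.lift_unique hn
    (by rw [map_mul, map_mul, ← e.eq, map_inv, mul_inv_cancel_right])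
    (by rw [conj_pow, hg]; simp) hg
  exact (mul_inv_eq_iff_eq_mul.1 this).symm

section Gen7

variable {ι : Type} [Fintype ι] [DecidableEq ι] {P : Subgroup (GL ι F)}

theorem trace_eq_of_isConj {g h : P} (e : IsConj g h) :
    ((g : GL ι F) : Matrix ι ι F).trace =
      ((h : GL ι F) : Matrix ι ι F).trace := by
  obtain ⟨y, rfl⟩ := isConj_iff.1 e
  exact (trace_cj (y : GL ι F) _).symm

end Gen7

theorem Cov.injective [Finite F] (hπ : Cov P π) (hP : ⁅P, P⁆ = P)
    (h : ∀ Q : Subgroup G, IsPGroup 5 Q → IsCyclic Q) : Function.Injective π := by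
  rw [injective_iff_map_eq_one]
  intro z hz
  have := Fact.mk Nat.prime_five
  have hk : IsPGroup 5 π.ker := fun g => ⟨1, Subtype.ext (by simpa using hπ.pow_five_of_ker g.2)⟩
  obtain ⟨S, hS⟩ := hk.exists_le_sylow
  have := h _ (S.isPGroup'.map π)
  have hcomm : ∀ a b : (S : Subgroup P), a * b = b * a :=
    ((π.subgroupMap S).isMulCommutative_of_isCyclic_of_ker_le_center fun g hg =>
      Subgroup.mem_center_iff.2 fun k => Subtype.ext
        (hπ.commute_of_ker (congrArg Subtype.val hg) k).eq.symm).is_comm.comm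
  have h1 : z ∈ commutator P := by
    have h2 : (commutator P).map P.subtype = P := by
      rw [commutator_def, Subgroup.map_commutator, ← MonoidHom.range_eq_map,
        Subgroup.range_subtype, hP]
    exact (Subgroup.mem_map_iff_mem P.subtype_injective).1 (h2.symm ▸ z.2)
  have h2 := GT.Tr.sylow_inf_commutator_inf_center_le S
    ⟨⟨hS hz, h1⟩, Subgroup.mem_center_iff.2 fun k => (hπ.commute_of_ker hz k).eq.symm⟩
  have h3 : ⁅(S : Subgroup P), (S : Subgroup P)⁆ = ⊥ :=
    Subgroup.commutator_eq_bot_iff_le_centralizer.2 fun a ha b hb =>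
      congrArg Subtype.val (hcomm ⟨b, hb⟩ ⟨a, ha⟩)
  rwa [h3, Subgroup.mem_bot] at h2

theorem cast_eq_zero_iff (p : ℕ) [hp : Fact p.Prime] [CharP F p] {l : ℕ} (hl : l.Prime) :
    (l : F) = 0 ↔ p = l := by
  rw [CharP.cast_eq_zero_iff F p, Nat.prime_dvd_prime_iff_eq hp.out hl]

theorem cov_mk (hP : P ≤ specialLinear (Fin 5) F) :
    Cov P (QuotientGroup.mk' ((scalars (Fin 5) F).subgroupOf P)) :=
  ⟨hP, QuotientGroup.mk'_surjective _, fun g => QuotientGroup.eq_one_iff g⟩

theorem Cov.injective_of_five (hπ : Cov P π) (h3 : (5 : F) = 0) : Function.Injective π :=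
  (injective_iff_map_eq_one π).2 fun g hg => hπ.lift_unique (n := 5) (Or.inr h3)
    (by rw [hg, map_one]) (hπ.pow_five_of_ker hg) (one_pow _)

theorem Cov.isConj_of_injective (hπ : Cov P π) (hi : Function.Injective π) {g h : P}
    (e : IsConj (π g) (π h)) : IsConj g h := by
  obtain ⟨y, hy⟩ := isConj_iff.1 e
  obtain ⟨y, rfl⟩ := hπ.surj y
  exact isConj_iff.2 ⟨y, hi (by rw [← hy]; simp)⟩

theorem Cov.nonempty_equiv (hπ : Cov P π) :
    Nonempty ((P ⧸ (scalars (Fin 5) F).subgroupOf P) ≃* G) :=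
  ⟨(QuotientGroup.quotientMulEquivOfEq (Subgroup.ext fun g => (hπ.ker g).symm)).trans
    (QuotientGroup.quotientKerEquivOfSurjective π hπ.surj)⟩

/-! ### Unipotent matrices -/

section Gen8

variable {ι : Type} [Fintype ι] [DecidableEq ι] {P : Subgroup (GL ι F)}

theorem uni_of_pow [Nonempty ι] {l : ℕ} (hl : l.Prime) (h0 : (l : F) = 0) {A : Matrix ι ι F}
    {k : ℕ} (h : A ^ l ^ k = 1) : IsNilpotent (A - 1) := by
  have := Fact.mk hl
  have : CharP F l := (CharP.charP_iff_prime_eq_zero hl).2 h0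
  exact ⟨l ^ k, by rw [sub_pow_char_pow_of_commute _ _ (Commute.one_right A), h, one_pow, sub_self]⟩

end Gen8

theorem uni_trace {A : Matrix (Fin 5) (Fin 5) F} (h : IsNilpotent (A - 1)) : A.trace = 5 := by
  have := (isNilpotent_trace_of_isNilpotent h).eq_zero
  rw [trace_sub, trace_one, sub_eq_zero] at this
  simpa using this

section Gen9

variable {ι : Type} [Fintype ι] [DecidableEq ι] {P : Subgroup (GL ι F)}

theorem uni_of_pow' [Nonempty ι] {l : ℕ} (hl : l.Prime) (h0 : (l : F) = 0) {g : P} {k : ℕ}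
    (h : g ^ l ^ k = 1) : IsNilpotent (((g : GL ι F) : Matrix ι ι F) - 1) :=
  uni_of_pow hl h0 (k := k) (by rw [← coe_coe_pow, h]; rfl)

theorem coe_commute {g h : P} (e : Commute g h) :
    Commute ((g : GL ι F) : Matrix ι ι F)
      ((h : GL ι F) : Matrix ι ι F) :=
  congrArg (fun z : P => ((z : GL ι F) : Matrix ι ι F)) e.eq

end Gen9

section Gen1

variable {ι : Type} [Fintype ι] [DecidableEq ι] {P : Subgroup (GL ι F)}

/-! ### Invariant forms -/

theorem exists_form_of_trace [Nonempty ι] (hP : Spans P) {σ : F →+* F} (hσ : ∀ a, σ (σ a) = a)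
    (h : ∀ g ∈ P, σ (g : Matrix ι ι F).trace =
      ((g⁻¹ : GL ι F) : Matrix ι ι F).trace) :
    ∃ (ε : F) (f : (ι → F) → (ι → F) → F), HForm σ ε f ∧ P ≤ isoG f ∧
      ((∃ a, σ a ≠ a) → ε = 1) := by
  let R : Matrix ι ι F → Matrix ι ι F → Prop := fun X Y => ∀ k ∈ P,
    (Y * ((k⁻¹ : GL ι F) : Matrix ι ι F)).trace =
      σ ((k : Matrix ι ι F) * X).trace
  have hu : ∀ X Y Y', R X Y → R X Y' → Y = Y' := fun X Y Y' h1 h2 =>
    ext_iff_trace_mul_right.2 fun Z => spanAlg_induction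
      (p := fun Z => (Y * Z).trace = (Y' * Z).trace)
      (fun k hk => by simpa using (h1 _ (P.inv_mem hk)).trans (h2 _ (P.inv_mem hk)).symm)
      (by simp) (fun a b ha hb => by rw [mul_add, mul_add, trace_add, trace_add, ha, hb])
      (fun c a ha => by rw [mul_smul_comm, mul_smul_comm, trace_smul, trace_smul, ha]) (hP Z)
  have rg : ∀ g ∈ P, R g (g⁻¹ : GL ι F) := fun g hg k hk => by
    rw [← Units.val_mul, ← Units.val_mul, h _ (P.mul_mem hk hg), _root_.mul_inv_rev]
  have radd : ∀ X Y X' Y', R X Y → R X' Y' → R (X + X') (Y + Y') := fun X Y X' Y' h1 h2 k hk => by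
    rw [add_mul, mul_add, trace_add, trace_add, map_add, h1 k hk, h2 k hk]
  have rsmul : ∀ (c : F) X Y, R X Y → R (c • X) (σ c • Y) := fun c X Y h1 k hk => by
    rw [smul_mul_assoc, mul_smul_comm, trace_smul, trace_smul, smul_eq_mul, smul_eq_mul, map_mul,
      h1 k hk]
  have hex : ∀ X, ∃ Y, R X Y := fun X => spanAlg_induction (p := fun X => ∃ Y, R X Y)
    (fun g hg => ⟨_, rg g hg⟩) ⟨0, fun k _ => by simp⟩
    (fun a b ⟨_, ha⟩ ⟨_, hb⟩ => ⟨_, radd _ _ _ _ ha hb⟩)
    (fun c a ⟨_, ha⟩ => ⟨_, rsmul c _ _ ha⟩) (hP X)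
  choose s hs using hex
  have hadd : ∀ X Y, s (X + Y) = s X + s Y := fun X Y =>
    hu _ _ _ (hs _) (radd _ _ _ _ (hs X) (hs Y))
  have hsmul : ∀ (c : F) X, s (c • X) = σ c • s X := fun c X =>
    hu _ _ _ (hs _) (rsmul c _ _ (hs X))
  have h0 : s 0 = 0 := by simpa using hsmul 0 0
  have hN : ∀ g ∈ P, s g = (g⁻¹ : GL ι F) := fun g hg => hu _ _ _ (hs _) (rg g hg)
  obtain ⟨ε, f, h1, h2, h3⟩ := exists_form_of_star hσ s hadd hsmul (fun X Y => by
      refine spanAlg_induction (p := fun X => s (X * Y) = s Y * s X) (fun g hg => ?_)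
        (by rw [zero_mul, h0, mul_zero]) (fun a b ha hb => by rw [add_mul, hadd, ha, hb, hadd,
          mul_add]) (fun c a ha => by rw [smul_mul_assoc, hsmul, ha, hsmul, mul_smul_comm])
        (hP X)
      refine spanAlg_induction
        (p := fun Y => s ((g : Matrix ι ι F) * Y) = s Y * s g) (fun k hk => ?_)
        (by rw [mul_zero, h0, zero_mul]) (fun a b ha hb => by rw [mul_add, hadd, ha, hb, hadd,
          add_mul]) (fun c a ha => by rw [mul_smul_comm, hsmul, ha, hsmul, smul_mul_assoc])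
        (hP Y)
      rw [← Units.val_mul, hN _ (P.mul_mem hg hk), hN g hg, hN k hk, _root_.mul_inv_rev,
        Units.val_mul])
    (by simpa using hN 1 P.one_mem) fun X =>
      spanAlg_induction (p := fun X => s (s X) = X)
        (fun g hg => by rw [hN g hg, hN _ (P.inv_mem hg), inv_inv]) (by rw [h0, h0])
        (fun a b ha hb => by rw [hadd, hadd, ha, hb])
        (fun c a ha => by rw [hsmul, hsmul, ha, hσ]) (hP X)
  exact ⟨ε, f, h1, fun g hg => h1.mem_isoG_of_adj (by rw [h2, hN g hg, Units.inv_mul]), h3⟩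

/-! ### Traces -/

theorem trace_pow_char (p : ℕ) [Fact p.Prime] [CharP F p] (A : Matrix ι ι F) :
    (A ^ p).trace = A.trace ^ p := by
  let K := AlgebraicClosure F
  have : CharP K p := charP_of_injective_algebraMap (algebraMap F K).injective p
  have h : ∀ B : Matrix ι ι F, algebraMap F K B.trace = (Cls.evM K B).sum := fun B => by
    rw [Cls.evM, Polynomial.aroots_def, ← Matrix.charpoly_map, ← trace_eq_sum_roots_charpoly,
      AddMonoidHom.map_trace]
  apply (algebraMap F K).injective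
  rw [map_pow, h, h, Cls.evM_pow, ← frobenius_def, map_multiset_sum]
  rfl

theorem tr_pow_char (p : ℕ) [Fact p.Prime] [CharP F p] (g : P) : tr g ^ p = tr (g ^ p) := by
  rw [tr, tr, coe_coe_pow, trace_pow_char]

end Gen1

theorem tr_uni {l : ℕ} (hl : l.Prime) (h0 : (l : F) = 0) {g : P} {k : ℕ} (h : g ^ l ^ k = 1) :
    tr g = 5 := uni_trace (uni_of_pow' hl h0 h)

theorem orth_of_real [Finite F] (hP : QS P) (h : ∀ g : P, tr g = tr g⁻¹) : Orth P := by
  obtain ⟨ε, f, h1, h2, -⟩ := exists_form_of_trace hP.spans (σ := RingHom.id F) (fun _ => rfl)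
    fun g hg => h ⟨g, hg⟩
  have h0 : (2 : F) ≠ 0 := fun h0 => by
    have := h1.even_of_alt (h1.alt_of_irr h0 hP.spans.irr hP.two_le
      (h2.trans (isoG_le_similarityGroup f)))
    revert this
    decide
  rcases h1.eps with rfl | rfl
  · exact ⟨h0, f, h1, h2⟩
  · exact absurd (h1.even_card_of_neg h0) (by decide)

section Gen2

variable {ι : Type} [Fintype ι] [DecidableEq ι] {P : Subgroup (GL ι F)}

theorem card_dvd_of_pow [Fintype F] (p : ℕ) [Fact p.Prime] [CharP F p] (ht : TrGen P) {k : ℕ}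
    (h : ∀ g : P, tr g ^ p ^ k = tr g) :
    (∀ a : F, a ^ p ^ k = a) ∧ ∃ n, 0 < n ∧ n ∣ k ∧ Fintype.card F = p ^ n := by
  have h1 := ht ((iterateFrobenius F p k).eqLocusField (RingHom.id F)) fun g hg => h ⟨g, hg⟩
  have h2 : ∀ a : F, a ^ p ^ k = a := fun a =>
    show a ∈ (iterateFrobenius F p k).eqLocusField (RingHom.id F) from h1 ▸ trivial
  obtain ⟨n, hp, hn⟩ := FiniteField.card F p
  refine ⟨h2, n, n.pos, ?_, hn⟩
  have h3 := FiniteField.forall_pow_eq_one_iff F (p ^ k - 1) |>.1 fun x => by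
    have h4 := h2 x
    rw [← Nat.sub_add_cancel (Nat.one_le_pow k p hp.pos), pow_succ, mul_eq_right₀ x.ne_zero] at h4
    exact Units.ext (by simpa using h4)
  rw [hn] at h3
  have h5 := Nat.gcd_eq_left h3
  rw [Nat.pow_sub_one_gcd_pow_sub_one] at h5
  have h6 := Nat.one_le_pow (Nat.gcd n k) p hp.pos
  have h7 := Nat.one_le_pow n p hp.pos
  exact Nat.gcd_eq_left_iff_dvd.1 (Nat.pow_right_injective hp.two_le (by simp only; omega))

theorem card_eq_of_fix [Fintype F] (p : ℕ) [Fact p.Prime] [CharP F p] (ht : TrGen P)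
    (h : ∀ g : P, tr g ^ p = tr g) : Fintype.card F = p := by
  obtain ⟨-, n, -, h1, h2⟩ := card_dvd_of_pow p ht (k := 1) (by simpa using h)
  rw [h2, Nat.dvd_one.1 h1, pow_one]

theorem card_of_sq [Fintype F] (p : ℕ) [Fact p.Prime] [CharP F p] (ht : TrGen P)
    (h : ∀ g : P, tr g ^ p ^ 2 = tr g) {a : F} (ha : a ^ p ≠ a) : Fintype.card F = p ^ 2 := by
  obtain ⟨-, n, -, h1, h2⟩ := card_dvd_of_pow p ht h
  rcases (Nat.dvd_prime Nat.prime_two).1 h1 with rfl | rfl
  · exact absurd (by rw [← pow_one p, ← h2, FiniteField.pow_card]) ha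
  · exact h2

end Gen2

theorem orth_or_uni [Fintype F] (p : ℕ) [Fact p.Prime] [CharP F p] (hP : QS P) (ht : TrGen P)
    (h : ∀ g : P, tr g ^ p = tr g⁻¹) : Orth P ∨ Uni P p := by
  have h1 : ∀ g : P, tr g ^ p ^ 2 = tr g := fun g => by rw [pow_two, pow_mul, h, h, inv_inv]
  by_cases h2 : ∀ a : F, a ^ p = a
  · exact Or.inl (orth_of_real hP fun g => by rw [← h, h2])
  push Not at h2
  obtain ⟨a, ha⟩ := h2
  obtain ⟨ε, f, h3, h4, h5⟩ := exists_form_of_trace hP.spans (σ := frobenius F p)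
    (fun a => by rw [frobenius_def, frobenius_def, ← pow_mul, ← pow_two,
      (card_dvd_of_pow p ht h1).1]) fun g hg => h ⟨g, hg⟩
  obtain rfl := h5 ⟨a, ha⟩
  exact Or.inr ⟨_, f, ⟨by rw [Nat.card_eq_fintype_card, card_of_sq p ht h1 ha], fun _ => rfl⟩,
    h3, h4⟩

theorem tr_pow_of_real (p : ℕ) [hp : Fact p.Prime] [CharP F p] {g : P} {n k : ℕ} (hg : g ^ n = 1)
    (hr : tr g = tr g⁻¹) (h : p ^ k % n = 1 ∨ (p ^ k + 1) % n = 0 ∨ ∃ j, n = p ^ j) :
    tr g ^ p ^ k = tr g := by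
  have h1 : ∀ k, tr g ^ p ^ k = tr (g ^ p ^ k) := fun k => by
    induction k with
    | zero => simp
    | succ k ih => rw [pow_succ, pow_mul, ih, tr_pow_char, ← pow_mul]
  rw [h1]
  rcases h with h | h | ⟨j, rfl⟩
  · rw [pow_eq_pow_mod _ hg, h, pow_one]
  · rw [hr, eq_inv_of_mul_eq_one_left (a := g ^ p ^ k) (b := g)
      (by rw [← pow_succ, pow_eq_pow_mod _ hg, h, pow_zero])]
  · rw [tr_uni hp.out (CharP.cast_eq_zero F p) hg, tr_uni hp.out (CharP.cast_eq_zero F p) (k := j)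
      (by rw [← pow_mul, mul_comm, pow_mul, hg, one_pow])]

/-! ### Faithfulness, Scott's inequality, weights -/

universe u in
theorem Cov.injective_of_mult [Finite F] {G : Type u} [Group G] {π : P →* G} (hπ : Cov P π)
    (hP : QS P) {A : Type*} [CommGroup A] (h : HasSchurMultiplier G A) (h5 : ¬ 5 ∣ Nat.card A) :
    Function.Injective π := by
  classical
  let e : Shrink.{u} P ≃* P := Shrink.mulEquiv
  have : Finite (Shrink.{u} P) := Finite.of_equiv _ e.toEquiv.symm
  have hc : commutator P = ⊤ := by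
    have h2 : (commutator P).map P.subtype = P := by
      rw [commutator_def, Subgroup.map_commutator, ← MonoidHom.range_eq_map,
        Subgroup.range_subtype, hP.perfect]
    exact eq_top_iff.2 fun z _ => (Subgroup.mem_map_iff_mem P.subtype_injective).1 (h2.symm ▸ z.2)
  have hc' : commutator (Shrink.{u} P) = ⊤ := by
    have := map_commutator_eq P (e.symm : P →* Shrink.{u} P)
    rw [hc, MonoidHom.range_eq_top.2 e.symm.surjective, ← commutator_def,
      Subgroup.map_top_of_surjective _ e.symm.surjective] at this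
    exact this.symm
  obtain ⟨ρ, hρ⟩ := h.2 (Shrink.{u} P) (π.comp (e : Shrink.{u} P →* P))
    ⟨hπ.surj.comp e.surjective, fun x hx => Subgroup.mem_center_iff.2 fun y => e.injective (by
      rw [map_mul, map_mul]; exact (hπ.commute_of_ker hx (e y)).eq.symm), hc' ▸ le_top⟩
  rw [injective_iff_map_eq_one]
  intro z hz
  by_contra h1
  have := Fact.mk Nat.prime_five
  let x : (π.comp (e : Shrink.{u} P →* P)).ker := ⟨e.symm z, by simpa using hz⟩
  have hx : orderOf x = 5 := orderOf_eq_prime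
    (Subtype.ext (e.injective (by simpa [x] using hπ.pow_five_of_ker hz)))
    fun h2 => h1 (by simpa [x] using congrArg (fun y => e y.1) h2)
  exact h5 ((hx ▸ orderOf_dvd_natCard x).trans (Subgroup.card_dvd_of_surjective ρ hρ))

theorem Cov.equiv (hπ : Cov P π) (hi : Function.Injective π) : Nonempty (P ≃* G) :=
  ⟨MulEquiv.ofBijective π ⟨hi, hπ.surj⟩⟩

theorem cd_eq (g : P) : cd g = Module.finrank F
    (LinearMap.range (1 - toLin' ((g : GL (Fin 5) F) : Matrix (Fin 5) (Fin 5) F))) := by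
  have : 1 - toLin' ((g : GL (Fin 5) F) : Matrix (Fin 5) (Fin 5) F) =
      -(((g : GL (Fin 5) F) : Matrix (Fin 5) (Fin 5) F) - 1).mulVecLin := by
    ext x i
    simp
  rw [this, LinearMap.range_neg]
  rfl

section Gen3

variable {ι : Type} [Fintype ι] [DecidableEq ι] {P : Subgroup (GL ι F)}

/-- A subspace invariant under a generating set is trivial. -/
theorem bot_or_top_of_gen (hP : QS P) {S : Set P} (hS : Subgroup.closure S = ⊤)
    (W : Submodule F (ι → F))
    (hW : ∀ g ∈ S, ∀ x ∈ W, ((g : GL ι F) : Matrix ι ι F) *ᵥ x ∈ W) :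
    W = ⊥ ∨ W = ⊤ := by
  refine hP.irr W (inv_iff_le.2 fun g hg => ?_)
  have h : Subgroup.closure S ≤ (subspaceStabilizer W).comap P.subtype :=
    (Subgroup.closure_le _).2 fun g hg => mem_subspaceStabilizer_of_maps (hW g hg)
  exact h (hS ▸ Subgroup.mem_top (⟨g, hg⟩ : P))

end Gen3

/-- Scott's inequality. -/
theorem scott (hP : QS P) {a b c : P} (h : a * b * c = 1) (hg : Subgroup.closure {a, b} = ⊤) :
    10 ≤ cd a + cd b + cd c := by
  have key := Spor.Scott.scott (toLin' ((a : GL (Fin 5) F) : Matrix (Fin 5) (Fin 5) F))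
    (toLin' ((b : GL (Fin 5) F) : Matrix (Fin 5) (Fin 5) F))
    (toLin' ((c : GL (Fin 5) F) : Matrix (Fin 5) (Fin 5) F)) (by
      rw [Module.End.mul_eq_comp, Module.End.mul_eq_comp, ← toLin'_mul, ← toLin'_mul,
        ← Units.val_mul, ← Units.val_mul, ← Subgroup.coe_mul, ← Subgroup.coe_mul, h]
      simp [Module.End.one_eq_id])
  rw [← cd_eq, ← cd_eq, ← cd_eq] at key
  have hne : ¬ (∀ g ∈ ({a, b} : Set P), ∀ x,
      ((g : GL (Fin 5) F) : Matrix (Fin 5) (Fin 5) F) *ᵥ x = x) := fun h0 => by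
    refine hP.not_le_scalars fun g hg' => ?_
    have h1 : Subgroup.closure ({a, b} : Set P) ≤ ⊥ := (Subgroup.closure_le _).2 fun g hg =>
      Subgroup.mem_bot.2 (Subtype.ext (gl_ext fun x => by simpa using h0 g hg x))
    have h2 : (⟨g, hg'⟩ : P) = 1 := Subgroup.mem_bot.1 (h1 (hg ▸ Subgroup.mem_top _))
    rw [show g = 1 from congrArg Subtype.val h2]
    exact Subgroup.one_mem _
  set X := toLin' ((a : GL (Fin 5) F) : Matrix (Fin 5) (Fin 5) F)
  set Y := toLin' ((b : GL (Fin 5) F) : Matrix (Fin 5) (Fin 5) F)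
  have h1 : LinearMap.range (1 - X) ⊔ LinearMap.range (1 - Y) = ⊤ := by
    refine (bot_or_top_of_gen hP hg _ fun g hg x hx => ?_).resolve_left fun e => hne ?_
    · have : ((g : GL (Fin 5) F) : Matrix (Fin 5) (Fin 5) F) *ᵥ x = x - (x -
          ((g : GL (Fin 5) F) : Matrix (Fin 5) (Fin 5) F) *ᵥ x) := by abel
      rw [this]
      refine Submodule.sub_mem _ hx ?_
      rcases hg with rfl | rfl
      · exact Submodule.mem_sup_left ⟨x, by simp [X]⟩
      · exact Submodule.mem_sup_right ⟨x, by simp [Y]⟩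
    · rintro g (rfl | rfl) x
      · have : (1 - X) x ∈ (⊥ : Submodule F (Fin 5 → F)) := e ▸ Submodule.mem_sup_left ⟨x, rfl⟩
        simpa [X, sub_eq_zero, eq_comm] using this
      · have : (1 - Y) x ∈ (⊥ : Submodule F (Fin 5 → F)) := e ▸ Submodule.mem_sup_right ⟨x, rfl⟩
        simpa [Y, sub_eq_zero, eq_comm] using this
  have h2 : LinearMap.ker (1 - X) ⊓ LinearMap.ker (1 - Y) = ⊥ := by
    refine (bot_or_top_of_gen hP hg _ fun g hg x hx => ?_).resolve_right fun e => hne ?_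
    · have : ((g : GL (Fin 5) F) : Matrix (Fin 5) (Fin 5) F) *ᵥ x = x := by
        rcases hg with rfl | rfl
        · simpa [X, sub_eq_zero, eq_comm] using hx.1
        · simpa [Y, sub_eq_zero, eq_comm] using hx.2
      rwa [this]
    · intro g hg x
      have hx : x ∈ LinearMap.ker (1 - X) ⊓ LinearMap.ker (1 - Y) := e ▸ Submodule.mem_top
      rcases hg with rfl | rfl
      · simpa [X, sub_eq_zero, eq_comm] using hx.1
      · simpa [Y, sub_eq_zero, eq_comm] using hx.2
  rw [h1, h2] at key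
  simpa using key

/-- The weights of a commutative group of semisimple elements. -/
structure Wt {A : Type*} [Group A] (ρ : A →* P)
    (χ : Fin 5 → A →* (AlgebraicClosure F)ˣ) : Prop where
  ex : ∃ Q : GL (Fin 5) (AlgebraicClosure F), ∀ a,
    (Q⁻¹).val * (((ρ a : P) : GL (Fin 5) F) : Matrix (Fin 5) (Fin 5) F).map
      (algebraMap F (AlgebraicClosure F)) * Q.val = diagonal fun i => (χ i a : AlgebraicClosure F)

theorem exists_wt {A : Type*} [Group A] (ρ : A →* P) (hc : ∀ a b : A, Commute a b) {r : ℕ}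
    (hr : (r : F) ≠ 0) (hA : ∀ a : A, a ^ r = 1) : ∃ χ, Wt ρ χ := by
  let K := AlgebraicClosure F
  have : NeZero (r : K) := ⟨by rwa [← map_natCast (algebraMap F K), _root_.map_ne_zero]⟩
  have h0 : r ≠ 0 := fun h => hr (by simp [h])
  have : NeZero r := ⟨h0⟩
  obtain ⟨ζ, hζ⟩ := HasEnoughRootsOfUnity.exists_primitiveRoot K r
  let ψ : A →* Matrix (Fin 5) (Fin 5) K :=
    (algebraMap F K).mapMatrix.toMonoidHom.comp ((Units.coeHom _).comp (P.subtype.comp ρ))
  obtain ⟨Q, d, hd⟩ := Cls.exists_hom_rootsOfUnity ψ hc (Nat.pos_of_ne_zero h0) hζ hA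
  refine ⟨fun i => MonoidHom.mk' (fun a => (d a i : Kˣ)) fun a b => Units.ext ?_, ⟨Q, hd⟩⟩
  have h1 : (Q⁻¹).val * ψ (a * b) * Q.val = (Q⁻¹).val * ψ a * Q.val * ((Q⁻¹).val * ψ b * Q.val) := by
    rw [map_mul]
    simp only [mul_assoc, Units.mul_inv_cancel_left]
  rw [hd, hd, hd, diagonal_mul_diagonal] at h1
  exact congrFun (diagonal_injective h1) i

namespace Wt

variable {A : Type*} [Group A] {ρ : A →* P} {χ : Fin 5 → A →* (AlgebraicClosure F)ˣ}

theorem tr_eq (h : Wt ρ χ) (a : A) :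
    algebraMap F (AlgebraicClosure F) (tr (ρ a)) = ∑ i, (χ i a : AlgebraicClosure F) := by
  obtain ⟨Q, hQ⟩ := h.ex
  have := congrArg trace (hQ a)
  rw [trace_mul_cycle, Units.mul_inv, one_mul, trace_diagonal] at this
  rw [← this, AddMonoidHom.map_trace]

theorem cd_eq (h : Wt ρ χ) (a : A) : cd (ρ a) = Nat.card {i // χ i a ≠ 1} := by
  classical
  obtain ⟨Q, hQ⟩ := h.ex
  have h1 : (Q⁻¹).val * ((((ρ a : P) : GL (Fin 5) F) : Matrix (Fin 5) (Fin 5) F) - 1).map
      (algebraMap F (AlgebraicClosure F)) * Q.val =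
        diagonal fun i => (χ i a : AlgebraicClosure F) - 1 := by
    rw [← diagonal_sub, ← hQ, Matrix.map_sub _ (map_sub _), Matrix.map_one _ (map_zero _) (map_one _),
      mul_sub, sub_mul, mul_one, Units.inv_mul, diagonal_one]
  have h2 := congrArg Matrix.rank h1
  rw [rank_mul_eq_left_of_isUnit_det _ _ (Matrix.isUnits_det_units Q),
    rank_mul_eq_right_of_isUnit_det _ _ (Matrix.isUnits_det_units Q⁻¹), rank_diagonal] at h2
  rw [cd, ← Cls.rank_map (algebraMap F (AlgebraicClosure F)), h2,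
    Nat.card_eq_fintype_card]
  exact Fintype.card_congr (Equiv.subtypeEquivRight fun i => by simp [sub_eq_zero])

theorem eq_one (h : Wt ρ χ) {a : A} (ha : ∀ i, χ i a = 1) : ρ a = 1 := by
  obtain ⟨Q, hQ⟩ := h.ex
  have h1 := hQ a
  simp only [ha, Units.val_one, diagonal_one] at h1
  rw [mul_assoc, Units.inv_mul_eq_one, ← Units.mul_inv_eq_iff_eq_mul, Units.mul_inv] at h1
  refine sub_ext (Matrix.map_injective (algebraMap F (AlgebraicClosure F)).injective ?_)
  simp only [← h1]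
  simp

theorem prod_eq (h : Wt ρ χ) (hP : P ≤ specialLinear (Fin 5) F) (a : A) : ∏ i, χ i a = 1 := by
  obtain ⟨Q, hQ⟩ := h.ex
  have h1 := congrArg det (hQ a)
  rw [det_units_conj', det_diagonal, ← RingHom.mapMatrix_apply, ← RingHom.map_det,
    (mem_specialLinear_iff _).1 (hP (ρ a).2), map_one] at h1
  exact Units.ext (by simpa using h1.symm)

/-- An element normalising the group permutes the weights. -/
theorem perm (h : Wt ρ χ) (g : P) (α : A → A) (hα : ∀ a, ρ (α a) = g * ρ a * g⁻¹) :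
    ∃ σ : Equiv.Perm (Fin 5), ∀ i a, χ (σ i) (α a) = χ i a := by
  obtain ⟨Q, hQ⟩ := h.ex
  let K := AlgebraicClosure F
  let ψ : P →* Matrix (Fin 5) (Fin 5) K :=
    (algebraMap F K).mapMatrix.toMonoidHom.comp ((Units.coeHom _).comp P.subtype)
  have hQ' : ∀ a, (Q⁻¹).val * ψ (ρ a) * Q.val = diagonal fun i => (χ i a : K) := hQ
  set H := (Q⁻¹).val * ψ g * Q.val with hH
  have h1 : H.det ≠ 0 := by
    rw [hH, det_units_conj']
    exact ((isUnit_iff_isUnit_det _).1 ((Group.isUnit g).map ψ)).ne_zero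
  have h2 : ∀ a, (diagonal fun i => (χ i (α a) : K)) * H = H * diagonal fun i => (χ i a : K) :=
    fun a => by
    rw [← hQ', ← hQ', hH, hα]
    simp only [mul_assoc, Units.mul_inv_cancel_left]
    congr 1
    simp only [← mul_assoc, ← map_mul, inv_mul_cancel_right]
  rw [det_apply] at h1
  obtain ⟨σ, -, hσ⟩ := Finset.exists_ne_zero_of_sum_ne_zero h1
  refine ⟨σ, fun i a => Units.ext ?_⟩
  have h3 := congrFun (congrFun (h2 a) (σ i)) i
  rw [diagonal_mul, mul_diagonal, mul_comm] at h3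
  exact mul_left_cancel₀ (Finset.prod_ne_zero_iff.1 (right_ne_zero_of_smul hσ) i (by simp)) h3

end Wt

/-! ### Involutions -/

theorem exists_vec_of_rank {N : Matrix (Fin 5) (Fin 5) F} (h : N.rank ≤ 1) :
    ∃ v φ : Fin 5 → F, ∀ x, N *ᵥ x = (φ ⬝ᵥ x) • v := by
  obtain ⟨v, hv⟩ := (finrank_le_one_iff (K := F) (V := LinearMap.range N.mulVecLin)).1 h
  choose c hc using fun i : Fin 5 => hv ⟨N *ᵥ Pi.single i 1, _, rfl⟩
  refine ⟨v, c, fun x => ?_⟩
  have h1 : ∀ i, N *ᵥ Pi.single i 1 = c i • (v : Fin 5 → F) := fun i =>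
    (congrArg Subtype.val (hc i)).symm
  conv_lhs => rw [pi_eq_sum_univ' x]
  simp only [mulVec_sum, mulVec_smul, h1, smul_smul, dotProduct, Finset.sum_smul, mul_comm]

theorem rank_add_rank_of_sq {g : Matrix (Fin 5) (Fin 5) F} (h : g * g = 1) :
    (g - 1).rank + (g + 1).rank ≤ 5 := by
  have := rank_add_rank_le_card_of_mul_eq_zero (A := g - 1) (B := g + 1)
    (by rw [sub_mul, mul_add, h]; simp [add_comm])
  simpa using this

theorem inv2_of_two (h2 : (2 : F) = 0) (P : Subgroup (GL (Fin 5) F)) : Inv2 P := fun g _ h => by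
  have := rank_add_rank_of_sq (g := (g : Matrix (Fin 5) (Fin 5) F))
    (by rw [← Units.val_mul, h, Units.val_one])
  have e : (g : Matrix (Fin 5) (Fin 5) F) + 1 = g - 1 := by
    rw [eq_sub_iff_add_eq, add_assoc, ← two_smul F (1 : Matrix (Fin 5) (Fin 5) F), h2, zero_smul,
      add_zero]
  rw [e] at this
  omega

theorem rank_add_rank_eq {g : Matrix (Fin 5) (Fin 5) F} (h2 : (2 : F) ≠ 0) (h : g * g = 1) :
    (g - 1).rank + (g + 1).rank = 5 := by
  refine le_antisymm (rank_add_rank_of_sq h) ?_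
  have h1 : (⊤ : Submodule F (Fin 5 → F)) ≤
      LinearMap.range (g - 1).mulVecLin ⊔ LinearMap.range (g + 1).mulVecLin := fun x _ => by
    have : x = (g - 1) *ᵥ (-(2 : F)⁻¹ • x) + (g + 1) *ᵥ ((2 : F)⁻¹ • x) := by
      simp only [sub_mulVec, add_mulVec, one_mulVec, mulVec_smul]
      have : (2 : F)⁻¹ + 2⁻¹ = 1 := by field_simp; norm_num
      linear_combination (norm := module) (-this) • x
    rw [this]
    exact Submodule.add_mem_sup ⟨_, rfl⟩ ⟨_, rfl⟩
  simpa [Matrix.rank] using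
    (Submodule.finrank_mono h1).trans (Submodule.finrank_add_le_finrank_add_finrank _ _)

/-- The weights of an involution. -/
theorem exists_wt_invol (h2 : (2 : F) ≠ 0) (hP : P ≤ specialLinear (Fin 5) F) {g : P}
    (h : g * g = 1) : Even (cd g) ∧ tr g = 5 - 2 * (cd g : F) := by
  classical
  obtain ⟨χ, hχ⟩ := exists_wt (Subgroup.zpowers g).subtype
    (by rintro ⟨_, m, rfl⟩ ⟨_, n, rfl⟩; exact Subtype.ext (Commute.zpow_zpow_self g m n)) (r := 2) (by exact_mod_cast h2) (by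
      rintro ⟨_, n, rfl⟩
      exact Subtype.ext (by simp only [Subgroup.coe_pow, OneMemClass.coe_one]; rw [← zpow_natCast,
        ← _root_.zpow_mul, mul_comm, _root_.zpow_mul, zpow_natCast, pow_two, h, _root_.one_zpow]))
  let a : Subgroup.zpowers g := ⟨g, Subgroup.mem_zpowers g⟩
  have h1 := hχ.cd_eq a
  have h3 := hχ.tr_eq a
  have h4 := hχ.prod_eq hP a
  change cd g = _ at h1
  change algebraMap _ _ (tr g) = _ at h3
  have h5 : ∀ i, χ i a ≠ 1 → χ i a = -1 := fun i hi => by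
    have : χ i a * χ i a = 1 := by rw [← map_mul, show a * a = 1 from Subtype.ext h, map_one]
    exact Units.ext ((mul_self_eq_one_iff.1 (congrArg Units.val this)).resolve_left
      fun e => hi (Units.ext e))
  rw [Nat.card_eq_fintype_card, Fintype.card_subtype] at h1
  have h6 : ∀ i, χ i a = if χ i a ≠ 1 then -1 else 1 := fun i => by
    split_ifs with e
    exacts [h5 i e, not_not.1 e]
  constructor
  · rw [Finset.prod_congr rfl fun i _ => h6 i, Finset.prod_ite, Finset.prod_const,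
      Finset.prod_const_one, mul_one, ← h1] at h4
    by_contra h7
    rw [(Nat.not_even_iff_odd.1 h7).neg_one_pow] at h4
    refine h2 ((algebraMap F (AlgebraicClosure F)).injective ?_)
    have := congrArg Units.val h4
    simp only [Units.val_neg, Units.val_one] at this
    rw [map_ofNat, map_zero]
    linear_combination -this
  · refine (algebraMap F (AlgebraicClosure F)).injective ?_
    have h7 : ∀ i, (χ i a : AlgebraicClosure F) = 1 - 2 * if χ i a ≠ 1 then 1 else 0 := fun i => by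
      split_ifs with e
      · rw [h5 i e]; norm_num
      · rw [not_not.1 e]; simp
    rw [h3, Finset.sum_congr rfl fun i _ => h7 i, Finset.sum_sub_distrib, ← Finset.mul_sum,
      Finset.sum_boole, ← h1]
    simp [map_ofNat]

theorem inv2_of_not_rf (h2 : (2 : F) ≠ 0) (hP : P ≤ specialLinear (Fin 5) F)
    (h : ∀ v φ, ¬ Rf P v φ) : Inv2 P := fun g hg e => by
  by_contra h1
  have e' : (g : Matrix (Fin 5) (Fin 5) F) * g = 1 := by rw [← Units.val_mul, e, Units.val_one]
  have h3 := rank_add_rank_eq h2 e'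
  obtain ⟨h4, h5⟩ := exists_wt_invol h2 hP (g := ⟨g, hg⟩) (Subtype.ext e)
  simp only [cd, tr] at h4 h5
  have h6 : ((g : Matrix (Fin 5) (Fin 5) F) - 1).rank = 4 := by
    obtain ⟨k, hk⟩ := h4
    omega
  obtain ⟨v, φ, h7⟩ := exists_vec_of_rank (N := (g : Matrix (Fin 5) (Fin 5) F) + 1) (by omega)
  refine h v φ ⟨?_, g, hg, fun x => by rw [← h7, add_mulVec, one_mulVec]; abel⟩
  have e1 : ∀ i, ((g : Matrix (Fin 5) (Fin 5) F) + 1) i i = φ i * v i := fun i => by
    simpa using congrFun (h7 (Pi.single i 1)) i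
  have e2 : ((g : Matrix (Fin 5) (Fin 5) F) + 1).trace = φ ⬝ᵥ v := by
    simp only [trace, diag_apply, e1, dotProduct]
  rw [← e2, trace_add, h5, h6]
  simp
  norm_num

theorem Inv2.cd_eq (h : Inv2 P) (h2 : (2 : F) ≠ 0) (hP : P ≤ specialLinear (Fin 5) F) {g : P}
    (e : g * g = 1) (h1 : g ≠ 1) : cd g = 2 ∧ tr g = 1 := by
  obtain ⟨⟨k, hk⟩, h5⟩ := exists_wt_invol h2 hP e
  have h3 : cd g ≤ 2 := h g g.2 (congrArg Subtype.val e)
  have h4 : cd g ≠ 0 := fun h0 => h1 (sub_ext (by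
    have : LinearMap.range ((((g : GL (Fin 5) F) : Matrix (Fin 5) (Fin 5) F) - 1).mulVecLin) = ⊥ :=
      Submodule.finrank_eq_zero.1 h0
    rw [LinearMap.range_eq_bot] at this
    exact sub_eq_zero.1 (Matrix.toLin'.injective (this.trans (map_zero _).symm))))
  have h6 : cd g = 2 := by omega
  refine ⟨h6, ?_⟩
  rw [h5, h6]
  norm_num

section Gen4

variable {ι : Type} [Fintype ι] [DecidableEq ι] {P : Subgroup (GL ι F)}

/-! ### Duality -/

/-- The transpose-inverse automorphism. -/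
def dual : GL ι F ≃* GL ι F where
  toFun g := ⟨(g⁻¹).valᵀ, g.valᵀ, by rw [← transpose_mul, Units.mul_inv, transpose_one],
    by rw [← transpose_mul, Units.inv_mul, transpose_one]⟩
  invFun g := ⟨(g⁻¹).valᵀ, g.valᵀ, by rw [← transpose_mul, Units.mul_inv, transpose_one],
    by rw [← transpose_mul, Units.inv_mul, transpose_one]⟩
  left_inv _ := Units.ext rfl
  right_inv _ := Units.ext rfl
  map_mul' g h := Units.ext (by simp)

theorem coe_dual (g : GL ι F) : (dual g).val = (g⁻¹).valᵀ := rfl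

theorem dual_dual (g : GL ι F) : dual (dual g) = g := Units.ext rfl

/-- The dual of `P`. -/
def dP (P : Subgroup (GL ι F)) : Subgroup (GL ι F) :=
  P.map (dual : GL ι F ≃* GL ι F).toMonoidHom

theorem mem_dP {g : GL ι F} : g ∈ dP P ↔ dual g ∈ P :=
  ⟨fun ⟨h, hh, e⟩ => by rw [← e]; exact (dual_dual h).symm ▸ hh, fun h => ⟨_, h, dual_dual g⟩⟩

theorem dP_dP (P : Subgroup (GL ι F)) : dP (dP P) = P :=
  Subgroup.ext fun g => by rw [mem_dP, mem_dP, dual_dual]

/-- `P` is isomorphic to its dual. -/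
noncomputable def dPEquiv (P : Subgroup (GL ι F)) : P ≃* dP P :=
  Subgroup.equivMapOfInjective P _ dual.injective

theorem transpose_mem_dP {g : GL ι F} (hg : g ∈ P) :
    ∃ h ∈ dP P, (h : Matrix ι ι F) = (g : Matrix ι ι F)ᵀ :=
  ⟨dual g⁻¹, mem_dP.2 (by rw [dual_dual]; exact P.inv_mem hg), rfl⟩

theorem dual_mem_scalars {g : GL ι F} (h : g ∈ scalars ι F) :
    dual g ∈ scalars ι F := by
  obtain ⟨c, -, hc⟩ := coe_eq_smul_of_mem_scalars ((scalars ι F).inv_mem h)
  exact mem_scalars_of_eq_smul (c := c) (by rw [coe_dual, hc]; simp)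

theorem qs_dP (hP : QS P) : QS (dP P) where
  two_le := hP.two_le
  perfect := by rw [dP, ← Subgroup.map_commutator, hP.perfect]
  spans := fun x => by
    rw [← transpose_transpose x]
    refine spanAlg_induction (p := fun y => yᵀ ∈ spanAlg (dP P)) (fun g hg => ?_)
      (by simp) (fun a b ha hb => by rw [transpose_add]; exact add_mem ha hb)
      (fun c a ha => by rw [transpose_smul]; exact Subalgebra.smul_mem _ ha c) (hP.spans xᵀ)
    obtain ⟨h, hh, e⟩ := transpose_mem_dP hg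
    exact e ▸ coe_mem_spanAlg hh
  simple := fun N hN hn => by
    rcases hP.simple (dP N) (fun g hg => by simpa [mem_dP, dual_dual] using hN (mem_dP.1 hg))
      (fun g hg x hx => mem_dP.2 (by
        rw [map_mul, map_mul, map_inv]
        exact hn _ (mem_dP.2 (by rwa [dual_dual])) _ (mem_dP.1 hx))) with h | h
    · exact Or.inl fun g hg => dual_dual g ▸ dual_mem_scalars (h (mem_dP.2 (by rwa [dual_dual])))
    · exact Or.inr (by rw [← h, dP_dP])

theorem MT.dP {v φ : ι → F} (h : MT P v φ) : MT (dP P) φ v := by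
  obtain ⟨h0, g, hg, e⟩ := h
  obtain ⟨k, hk, e'⟩ := transpose_mem_dP hg
  refine ⟨by rwa [dotProduct_comm], k, hk, fun x => dotProduct_eq _ _ fun y => ?_⟩
  rw [e', mulVec_transpose, ← dotProduct_mulVec, e]
  simp only [dotProduct_add, add_dotProduct, dotProduct_smul, smul_dotProduct, smul_eq_mul,
    dotProduct_comm x v]
  ring

theorem mt_dP {v φ : ι → F} : MT (dP P) φ v ↔ MT P v φ :=
  ⟨fun h => by simpa [dP_dP] using h.dP, MT.dP⟩

theorem NoTv.dP (h : NoTv P) : NoTv (dP P) := fun v φ e => (h φ v (mt_dP.1 e)).symm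

end Gen4

theorem Rf.dP {v φ : Fin 5 → F} (h : Rf P v φ) : Rf (dP P) φ v := by
  obtain ⟨h0, g, hg, e⟩ := h
  obtain ⟨k, hk, e'⟩ := transpose_mem_dP hg
  refine ⟨by rwa [dotProduct_comm], k, hk, fun x => dotProduct_eq _ _ fun y => ?_⟩
  rw [e', mulVec_transpose, ← dotProduct_mulVec, e]
  simp only [dotProduct_add, add_dotProduct, dotProduct_smul, smul_dotProduct, smul_eq_mul,
    dotProduct_comm x v, dotProduct_neg, neg_dotProduct]
  ring

section Gen5

variable {ι : Type} [Fintype ι] [DecidableEq ι] {P : Subgroup (GL ι F)}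

theorem TrGen.dP (h : TrGen P) : TrGen (dP P) := fun k hk => h k fun g hg => by
  obtain ⟨x, hx, e⟩ := transpose_mem_dP hg
  simpa [e] using hk x hx

end Gen5

/-! ### The simple quotient -/

theorem simple_of_equiv (hP : QS P) (h : ∀ g ∈ P, g ∈ scalars (Fin 5) F → g = 1) :
    IsSimpleGroup P := by
  have := isSimpleGroup_quot_of (hP.spans.not_le_scalars hP.two_le) hP.simple
  obtain ⟨e⟩ := (cov_mk (qs_le_sl hP)).equiv ((injective_iff_map_eq_one _).2 fun g hg =>
    Subtype.ext (h g g.2 (((cov_mk (qs_le_sl hP)).ker g).1 hg)))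
  exact e.isSimpleGroup

end Cfsg.Agent.Cl.D5
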