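/-
Subgroups of `SL₅(F)` in characteristic two without transvections: vocabulary.
-/
import Mathlib
import Cfsg.Agent.Cl.D5Base

set_option autoImplicit false

namespace Cfsg.Agent.Cl.D5

open Matrix

variable {F : Type*} [Field F] {P : Subgroup (GL (Fin 5) F)}

/-- The matrix `g - 1`. -/
abbrev nil (g : P) : Matrix (Fin 5) (Fin 5) F := ((g : GL (Fin 5) F) : Matrix (Fin 5) (Fin 5) F) - 1

/-- The structure of a `2`-group `S` with central involution `t`. -/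
structure St (S : Subgroup P) (t : P) (A Q : Subgroup P) (u : Fin 5 → F) : Prop where
  A_le : A ≤ S
  Q_le : Q ≤ S
  mem_A : ∀ s ∈ S, s ∈ A ↔ nil s * nil t = 0
  im_A : ∀ a ∈ A, ∀ x, ∃ y, nil a *ᵥ x = nil t *ᵥ y
  sq_A : ∀ a ∈ A, a * a = 1
  sq_Q : ∀ a ∈ Q, a * a = 1
  invol : ∀ s ∈ S, s * s = 1 → s ∈ A ∨ s ∈ Q
  comm_le : ⁅S, S⁆ ≤ A ⊓ Q
  cent : A ⊓ Q ≤ Subgroup.centralizer (S : Set P)
  ne : u ≠ 0
  im_u : ∃ y, nil t *ᵥ y = u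
  fix : ∀ s ∈ S, nil s *ᵥ u = 0
  map_Q : ∀ q ∈ Q, ∀ x, (∃ c : F, nil t *ᵥ x = c • u) → ∃ c : F, nil q *ᵥ x = c • u

end Cfsg.Agent.Cl.D5
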