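/-
Subgroups of `SL₅(F)` in characteristic two without transvections: coordinates for a `2`-group.
-/
import Mathlib
import Cfsg.Agent.Cl.D5EDefs
import Cfsg.Agent.Perm.PermModule

set_option autoImplicit false

namespace Cfsg.Agent.Cl.D5.EA

open Matrix Cfsg.Geo Cfsg.Agent.Cl.Max Cfsg.Agent.Cl.Mx
open scoped MatrixGroups

variable {F : Type*} [Field F] {P : Subgroup (GL (Fin 5) F)}

/-- The unitriangular matrices commuting with the standard involution. -/
def U (a b c d e f g h i : F) : Matrix (Fin 5) (Fin 5) F :=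
  !![1, a, b, d, f; 0, 1, c, e, g; 0, 0, 1, h, i; 0, 0, 0, 1, a; 0, 0, 0, 0, 1]

/-- The nilpotent part of the standard involution. -/
def N0 : Matrix (Fin 5) (Fin 5) F :=
  !![0, 0, 0, 1, 0; 0, 0, 0, 0, 1; 0, 0, 0, 0, 0; 0, 0, 0, 0, 0; 0, 0, 0, 0, 0]

/-- `m` has the shape of `U`. -/
def Sh (m : Matrix (Fin 5) (Fin 5) F) : Prop :=
  m = U (m 0 1) (m 0 2) (m 1 2) (m 0 3) (m 1 3) (m 0 4) (m 1 4) (m 2 3) (m 2 4)

theorem U_mul (a b c d e f g h i a' b' c' d' e' f' g' h' i' : F) :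
    U a b c d e f g h i * U a' b' c' d' e' f' g' h' i' =
      U (a + a') (b + b' + a * c') (c + c') (d + d' + a * e' + b * h') (e + e' + c * h')
        (f + f' + a * g' + b * i' + d * a') (g + g' + c * i' + e * a') (h + h')
        (i + i' + h * a') := by
  ext r s
  fin_cases r <;> fin_cases s <;> simp [U, mul_apply, Fin.sum_univ_five] <;> ring

theorem Sh.mul {m n : Matrix (Fin 5) (Fin 5) F} (hm : Sh m) (hn : Sh n) :
    (m * n) 0 1 = m 0 1 + n 0 1 ∧ (m * n) 0 2 = m 0 2 + n 0 2 + m 0 1 * n 1 2 ∧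
    (m * n) 1 2 = m 1 2 + n 1 2 ∧
    (m * n) 0 3 = m 0 3 + n 0 3 + m 0 1 * n 1 3 + m 0 2 * n 2 3 ∧
    (m * n) 1 3 = m 1 3 + n 1 3 + m 1 2 * n 2 3 ∧
    (m * n) 0 4 = m 0 4 + n 0 4 + m 0 1 * n 1 4 + m 0 2 * n 2 4 + m 0 3 * n 0 1 ∧
    (m * n) 1 4 = m 1 4 + n 1 4 + m 1 2 * n 2 4 + m 1 3 * n 0 1 ∧
    (m * n) 2 3 = m 2 3 + n 2 3 ∧ (m * n) 2 4 = m 2 4 + n 2 4 + m 2 3 * n 0 1 := by
  have e := congrArg₂ (· * ·) hm hn
  simp only [U_mul] at e
  rw [e]
  exact ⟨rfl, rfl, rfl, rfl, rfl, rfl, rfl, rfl, rfl⟩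

theorem Sh.mulVec {m : Matrix (Fin 5) (Fin 5) F} (hm : Sh m) (x : Fin 5 → F) :
    (m - 1) *ᵥ x = ![m 0 1 * x 1 + m 0 2 * x 2 + m 0 3 * x 3 + m 0 4 * x 4,
      m 1 2 * x 2 + m 1 3 * x 3 + m 1 4 * x 4, m 2 3 * x 3 + m 2 4 * x 4, m 0 1 * x 4, 0] := by
  rw [sub_mulVec, one_mulVec]
  conv_lhs => rw [hm]
  ext r
  fin_cases r <;> simp [U, dotProduct, Fin.sum_univ_five] <;> ring

theorem N0_mulVec (x : Fin 5 → F) : N0 *ᵥ x = ![x 3, x 4, 0, 0, 0] := by
  ext r
  fin_cases r <;> simp [N0, Matrix.mulVec, dotProduct, Fin.sum_univ_five]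

theorem Sh.mul_N0 {m : Matrix (Fin 5) (Fin 5) F} (hm : Sh m) : (m - 1) * N0 = 0 ↔ m 0 1 = 0 := by
  rw [← mulVec_injective.eq_iff, funext_iff]
  simp only [← mulVec_mulVec, hm.mulVec, N0_mulVec, zero_mulVec]
  refine ⟨fun h => by simpa using congrFun (h (Pi.single 4 1)) 0, fun h x => ?_⟩
  ext r
  fin_cases r <;> simp [h]

theorem sh_of {m : Matrix (Fin 5) (Fin 5) F} (h2 : (2 : F) = 0) (hc : m * N0 = N0 * m)
    (hf : m *ᵥ Pi.single 0 1 = Pi.single 0 1) (hn : IsNilpotent (m - 1)) : Sh m := by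
  have e := fun r s => congrFun (congrFun hc r) s
  have f := congrFun hf
  simp only [N0, mul_apply, Fin.sum_univ_five, Fin.forall_fin_succ, IsEmpty.forall_iff] at e
  simp only [mulVec_single_one, col_apply, Fin.forall_fin_succ, IsEmpty.forall_iff] at f
  simp at e f
  have h4 : m 4 4 = 1 := by
    obtain ⟨n, hn⟩ := hn
    have k1 : Pi.single 4 1 ᵥ* (m - 1) = (m 4 4 - 1) • (Pi.single 4 1 : Fin 5 → F) := by
      ext s
      rw [single_one_vecMul]
      fin_cases s <;> simp <;> grind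
    have k2 : ∀ n : ℕ, Pi.single 4 1 ᵥ* (m - 1) ^ n =
        (m 4 4 - 1) ^ n • (Pi.single 4 1 : Fin 5 → F) := fun n => by
      induction n with
      | zero => simp
      | succ n ih => rw [pow_succ, ← vecMul_vecMul, ih, smul_vecMul, k1, smul_smul, pow_succ]
    have k3 := congrFun (k2 n) 4
    rw [hn, vecMul_zero, Pi.smul_apply, Pi.single_eq_same, smul_eq_mul, mul_one] at k3
    exact sub_eq_zero.1 (IsNilpotent.eq_zero ⟨n, k3.symm⟩)
  have h5 := uni_trace hn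
  rw [trace, Fin.sum_univ_five] at h5
  simp only [diag_apply] at h5
  ext r s
  fin_cases r <;> fin_cases s <;> simp [U] <;> grind

/-- The matrix of `g` in the basis `B`. -/
def R (B : GL (Fin 5) F) (g : P) : Matrix (Fin 5) (Fin 5) F :=
  ((B⁻¹ * g * B : GL (Fin 5) F) : Matrix (Fin 5) (Fin 5) F)

variable {B : GL (Fin 5) F}

theorem R_mul (g h : P) : R B (g * h) = R B g * R B h := by
  rw [R, R, R, ← Units.val_mul, Subgroup.coe_mul]
  congr 1
  group

theorem R_one : R B (1 : P) = 1 := by simp [R]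

theorem R_pow (g : P) (n : ℕ) : R B (g ^ n) = R B g ^ n := by
  induction n with
  | zero => simp [R_one]
  | succ n ih => rw [pow_succ, R_mul, ih, pow_succ]

theorem R_inj {g h : P} (e : R B g = R B h) : g = h :=
  Subtype.ext (mul_left_cancel (mul_right_cancel (Units.ext e)))

theorem nil_mul (g : P) : nil g * B = B * (R B g - 1) := by
  rw [R, mul_sub, sub_mul, ← Units.val_mul, ← Units.val_mul, mul_one, one_mul]
  congr 2
  group

theorem nil_mulVec (g : P) (x : Fin 5 → F) :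
    nil g *ᵥ (B : Matrix (Fin 5) (Fin 5) F) *ᵥ x = (B : Matrix (Fin 5) (Fin 5) F) *ᵥ (R B g - 1) *ᵥ x := by
  rw [mulVec_mulVec, nil_mul, mulVec_mulVec]

theorem exists_B (B : GL (Fin 5) F) (x : Fin 5 → F) : ∃ y, x = (B : Matrix (Fin 5) (Fin 5) F) *ᵥ y :=
  ⟨_, (mulVec_inv_mulVec B x).symm⟩

theorem nil_mul_nil (g h : P) : nil g * nil h = 0 ↔ (R B g - 1) * (R B h - 1) = 0 := by
  rw [← B.mul_left_eq_zero, mul_assoc, nil_mul, ← mul_assoc, nil_mul, mul_assoc,
    B.mul_right_eq_zero]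

theorem tv (hn : NoTv P) {g : P} {v φ : Fin 5 → F} (h0 : φ ⬝ᵥ v = 0)
    (h : ∀ x, (R B g - 1) *ᵥ x = (φ ⬝ᵥ x) • v) : v = 0 ∨ φ = 0 := by
  refine (hn ((B : Matrix (Fin 5) (Fin 5) F) *ᵥ v)
    (φ ᵥ* ((B⁻¹ : GL (Fin 5) F) : Matrix (Fin 5) (Fin 5) F)) ⟨?_, g, g.2, fun x => ?_⟩).imp
    (fun e => by_contra fun h => mulVec_gl_ne_zero h B e)
    fun e => by_contra fun h => vecMul_gl_ne_zero h _ e
  · rw [← dotProduct_mulVec, inv_mulVec_mulVec, h0]
  · obtain ⟨y, rfl⟩ := exists_B B x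
    have := nil_mulVec (B := B) g y
    rw [h, sub_mulVec, one_mulVec, mulVec_smul, sub_eq_iff_eq_add'] at this
    rw [this, ← dotProduct_mulVec, inv_mulVec_mulVec]

theorem nil_sq (h2 : (2 : F) = 0) {t : P} (h : t * t = 1) : nil t * nil t = 0 := by
  have e : ((t : GL (Fin 5) F) : Matrix (Fin 5) (Fin 5) F) * (t : GL (Fin 5) F) = 1 := by
    rw [← Units.val_mul, ← Subgroup.coe_mul, h]; rfl
  have e2 : ∀ m : Matrix (Fin 5) (Fin 5) F, m + m = 0 := fun m => by
    rw [← two_smul F, h2, zero_smul]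
  rw [sub_mul, mul_sub, mul_sub, e, mul_one, one_mul, mul_one]
  linear_combination (norm := abel) e2 1 - e2 (t : GL (Fin 5) F)

theorem rank_eq (hn : NoTv P) (h2 : (2 : F) = 0) {t : P} (h : t * t = 1) (h1 : t ≠ 1) :
    (nil t).rank = 2 := by
  refine le_antisymm (inv2_of_two h2 P t t.2 (by rw [← Subgroup.coe_mul, h]; rfl)) ?_
  by_contra hr
  obtain ⟨v, φ, e⟩ := exists_vec_of_rank (N := nil t) (by omega)
  have h0 : φ ⬝ᵥ v = 0 := by
    by_contra h0
    have := e (nil t *ᵥ v)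
    rw [mulVec_mulVec, nil_sq h2 h, zero_mulVec, e, dotProduct_smul, smul_eq_mul, eq_comm,
      smul_eq_zero] at this
    exact this.elim (mul_ne_zero h0 h0) fun hv => h0 (by rw [hv, dotProduct_zero])
  refine h1 (sub_ext (sub_eq_zero.1 (mulVec_injective (funext fun x => ?_))))
  rw [zero_mulVec]
  rcases hn v φ ⟨h0, t, t.2, fun x => by rw [← e, sub_mulVec, one_mulVec, add_sub_cancel]⟩ with
    rfl | rfl <;> simpa using e x

theorem commute_nil {s t : P} (h : Commute s t) :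
    ((s : GL (Fin 5) F) : Matrix (Fin 5) (Fin 5) F) * nil t = nil t * (s : GL (Fin 5) F) :=
  ((coe_commute h).sub_right (Commute.one_right _)).eq

/-- A basis adapted to a nilpotent matrix of rank two. -/
theorem exists_basis {N : Matrix (Fin 5) (Fin 5) F} (hN : N * N = 0) (hr : N.rank = 2)
    {v : Fin 5 → F} (hv : N *ᵥ v ≠ 0) : ∃ B : GL (Fin 5) F, N * B.val = B.val * N0 ∧
      (B : Matrix (Fin 5) (Fin 5) F) *ᵥ Pi.single 0 1 = N *ᵥ v := by
  have h1 : Module.finrank F (LinearMap.range N.mulVecLin) = 2 := hr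
  have h3 := N.mulVecLin.finrank_range_add_finrank_ker
  rw [Module.finrank_fin_fun, h1] at h3
  obtain ⟨_, ⟨w, rfl⟩, hw⟩ := SetLike.not_le_iff_exists.1
    fun h : LinearMap.range N.mulVecLin ≤ F ∙ N *ᵥ v => by
      have := Submodule.finrank_mono h
      rw [finrank_span_singleton hv, h1] at this
      omega
  obtain ⟨k, hk, hk'⟩ := SetLike.not_le_iff_exists.1
    fun h : LinearMap.ker N.mulVecLin ≤ LinearMap.range N.mulVecLin => by
      have := Submodule.finrank_mono h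
      omega
  rw [LinearMap.mem_ker, mulVecLin_apply] at hk
  rw [mulVecLin_apply] at hw
  have hNN : ∀ x, N *ᵥ N *ᵥ x = 0 := fun x => by rw [mulVec_mulVec, hN, zero_mulVec]
  let B : Matrix (Fin 5) (Fin 5) F := (of ![N *ᵥ v, N *ᵥ w, k, v, w])ᵀ
  have hB : ∀ x, B *ᵥ x = x 0 • N *ᵥ v + x 1 • N *ᵥ w + x 2 • k + x 3 • v + x 4 • w := fun x => by
    ext r
    simp [B, Matrix.mulVec, dotProduct, Fin.sum_univ_five, mul_comm]
  have ind : ∀ a b : F, a • N *ᵥ v + b • N *ᵥ w = 0 → a = 0 ∧ b = 0 := fun a b e => by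
    have hb : b = 0 := by
      by_contra hb
      refine hw (Submodule.mem_span_singleton.2 ⟨-(b⁻¹ * a), ?_⟩)
      rw [← inv_smul_smul₀ hb (N *ᵥ w), eq_neg_of_add_eq_zero_right e]
      module
    rw [hb, zero_smul, add_zero] at e
    exact ⟨(smul_eq_zero.1 e).resolve_right hv, hb⟩
  have hu : IsUnit B := by
    rw [← mulVec_injective_iff_isUnit]
    refine (injective_iff_map_eq_zero B.mulVecLin).2 fun x hx => ?_
    rw [mulVecLin_apply, hB] at hx
    have e1 := congrArg (N *ᵥ ·) hx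
    simp only [mulVec_add, mulVec_smul, hNN, hk, smul_zero, zero_add, mulVec_zero] at e1
    obtain ⟨x3, x4⟩ := ind _ _ e1
    rw [x3, x4, zero_smul, zero_smul, add_zero, add_zero] at hx
    have x2 : x 2 = 0 := by
      by_contra hb
      refine hk' ⟨-((x 2)⁻¹ • (x 0 • v + x 1 • w)), ?_⟩
      rw [← inv_smul_smul₀ hb k, eq_neg_of_add_eq_zero_right hx]
      simp only [mulVecLin_apply, mulVec_neg, mulVec_smul, mulVec_add, smul_neg]
    rw [x2, zero_smul, add_zero] at hx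
    obtain ⟨x0, x1⟩ := ind _ _ hx
    ext r
    fin_cases r <;> assumption
  refine ⟨hu.unit, mulVec_injective (funext fun x => ?_), ?_⟩
  · simp only [IsUnit.unit_spec, ← mulVec_mulVec, hB, N0_mulVec]
    simp [mulVec_add, mulVec_smul, hNN, hk]
  · simp [hB, -mulVec_single]

/-- Coordinates for a `2`-group with a central involution. -/
structure Co (S : Subgroup P) (t : P) (B : GL (Fin 5) F) : Prop where
  sh : ∀ s ∈ S, Sh (R B s)
  t0 : R B t - 1 = N0

theorem exists_co [Finite F] (h2 : (2 : F) = 0) (hn : NoTv P) {S : Subgroup P} (hS : IsPGroup 2 S)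
    {t : P} (h : t * t = 1) (h1 : t ≠ 1) (hc : t ∈ Subgroup.centralizer (S : Set P)) :
    ∃ B, Co S t B := by
  have hr := rank_eq hn h2 h h1
  have : CharP F 2 := CharTwo.of_one_ne_zero_of_two_eq_zero one_ne_zero h2
  have cm : ∀ s ∈ S, Commute s t := fun s hs => hc s hs
  obtain ⟨_, ⟨v, rfl⟩, hv, hf⟩ := Perm.exists_fixed_ne_zero_of_isPGroup (K := F) hS
    ((toLinAlgEquiv' (R := F) (n := Fin 5)).toRingEquiv.toRingHom.toMonoidHom.comp
      ((Units.coeHom _).comp (P.subtype.comp S.subtype)))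
    (LinearMap.range (nil t).mulVecLin) (fun e => by
      have : Module.finrank F (LinearMap.range (nil t).mulVecLin) = 2 := hr
      rw [e, finrank_bot] at this
      omega) (by
      rintro s _ ⟨x, rfl⟩
      refine ⟨((s : P) : GL (Fin 5) F) *ᵥ x, ?_⟩
      change nil t *ᵥ _ = (((s : P) : GL (Fin 5) F) : Matrix (Fin 5) (Fin 5) F) *ᵥ nil t *ᵥ x
      rw [mulVec_mulVec, mulVec_mulVec, commute_nil (cm s s.2)])
  obtain ⟨B, e1, e2⟩ := exists_basis (nil_sq h2 h) hr hv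
  have e3 : R B t - 1 = N0 := by rw [← B.mul_right_inj, ← nil_mul, e1]
  refine ⟨B, fun s hs => sh_of h2 ?_ ?_ ?_, e3⟩
  · rw [← e3, mul_sub, sub_mul, ← R_mul, ← R_mul, (cm s hs).eq, mul_one, one_mul]
  · have e4 : ((s : GL (Fin 5) F) : Matrix (Fin 5) (Fin 5) F) *ᵥ nil t *ᵥ v = nil t *ᵥ v :=
      hf ⟨s, hs⟩
    have e5 := nil_mulVec (B := B) s (Pi.single 0 1)
    rw [e2, sub_mulVec, e4, one_mulVec, sub_self, eq_comm] at e5
    have e6 := by_contra fun h => mulVec_gl_ne_zero h B e5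
    rwa [sub_mulVec, one_mulVec, sub_eq_zero] at e6
  · obtain ⟨k, hk⟩ := hS ⟨s, hs⟩
    refine uni_of_pow Nat.prime_two (by exact_mod_cast h2) (k := k) ?_
    rw [← R_pow, show s ^ 2 ^ k = 1 from congrArg Subtype.val hk, R_one]

end Cfsg.Agent.Cl.D5.EA
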