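/-
`A₇` and `M₁₁` in dimension five.
-/
import Mathlib
import Cfsg.Agent.Cl.D5Base
import Cfsg.Agent.Cl.D5LBa
import Cfsg.Prelude.Def_Sporadic

set_option autoImplicit false

namespace Cfsg.Agent.Cl.D5

open Matrix Cfsg.Geo Cfsg.Agent.Cl.Max Cfsg.Agent.Cl.Mx
open scoped MatrixGroups

variable {F : Type*} [Field F] {P : Subgroup (GL (Fin 5) F)}

namespace LB

theorem pow_sixty (σ : Equiv.Perm (Fin 5)) : σ ^ 60 = 1 := by
  ext1 i
  have h1 : Function.minimalPeriod σ i ≤ 5 := by simpa using Function.minimalPeriod_le_card (f := σ)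
  have h2 : 0 < Function.minimalPeriod σ i :=
    Function.minimalPeriod_pos_of_mem_periodicPts (σ.injective.mem_periodicPts i)
  have h3 : Function.minimalPeriod σ i ∣ 60 := by
    generalize Function.minimalPeriod σ i = n at h1 h2
    interval_cases n <;> norm_num
  exact Function.isPeriodicPt_iff_minimalPeriod_dvd.2 h3

theorem supp_fifteen (σ : Equiv.Perm (Fin 5)) : (σ ^ 15).support.card ≤ 4 :=
  (by decide +kernel : ∀ τ : Equiv.Perm (Fin 5), τ * τ * (τ * τ) = 1 → τ.support.card ≤ 4) _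
    (by rw [← pow_add, ← pow_add]; exact pow_sixty σ)

theorem supp_twenty (σ : Equiv.Perm (Fin 5)) : (σ ^ 20).support.card ≤ 3 :=
  (by decide +kernel : ∀ τ : Equiv.Perm (Fin 5), τ * τ * τ = 1 → τ.support.card ≤ 3) _
    (by rw [← pow_add, ← pow_add]; exact pow_sixty σ)

theorem perm_iter {A : Type*} [Group A] {χ : Fin 5 → A →* (AlgebraicClosure F)ˣ} {α : A → A}
    {σ : Equiv.Perm (Fin 5)} (h : ∀ i a, χ (σ i) (α a) = χ i a) (m : ℕ) (i : Fin 5) (a : A) :
    χ ((σ ^ m) i) (α^[m] a) = χ i a := by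
  induction m with
  | zero => rfl
  | succ m ih => rw [pow_succ', Function.iterate_succ_apply', Equiv.Perm.mul_apply, h, ih]

/-- A bound for the number of non-trivial eigenvalues of an element conjugate to a power. -/
theorem cd_le {g h : P} {r k m n : ℕ} (hr : (r : F) ≠ 0) (hg : g ^ r = 1)
    (hh : h * g * h⁻¹ = g ^ k) (hk : 0 < k) (hc : Nat.Coprime (k ^ m - 1) r)
    (hm : ∀ σ : Equiv.Perm (Fin 5), (σ ^ m).support.card ≤ n) : cd g ≤ n := by
  classical
  obtain ⟨χ, hχ⟩ := exists_wt (Subgroup.zpowers g).subtype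
    (by rintro ⟨_, m, rfl⟩ ⟨_, n, rfl⟩; exact Subtype.ext (Commute.zpow_zpow_self g m n)) hr (by
      rintro ⟨_, n, rfl⟩
      exact Subtype.ext (by
        simp only [Subgroup.coe_pow, OneMemClass.coe_one]
        rw [← zpow_natCast, ← _root_.zpow_mul, mul_comm, _root_.zpow_mul, zpow_natCast, hg,
          _root_.one_zpow]))
  obtain ⟨σ, hσ⟩ := hχ.perm h (fun a => a ^ k) (by
    rintro ⟨_, n, rfl⟩
    simp only [Subgroup.subtype_apply, Subgroup.coe_pow]
    rw [← conj_zpow, hh, ← zpow_natCast, ← zpow_natCast, ← _root_.zpow_mul, ← _root_.zpow_mul,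
      mul_comm])
  let a : Subgroup.zpowers g := ⟨g, Subgroup.mem_zpowers g⟩
  have h1 : cd g = _ := hχ.cd_eq a
  rw [h1, Nat.card_eq_fintype_card, Fintype.card_subtype]
  refine (Finset.card_le_card fun i hi => ?_).trans (hm σ)
  rw [Finset.mem_filter] at hi
  rw [Equiv.Perm.mem_support]
  intro e
  have h2 := perm_iter hσ m i a
  rw [e, pow_iterate, map_pow] at h2
  have h3 : χ i a ^ (k ^ m - 1) = 1 := by
    have h4 : k ^ m = k ^ m - 1 + 1 := (Nat.sub_add_cancel (Nat.pow_pos hk)).symm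
    rw [h4, pow_succ] at h2
    exact mul_eq_right.1 h2
  have h5 : χ i a ^ r = 1 := by rw [← map_pow, show a ^ r = 1 from Subtype.ext hg, map_one]
  exact hi.2 ((pow_eq_one_iff_of_coprime hc).1 ⟨h3, h5⟩)

theorem cd_le_four {g : P} (h : IsNilpotent (((g : GL (Fin 5) F) : Matrix (Fin 5) (Fin 5) F) - 1)) :
    cd g ≤ 4 := by
  by_contra h1
  have h2 : LinearMap.range (((g : GL (Fin 5) F) : Matrix (Fin 5) (Fin 5) F) - 1).mulVecLin = ⊤ :=
    Submodule.eq_top_of_finrank_eq (le_antisymm (Submodule.finrank_le _) (by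
      simp only [Module.finrank_fintype_fun_eq_card, Fintype.card_fin]
      exact not_le.1 h1))
  exact h.not_isUnit (mulVec_surjective_iff_isUnit.1 (LinearMap.range_eq_top.1 h2))

theorem not_nine {a b g : P} (h3 : (3 : F) ≠ 0) (ha : a ^ 3 = 1) (hb : b ^ 3 = 1)
    (hab : a * b = b * a) (h1 : g * a * g⁻¹ = b) (h2 : g * b * g⁻¹ = a * b) : a = 1 := by
  let A := Subgroup.closure ({a, b} : Set P)
  have ma : a ∈ A := Subgroup.subset_closure (by simp)
  have mb : b ∈ A := Subgroup.subset_closure (by simp)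
  have hcomm : IsMulCommutative A := Subgroup.isMulCommutative_closure (by
    rintro x (rfl | rfl) y (rfl | rfl)
    exacts [rfl, hab, hab.symm, rfl])
  have hc : ∀ x y : A, Commute x y := fun x y => hcomm.is_comm.comm x y
  have hA : ∀ x ∈ A, x ^ 3 = 1 := fun x hx => by
    induction hx using Subgroup.closure_induction with
    | mem x hx => rcases hx with rfl | rfl; exacts [ha, hb]
    | one => simp
    | mul x y hx hy ex ey =>
      rw [Commute.mul_pow (congrArg Subtype.val (hc ⟨x, hx⟩ ⟨y, hy⟩).eq), ex, ey, mul_one]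
    | inv x _ ex => rw [inv_pow, ex, inv_one]
  have hN : ∀ x ∈ A, g * x * g⁻¹ ∈ A := fun x hx => by
    induction hx using Subgroup.closure_induction with
    | mem x hx =>
      rcases hx with rfl | rfl
      · rwa [h1]
      · rw [h2]; exact A.mul_mem ma mb
    | one => simp
    | mul x y _ _ ex ey => rw [← conj_mul]; exact A.mul_mem ex ey
    | inv x _ ex => rw [← conj_inv]; exact A.inv_mem ex
  obtain ⟨χ, hχ⟩ := exists_wt A.subtype hc (r := 3) (by exact_mod_cast h3)
    fun x => Subtype.ext (hA x x.2)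
  let α : A → A := fun x => ⟨_, hN x x.2⟩
  obtain ⟨σ, hσ⟩ := hχ.perm g α fun _ => rfl
  have hs : σ ^ 60 = 1 := pow_sixty σ
  have hm : ∀ x y, α (x * y) = α x * α y := fun x y => Subtype.ext (conj_mul ..).symm
  have hi : ∀ x, α x⁻¹ = (α x)⁻¹ := fun x => Subtype.ext (conj_inv ..).symm
  let a' : A := ⟨a, ma⟩
  let b' : A := ⟨b, mb⟩
  have e1 : α a' = b' := Subtype.ext h1
  have e2 : α b' = a' * b' := Subtype.ext h2
  have e3 : α^[4] a' = a'⁻¹ := by
    simp only [Function.iterate_succ_apply', Function.iterate_zero_apply, e1, e2, hm]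
    have ha' : a' ^ 3 = 1 := Subtype.ext ha
    have hb' : b' ^ 3 = 1 := Subtype.ext hb
    rw [eq_inv_iff_mul_eq_one, ← mul_one (1 : A), ← ha']
    nth_rw 2 [show a' ^ 3 = b' ^ 3 by rw [ha', hb']]
    simp only [pow_succ, pow_zero, one_mul, mul_assoc, (hc b' a').eq, (hc b' a').left_comm]
  have e4 : ∀ n x, α^[n] x⁻¹ = (α^[n] x)⁻¹ := fun n x => by
    induction n with
    | zero => rfl
    | succ n ih => rw [Function.iterate_succ_apply', Function.iterate_succ_apply', ih, hi]
  have e5 : α^[8] a' = a' := by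
    rw [show 8 = 4 + 4 from rfl, Function.iterate_add_apply, e3, e4, e3, inv_inv]
  have e6 : α^[60] a' = a'⁻¹ := by
    rw [show 60 = 4 + 8 * 7 from rfl, Function.iterate_add_apply, Function.iterate_mul,
      Function.iterate_fixed e5, e3]
  refine hχ.eq_one (a := a') fun i => ?_
  have h4 := perm_iter hσ 60 i a'
  rw [hs, e6, Equiv.Perm.one_apply, map_inv, inv_eq_iff_mul_eq_one, ← pow_two] at h4
  have h5 : χ i a' ^ 3 = 1 := by rw [← map_pow, show a' ^ 3 = 1 from Subtype.ext ha, map_one]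
  exact (pow_eq_one_iff_of_coprime (by norm_num)).1 ⟨h4, h5⟩

end LB

variable [Fintype F]

theorem case_alt (hP : QS P) (hi : Inv2 P) (e : P ≃* alternatingGroup (Fin 7)) : Orth P := by
  by_cases h7 : ((7 : ℕ) : F) = 0
  · refine orth_of_real hP fun g => ?_
    rcases LB.alt7_real (e g) with h | h
    · have h1 : g ^ 7 ^ 1 = 1 := e.injective (by rw [map_pow, map_one]; exact h)
      rw [tr_uni (by norm_num) h7 h1, tr_uni (g := g⁻¹) (by norm_num) h7 (by rw [inv_pow, h1, inv_one])]
    · exact trace_eq_of_isConj (by simpa using e.symm.toMonoidHom.map_isConj h)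
  exfalso
  obtain ⟨t, y, a, b, h1, h2, h3, h4, h5, h6⟩ := LB.alt7_gen
  have k1 : cd (e.symm t) ≤ 2 := hi _ (e.symm t).2 (by
    rw [← Subgroup.coe_mul, ← map_mul, h1, map_one, OneMemClass.coe_one])
  have k0 : e.symm y ^ 5 = 1 := by rw [← map_pow, h2, map_one]
  have k2 : cd (e.symm y) ≤ 4 := by
    by_cases h5 : ((5 : ℕ) : F) = 0
    · exact LB.cd_le_four (uni_of_pow' (k := 1) Nat.prime_five h5 k0)
    · exact LB.cd_le (h := e.symm a) (k := 2) (m := 15) h5 k0
        (by rw [← map_inv, ← map_mul, ← map_mul, h4, map_pow]) two_pos (by norm_num)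
        LB.supp_fifteen
  have k3 : cd (e.symm (t * y)⁻¹) ≤ 3 :=
    LB.cd_le (h := e.symm b) (k := 2) (m := 20) h7 (by rw [← map_pow, h3, map_one])
      (by rw [← map_inv, ← map_mul, ← map_mul, h5, map_pow]) two_pos (by norm_num)
      LB.supp_twenty
  have := scott hP (a := e.symm t) (b := e.symm y) (c := e.symm (t * y)⁻¹)
    (by rw [← map_mul, ← map_mul, mul_inv_cancel, map_one]) (by
      have := congrArg (Subgroup.map e.symm.toMonoidHom) h6
      rwa [MonoidHom.map_closure, Set.image_pair,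
        Subgroup.map_top_of_surjective _ e.symm.surjective] at this)
  omega

theorem case_m11 (_hP : QS P) (ht : TrGen P) (h : IsM11 P) : Fintype.card F = 3 := by
  have h3 : ((3 : ℕ) : F) = 0 := by
    by_contra h3
    obtain ⟨a, b, g, h1, h2, h4, h5, h6, h7⟩ := LB.m11_nine h
    exact h7 (LB.not_nine (by exact_mod_cast h3) h1 h2 h4 h5 h6)
  have := Fact.mk Nat.prime_three
  have : CharP F 3 := (CharP.charP_iff_prime_eq_zero Nat.prime_three).2 h3
  refine card_eq_of_fix 3 ht fun g => ?_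
  rcases LB.m11_cube h g with h1 | h1
  · rw [tr_uni (k := 2) Nat.prime_three h3 h1]
    have h4 : (3 : F) = 0 := by exact_mod_cast h3
    linear_combination 40 * h4
  · apply (frobenius F 3).injective
    rw [frobenius_def, frobenius_def, tr_pow_char 3, tr_pow_char 3, ← pow_mul]
    exact (trace_eq_of_isConj h1).symm

end Cfsg.Agent.Cl.D5
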