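/-
`L₂(r)`, `r` odd, in dimension five.
-/
import Mathlib
import Cfsg.Agent.Cl.D5Base
import Cfsg.Agent.Cl.D5LB
import Cfsg.Agent.Cl.D3Norm
import Cfsg.Agent.GT.QuadSL2

set_option autoImplicit false

namespace Cfsg.Agent.Cl.D5

open Matrix Cfsg.Geo Cfsg.Agent.Cl.Max Cfsg.Agent.Cl.Mx
open scoped MatrixGroups

variable {F : Type*} [Field F] {P : Subgroup (GL (Fin 5) F)}

namespace LA

open L2

theorem conj_mem_zpowers {G : Type*} [Group G] [Finite G] {p : ℕ} [Fact p.Prime] {x g : G}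
    (hx : orderOf x = p) (hk : (Nat.card G).factorization p = 1) (hg : g ^ p = 1) :
    ∃ k : G, k * g * k⁻¹ ∈ Subgroup.zpowers x := by
  let S : Sylow p G := Sylow.ofCard (Subgroup.zpowers x) (by rw [Nat.card_zpowers, hx, hk, pow_one])
  have h1 : IsPGroup p (Subgroup.zpowers g) := by
    rintro ⟨_, n, rfl⟩
    refine ⟨1, Subtype.ext ?_⟩
    simp only [Subgroup.coe_pow, OneMemClass.coe_one, pow_one]
    rw [← zpow_natCast, ← _root_.zpow_mul, mul_comm, _root_.zpow_mul, zpow_natCast, hg,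
      _root_.one_zpow]
  obtain ⟨T, hT⟩ := h1.exists_le_sylow
  obtain ⟨k, hk⟩ := MulAction.exists_smul_eq G T S
  refine ⟨k, ?_⟩
  have h2 : k * g * k⁻¹ ∈ ((k • T : Sylow p G) : Subgroup G) :=
    Subgroup.smul_mem_pointwise_smul g (MulAut.conj k) _ (hT (Subgroup.mem_zpowers g))
  rwa [hk] at h2

/-- An element moving every weight has trace zero. -/
theorem tr_zero {A : Type*} [Group A] {ρ : A →* P} {χ : Fin 5 → A →* (AlgebraicClosure F)ˣ}
    (h : Wt ρ χ) (g : P) (α : A → A) (hα : ∀ a, ρ (α a) = g * ρ a * g⁻¹)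
    (hχ : ∀ i, ∃ a, χ i (α a) ≠ χ i a) : tr g = 0 := by
  obtain ⟨Q, hQ⟩ := h.ex
  let K := AlgebraicClosure F
  let ψ : P →* Matrix (Fin 5) (Fin 5) K :=
    (algebraMap F K).mapMatrix.toMonoidHom.comp ((Units.coeHom _).comp P.subtype)
  have hQ' : ∀ a, (Q⁻¹).val * ψ (ρ a) * Q.val = diagonal fun i => (χ i a : K) := hQ
  set H := (Q⁻¹).val * ψ g * Q.val with hH
  have h2 : ∀ a, (diagonal fun i => (χ i (α a) : K)) * H = H * diagonal fun i => (χ i a : K) :=
    fun a => by
    rw [← hQ', ← hQ', hH, hα]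
    simp only [mul_assoc, Units.mul_inv_cancel_left]
    congr 1
    simp only [← mul_assoc, ← map_mul, inv_mul_cancel_right]
  have h3 : ∀ i, H i i = 0 := fun i => by
    obtain ⟨a, ha⟩ := hχ i
    have h3 := congrFun (congrFun (h2 a) i) i
    rw [diagonal_mul, mul_diagonal, mul_comm] at h3
    by_contra h4
    exact ha (Units.ext (mul_left_cancel₀ h4 h3))
  have h4 : H.trace = 0 := Finset.sum_eq_zero fun i _ => h3 i
  rw [hH, trace_mul_cycle, Units.mul_inv, one_mul] at h4
  refine (algebraMap F K).injective ?_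
  rw [map_zero, ← h4, AddMonoidHom.map_trace]
  rfl

variable {K : Type*} [Field K] [Fintype K]

omit [Fintype K] in
theorem eq_one_of_fix {M : Type*} [Group M] {χ : Multiplicative K →* M} {a b : K} (hab : a ≠ b)
    (h : ∀ x : K, χ (.ofAdd (a * x)) = χ (.ofAdd (b * x))) (x : Multiplicative K) : χ x = 1 := by
  have h1 := h (x.toAdd / (a - b))
  rw [← mul_inv_eq_one, ← map_inv, ← map_mul, ← ofAdd_neg, ← ofAdd_add] at h1
  rw [← h1]
  congr 1
  have := sub_ne_zero.2 hab
  refine Multiplicative.toAdd.injective ?_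
  rw [toAdd_ofAdd]
  field_simp
  ring

/-- The weights of the unipotent subgroup in cross characteristic. -/
theorem weights (e : P ≃* PSL(2, K)) {l : ℕ} [CharP K l] (hl : (l : F) ≠ 0) :
    Fintype.card K ≤ 11 ∧ (Fintype.card K = 11 → ∀ (g : P) (a : K), a ≠ 0 → a ≠ 1 →
      emb (e g) = aff a 0 → tr g = 0) := by
  classical
  obtain ⟨u, hu⟩ := D3.exists_uS (K := K)
  let ρ : Multiplicative K →* P := MonoidHom.mk' (fun b => e.symm (u b.toAdd)) fun a b => by
    rw [← map_mul, D3.uS_mul hu, toAdd_mul]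
  obtain ⟨χ, hχ⟩ := exists_wt ρ (fun a b => mul_comm a b) hl fun a => by
    refine Multiplicative.toAdd.injective ?_
    rw [toAdd_pow, nsmul_eq_mul, CharP.cast_eq_zero, zero_mul, toAdd_one]
  have hconj : ∀ (g : P) (a : K), a ≠ 0 → emb (e g) = aff a 0 → ∀ b : Multiplicative K,
      ρ (.ofAdd (a * b.toAdd)) = g * ρ b * g⁻¹ := fun g a ha hg b => by
    apply e.injective
    apply emb_injective
    simp only [ρ, MonoidHom.mk'_apply, map_mul, map_inv, MulEquiv.apply_symm_apply, hg, hu,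
      toAdd_ofAdd, aff_conj_one ha]
  have hσ : ∀ s : Kˣ, ∃ σ : Equiv.Perm (Fin 5), ∀ i (b : Multiplicative K),
      χ (σ i) (.ofAdd (s * s * b.toAdd)) = χ i b := fun s => by
    have ha : (s : K) * s ≠ 0 := mul_ne_zero s.ne_zero s.ne_zero
    obtain ⟨g, hg⟩ := exists_emb_of_mem ((aff_mem_psl ha 0).2 ⟨s, rfl⟩)
    exact hχ.perm (e.symm g) _ (hconj _ _ ha (by rw [e.apply_symm_apply, hg]))
  choose σ hσ using hσ
  obtain ⟨i0, hi0⟩ : ∃ i, χ i (.ofAdd 1) ≠ 1 := by
    by_contra h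
    push Not at h
    have h1 := hχ.eq_one h
    simp only [ρ, MonoidHom.mk'_apply, toAdd_ofAdd, map_eq_one_iff _ e.symm.injective,
      D3.uS_eq_one hu] at h1
    exact one_ne_zero h1
  let T : Finset (Fin 5) := Finset.univ.filter fun i => ∃ x, χ i x ≠ 1
  have hT : Fintype.card K - 1 ≤ 2 * T.card := by
    rw [← Fintype.card_units, ← Finset.card_univ]
    refine Finset.card_le_mul_card_image_of_maps_to (f := fun s => σ s i0)
      (fun s _ => Finset.mem_filter.2 ⟨Finset.mem_univ _, _, by rw [hσ]; exact hi0⟩) 2 fun j _ => ?_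
    rcases (Finset.univ.filter fun s => σ s i0 = j).eq_empty_or_nonempty with h | ⟨s, hs⟩
    · rw [h]; simp
    refine (Finset.card_le_card (t := {s, -s}) fun t ht => ?_).trans Finset.card_le_two
    have h1 := (Finset.mem_filter.1 hs).2
    have h2 := (Finset.mem_filter.1 ht).2
    have h3 : (t : K) * t = s * s := by
      by_contra h3
      refine hi0 ?_
      rw [← hσ s, h1]
      refine eq_one_of_fix h3 (fun x => ?_) _
      have e1 := hσ s i0 (.ofAdd x)
      have e2 := hσ t i0 (.ofAdd x)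
      rw [toAdd_ofAdd] at e1 e2
      rw [h1] at e1
      rw [h2] at e2
      rw [e1, e2]
    rw [Finset.mem_insert, Finset.mem_singleton]
    exact (mul_self_eq_mul_self_iff.1 h3).imp Units.ext Units.ext
  have hT5 : T.card ≤ 5 := by simpa using T.card_le_univ
  refine ⟨by omega, fun hK g a ha h1 hg => tr_zero hχ g _ (hconj g a ha hg) fun i => ?_⟩
  have h2 : T = Finset.univ := Finset.eq_univ_of_card T (by rw [Fintype.card_fin]; omega)
  obtain ⟨x, hx⟩ := (Finset.mem_filter.1 (h2 ▸ Finset.mem_univ i : i ∈ T)).2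
  by_contra h3
  push Not at h3
  exact hx (eq_one_of_fix h1 (fun x => by simpa using h3 (.ofAdd x)) x)

instance factSeven : Fact (Nat.Prime 7) := ⟨by norm_num⟩

theorem not_seven (hP : QS P) (hi : Inv2 P) (hK : Fintype.card K = 7) (h7 : ((7 : ℕ) : F) ≠ 0)
    (e : P ≃* PSL(2, K)) : False := by
  let e' := e.trans (pslMapEquiv (Fin 2) (ZMod.ringEquivOfPrime K (p := 7) Fact.out hK).symm)
  let π : SL(2, ZMod 7) →* P :=
    e'.symm.toMonoidHom.comp (QuotientGroup.mk' (Subgroup.center SL(2, ZMod 7)))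
  have hπ : π (-1) = 1 := by
    have : (-1 : SL(2, ZMod 7)) ∈ Subgroup.center SL(2, ZMod 7) := by
      rw [Subgroup.mem_center_iff]; simp
    simpa [π, QuotientGroup.eq_one_iff] using this
  have hsurj : Function.Surjective π := e'.symm.surjective.comp (QuotientGroup.mk'_surjective _)
  let s : SL(2, ZMod 7) := ⟨!![0, -1; 1, 0], by rw [det_fin_two]; decide⟩
  let b : SL(2, ZMod 7) := ⟨!![0, -1; 1, -1], by rw [det_fin_two]; decide⟩
  let c : SL(2, ZMod 7) := GT.slUp 1
  let h : SL(2, ZMod 7) := ⟨!![1, 3; 4, 6], by rw [det_fin_two]; decide⟩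
  let d : SL(2, ZMod 7) := ⟨!![3, 0; 0, 5], by rw [det_fin_two]; decide⟩
  have hs : π s * π s = 1 := by rw [← map_mul, show s * s = -1 from Subtype.ext (by decide), hπ]
  have habc : π s * π b * π c = 1 := by
    rw [← map_mul, ← map_mul, show s * b * c = -1 from Subtype.ext (by decide), hπ]
  have k1 : cd (π s) ≤ 2 := hi _ (π s).2 (congrArg Subtype.val hs)
  have k0 : π b ^ 3 = 1 := by rw [← map_pow, show b ^ 3 = 1 from Subtype.ext (by decide), map_one]
  have k2 : cd (π b) ≤ 4 := by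
    by_cases h3 : ((3 : ℕ) : F) = 0
    · exact LB.cd_le_four (uni_of_pow' (k := 1) Nat.prime_three h3 k0)
    · exact LB.cd_le (h := π h) (k := 2) (m := 15) h3 k0
        (by rw [mul_inv_eq_iff_eq_mul, ← map_pow, ← map_mul, ← map_mul,
          show h * b = b ^ 2 * h from Subtype.ext (by decide)]) two_pos (by norm_num)
        LB.supp_fifteen
  have k3 : cd (π c) ≤ 3 :=
    LB.cd_le (h := π d) (k := 2) (m := 20) h7
      (by rw [← map_pow, show c ^ 7 = 1 from Subtype.ext (by decide +kernel), map_one])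
      (by rw [mul_inv_eq_iff_eq_mul, ← map_pow, ← map_mul, ← map_mul,
        show d * c = c ^ 2 * d from Subtype.ext (by decide)]) two_pos (by norm_num)
      LB.supp_twenty
  have := scott hP habc (by
    set H := Subgroup.closure {π s, π b}
    have h1 : π s ∈ H := Subgroup.subset_closure (Set.mem_insert _ _)
    have h2 : π b ∈ H := Subgroup.subset_closure (Set.mem_insert_of_mem _ rfl)
    have h3 : π c ∈ H := by
      rw [eq_inv_of_mul_eq_one_right habc]
      exact inv_mem (mul_mem h1 h2)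
    have h4 : Subgroup.closure {GT.slUp (1 : ZMod 7), GT.slLo (-1)} ≤ H.comap π := by
      refine (Subgroup.closure_le _).2 (Set.pair_subset h3 ?_)
      rw [show GT.slLo (-1) = s * c * s⁻¹ from eq_mul_inv_of_mul_eq (Subtype.ext (by decide)),
        SetLike.mem_coe, Subgroup.mem_comap, map_mul, map_mul, map_inv]
      exact mul_mem (mul_mem h1 h3) (inv_mem h1)
    rw [GT.closure_slUp_slLo_zmod (by decide) (by decide)] at h4
    rw [eq_top_iff]
    intro g _
    obtain ⟨a, rfl⟩ := hsurj g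
    exact h4 (Subgroup.mem_top a))
  omega

theorem psl2_eleven (hK : Fintype.card K = 11) (g : PSL(2, K)) :
    ((g ^ 5 = 1 ∨ g ^ 6 = 1) ∧ IsConj g g⁻¹) ∨
      (g ^ 11 = 1 ∧ ∀ k : ℕ, (k = 1 ∨ k = 3 ∨ k = 4 ∨ k = 5 ∨ k = 9) → IsConj g (g ^ k)) := by
  have := D3.ModB.charP_of_card (n := 1) (by norm_num : Nat.Prime 11) hK
  by_cases h : tau (emb g) = 4
  · have h7 : (11 : K) = 0 := by simpa using CharP.cast_eq_zero K 11
    refine Or.inr ⟨D3.ModB.pow_char_of_tau 11 h, fun k hk => D3.ModB.conj_pow_uni h ?_ ?_⟩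
    · rw [Ne, CharP.cast_eq_zero_iff K 11]
      omega
    · rcases hk with rfl | rfl | rfl | rfl | rfl
      exacts [⟨1, by norm_num⟩, ⟨5, by push_cast; linear_combination -2 * h7⟩, ⟨2, by norm_num⟩,
        ⟨4, by push_cast; linear_combination -h7⟩, ⟨3, by norm_num⟩]
  · obtain ⟨h1, h2⟩ := D3.ModB.gcd_two hK rfl
    have h3 := card_torS_mul_or h
    have h4 := Subgroup.orderOf_dvd_natCard _ (self_mem_torS g)
    rw [h2, h1] at h3
    refine Or.inl ⟨?_, D3.ModB.real_of_tau h⟩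
    simp only [← orderOf_dvd_iff_pow_eq_one]
    rcases h3 with h3 | h3
    · exact Or.inl (by rwa [show Nat.card (torS g) = 5 by omega] at h4)
    · exact Or.inr (by rwa [show Nat.card (torS g) = 6 by omega] at h4)

omit [Fintype K] in
theorem aff_pow {a : K} (ha : a ≠ 0) (n : ℕ) : aff a 0 ^ n = aff (a ^ n) 0 := by
  induction n with
  | zero => simp [aff_one_zero]
  | succ n ih => rw [pow_succ, ih, aff_mul (pow_ne_zero n ha) ha, pow_succ]; simp

theorem tr_five (hK : Fintype.card K = 11) (e : P ≃* PSL(2, K)) (hl : ((11 : ℕ) : F) ≠ 0) {g : P}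
    (hg : g ^ 5 = 1) (h1 : g ≠ 1) : tr g = 0 := by
  have := D3.ModB.charP_of_card (n := 1) (by norm_num : Nat.Prime 11) hK
  have := Fact.mk Nat.prime_five
  have h7 : (11 : K) = 0 := by simpa using CharP.cast_eq_zero K 11
  have h4 : (4 : K) ≠ 0 := fun h => one_ne_zero (α := K) (by linear_combination 3 * h - h7)
  obtain ⟨y, hy⟩ := exists_emb_of_mem ((aff_mem_psl h4 0).2 ⟨2, by norm_num⟩)
  have hc : Nat.card PSL(2, K) = 660 := by
    have h1 := card_psl_two_mul (F := K)
    rw [Nat.card_eq_fintype_card, hK] at h1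
    norm_num at h1
    omega
  have ho : orderOf y = 5 := orderOf_eq_prime (emb_injective (by
      rw [map_pow, hy, aff_pow h4, map_one, aff_eq_one_iff (pow_ne_zero _ h4)]
      exact ⟨by linear_combination 93 * h7, rfl⟩)) fun h => by
    rw [h, map_one, eq_comm, aff_eq_one_iff h4] at hy
    exact one_ne_zero (α := K) (by linear_combination 4 * hy.1 - h7)
  obtain ⟨k, hk⟩ := conj_mem_zpowers ho (g := e g)
    (by rw [hc, show 660 = 5 * 132 from rfl, Nat.factorization_mul (by norm_num) (by norm_num),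
      Finsupp.add_apply, Nat.prime_five.factorization_self,
      Nat.factorization_eq_zero_of_not_dvd (by norm_num)]) (by rw [← map_pow, hg, map_one])
  obtain ⟨n, hn⟩ := mem_powers_iff_mem_zpowers.2 hk
  have h2 : emb (e (e.symm k * g * (e.symm k)⁻¹)) = aff (4 ^ n) 0 := by
    rw [← aff_pow h4, ← hy, ← map_pow]
    simp only at hn
    rw [hn]
    simp
  rw [tr, trace_eq_of_isConj (isConj_iff.2 ⟨e.symm k, rfl⟩)]
  refine (weights e (l := 11) hl).2 hK _ _ (pow_ne_zero n h4) (fun h => h1 ?_) h2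
  rwa [h, aff_one_zero, emb_eq_one, map_eq_one_iff _ e.injective, conj_eq_one_iff] at h2

theorem tr_six (p : ℕ) [Fact p.Prime] [CharP F p] {g : P} (hg : g ^ 6 = 1) (hr : IsConj g g⁻¹) :
    tr g ^ p = tr g := by
  apply (frobenius F p).injective
  rw [frobenius_def, frobenius_def, tr_pow_char p, tr_pow_char p, ← pow_mul]
  have h : p * p % 6 = p % 6 ∨ (p * p + p) % 6 = 0 := by
    rw [Nat.add_mod, Nat.mul_mod]
    have := Nat.mod_lt p (show 0 < 6 by norm_num)
    generalize p % 6 = r at this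
    interval_cases r <;> decide
  rcases h with h | h
  · rw [pow_eq_pow_mod _ hg, h, ← pow_eq_pow_mod _ hg]
  · rw [eq_inv_of_mul_eq_one_left (a := g ^ (p * p)) (b := g ^ p)
      (by rw [← pow_add, pow_eq_pow_mod _ hg, h, pow_zero]), ← inv_pow]
    exact (trace_eq_of_isConj (hr.pow p)).symm

end LA

variable [Fintype F]

theorem case_psl2 (p : ℕ) [Fact p.Prime] [CharP F p] (hP : QS P) (ht : TrGen P) (hi : Inv2 P)
    {K : Type*} [Field K] [Fintype K] (hK : Odd (Fintype.card K)) (h5 : 5 ≤ Fintype.card K)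
    (e : P ≃* PSL(2, K)) : Orth P ∨ (Fintype.card K = 11 ∧ p ≠ 11 ∧ C11 P p) := by
  have hp : p.Prime := Fact.out
  have hc : ∀ {g h : P}, IsConj (e g) (e h) → IsConj g h := fun h => by
    simpa using e.symm.toMonoidHom.map_isConj h
  by_cases h4 : Fintype.card K % 4 = 1
  · exact Or.inl (orth_of_real hP fun g => trace_eq_of_isConj
      (hc (by rw [map_inv]; exact D3.psl2_real_of_mod_four h4 _)))
  obtain ⟨l, hl, m, hl', hm⟩ := FiniteField.card' K
  have := Fact.mk hl'
  by_cases h0 : (l : F) = 0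
  · refine Or.inl (orth_of_real hP fun g => ?_)
    rcases D3.psl2_real l (e g) with h | h
    · have h1 : g ^ l ^ 1 = 1 := e.injective (by rw [map_pow, map_one, pow_one]; exact h)
      rw [tr_uni hl' h0 h1, tr_uni (g := g⁻¹) hl' h0 (by rw [inv_pow, h1, inv_one])]
    · exact trace_eq_of_isConj (hc (by rwa [map_inv]))
  have h11 := (LA.weights e h0).1
  have hodd := Nat.odd_iff.1 hK
  have hq : ∀ q : ℕ, q.Prime → Fintype.card K = q → l = q := fun q hq h =>
    (Nat.prime_dvd_prime_iff_eq hl' hq).1 (h ▸ hm ▸ dvd_pow_self l m.ne_zero)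
  obtain h | h : Fintype.card K = 7 ∨ Fintype.card K = 11 := by omega
  · exact (LA.not_seven hP hi h (hq 7 (by norm_num) h ▸ h0) e).elim
  obtain rfl := hq 11 (by norm_num) h
  have hp11 : p ≠ 11 := fun e => h0 (e ▸ CharP.cast_eq_zero F p)
  have key : ∀ g : P, (tr g ^ p = tr g ∧ tr g = tr g⁻¹) ∨
      (g ^ 11 = 1 ∧ ∀ k : ℕ, (k = 1 ∨ k = 3 ∨ k = 4 ∨ k = 5 ∨ k = 9) → IsConj g (g ^ k)) :=
    fun g => by
    rcases LA.psl2_eleven h (e g) with ⟨h1, h2⟩ | ⟨h1, h2⟩
    · have h3 : IsConj g g⁻¹ := hc (by rwa [map_inv])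
      refine Or.inl ⟨?_, trace_eq_of_isConj h3⟩
      rcases h1 with h1 | h1
      · by_cases h6 : g = 1
        · rw [tr_pow_char, h6, one_pow]
        · rw [LA.tr_five h e h0 (e.injective (by rw [map_pow, map_one, h1])) h6, zero_pow hp.ne_zero]
      · exact LA.tr_six p (e.injective (by rw [map_pow, map_one, h1])) h3
    · exact Or.inr ⟨e.injective (by rw [map_pow, map_one, h1]),
        fun k hk => hc (by rw [map_pow]; exact h2 k hk)⟩
  have hp0 : p % 11 ≠ 0 := fun e => hp11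
    ((Nat.prime_dvd_prime_iff_eq hl' hp).1 (Nat.dvd_of_mod_eq_zero e)).symm
  by_cases hr : p % 11 = 1 ∨ p % 11 = 3 ∨ p % 11 = 4 ∨ p % 11 = 5 ∨ p % 11 = 9
  · refine Or.inr ⟨h, hp11, Or.inl ⟨?_, hr⟩⟩
    rw [Nat.card_eq_fintype_card]
    refine card_eq_of_fix p ht fun g => ?_
    rcases key g with h1 | ⟨h1, h2⟩
    · exact h1.1
    · rw [tr_pow_char, pow_eq_pow_mod _ h1]
      exact (trace_eq_of_isConj (h2 _ hr)).symm
  · refine (orth_or_uni p hP ht fun g => ?_).imp_right fun h1 =>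
      ⟨h, hp11, Or.inr ⟨by omega, h1⟩⟩
    rcases key g with h1 | ⟨h1, h2⟩
    · exact h1.1.trans h1.2
    · obtain ⟨c, hc⟩ := isConj_iff.1 (h2 (11 - p % 11) (by omega))
      rw [tr_pow_char, pow_eq_pow_mod _ h1, eq_inv_of_mul_eq_one_left (a := g ^ (p % 11))
        (b := g ^ (11 - p % 11)) (by rw [← pow_add, show p % 11 + (11 - p % 11) = 11 by omega, h1]),
        ← hc, conj_inv]
      exact (trace_eq_of_isConj (isConj_iff.2 ⟨c, rfl⟩)).symm

end Cfsg.Agent.Cl.D5
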