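/-
Linear algebra for a Heisenberg group and an `SL₂` acting in dimension five, defining characteristic.
-/
import Mathlib
import Cfsg.Agent.Perm.PermModule

set_option autoImplicit false

namespace Cfsg.Agent.Cl.D5.LC

open Module

variable {F : Type*} [Field F] {V : Type*} [AddCommGroup V] [Module F V] [FiniteDimensional F V]

theorem pow_finrank {N : End F V} (hN : IsNilpotent N) {W : Submodule F V} (hW : ∀ v ∈ W, N v ∈ W) {v : V}
    (hv : v ∈ W) : (N ^ finrank F W) v = 0 := by
  obtain ⟨m, hm⟩ := End.isNilpotent.restrict (p := W) hW hN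
  have h := End.ker_pow_le_ker_pow_finrank (N.restrict hW) m (x := ⟨v, hv⟩) (by simp [hm])
  rw [LinearMap.mem_ker, End.pow_restrict] at h
  exact congrArg Subtype.val h

omit [FiniteDimensional F V] in
theorem eig_zero {N : End F V} (hN : IsNilpotent N) {v : V} {c : F} (h : N v = c • v) (hv : v ≠ 0) : c = 0 := by
  obtain ⟨m, hm⟩ := hN
  have : ∀ k : ℕ, (N ^ k) v = c ^ k • v := fun k => by
    induction k with
    | zero => simp
    | succ k ih => rw [pow_succ', End.mul_apply, ih, map_smul, h, smul_smul, pow_succ]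
  have h1 := this m
  rw [hm, LinearMap.zero_apply, eq_comm, smul_eq_zero] at h1
  exact pow_eq_zero_iff (fun e => by simp [e, hv] at h1) |>.1 (h1.resolve_right hv)

theorem two_mul_finrank_le {N : End F V} {W : Submodule F V} (hW : ∀ v ∈ W, N v ∈ W)
    (h : ∀ v ∈ W, N (N v) = 0) : 2 * finrank F (W.map N) ≤ finrank F W := by
  have h1 := LinearMap.finrank_range_add_finrank_ker (N.domRestrict W)
  rw [LinearMap.range_domRestrict] at h1
  have h2 : W.map N ≤ W := by rintro _ ⟨v, hv, rfl⟩; exact hW v hv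
  have h3 : (W.map N).comap W.subtype ≤ LinearMap.ker (N.domRestrict W) := by
    rintro ⟨_, _⟩ ⟨v, hv, e⟩
    exact (congrArg N e).symm.trans (h v hv)
  have h4 := Submodule.finrank_mono h3
  rw [(Submodule.comapSubtypeEquivOfLe h2).finrank_eq] at h4
  omega

theorem exists_rank_one {T : End F V} (h : finrank F (LinearMap.range T) ≤ 1) :
    ∃ (v : V) (φ : V →ₗ[F] F), ∀ t, T t = φ t • v := by
  obtain ⟨v, hv⟩ := (finrank_le_one_iff (K := F) (V := LinearMap.range T)).1 h
  by_cases h0 : (v : V) = 0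
  · refine ⟨0, 0, fun t => ?_⟩
    obtain ⟨c, hc⟩ := hv ⟨T t, t, rfl⟩
    simpa [h0] using (congrArg Subtype.val hc).symm
  have h1 : ∀ t, T t ∈ Submodule.span F {(v : V)} := fun t => by
    obtain ⟨c, hc⟩ := hv ⟨T t, t, rfl⟩
    exact Submodule.mem_span_singleton.2 ⟨c, congrArg Subtype.val hc⟩
  refine ⟨v, (LinearEquiv.toSpanNonzeroSingleton F V v h0).symm.toLinearMap ∘ₗ T.codRestrict _ h1, fun t => ?_⟩
  exact (congrArg Subtype.val ((LinearEquiv.toSpanNonzeroSingleton F V v h0).apply_symm_apply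
    (T.codRestrict _ h1 t))).symm

/-- An involution with eigenspaces of dimensions three and two. -/
structure Sp (D : End F V) : Prop where
  two : (2 : F) ≠ 0
  sq : ∀ t, D (D t) = t
  dim : finrank F V = 5
  rk : finrank F (LinearMap.range (1 - D)) = 2

namespace Sp

variable {D N : End F V} (h : Sp D)
include h

omit [FiniteDimensional F V] in
theorem mem_neg {t : V} : t ∈ LinearMap.range (1 - D) ↔ D t = -t := by
  constructor
  · rintro ⟨s, rfl⟩
    simp [h.sq]
  · intro e
    refine ⟨(2 : F)⁻¹ • t, ?_⟩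
    have := inv_mul_cancel₀ h.two
    simp only [LinearMap.sub_apply, End.one_apply, map_smul, e]
    linear_combination (norm := module) this • t

omit [FiniteDimensional F V] h in
theorem mem_pos {t : V} : t ∈ LinearMap.ker (1 - D) ↔ D t = t := by
  rw [LinearMap.mem_ker, LinearMap.sub_apply, End.one_apply, sub_eq_zero, eq_comm]

theorem rk' : finrank F (LinearMap.ker (1 - D)) = 3 := by
  have := LinearMap.finrank_range_add_finrank_ker (1 - D)
  rw [h.rk, h.dim] at this
  omega

omit [FiniteDimensional F V] in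
theorem split {a b : V} (ha : D a = a) (hb : D b = -b) (e : a + b = 0) : a = 0 ∧ b = 0 := by
  have h1 := congrArg D e
  rw [map_add, ha, hb, map_zero] at h1
  have h2 : (2 : F) • a = 0 := by linear_combination (norm := module) e + h1
  have h3 := (smul_eq_zero.1 h2).resolve_left h.two
  exact ⟨h3, by simpa [h3] using e⟩

omit [FiniteDimensional F V] in
theorem exists_add (t : V) : ∃ a b, D a = a ∧ D b = -b ∧ t = a + b := by
  have := inv_mul_cancel₀ h.two
  refine ⟨(2 : F)⁻¹ • (t + D t), (2 : F)⁻¹ • (t - D t), ?_, ?_, ?_⟩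
  · rw [map_smul, map_add, h.sq, add_comm]
  · rw [map_smul, map_sub, h.sq, ← smul_neg, neg_sub]
  · linear_combination (norm := module) (-this) • t

theorem sq_neg (hN : IsNilpotent N) (hc : ∀ t, D (N t) = N (D t)) {f : V} (hf : D f = -f) : N (N f) = 0 := by
  have := pow_finrank hN (W := LinearMap.range (1 - D))
    (fun v hv => h.mem_neg.2 (by rw [hc, h.mem_neg.1 hv, map_neg])) (h.mem_neg.2 hf)
  rwa [h.rk] at this

theorem cube_pos (hN : IsNilpotent N) (hc : ∀ t, D (N t) = N (D t)) {e : V} (he : D e = e) :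
    N (N (N e)) = 0 := by
  have := pow_finrank hN (W := LinearMap.ker (1 - D))
    (fun v hv => mem_pos.2 (by rw [hc, mem_pos.1 hv])) (mem_pos.2 he)
  rwa [h.rk'] at this

/-- The centre of a Heisenberg group does not have Jordan blocks of sizes three and two. -/
theorem sq_zero (hN : IsNilpotent N) (hc : ∀ t, D (N t) = N (D t)) {f : V} (hf : D f = -f) (hf0 : N f ≠ 0)
    {X Y : End F V} (hX : IsNilpotent (X - 1)) (hY : IsNilpotent (Y - 1)) (cX : ∀ t, X (N t) = N (X t))
    (cY : ∀ t, Y (N t) = N (Y t)) (hXY : ∀ t, X (Y t) = Y (X (t + N t))) (t : V) : N (N t) = 0 := by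
  obtain ⟨e, f', he, hf', rfl⟩ := h.exists_add t
  rw [map_add, map_add, h.sq_neg hN hc hf', add_zero]
  by_contra hs
  have f2 := h.sq_neg hN hc hf
  have e3 := h.cube_pos hN hc he
  have ind : ∀ a0 a1 a2 a3 a4 : F, a0 • e + a1 • N e + a2 • N (N e) + a3 • f + a4 • N f = 0 →
      a0 = 0 ∧ a1 = 0 ∧ a2 = 0 ∧ a3 = 0 ∧ a4 = 0 := fun a0 a1 a2 a3 a4 e0 => by
    obtain ⟨k1, k2⟩ := h.split (a := a0 • e + a1 • N e + a2 • N (N e)) (b := a3 • f + a4 • N f)
      (by simp only [map_add, map_smul, hc, he]) (by simp only [map_add, map_smul, hc, hf, map_neg]; module)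
      (by rw [← e0]; abel)
    have b0 : a0 = 0 := by simpa [e3, hs] using congrArg (fun t => N (N t)) k1
    have b1 : a1 = 0 := by simpa [e3, hs, b0] using congrArg N k1
    have b3 : a3 = 0 := by simpa [f2, hf0] using congrArg N k2
    exact ⟨b0, b1, by simpa [b0, b1, hs] using k1, b3, by simpa [b3, hf0] using k2⟩
  have li : LinearIndependent F ![e, N e, N (N e), f, N f] := by
    rw [Fintype.linearIndependent_iff]
    intro a ha
    obtain ⟨b0, b1, b2, b3, b4⟩ := ind (a 0) (a 1) (a 2) (a 3) (a 4) (by simpa [Fin.sum_univ_five] using ha)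
    intro i
    fin_cases i
    exacts [b0, b1, b2, b3, b4]
  have sp : ∀ t, ∃ a0 a1 a2 a3 a4 : F, t = a0 • e + a1 • N e + a2 • N (N e) + a3 • f + a4 • N f := fun t => by
    have h1 := li.span_eq_top_of_card_eq_finrank' (by simp [h.dim])
    obtain ⟨a, ha⟩ := (Submodule.mem_span_range_iff_exists_fun F).1 (h1 ▸ Submodule.mem_top (x := t))
    exact ⟨a 0, a 1, a 2, a 3, a 4, by simpa [Fin.sum_univ_five] using ha.symm⟩
  have key : ∀ X : End F V, IsNilpotent (X - 1) → (∀ t, X (N t) = N (X t)) → ∃ a1 a2 a3 a4 c1 c2 c4 : F,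
      X e = e + a1 • N e + a2 • N (N e) + a3 • f + a4 • N f ∧ X f = c1 • N e + c2 • N (N e) + f + c4 • N f := by
    intro X hX cX
    obtain ⟨a0, a1, a2, a3, a4, ha⟩ := sp (X e)
    obtain ⟨c0, c1, c2, c3, c4, hc⟩ := sp (X f)
    have s1 : X (N (N e)) = a0 • N (N e) := by simp [cX, ha, e3, f2]
    have s2 : a0 = 1 := sub_eq_zero.1 (eig_zero hX (v := N (N e)) (by simp [s1, sub_smul]) hs)
    have s3 : c0 = 0 := by
      have := congrArg (fun t => N (N t)) hc
      simp only [← cX, f2, map_zero, map_add, map_smul, e3, smul_zero, add_zero] at this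
      exact (smul_eq_zero.1 this.symm).resolve_right hs
    have s4 : X (N f) = c1 • N (N e) + c3 • N f := by simp [cX, hc, e3, f2, s3]
    have s5 : c3 = 1 := by
      by_contra s6
      refine s6 (sub_eq_zero.1 (eig_zero hX (v := c1 • N (N e) + (c3 - 1) • N f) ?_ fun s7 => ?_))
      · simp only [LinearMap.sub_apply, End.one_apply, map_add, map_smul, s1, s2, s4]
        module
      · exact s6 (sub_eq_zero.1 (ind 0 0 c1 0 (c3 - 1) (by simpa using s7)).2.2.2.2)
    exact ⟨a1, a2, a3, a4, c1, c2, c4, by simp [ha, s2], by simp [hc, s3, s5]⟩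
  obtain ⟨a1, a2, a3, a4, c1, c2, c4, x1, x2⟩ := key X hX cX
  obtain ⟨b1, b2, b3, b4, g1, g2, g4, y1, y2⟩ := key Y hY cY
  have r1 := hXY e
  have r2 := hXY f
  simp only [map_add, map_smul, cX, cY, x1, x2, y1, y2, e3, f2, map_zero, smul_zero, add_zero] at r1 r2
  have q1 := ind 0 (b3 * c1 - a3 * g1 - 1) (b3 * c2 + b4 * c1 - a1 - b1 - a3 * g2 - a4 * g1 - a3 * g1) 0
    (b1 * a3 + b3 * c4 - a1 * b3 - a3 * g4 - a3 - b3) (by linear_combination (norm := module) r1)
  have q2 := ind 0 0 (g1 * a1 + g4 * c1 - c1 * b1 - c4 * g1 - c1 - g1) 0 (g1 * a3 - c1 * b3 - 1)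
    (by linear_combination (norm := module) r2)
  exact h.two (by linear_combination -q1.2.1 - q2.2.2.2.2)

/-- The shape of a quadratic element commuting with the involution. -/
theorem shape (hc : ∀ t, D (N t) = N (D t)) (h2 : ∀ t, N (N t) = 0) :
    ∃ (v u : V) (φ ψ : V →ₗ[F] F), ∀ a b, D a = a → D b = -b →
      N a = φ a • v ∧ φ b • v = 0 ∧ N b = ψ b • u ∧ ψ a • u = 0 := by
  have i2 := inv_mul_cancel₀ h.two
  have k1 := two_mul_finrank_le (N := N) (W := LinearMap.ker (1 - D))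
    (fun v hv => mem_pos.2 (by rw [hc, mem_pos.1 hv])) fun v _ => h2 v
  have k2 := two_mul_finrank_le (N := N) (W := LinearMap.range (1 - D))
    (fun v hv => h.mem_neg.2 (by rw [hc, h.mem_neg.1 hv, map_neg])) fun v _ => h2 v
  rw [h.rk'] at k1
  rw [h.rk] at k2
  obtain ⟨v, φ, hv⟩ := exists_rank_one (T := N * ((2 : F)⁻¹ • (1 + D))) ((Submodule.finrank_mono (by
    rintro _ ⟨t, rfl⟩
    exact ⟨_, mem_pos.2 (by simp [h.sq, add_comm]), rfl⟩)).trans (by omega :
      finrank F ((LinearMap.ker (1 - D)).map N) ≤ 1))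
  obtain ⟨u, ψ, hu⟩ := exists_rank_one (T := N * ((2 : F)⁻¹ • (1 - D))) ((Submodule.finrank_mono (by
    rintro _ ⟨t, rfl⟩
    exact ⟨_, Submodule.smul_mem _ _ ⟨t, rfl⟩, rfl⟩)).trans (by omega :
      finrank F ((LinearMap.range (1 - D)).map N) ≤ 1))
  refine ⟨v, u, φ, ψ, fun a b ha hb => ?_⟩
  simp only [← hv, ← hu, End.mul_apply, LinearMap.smul_apply, LinearMap.add_apply, LinearMap.sub_apply,
    End.one_apply, ha, hb, add_neg_cancel, sub_self, smul_zero, map_zero, true_and, and_true, map_smul, map_add,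
    sub_neg_eq_add]
  constructor
  · linear_combination (norm := module) (-i2) • N a
  · linear_combination (norm := module) (-i2) • N b

end Sp

/-- A Heisenberg group together with the `SL₂` on its centre. -/
structure SD {G : Type*} [Group G] (l : ℕ) (Q : Subgroup G) (x y z z' g : G) : Prop where
  pg : IsPGroup l Q
  xQ : x ∈ Q
  yQ : y ∈ Q
  yl : y ^ l = 1
  zl : orderOf z = l
  cz : ∀ k ∈ Q, Commute z k
  comm : x * y = y * x * z
  zinv : IsConj z z⁻¹
  gz : g * z = z' * g
  rel : z * z' * z = g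
  g4 : g * g * (g * g) = 1
  g2 : g * g ≠ 1
  nQ : ∀ k ∈ Q, g * g * k * (g * g) ∈ Q
  gen : Subgroup.closure ((Q : Set G) ∪ {g}) = ⊤

namespace SD

variable {G : Type*} [Group G] {l : ℕ} {Q : Subgroup G} {x y z z' g : G} (h : SD l Q x y z z' g)
include h

theorem map {G' : Type*} [Group G'] (e : G ≃* G') :
    SD l (Q.map (e : G →* G')) (e x) (e y) (e z) (e z') (e g) where
  pg := h.pg.map _
  xQ := ⟨x, h.xQ, rfl⟩
  yQ := ⟨y, h.yQ, rfl⟩
  yl := by rw [← map_pow, h.yl, map_one]
  zl := (e.orderOf_eq z).trans h.zl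
  cz := by rintro _ ⟨k, hk, rfl⟩; exact (h.cz k hk).map e
  comm := by rw [← map_mul, h.comm, map_mul, map_mul]
  zinv := by rw [← map_inv]; exact (e : G →* G').map_isConj h.zinv
  gz := by rw [← map_mul, h.gz, map_mul]
  rel := by rw [← map_mul, ← map_mul, h.rel]
  g4 := by rw [← map_mul, ← map_mul, h.g4, map_one]
  g2 := by rw [← map_mul]; exact fun e1 => h.g2 (e.map_eq_one_iff.1 e1)
  nQ := by rintro _ ⟨k, hk, rfl⟩; exact ⟨_, h.nQ k hk, by simp⟩
  gen := by
    have := congrArg (Subgroup.map (e : G →* G')) h.gen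
    rwa [MonoidHom.map_closure, Set.image_union, Set.image_singleton,
      Subgroup.map_top_of_surjective _ e.surjective] at this

theorem rel' : z' * z * z' = g := by
  have h1 := h.gz
  rw [← h.rel] at h1 ⊢
  exact (mul_right_cancel (b := z) (by rw [h1]; group)).symm

theorem gz' : g * z' = z * g := by
  conv_lhs => rw [← h.rel]
  conv_rhs => rw [← h.rel']
  group

theorem zQ : z ∈ Q := by
  have : z = (y * x)⁻¹ * (x * y) := by rw [h.comm]; group
  rw [this]
  exact mul_mem (inv_mem (mul_mem h.yQ h.xQ)) (mul_mem h.xQ h.yQ)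

theorem false_of_char [Fact l.Prime] [CharP F l] [Finite Q] (ρ : G →* End F V) (hD : Sp (ρ (g * g)))
    (irr : ∀ W : Submodule F V, (∀ k ∈ (Q : Set G) ∪ {g}, ∀ v ∈ W, ρ k v ∈ W) → W = ⊥ ∨ W = ⊤)
    (ntv : ∀ (v : V) (φ : V →ₗ[F] F), φ v = 0 → (∀ t, ρ z t = t + φ t • v) → v = 0 ∨ φ = 0) : False := by
  have : Nontrivial V := Module.nontrivial_of_finrank_pos (R := F) (by rw [hD.dim]; norm_num)
  have : CharP (End F V) l := charP_of_injective_algebraMap (algebraMap F _).injective l
  have nil : ∀ k ∈ Q, IsNilpotent (ρ k - 1) := fun k hk => by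
    obtain ⟨n, hn⟩ := h.pg ⟨k, hk⟩
    refine ⟨l ^ n, ?_⟩
    rw [sub_pow_char_pow_of_commute _ _ (Commute.one_right _), one_pow, ← map_pow,
      show k ^ l ^ n = 1 from congrArg Subtype.val hn, map_one, sub_self]
  have mul : ∀ {a b c d : G}, a * b = c * d → ∀ t, ρ a (ρ b t) = ρ c (ρ d t) := fun e t => by
    rw [← End.mul_apply, ← map_mul, e, map_mul, End.mul_apply]
  obtain ⟨N, hN⟩ : ∃ N, N = ρ z - 1 := ⟨_, rfl⟩
  obtain ⟨N', hN'⟩ : ∃ N', N' = ρ z' - 1 := ⟨_, rfl⟩
  have zN : ∀ t, ρ z t = t + N t := fun t => by simp [hN]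
  have zN' : ∀ t, ρ z' t = t + N' t := fun t => by simp [hN']
  have cN : ∀ k, Commute z k → ∀ t, ρ k (N t) = N (ρ k t) := fun k hk t => by
    have := mul hk.eq t
    rw [zN, zN, map_add] at this
    exact (add_left_cancel this).symm
  have GN : ∀ t, ρ g (N t) = N' (ρ g t) := fun t => by
    have := mul h.gz t
    rw [zN, zN', map_add] at this
    exact add_left_cancel this
  have GN' : ∀ t, ρ g (N' t) = N (ρ g t) := fun t => by
    have := mul h.gz' t
    rw [zN, zN', map_add] at this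
    exact add_left_cancel this
  have r1 : ∀ t, ρ g t = ρ z (ρ z' (ρ z t)) := fun t => by rw [← h.rel, map_mul, map_mul]; rfl
  have GG : ∀ t, ρ g (ρ g t) = ρ (g * g) t := fun t => by rw [map_mul]; rfl
  obtain ⟨D, hDe⟩ : ∃ D, D = ρ (g * g) := ⟨_, rfl⟩
  have nD : ∀ k ∈ Q, ∃ k' ∈ Q, ∀ t, ρ k (D t) = D (ρ k' t) := fun k hk => ⟨_, h.nQ k hk, fun t => by
    rw [hDe]; exact mul (by rw [← mul_assoc (g * g), ← mul_assoc (g * g), h.g4, one_mul]) t⟩
  rw [← hDe] at hD GG
  have hc : ∀ t, D (N t) = N (D t) := fun t => by rw [← GG, GN, GN', GG]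
  have GD : ∀ t, D (ρ g t) = ρ g (D t) := fun t => by rw [← GG, GG t]
  have nN : IsNilpotent N := hN ▸ nil z h.zQ
  obtain ⟨f, hf, hf0⟩ : ∃ f, D f = -f ∧ N f ≠ 0 := by
    by_contra h0
    push Not at h0
    have h1 : ∀ f, D f = -f → ρ g f = f := fun f hf => by
      have h2 : N' f = 0 := by
        have := GN (-ρ g f)
        rw [h0 _ (by rw [map_neg, GD, hf, map_neg]), map_zero, map_neg, GG, hf, neg_neg] at this
        exact this.symm
      rw [r1, zN f, h0 f hf, add_zero, zN', h2, add_zero, zN, h0 f hf, add_zero]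
    have h2 : LinearMap.range (1 - D) = ⊥ := eq_bot_iff.2 fun f hf => by
      have h3 := hD.mem_neg.1 hf
      exact (hD.split (a := f) (b := -f) (by rw [← GG, h1 f h3, h1 f h3]) (by rw [map_neg, h3])
        (add_neg_cancel f)).1
    have := hD.rk
    rw [h2, finrank_bot] at this
    omega
  have N2 := hD.sq_zero nN hc hf hf0 (nil x h.xQ) (nil y h.yQ) (cN x (h.cz x h.xQ)) (cN y (h.cz y h.yQ))
    fun t => by rw [← zN, ← End.mul_apply, ← map_mul, h.comm, map_mul, map_mul]; rfl
  obtain ⟨v, u, φ, ψ, hs⟩ := hD.shape hc N2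
  have s1 : ∀ a, D a = a → N a = φ a • v := fun a ha => (hs a 0 ha (by simp)).1
  have s2 : ∀ b, D b = -b → N b = ψ b • u := fun b hb => (hs 0 b (by simp) hb).2.2.1
  have hu : ψ f ≠ 0 ∧ u ≠ 0 := by simpa [s2 f hf, not_or] using hf0
  have s3 : ∀ a, D a = a → ψ a = 0 := fun a ha =>
    (smul_eq_zero.1 (hs a 0 ha (by simp)).2.2.2).resolve_right hu.2
  have Du : D u = -u := smul_right_injective V hu.1 (by
    simp only [← map_smul, ← s2 f hf, hc, hf, map_neg, smul_neg])
  have uu : N u = 0 := by simpa [s2 f hf, hu.1] using N2 f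
  obtain ⟨e, he, he0⟩ : ∃ e, D e = e ∧ N e ≠ 0 := by
    by_contra h0
    push Not at h0
    refine (ntv u ψ (by simpa [s2 u Du, hu.2] using uu) fun t => ?_).elim hu.2 fun e => hu.1 (by simp [e])
    obtain ⟨a, b, ha, hb, rfl⟩ := hD.exists_add t
    rw [zN, map_add, map_add, h0 a ha, s2 b hb, s3 a ha, zero_add, zero_add]
  have hv : φ e ≠ 0 ∧ v ≠ 0 := by simpa [s1 e he, not_or] using he0
  have s4 : ∀ b, D b = -b → φ b = 0 := fun b hb =>
    (smul_eq_zero.1 (hs 0 b (by simp) hb).2.1).resolve_right hv.2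
  have Dv : D v = v := smul_right_injective V hv.1 (by simp only [← map_smul, ← s1 e he, hc, he])
  have vv : N v = 0 := by simpa [s1 e he, hv.1] using N2 e
  have φv : φ v = 0 := by simpa [s1 v Dv, hv.2] using vv
  have s5 : ∀ t, N t = φ t • v + ψ t • u := fun t => by
    obtain ⟨a, b, ha, hb, rfl⟩ := hD.exists_add t
    rw [map_add, map_add, map_add, s1 a ha, s2 b hb, s3 a ha, s4 b hb, zero_add, add_zero]
  have φN : ∀ t, φ (N t) = 0 := fun t => by simp [s5, φv, s4 u Du]
  have Dv' : D (ρ g v) = ρ g v := by rw [GD, Dv]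
  have q1 : N' v = φ (ρ g v) • ρ g v := by
    have := GN (ρ g v)
    rw [GG, Dv, s1 _ Dv', map_smul] at this
    exact this.symm
  have q2 : N' (ρ g v) = 0 := by rw [← GN, vv, map_zero]
  have q3 := r1 v
  rw [zN v, vv, add_zero, zN', q1, zN, map_add, map_smul, vv, s1 _ Dv', zero_add] at q3
  have q4 : φ (ρ g v) = 0 := by
    by_contra h0
    have h1 := congrArg φ q3
    simp only [map_add, map_smul, φv, smul_eq_mul, mul_zero, zero_add, add_zero] at h1
    have h2 : φ (ρ g v) = 1 := mul_right_cancel₀ h0 (h1.symm.trans (one_mul _).symm)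
    rw [h2] at q3
    have h3 : (2 : F) • v = 0 := by linear_combination (norm := module) -q3
    exact (smul_eq_zero.1 h3).elim hD.two hv.2
  have gv : ρ g v = v := by simpa [q4] using q3
  have φg : ∀ t, φ t = 0 → φ (ρ g t) = 0 := fun t ht => by
    have h1 : ∀ s, φ (N' s) = 0 := fun s => by
      have := GN (ρ g (D s))
      rw [GG, hD.sq, s5, map_add, map_smul, map_smul, gv] at this
      rw [← this]
      simp [φv, s4 (ρ g u) (by rw [GD, Du, map_neg])]
    rw [r1, zN, zN', zN t]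
    simp only [map_add, φN, h1, ht, add_zero]
  obtain ⟨w, ⟨t, rfl⟩, hw0, hw⟩ := Perm.exists_fixed_ne_zero_of_isPGroup h.pg (ρ.comp Q.subtype)
    (LinearMap.range N) (fun e => hf0 (by simpa using LinearMap.range_eq_bot.1 e ▸ (rfl : N f = N f))) (by
      rintro k _ ⟨t, rfl⟩
      exact ⟨_, (cN k (h.cz k k.2) t).symm⟩)
  have hw1 : ∀ k ∈ Q, ρ k (N t) = N t := fun k hk => hw ⟨k, hk⟩
  have hw2 : ∀ k ∈ Q, ρ k (D (N t)) = D (N t) := fun k hk => by
    obtain ⟨k', hk', e⟩ := nD k hk
    rw [e, hw1 k' hk']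
  have hw3 : ∀ k ∈ Q, φ t • ρ k v = φ t • v := fun k hk => by
    have a1 := hw1 k hk
    have a2 := hw2 k hk
    simp only [s5, map_add, map_smul, Dv, Du, map_neg] at a1 a2
    exact smul_right_injective V hD.two (by linear_combination (norm := module) a1 + a2)
  by_cases h0 : φ t = 0
  · have h1 : ψ t ≠ 0 := fun e => hw0 (by simp [s5, h0, e])
    have h2 : ∀ k ∈ Q, ρ k u = u := fun k hk => smul_right_injective V h1 (by
      simpa [s5, h0] using hw1 k hk)
    rcases irr (LinearMap.ker φ) (by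
      rintro k (hk | rfl) s hs
      · have a1 := cN k (h.cz k hk) s
        rw [s5, s5, show φ s = 0 from hs, zero_smul, zero_add, map_smul, h2 k hk] at a1
        have a2 := (hD.split (a := φ (ρ k s) • v) (b := (ψ (ρ k s) - ψ s) • u) (by rw [map_smul, Dv])
          (by rw [map_smul, Du, smul_neg]) (by linear_combination (norm := module) -a1)).1
        exact (smul_eq_zero.1 a2).resolve_right hv.2
      · exact φg s hs) with h3 | h3
    · exact hv.2 ((Submodule.mem_bot F).1 (h3 ▸ (φv : v ∈ LinearMap.ker φ)))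
    · exact hv.1 (h3 ▸ Submodule.mem_top : e ∈ LinearMap.ker φ)
  · rcases irr (LinearMap.ker (1 - D) ⊓ Submodule.span F {v}) (by
      rintro k hk s ⟨-, hs⟩
      obtain ⟨c, rfl⟩ := Submodule.mem_span_singleton.1 hs
      have : ρ k v = v := by
        rcases hk with hk | rfl
        exacts [smul_right_injective V h0 (hw3 k hk), gv]
      rw [map_smul, this]
      exact Submodule.smul_mem _ _ ⟨Sp.mem_pos.2 Dv, Submodule.mem_span_singleton_self v⟩) with h3 | h3
    · exact hv.2 ((Submodule.mem_bot F).1 (h3 ▸ ⟨Sp.mem_pos.2 Dv, Submodule.mem_span_singleton_self v⟩))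
    · have h4 : u ∈ LinearMap.ker (1 - D) ⊓ Submodule.span F {v} := h3 ▸ Submodule.mem_top
      exact hu.2 (hD.split (a := u) (b := -u) (Sp.mem_pos.1 h4.1) (by rw [map_neg, Du]) (add_neg_cancel u)).1

end SD

end Cfsg.Agent.Cl.D5.LC
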