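/-
`L₃(r)`, `U₃(r)` (`r` odd) and `U₃(4)` are not subgroups of `SL₅`.
-/
import Mathlib
import Cfsg.Agent.Cl.D5Base
import Cfsg.Agent.Cl.D5LCa
import Cfsg.Agent.Cl.D3ModA

set_option autoImplicit false

namespace Cfsg.Agent.Cl.D5

open Matrix Cfsg.Geo Cfsg.Agent.Cl.Max Cfsg.Agent.Cl.Mx
open scoped MatrixGroups

variable {F : Type*} [Field F] [Fintype F] {P : Subgroup (GL (Fin 5) F)} {K : Type*} [Field K] [Fintype K]

namespace LC

open D3.ModA

omit [Fintype F] in
theorem commute_closure {S : Set P} (hc : ∀ a ∈ S, ∀ b ∈ S, Commute a b) (a b : Subgroup.closure S) :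
    Commute a b :=
  (Subgroup.isMulCommutative_closure hc).is_comm.comm a b

omit [Fintype F] in
theorem wt_closure {S : Set P} (hc : ∀ a ∈ S, ∀ b ∈ S, Commute a b) {r : ℕ} (hr : (r : F) ≠ 0)
    (hS : ∀ a ∈ S, a ^ r = 1) : ∃ χ, Wt (Subgroup.closure S).subtype χ :=
  exists_wt _ (commute_closure hc) hr fun a => Subtype.ext (by
    obtain ⟨a, ha⟩ := a
    induction ha using Subgroup.closure_induction with
    | mem a ha => exact hS a ha
    | one => exact one_pow _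
    | mul a b ha hb ia ib =>
      have h1 : Commute a b := congrArg Subtype.val (commute_closure hc ⟨a, ha⟩ ⟨b, hb⟩).eq
      exact (h1.mul_pow r).trans ((congrArg₂ (· * ·) ia ib).trans (mul_one _))
    | inv a ha ia => exact (inv_pow a r).trans (inv_eq_one.2 ia))

omit [Fintype F] in
theorem perm_closure {S : Set P} {A : Type*} [Group A] {ρ : A →* P}
    {χ : Fin 5 → A →* (AlgebraicClosure F)ˣ} (h : Wt ρ χ) (hρ : Function.Injective ρ) (hS : S ⊆ ρ.range)
    (x : P) (hx : ∀ a ∈ S, x * a * x⁻¹ ∈ Subgroup.closure S) :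
    ∃ σ : Equiv.Perm (Fin 5), ∀ i a b, ρ a ∈ S → ρ b = x * ρ a * x⁻¹ → χ (σ i) b = χ i a := by
  let B := (Subgroup.closure S).comap ρ
  have h1 : Wt (ρ.comp B.subtype) fun i => (χ i).comp B.subtype := ⟨h.ex.imp fun Q hQ a => hQ a⟩
  have h2 : ∀ a ∈ Subgroup.closure S, x * a * x⁻¹ ∈ Subgroup.closure S := fun a ha =>
    ((Subgroup.closure_le ((Subgroup.closure S).comap (MulAut.conj x).toMonoidHom)).2 hx) ha
  have h3 : ∀ a : B, ∃ b : B, ρ b = x * ρ a * x⁻¹ := fun a => by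
    obtain ⟨b, hb⟩ := (Subgroup.closure_le ρ.range).2 hS (h2 _ a.2)
    exact ⟨⟨b, Subgroup.mem_comap.2 (hb ▸ h2 _ a.2)⟩, hb⟩
  choose α hα using h3
  obtain ⟨σ, hσ⟩ := h1.perm x α hα
  refine ⟨σ, fun i a b ha hb => ?_⟩
  have h4 := hσ i ⟨a, Subgroup.subset_closure ha⟩
  rwa [show b = α ⟨a, Subgroup.subset_closure ha⟩ from hρ (hb.trans (hα ⟨a, _⟩).symm)]

omit [Fintype F] in
theorem false_of_cross {l : ℕ} (hl : l.Prime) (h2 : l ≠ 2) (h0 : (l : F) ≠ 0) {x y z : P} (yl : y ^ l = 1)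
    (zl : orderOf z = l) (zx : Commute z x) (zy : Commute z y) (comm : x * y = y * x * z)
    (zinv : IsConj z z⁻¹) : False := by
  obtain ⟨χ, hχ⟩ := wt_closure (S := {y, z}) (by
    rintro a (rfl | rfl) b (rfl | rfl)
    exacts [Commute.refl _, zy.symm, zy, Commute.refl _]) h0 (by
    rintro a (rfl | rfl)
    exacts [yl, zl ▸ pow_orderOf_eq_one _])
  let y' : Subgroup.closure ({y, z} : Set P) := ⟨y, Subgroup.subset_closure (by simp)⟩
  let z' : Subgroup.closure ({y, z} : Set P) := ⟨z, Subgroup.subset_closure (by simp)⟩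
  have e1 : x * y * x⁻¹ = y * z := by rw [comm, mul_assoc y, ← zx.eq]; group
  have e2 : x * z * x⁻¹ = z := by rw [← zx.eq]; group
  obtain ⟨σ, hσ⟩ := perm_closure (S := {y, z}) hχ Subtype.val_injective (by simpa using Subgroup.subset_closure) x (by
    rintro a (rfl | rfl)
    exacts [e1 ▸ (y' * z').2, e2.symm ▸ z'.2])
  obtain ⟨g, hg⟩ := isConj_iff.1 zinv
  obtain ⟨τ, hτ⟩ := perm_closure (S := {z}) hχ Subtype.val_injective (by rintro _ rfl; exact ⟨z', rfl⟩) g (by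
    rintro a rfl
    exact hg ▸ inv_mem (Subgroup.subset_closure rfl))
  have s1 : ∀ i, χ (σ i) z' = χ i z' := fun i => hσ i z' z' (by simp [z']) e2.symm
  have s2 : ∀ i, χ (σ i) y' * χ i z' = χ i y' := fun i => by
    rw [← s1, ← map_mul]; exact hσ i y' _ (by simp [y']) e1.symm
  have s3 : ∀ i, (χ (τ i) z')⁻¹ = χ i z' := fun i => by
    rw [← map_inv]; exact hτ i z' _ rfl hg.symm
  have s4 : ∀ i, χ i z' * χ i z' = 1 → χ i z' = 1 := fun i e => by
    obtain ⟨k, hk⟩ := hl.odd_of_ne_two h2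
    have : χ i z' ^ l = 1 := by
      rw [← map_pow, show z' ^ l = 1 from Subtype.ext (zl ▸ pow_orderOf_eq_one z), map_one]
    rwa [hk, pow_succ, pow_mul, pow_two, e, one_pow, one_mul] at this
  have s5 : ∀ i, χ i z' ≠ 1 → i ≠ σ i ∧ i ≠ σ (σ i) := fun i hi => by
    refine ⟨fun e => hi ?_, fun e => hi (s4 i ?_)⟩
    · have := s2 i
      rwa [← e, mul_eq_left] at this
    · have := s2 i
      rwa [← s2 (σ i), ← e, s1, mul_assoc, mul_eq_left] at this
  obtain ⟨i, hi⟩ : ∃ i, χ i z' ≠ 1 := by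
    by_contra h
    push Not at h
    exact hl.one_lt.ne' (zl.symm.trans (orderOf_eq_one_iff.2 (hχ.eq_one h)))
  have hj : χ (τ i) z' ≠ 1 := fun e => hi (by rw [← s3, e, inv_one])
  have s6 : ∀ a b, χ a z' = χ i z' → χ b z' = χ (τ i) z' → a ≠ b := by
    rintro a b ha hb rfl
    exact hj (s4 _ (by nth_rw 1 [← hb]; rw [ha, ← s3, inv_mul_cancel]))
  have nd : [i, σ i, σ (σ i), τ i, σ (τ i), σ (σ (τ i))].Nodup := by
    simp only [List.nodup_cons, List.mem_cons, List.not_mem_nil, or_false, not_or, List.nodup_nil, and_true,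
      not_false_eq_true, σ.injective.eq_iff]
    have a1 := s5 i hi
    have a2 := s5 _ hj
    refine ⟨⟨a1.1, a1.2, ?_, ?_, ?_⟩, ⟨a1.1, ?_, ?_, ?_⟩, ⟨?_, ?_, ?_⟩, a2, a2.1⟩ <;>
      exact s6 _ _ (by simp only [s1]) (by simp only [s1])
  simpa using nd.length_le_card

/-- The action on column vectors. -/
def ac (P : Subgroup (GL (Fin 5) F)) : P →* Module.End F (Fin 5 → F) where
  toFun g := toLin' ((g : GL (Fin 5) F) : Matrix (Fin 5) (Fin 5) F)
  map_one' := by simp [toLin'_one, Module.End.one_eq_id]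
  map_mul' a b := by simp [toLin'_mul, Module.End.mul_eq_comp]

theorem SD.false {G : Type*} [Group G] {l : ℕ} {Q : Subgroup G} {x y z z' g : G} (h : SD l Q x y z z' g)
    (hl : l.Prime) (h2 : l ≠ 2) (hP : QS P) (hn : NoTv P) (hi : Inv2 P) (e : P ≃* G) : False := by
  replace h := h.map e.symm
  by_cases h0 : (l : F) ≠ 0
  · exact false_of_cross hl h2 h0 h.yl h.zl (h.cz _ h.xQ) (h.cz _ h.yQ) h.comm h.zinv
  have := Fact.mk hl
  have : CharP F l := (CharP.charP_iff_prime_eq_zero hl).2 (not_not.1 h0)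
  have t2 : (2 : F) ≠ 0 := fun e => h2 ((cast_eq_zero_iff l Nat.prime_two).1 (by exact_mod_cast e))
  refine h.false_of_char (ac P) ⟨t2, fun t => ?_, by simp, ?_⟩ (bot_or_top_of_gen hP h.gen) fun v φ h1 h3 => ?_
  · rw [← Module.End.mul_apply, ← map_mul, h.g4, map_one]; rfl
  · exact (cd_eq _).symm.trans (hi.cd_eq t2 (qs_le_sl hP) h.g4 h.g2).1
  · obtain ⟨φ, rfl⟩ := (dotProductEquiv F (Fin 5)).surjective φ
    exact (hn v φ ⟨h1, _, (e.symm z).2, h3⟩).imp_right fun e => by rw [e, map_zero]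

omit [Fintype K] in
theorem pu_pow' (a b c : K) (n : ℕ) : ∃ c', pu a b c ^ n = pu (n * a) (n * b) c' := by
  induction n with
  | zero => exact ⟨0, by simp [pu_zero]⟩
  | succ n ih =>
    obtain ⟨c', h⟩ := ih
    exact ⟨_, by rw [pow_succ, h, pu_mul]; congr 1 <;> push_cast <;> ring⟩

/-- The image of the upper unitriangular group. -/
def uQ (K : Type*) [Field K] : Subgroup PSL(3, K) where
  carrier := {g | ∃ a b c, g = pu a b c}
  one_mem' := ⟨0, 0, 0, pu_zero.symm⟩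
  mul_mem' := by rintro _ _ ⟨a, b, c, rfl⟩ ⟨a', b', c', rfl⟩; exact ⟨_, _, _, pu_mul ..⟩
  inv_mem' := by
    rintro _ ⟨a, b, c, rfl⟩
    refine ⟨-a, -b, a * b - c, inv_eq_of_mul_eq_one_right ?_⟩
    rw [pu_mul, ← pu_zero]
    congr 1 <;> ring

/-- The Weyl element. -/
def wS (K : Type*) [Field K] : SL(3, K) := ⟨!![0, 0, 1; 0, 1, 0; -1, 0, 0], by simp [det_fin_three]⟩

/-- The opposite unitriangular matrices. -/
def lt (a b c : K) : SL(3, K) := ⟨!![1, 0, 0; b, 1, 0; -c, -a, 1], by simp [det_fin_three]⟩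

omit [Fintype K] in
theorem wS_ut (a b c : K) : wS K * ut a b c = lt a b c * wS K := by
  ext i j
  rw [Matrix.SpecialLinearGroup.coe_mul, Matrix.SpecialLinearGroup.coe_mul]
  fin_cases i <;> fin_cases j <;> simp [ut, lt, wS, mul_apply, Fin.sum_univ_three]

theorem sd_psl (hK : Odd (Fintype.card K)) :
    ∃ (l : ℕ) (x y z z' g : PSL(3, K)), l.Prime ∧ l ≠ 2 ∧ SD l (uQ K) x y z z' g := by
  obtain ⟨l, hl, n, hp, hn⟩ := FiniteField.card' K
  have := Fact.mk hp
  have hl2 : l ≠ 2 := by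
    rintro rfl
    rw [hn] at hK
    exact Nat.not_odd_iff_even.2 (Nat.even_pow.2 ⟨even_two, n.ne_zero⟩) hK
  have h2 : (2 : K) ≠ 0 := fun e => hl2 ((cast_eq_zero_iff l Nat.prime_two).1 (by exact_mod_cast e))
  have m1 : (-1 : K) ≠ 0 := neg_ne_zero.2 one_ne_zero
  have ww : wS K * wS K = dg (-1) 1 m1 one_ne_zero := by
    ext i j
    rw [Matrix.SpecialLinearGroup.coe_mul]
    fin_cases i <;> fin_cases j <;> simp [dg, wS, mul_apply, Fin.sum_univ_three]
  have ww' : (QuotientGroup.mk (wS K) : PSL(3, K)) * QuotientGroup.mk (wS K) =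
      QuotientGroup.mk (dg (-1) 1 m1 one_ne_zero) := by rw [← QuotientGroup.mk_mul, ww]
  have w4 : (QuotientGroup.mk (dg (-1) 1 m1 one_ne_zero) : PSL(3, K)) *
      QuotientGroup.mk (dg (-1) 1 m1 one_ne_zero) = 1 := by
    rw [← QuotientGroup.mk_mul, ← QuotientGroup.mk_one]
    congr 1
    ext i j
    rw [Matrix.SpecialLinearGroup.coe_mul]
    fin_cases i <;> fin_cases j <;> simp [dg, mul_apply, Fin.sum_univ_three]
  refine ⟨l, pu 1 0 0, pu 0 1 0, pu 0 0 1, QuotientGroup.mk (lt 0 0 1), QuotientGroup.mk (wS K), hp, hl2,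
    ⟨?_, ⟨_, _, _, rfl⟩, ⟨_, _, _, rfl⟩, by rw [pu_pow _ (by simp)]; simp [pu_zero],
      orderOf_eq_prime (by rw [pu_pow _ (by simp)]; simp [pu_zero]) fun e => one_ne_zero (pu_eq_one e),
      by rintro _ ⟨a, b, c, rfl⟩; exact pu_comm .., by simp [pu_mul],
      isConj_iff.2 ⟨QuotientGroup.mk (dg 1 (-1) one_ne_zero m1), ?_⟩,
      by rw [pu, ← QuotientGroup.mk_mul, wS_ut, QuotientGroup.mk_mul], ?_, by rw [ww', w4], fun e => ?_, ?_, ?_⟩⟩
  · rintro ⟨_, a, b, c, rfl⟩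
    obtain ⟨c', h⟩ := pu_pow' a b c l
    refine ⟨2, Subtype.ext ?_⟩
    change pu a b c ^ l ^ 2 = 1
    rw [pow_two, pow_mul, h, CharP.cast_eq_zero, zero_mul, zero_mul, pu_pow _ (by simp)]
    simp [pu_zero]
  · rw [dg_pu, eq_inv_iff_mul_eq_one, pu_mul]
    simp [pu_zero]
  · rw [pu, ← QuotientGroup.mk_mul, ← QuotientGroup.mk_mul]
    congr 1
    ext i j
    rw [Matrix.SpecialLinearGroup.coe_mul, Matrix.SpecialLinearGroup.coe_mul]
    fin_cases i <;> fin_cases j <;> simp [ut, lt, wS, mul_apply, Fin.sum_univ_three]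
  · have h3 := dg_pu (-1 : K) 1 m1 one_ne_zero 1 0 0
    rw [← ww', e] at h3
    have h4 : pu (2 : K) 0 0 = 1 := by
      rw [← mul_left_inj (pu (-1 : K) 0 0), pu_mul, one_mul]
      simpa [show (2 : K) + -1 = 1 by ring] using h3
    rw [pu, QuotientGroup.eq_one_iff, Matrix.SpecialLinearGroup.mem_center_iff] at h4
    obtain ⟨r, -, h4⟩ := h4
    exact h2 (by simpa [ut] using (congrFun (congrFun h4 0) 1).symm)
  · rintro _ ⟨a, b, c, rfl⟩
    rw [ww']
    nth_rw 2 [← inv_eq_of_mul_eq_one_right w4]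
    exact ⟨_, _, _, dg_pu ..⟩
  · set M := Subgroup.closure ((uQ K : Set PSL(3, K)) ∪ {QuotientGroup.mk (wS K)})
    have k1 : ∀ a b c, ut a b c ∈ M.comap (QuotientGroup.mk' _) := fun a b c =>
      Subgroup.subset_closure (Or.inl ⟨a, b, c, rfl⟩)
    have k2 : wS K ∈ M.comap (QuotientGroup.mk' _) := Subgroup.subset_closure (Or.inr rfl)
    have k3 : ∀ a b c, lt a b c ∈ M.comap (QuotientGroup.mk' _) := fun a b c => by
      rw [← Subgroup.mul_mem_cancel_right _ k2, ← wS_ut]; exact mul_mem k2 (k1 a b c)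
    have k4 : M.comap (QuotientGroup.mk' _) = ⊤ := by
      rw [eq_top_iff, ← sl_closure_transvections, Subgroup.closure_le]
      rintro _ ⟨i, j, hij, c, rfl⟩
      rw [SetLike.mem_coe]
      fin_cases i <;> fin_cases j <;> first
        | exact absurd rfl hij
        | (first
            | convert k1 c 0 0 using 1; ext i j; fin_cases i <;> fin_cases j <;>
                simp [ut, Matrix.SpecialLinearGroup.transvection, transvection]; done
            | convert k1 0 c 0 using 1; ext i j; fin_cases i <;> fin_cases j <;>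
                simp [ut, Matrix.SpecialLinearGroup.transvection, transvection]; done
            | convert k1 0 0 c using 1; ext i j; fin_cases i <;> fin_cases j <;>
                simp [ut, Matrix.SpecialLinearGroup.transvection, transvection]; done
            | convert k3 (-c) 0 0 using 1; ext i j; fin_cases i <;> fin_cases j <;>
                simp [lt, Matrix.SpecialLinearGroup.transvection, transvection]; done
            | convert k3 0 c 0 using 1; ext i j; fin_cases i <;> fin_cases j <;>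
                simp [lt, Matrix.SpecialLinearGroup.transvection, transvection]; done
            | convert k3 0 0 (-c) using 1; ext i j; fin_cases i <;> fin_cases j <;>
                simp [lt, Matrix.SpecialLinearGroup.transvection, transvection]; done)
    rw [eq_top_iff]
    rintro ⟨g⟩ -
    exact (k4 ▸ Subgroup.mem_top g : g ∈ M.comap (QuotientGroup.mk' _))

theorem sd_psu {q : ℕ} (hK : Fintype.card K = q ^ 2) (hq : Odd q) :
    ∃ (l : ℕ) (Q : Subgroup (PSU 3 K q)) (x y z z' g : PSU 3 K q), l.Prime ∧ l ≠ 2 ∧ SD l Q x y z z' g := by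
  obtain ⟨σ, hσ⟩ := exists_uField hK
  obtain ⟨l, n, hp, hl, hn, hql⟩ := hσ.exists_prime_pow
  have := Fact.mk hp
  have hl2 : l ≠ 2 := by
    rintro rfl
    rw [hql] at hq
    exact Nat.not_odd_iff_even.2 (Nat.even_pow.2 ⟨even_two, by omega⟩) hq
  have h2 : (2 : K) ≠ 0 := fun e => hl2 ((cast_eq_zero_iff l Nat.prime_two).1 (by exact_mod_cast e))
  obtain ⟨D, -, hD⟩ := hσ.exists_u3Data_PSU
  obtain ⟨θ, hθ, hθ'⟩ := hσ.invol.exists_trace_zero
  let x : UHeis hσ.invol := ⟨1, 2⁻¹, by simp only [map_inv₀, map_ofNat, map_one]; field_simp; ring⟩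
  let y : UHeis hσ.invol := ⟨θ, -(θ * θ) / 2, by
    simp only [map_div₀, map_ofNat, map_neg, map_mul, hθ']; field_simp; ring⟩
  have hc : 2 * θ + σ (2 * θ) = 0 := by rw [map_mul, map_ofNat, hθ']; ring
  have h0 : 2 * θ ≠ 0 := mul_ne_zero h2 hθ
  have hcomm : x * y = y * x * UHeis.cen hσ.invol _ hc :=
    UHeis.ext (by simp only [UHeis.mul_b, UHeis.cen_b]; ring) (by
      simp only [UHeis.mul_c, UHeis.cen_c, UHeis.cen_b, x, y, hθ', map_one]; ring)
  generalize 2 * θ = c at hc h0 hcomm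
  have hc1 : σ c = -c := eq_neg_of_add_eq_zero_right hc
  have hc' : c⁻¹ + σ c⁻¹ = 0 := by rw [map_inv₀, hc1, inv_neg, add_neg_cancel]
  set z := UHeis.cen hσ.invol c hc
  set z₁ := UHeis.cen hσ.invol c⁻¹ hc'
  let a : Kˣ := Units.mk0 c⁻¹ (inv_ne_zero h0)
  have ha : (Units.map σ.toMonoidHom a)⁻¹ * a = -1 := Units.ext (by simp [a, hc1, h0])
  have r1 : D.w * D.u z₁ * D.w = D.u z * (D.w * D.h a) * D.u z := by
    rw [D.rel z₁ (inv_ne_zero h0), show z₁.flip = z from UHeis.ext (by simp [z, z₁]) (by simp [z, z₁]),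
      show z₁.flip' = z from UHeis.ext (by simp [z, z₁]) (by simp [z, z₁]), mul_assoc (D.u z)]
    rfl
  have r2 : D.w * D.h a * (D.w * D.h a) = D.h (-1) := by
    rw [← mul_assoc, D.w_h, ← map_mul, ha]
  have r3 : D.h (-1) * D.h (-1) = 1 := by rw [← map_mul]; simp
  have r4 : (D.w * D.h a)⁻¹ * (D.w * D.h a)⁻¹ = D.h (-1) := by
    rw [← _root_.mul_inv_rev, r2, inv_eq_of_mul_eq_one_right r3]
  have r5 : D.h (Units.map σ.toMonoidHom a) * D.u z * (D.h (Units.map σ.toMonoidHom a))⁻¹ = (D.u z₁)⁻¹ := by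
    rw [D.h_conj, ← map_inv]
    congr 1
    refine UHeis.ext (by simp [z, z₁]) ?_
    rw [UHeis.torus_c, hσ.invol.norm_uLam]
    simp [a, z, z₁, hc1, h0]
  refine ⟨l, D.u.range, D.u x, D.u y, D.u z, (D.w * D.u z₁ * D.w)⁻¹, (D.w * D.h a)⁻¹, hp, hl2,
    D.isPGroup_range_u, ⟨_, rfl⟩, ⟨_, rfl⟩, by rw [← map_pow, UHeis.pow_char_eq_one (hp.odd_of_ne_two hl2), map_one],
    orderOf_cen D l hc h0, by rintro _ ⟨k, rfl⟩; exact (cen_comm _ hc _).map _,
    by rw [← map_mul, hcomm, map_mul, map_mul], ?_, ?_, by rw [r1]; group, by rw [r4, r3], fun e => ?_, ?_, ?_⟩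
  · obtain ⟨b, hb⟩ := hσ.exists_norm_eq (a := (-1 : K)) (by simp)
    have hb0 : b ≠ 0 := fun e => by simp [e] at hb
    refine isConj_iff.2 ⟨D.h (Units.mk0 b hb0), ?_⟩
    rw [D.h_conj, ← map_inv]
    congr 1
    refine UHeis.ext (by simp [z]) ?_
    rw [UHeis.torus_c, hσ.invol.norm_uLam, Units.val_mk0, hb]
    simp [z, hc1]
  · rw [D.w_mul_h, map_inv]
    simp only [_root_.mul_inv_rev, inv_inv, ← r5, D.w_inv, mul_assoc]
    rw [← mul_assoc D.w D.w, D.w_sq, one_mul, inv_mul_cancel, mul_one]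
  · rw [r4, hD] at e
    have := congrArg Units.val e
    simp only [coe_uLam, Units.val_neg, Units.val_one, map_neg, map_one] at this
    exact h2 (by linear_combination -this)
  · rintro _ ⟨k, rfl⟩
    rw [r4]
    nth_rw 2 [← inv_eq_of_mul_eq_one_right r3]
    exact ⟨_, (D.h_conj _ _).symm⟩
  · set M := Subgroup.closure ((D.u.range : Set _) ∪ {(D.w * D.h a)⁻¹})
    have k1 : ∀ k, D.u k ∈ M := fun k => Subgroup.subset_closure (Or.inl ⟨k, rfl⟩)
    have k2 : D.w * D.h a ∈ M := inv_mem_iff.1 (Subgroup.subset_closure (Or.inr rfl))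
    obtain ⟨k, hk⟩ := UHeis.exists_c hσ.invol (1 : K)
    have k3 := D.rel k (hk ▸ one_ne_zero)
    rw [show Units.mk0 k.c (hk ▸ one_ne_zero) = 1 from Units.ext hk, map_one, mul_one] at k3
    have k4 := mul_mem (mul_mem k2 (k1 ((UHeis.torus _ (uLam σ a)).symm k))) (inv_mem k2)
    rw [_root_.mul_inv_rev, D.w_inv, mul_assoc D.w, mul_assoc D.w, ← mul_assoc _ _ D.w, D.h_conj,
      MulEquiv.apply_symm_apply, ← mul_assoc, k3, M.mul_mem_cancel_right (k1 _), M.mul_mem_cancel_left (k1 _)] at k4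
    rw [eq_top_iff, ← D.closure_u_w, Subgroup.closure_le]
    rintro _ (⟨k, rfl⟩ | rfl)
    exacts [k1 k, k4]

theorem eq_or_eq {p : Fin 5 → Prop} (h : Nat.card {k // p k} = 2) {i j k : Fin 5} (hi : p i) (hj : p j)
    (hij : j ≠ i) (hk : p k) : k = i ∨ k = j := by
  obtain ⟨y, -, hy⟩ := (Nat.card_eq_two_iff' (⟨i, hi⟩ : {k // p k})).1 h
  refine or_iff_not_imp_left.2 fun h1 => congrArg Subtype.val
    ((hy ⟨k, hk⟩ fun e => h1 (congrArg Subtype.val e)).trans (hy ⟨j, hj⟩ fun e => hij (congrArg Subtype.val e)).symm)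

omit [Fintype F] in
theorem false_of_four (h2 : (2 : F) ≠ 0) (hP : QS P) (hi : Inv2 P) {x y s t : P} (y4 : y ^ 4 = 1)
    (s2 : s * s = 1) (t2 : t * t = 1) (s1 : s ≠ 1) (t1 : t ≠ 1) (st : s * t ≠ 1) (c1 : Commute s t)
    (sx : Commute s x) (sy : Commute s y) (tx : Commute t x) (ty : Commute t y) (comm : x * y = y * x * t) :
    False := by
  obtain ⟨χ, hχ⟩ := wt_closure (S := {y, s, t}) (r := 4) (by
    rintro a (rfl | rfl | rfl) b (rfl | rfl | rfl)
    exacts [Commute.refl _, sy.symm, ty.symm, sy, Commute.refl _, c1, ty, c1.symm, Commute.refl _])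
    (by rw [show ((4 : ℕ) : F) = 2 * 2 by norm_num]; exact mul_ne_zero h2 h2) (by
    rintro a (rfl | rfl | rfl)
    · exact y4
    · rw [show 4 = 2 * 2 from rfl, pow_mul, pow_two a, s2, one_pow]
    · rw [show 4 = 2 * 2 from rfl, pow_mul, pow_two a, t2, one_pow])
  let y' : Subgroup.closure ({y, s, t} : Set P) := ⟨y, Subgroup.subset_closure (by simp)⟩
  let s' : Subgroup.closure ({y, s, t} : Set P) := ⟨s, Subgroup.subset_closure (by simp)⟩
  let t' : Subgroup.closure ({y, s, t} : Set P) := ⟨t, Subgroup.subset_closure (by simp)⟩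
  have e1 : x * y * x⁻¹ = y * t := by rw [comm, mul_assoc y, ← tx.eq]; group
  have e2 : x * s * x⁻¹ = s := by rw [← sx.eq]; group
  have e3 : x * t * x⁻¹ = t := by rw [← tx.eq]; group
  obtain ⟨σ, hσ⟩ := perm_closure (S := {y, s, t}) hχ Subtype.val_injective
    (by simpa using Subgroup.subset_closure) x (by
    rintro a (rfl | rfl | rfl)
    exacts [e1 ▸ (y' * t').2, e2.symm ▸ s'.2, e3.symm ▸ t'.2])
  have u1 : ∀ i, χ (σ i) s' = χ i s' := fun i => hσ i s' s' (by simp [s']) e2.symm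
  have u2 : ∀ i, χ (σ i) t' = χ i t' := fun i => hσ i t' t' (by simp [t']) e3.symm
  have u3 : ∀ i, χ (σ i) y' * χ i t' = χ i y' := fun i => by
    rw [← u2, ← map_mul]; exact hσ i y' _ (by simp [y']) e1.symm
  have cd2 : ∀ a : Subgroup.closure ({y, s, t} : Set P), (a : P) * a = 1 → (a : P) ≠ 1 →
      Nat.card {i // χ i a ≠ 1} = 2 := fun a e h => (hχ.cd_eq a).symm.trans (hi.cd_eq h2 (qs_le_sl hP) e h).1
  have neg : ∀ i (a : Subgroup.closure ({y, s, t} : Set P)), (a : P) * a = 1 → χ i a ≠ 1 → χ i a = -1 :=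
    fun i a e h => by
      have : χ i a * χ i a = 1 := by rw [← map_mul, show a * a = 1 from Subtype.ext e, map_one]
      exact Units.ext ((mul_self_eq_one_iff.1 (congrArg Units.val this)).resolve_left fun e => h (Units.ext e))
  obtain ⟨i, hi'⟩ : ∃ i, χ i t' ≠ 1 := by
    by_contra h
    push Not at h
    exact t1 (hχ.eq_one h)
  have hne : σ i ≠ i := fun e => hi' (by simpa [e] using u3 i)
  have key : ∀ a : Subgroup.closure ({y, s, t} : Set P), (a : P) * a = 1 → (a : P) ≠ 1 → χ i a ≠ 1 →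
      χ (σ i) a = χ i a → (a : P) * t = 1 := fun a e h h3 h4 => hχ.eq_one (a := a * t') fun k => by
    have k1 : χ k a ≠ 1 ↔ χ k t' ≠ 1 := ⟨fun h5 => by
      rcases eq_or_eq (cd2 a e h) h3 (h4 ▸ h3) hne h5 with rfl | rfl
      exacts [hi', (u2 i).symm ▸ hi'], fun h5 => by
      rcases eq_or_eq (cd2 t' t2 t1) hi' ((u2 i).symm ▸ hi') hne h5 with rfl | rfl
      exacts [h3, h4 ▸ h3]⟩
    by_cases h5 : χ k a = 1
    · rw [map_mul, h5, not_not.1 fun h6 => k1.2 h6 h5, mul_one]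
    · rw [map_mul, neg k a e h5, neg k t' t2 (k1.1 h5)]; simp
  by_cases h3 : χ i s' = 1
  · have := key (s' * t') (by
      change s * t * (s * t) = 1
      rw [← pow_two, c1.mul_pow, pow_two, pow_two, s2, t2, mul_one]) st
      (by rwa [map_mul, h3, one_mul]) (by rw [map_mul, map_mul, u1, u2])
    exact s1 (by rwa [Subgroup.coe_mul, mul_assoc, t2, mul_one] at this)
  · exact st (key s' s2 s1 h3 (u1 i))

end LC

theorem not_psl3 (hP : QS P) (hn : NoTv P) (hi : Inv2 P) (hK : Odd (Fintype.card K))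
    (e : P ≃* PSL(3, K)) : False :=
  let ⟨_, _, _, _, _, _, hl, h2, h⟩ := LC.sd_psl hK
  h.false hl h2 hP hn hi e

theorem not_psu3 (hP : QS P) (hn : NoTv P) (hi : Inv2 P) {q : ℕ} (hK : Fintype.card K = q ^ 2)
    (hq : Odd q) (e : P ≃* PSU 3 K q) : False :=
  let ⟨_, _, _, _, _, _, _, hl, h2, h⟩ := LC.sd_psu hK hq
  h.false hl h2 hP hn hi e

theorem not_psu3_four (h2 : (2 : F) ≠ 0) (hP : QS P) (hi : Inv2 P) (hK : Fintype.card K = 16)
    (e : P ≃* PSU 3 K 4) : False := by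
  obtain ⟨σ, hσ⟩ := exists_uField (F := K) (q := 4) (by rw [hK]; norm_num)
  have : CharP K 2 := hσ.charP (k := 2) (by norm_num)
  obtain ⟨D, -, -⟩ := hσ.exists_u3Data_PSU
  obtain ⟨x, y, hxy⟩ := UHeis.exists_not_commute hσ.invol
  obtain ⟨c, hc, hn⟩ := D3.ModA.exists_not_natCast (F := K) 2 (S := {a | σ a = a}) (by
    rw [← Nat.card_coe_set_eq]
    have h4 : Nat.card {a | σ a = a} = 4 := hσ.card_fixed
    omega)
  let ρ : UHeis hσ.invol →* P := (e.symm : PSU 3 K 4 →* P).comp D.u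
  have hρ : Function.Injective ρ := e.symm.injective.comp D.u_injective
  obtain ⟨t, ht⟩ : ∃ t, t = (y * x)⁻¹ * (x * y) := ⟨_, rfl⟩
  have tb : t.b = 0 := by simp only [ht, UHeis.mul_b, UHeis.inv_b]; ring
  have t1 : t.c ≠ 0 := fun h => hxy (by rw [← UHeis.eq_one_iff, ht, inv_mul_eq_one] at h; exact h.symm)
  let s : UHeis hσ.invol := UHeis.cen _ (c * t.c) (by
    rw [map_mul, show σ c = c from hc, ← mul_add, UHeis.trace_c_of_b tb, mul_zero])
  have cm : ∀ a : UHeis hσ.invol, a.b = 0 → ∀ b, Commute (ρ a) (ρ b) := fun a ha b =>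
    Commute.map (UHeis.commute_iff.2 (by simp [ha])) ρ
  have ne : ∀ a : UHeis hσ.invol, a.c ≠ 0 → ρ a ≠ 1 := fun a ha e =>
    ha (UHeis.eq_one_iff.1 ((injective_iff_map_eq_one ρ).1 hρ a e))
  refine LC.false_of_four h2 hP hi (x := ρ x) (y := ρ y) (s := ρ s) (t := ρ t)
    (by rw [← map_pow, show y ^ 4 = 1 from UHeis.pow_char_sq (p := 2) y, map_one])
    (by rw [← map_mul, UHeis.mul_self_eq_one_iff.2 rfl, map_one])
    (by rw [← map_mul, UHeis.mul_self_eq_one_iff.2 tb, map_one])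
    (ne s (mul_ne_zero (by simpa using hn 0) t1)) (ne t t1) (map_mul ρ s t ▸ ne _ fun h => hn 1 ?_)
    (cm s rfl _) (cm s rfl _) (cm s rfl _) (cm t tb _) (cm t tb _)
    (by rw [← map_mul, ← map_mul, ← map_mul, ht, mul_inv_cancel_left])
  have h3 : (c + 1) * t.c = 0 := by simpa [s, tb, add_mul] using h
  have h4 := (mul_eq_zero.1 h3).resolve_right t1
  rw [Nat.cast_one, eq_neg_of_add_eq_zero_left h4, CharTwo.neg_eq]

end Cfsg.Agent.Cl.D5
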