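/-
`L₂(11) ≤ SL₅(3)`: its normaliser is not maximal.
-/
import Mathlib
import Cfsg.Agent.Cl.D5Base
import Cfsg.Agent.GT.QuadSL2

set_option autoImplicit false

namespace Cfsg.Agent.Cl.D5

open Matrix Cfsg.Geo Cfsg.Agent.Cl.Max Cfsg.Agent.Cl.Mx
open scoped MatrixGroups

namespace LD

abbrev V : Type := Fin 5 → ZMod 3
abbrev Mt : Type := Matrix (Fin 5) (Fin 5) (ZMod 3)

instance : Fact (Nat.Prime 11) := ⟨by norm_num⟩
instance : Fact (Nat.Prime 5) := ⟨by norm_num⟩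

theorem exists_fix {α : Type*} [Finite α] {f : α → α} {p : ℕ} [Fact p.Prime] (hf : ∀ a, f^[p] a = a)
    {S : Set α} (hS : Set.MapsTo f S S) (hc : ¬ p ∣ S.ncard) : ∃ a ∈ S, f a = a := by
  classical
  have := Fintype.ofFinite α
  by_contra h
  push Not at h
  have h1 := Equiv.Perm.card_fixedPoints_modEq (α := S) (f := hS.restrict f S S) (p := p) (n := 1) (by
    rw [pow_one]
    refine funext fun a => Subtype.ext ?_
    have e : ∀ n : ℕ, ((show Function.End S from hS.restrict f S S) ^ n) = (hS.restrict f S S)^[n] :=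
      fun n => by
        induction n with
        | zero => rfl
        | succ n ih => rw [pow_succ, ih]; rfl
    rw [e, hS.iterate_restrict]
    exact hf a)
  have h2 : IsEmpty (Function.fixedPoints (hS.restrict f S S)) :=
    ⟨fun a => h a.1 a.1.2 (congrArg Subtype.val a.2)⟩
  rw [Fintype.card_eq_zero (α := Function.fixedPoints _), ← Nat.card_eq_fintype_card] at h1
  exact hc (Nat.modEq_zero_iff_dvd.1 h1)

theorem exists_fix' {A : Mt} {p : ℕ} [Fact p.Prime] (hA : A ^ p = 1) {S : Set V}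
    (hS : ∀ w ∈ S, A *ᵥ w ∈ S) (hc : ¬ p ∣ S.ncard) : ∃ w ∈ S, A *ᵥ w = w := by
  have e : ∀ (n : ℕ) (w : V), (A *ᵥ ·)^[n] w = (A ^ n) *ᵥ w := fun n => by
    induction n with
    | zero => simp
    | succ n ih => intro w; rw [Function.iterate_succ_apply, ih, mulVec_mulVec, pow_succ]
  exact exists_fix (f := (A *ᵥ ·)) (fun w => by rw [e, hA, one_mulVec]) hS hc

theorem inj_of_pow {A : Mt} {n : ℕ} (hA : A ^ (n + 1) = 1) {w : V} (h : A *ᵥ w = 0) : w = 0 := by
  rw [← one_mulVec w, ← hA, pow_succ, ← mulVec_mulVec, h, mulVec_zero]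

theorem ncard_sub (W : Submodule (ZMod 3) V) : W = ⊥ ∨ W = ⊤ ∨ (W : Set V).ncard % 11 ≠ 1 := by
  have h1 : (W : Set V).ncard = 3 ^ Module.finrank (ZMod 3) W := by
    rw [← Nat.card_coe_set_eq]
    exact (Module.natCard_eq_pow_finrank (K := ZMod 3) (V := W)).trans (by rw [Nat.card_zmod])
  have h2 : Module.finrank (ZMod 3) V = 5 := by simp
  have h3 := W.finrank_le
  by_cases h0 : Module.finrank (ZMod 3) W = 0
  · exact Or.inl (Submodule.finrank_eq_zero.1 h0)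
  by_cases h5 : Module.finrank (ZMod 3) W = 5
  · exact Or.inr (Or.inl (Submodule.eq_top_of_finrank_eq (h5.trans h2.symm)))
  refine Or.inr (Or.inr ?_)
  rw [h1]
  generalize Module.finrank (ZMod 3) W = d at *
  have h4 : d < 5 := by omega
  interval_cases d <;> simp_all

theorem no_fix {A : Mt} (hA : A ^ 11 = 1) (h1 : A ≠ 1) {w : V} (h : A *ᵥ w = w) : w = 0 := by
  let U : Submodule (ZMod 3) V := LinearMap.ker (A - 1).mulVecLin
  have hU : ∀ u, u ∈ U ↔ A *ᵥ u = u := fun u => by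
    simp [U, sub_eq_zero]
  rcases ncard_sub U with e | e | e
  · simpa [e] using (hU w).2 h
  · exact absurd (ext_of_mulVec_single fun i => by
      rw [one_mulVec]; exact (hU _).1 (e ▸ Submodule.mem_top)) h1
  · have h2 := Set.ncard_add_ncard_compl (U : Set V)
    rw [show Nat.card V = 243 by simp] at h2
    obtain ⟨u, hu, e2⟩ := exists_fix' hA (S := (U : Set V)ᶜ) (fun u hu hu' => hu ((hU u).2
      (sub_eq_zero.1 (inj_of_pow hA (by rw [mulVec_sub, (hU _).1 hu', sub_self]))))) (by omega)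
    exact absurd ((hU u).2 e2) hu

/-- An element of order `11` is irreducible. -/
theorem irr {A : Mt} (hA : A ^ 11 = 1) (h1 : A ≠ 1) (W : Submodule (ZMod 3) V)
    (hW : ∀ w ∈ W, A *ᵥ w ∈ W) {w : V} (hw : w ∈ W) (h0 : w ≠ 0) : W = ⊤ := by
  rcases ncard_sub W with e | e | e
  · exact absurd (by simpa [e] using hw) h0
  · exact e
  · have h2 := Set.ncard_sdiff_singleton_add_one (s := (W : Set V)) W.zero_mem
    obtain ⟨u, hu, e2⟩ := exists_fix' hA (S := (W : Set V) \ {0})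
      (fun u hu => ⟨hW u hu.1, fun h => hu.2 (inj_of_pow hA h)⟩) (by omega)
    exact absurd (no_fix hA h1 e2) hu.2

/-- One of the two irreducible factors of `Φ₁₁`. -/
def fa (A : Mt) : Mt := A ^ 5 + A ^ 4 - A ^ 3 + A ^ 2 - 1

def mX : Mt := !![-1, 1, 0, 0, -1; 1, -1, 0, 1, -1; 0, -1, 0, 0, 1; 1, 1, 1, 0, 0; -1, 0, 0, 0, 1]
def mXi : Mt := !![2, 0, 2, 0, 0; 2, 0, 1, 0, 1; 2, 0, 0, 1, 2; 2, 1, 1, 0, 2; 2, 0, 2, 0, 1]
def mY : Mt := Matrix.of fun i j => if i = j + 1 then 1 else 0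
def mM : Mt := !![0, 0, 0, 1, 1; 0, 1, 0, 0, 2; 2, 0, 0, 0, 0; 0, 0, 2, 0, 2; 0, 0, 0, 0, 1]
def mG : Mt := !![2, 1, 2, 1, 0; 2, 1, 0, 2, 0; 2, 2, 0, 2, 0; 2, 0, 0, 1, 0; 2, 2, 0, 0, 2]
def mH : Mt := !![1, 1, 2, 2, 0; 0, 2, 2, 2, 0; 1, 2, 1, 2, 0; 2, 1, 0, 2, 0; 2, 0, 1, 2, 1]
def mT : Mt := !![1, 1, 0, 0, 0; 0, 1, 0, 0, 0; 0, 0, 1, 0, 0; 0, 0, 0, 1, 0; 0, 0, 0, 0, 1]

/-- The `22` vectors permuted by `2 × M₁₁`. -/
def om : Fin 22 → V := ![![2, 2, 2, 2, 2], ![2, 0, 0, 0, 0], ![2, 1, 0, 1, 2], ![0, 0, 2, 0, 0],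
  ![0, 0, 0, 1, 0], ![0, 2, 0, 0, 0], ![1, 2, 2, 1, 0], ![2, 0, 2, 1, 1], ![0, 1, 2, 2, 1], ![0, 0, 0, 0, 2],
  ![2, 2, 1, 0, 1], ![1, 1, 1, 1, 1], ![1, 0, 0, 0, 0], ![1, 2, 0, 2, 1], ![0, 0, 1, 0, 0], ![0, 0, 0, 2, 0],
  ![0, 1, 0, 0, 0], ![2, 1, 1, 2, 0], ![1, 0, 1, 2, 2], ![0, 2, 1, 1, 2], ![0, 0, 0, 0, 1], ![1, 1, 2, 0, 2]]

theorem om_succ : ∀ k, om (k + 1) = - (mX *ᵥ om k) := by decide +kernel
theorem om_neg : ∀ k, om (k + 11) = - om k := by decide +kernel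
theorem om_inj : Function.Injective om := by decide +kernel
theorem om_ne : ∀ k, om k ≠ 0 := by decide +kernel
theorem mM_om : ∀ k, ∃ l, om l = mM *ᵥ om k := by decide +kernel
theorem mT_om : ¬ ∀ k, ∃ l, om l = mT *ᵥ om k := by decide +kernel
theorem mY_fix : ∀ a b c d e : ZMod 3, mY *ᵥ ![a, b, c, d, e] = ![a, b, c, d, e] →
    ![a, b, c, d, e] = 0 ∨ ∃ l, om l = ![a, b, c, d, e] := by decide +kernel

/-- The matrices inverting `mY`. -/
def mS (a b c d e : ZMod 3) : Mt := Matrix.of fun i j => ![a, b, c, d, e] (i + j)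

theorem mS_om : ∀ a b c d e : ZMod 3, mS a b c d e *ᵥ (mS a b c d e *ᵥ om 12) = om 12 →
    mS a b c d e *ᵥ (mX *ᵥ (mS a b c d e *ᵥ om 12)) = mXi *ᵥ (mS a b c d e *ᵥ (mXi *ᵥ om 12)) →
    ∀ k, ∃ l, om l = mS a b c d e *ᵥ om k := by decide +kernel

open Fin.NatCast Fin.CommRing in
theorem eq_mS {S : Mt} (h : mY * S * mY = S) : S = mS (S 0 0) (S 1 0) (S 2 0) (S 3 0) (S 4 0) := by
  have h1 : ∀ i j, S i (j + 1) = S (i + 1) j := fun i j => by
    conv_rhs => rw [← h]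
    simp [mul_apply, mY]
  have h2 : ∀ (j : ℕ) (i : Fin 5), S i (j : Fin 5) = S (i + j) 0 := fun j => by
    induction j with
    | zero => simp
    | succ j ih => intro i; rw [Nat.cast_succ, h1, ih, add_assoc, add_comm 1]
  ext i j
  have h3 := h2 j i
  rw [Fin.cast_val_eq_self] at h3
  rw [h3, mS, of_apply]
  generalize i + j = k
  fin_cases k <;> rfl

/-- Generators and relations. -/
structure Rel {G : Type*} [Group G] (P : Subgroup G) (x y s : G) : Prop where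
  x1 : x ≠ 1
  x11 : x ^ 11 = 1
  y5 : y ^ 5 = 1
  yx : y * x = x ^ 5 * y
  ss : s * s = 1
  ysy : y * s * y = s
  sx : s * x * s = x⁻¹ * s * x⁻¹
  mx : x ∈ P
  my : y ∈ P
  gen : P ≤ Subgroup.closure {x, s}
  exp : ∀ g ∈ P, g ^ 660 = 1

variable {G : Type*} [Group G] {S P H : Subgroup G} {x y s : G}

theorem Rel.inv (h : Rel P x y s) : Rel P x⁻¹ y s where
  x1 := inv_ne_one.2 h.x1
  x11 := by rw [inv_pow, h.x11, inv_one]
  y5 := h.y5
  yx := by rw [inv_pow]; exact (SemiconjBy.inv_right h.yx).eq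
  ss := h.ss
  ysy := h.ysy
  sx := by
    have e := congrArg Inv.inv h.sx
    simpa [mul_assoc, inv_eq_of_mul_eq_one_left h.ss] using e
  mx := inv_mem h.mx
  my := h.my
  gen := h.gen.trans ((Subgroup.closure_le _).2 (Set.pair_subset
    (by simpa using inv_mem (Subgroup.subset_closure (k := {x⁻¹, s}) (Set.mem_insert _ _)))
    (Subgroup.subset_closure (Set.mem_insert_of_mem _ rfl))))
  exp := h.exp

/-- The matrix of an element. -/
def rep (Φ : G ≃* GL (Fin 5) (ZMod 3)) : G →* Mt := (Units.coeHom _).comp Φ.toMonoidHom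

theorem rep_inj (Φ : G ≃* GL (Fin 5) (ZMod 3)) : Function.Injective (rep Φ) :=
  Units.val_injective.comp Φ.injective

theorem exists_rep (Φ : G ≃* GL (Fin 5) (ZMod 3)) {A : Mt} (h : A * A * A = 1) :
    ∃ g, rep Φ g = A ∧ rep Φ g⁻¹ = A * A ∧ A.det = 1 := by
  refine ⟨Φ.symm ⟨A, A * A, by rw [← mul_assoc, h], h⟩, by simp [rep], by simp [rep], ?_⟩
  have e := congrArg det h
  rw [det_mul, det_mul, det_one] at e
  revert e
  generalize A.det = a
  revert a
  decide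

/-- The stabiliser of the `22` vectors. -/
def stab (Φ : G ≃* GL (Fin 5) (ZMod 3)) : Subgroup G where
  carrier := {g | ∀ w ∈ Set.range om, rep Φ g *ᵥ w ∈ Set.range om}
  one_mem' w hw := by rwa [map_one, one_mulVec]
  mul_mem' ha hb w hw := by rw [map_mul, ← mulVec_mulVec]; exact ha _ (hb w hw)
  inv_mem' {g} hg w hw := by
    have e : ∀ u, rep Φ g⁻¹ *ᵥ (rep Φ g *ᵥ u) = u := fun u => by
      rw [mulVec_mulVec, ← map_mul, inv_mul_cancel, map_one, one_mulVec]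
    obtain ⟨u, hu, rfl⟩ := (((Set.finite_range om).injOn_iff_bijOn_of_mapsTo (f := (rep Φ g *ᵥ ·)) hg).1
      (Function.LeftInverse.injective e).injOn).surjOn hw
    rwa [e]

theorem mem_stab {Φ : G ≃* GL (Fin 5) (ZMod 3)} {g : G} :
    g ∈ stab Φ ↔ ∀ k, ∃ l, om l = rep Φ g *ᵥ om k := Set.forall_mem_range

open Fin.NatCast Fin.CommRing in
theorem core (Φ : G ≃* GL (Fin 5) (ZMod 3)) (hS : ∀ g, g ∈ S ↔ (rep Φ g).det = 1) (h : Rel P x y s)
    (hx : rep Φ x = mX) (hy : rep Φ y = mY) (hn : ∀ k ∈ H, ∀ g ∈ P, k * g * k⁻¹ ∈ P) :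
    ¬ IsMaximalIn S H := fun hm => by
  have hxi : rep Φ x⁻¹ = mXi := by
    rw [← mul_one (rep Φ x⁻¹), ← show mX * mXi = 1 by decide +kernel, ← mul_assoc, ← hx, ← map_mul,
      inv_mul_cancel, map_one, one_mul]
  have hP : P ≤ stab Φ := h.gen.trans ((Subgroup.closure_le _).2 (Set.pair_subset
    (mem_stab.2 fun k => ⟨k + 1 + 11, by rw [om_neg, om_succ, neg_neg, hx]⟩) (mem_stab.2 (by
      have e : mY * rep Φ s * mY = rep Φ s := by rw [← hy, ← map_mul, ← map_mul, h.ysy]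
      rw [eq_mS e]
      refine mS_om _ _ _ _ _ ?_ ?_ <;> rw [← eq_mS e]
      · rw [mulVec_mulVec, ← map_mul, h.ss, map_one, one_mulVec]
      · rw [← hx, ← hxi]
        simp only [mulVec_mulVec, ← map_mul, ← mul_assoc, h.sx]))))
  have hH : H ≤ stab Φ := fun k hk => by
    have h1 := hn _ (inv_mem hk) _ h.my
    obtain ⟨_, ⟨i, rfl⟩, e⟩ := exists_fix' (A := rep Φ (k⁻¹ * y * k⁻¹⁻¹)) (p := 5)
      (by rw [← map_pow, conj_pow, h.y5, mul_one, mul_inv_cancel, map_one]) (hP h1) (by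
        rw [← Set.image_univ, Set.ncard_image_of_injective _ om_inj, Set.ncard_univ]; simp)
    have e1 : mY *ᵥ (rep Φ k *ᵥ om i) = rep Φ k *ᵥ om i := by
      conv_rhs => rw [← e]
      rw [← hy, mulVec_mulVec, mulVec_mulVec, ← map_mul, ← map_mul]
      congr 2; group
    have e2 : ∀ w : V, w = ![w 0, w 1, w 2, w 3, w 4] := fun w => by ext j; fin_cases j <;> rfl
    have e3 : rep Φ k *ᵥ om i ∈ Set.range om := by
      rw [e2 (rep Φ k *ᵥ om i)] at e1 ⊢
      refine (mY_fix _ _ _ _ _ e1).resolve_left fun e0 => om_ne i ?_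
      rw [← e2] at e0
      rw [← one_mulVec (om i), ← map_one (rep Φ), ← inv_mul_cancel k, map_mul, ← mulVec_mulVec, e0,
        mulVec_zero]
    have e4 : ∀ n : ℕ, rep Φ k *ᵥ om (i + n) ∈ Set.range om := fun n => by
      induction n with
      | zero => simpa using e3
      | succ n ih =>
        obtain ⟨l, hl⟩ := hP (hn k hk x h.mx) _ ih
        refine ⟨l + 11, ?_⟩
        rw [om_neg, hl, Nat.cast_succ, ← add_assoc, om_succ, mulVec_neg, ← hx, mulVec_mulVec,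
          mulVec_mulVec, ← map_mul, ← map_mul, inv_mul_cancel_right]
    exact mem_stab.2 fun j => by simpa using e4 (j - i : Fin 22)
  rcases hm.2 (stab Φ ⊓ S) (le_inf hH hm.1.le) inf_le_right with e | e
  · obtain ⟨m, m1, m2, m3⟩ := exists_rep Φ (A := mM) (by decide +kernel)
    have hmH : m ∈ H := e ▸ ⟨mem_stab.2 (m1 ▸ mM_om), (hS m).2 (m1 ▸ m3)⟩
    have e1 := congrArg (rep Φ) (h.exp _ (mul_mem (hn m hmH x h.mx) h.mx))
    rw [map_pow, map_mul, map_mul, map_mul, m1, m2, hx, map_one,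
      show mM * mX * (mM * mM) * mX = mG by decide +kernel, show 660 = (2 + 2) * (2 * 82 + 1) from rfl,
      pow_mul, pow_add mG, pow_two, show mG * mG * (mG * mG) = mH by decide +kernel, pow_succ, pow_mul,
      pow_two, show mH * mH = 1 by decide +kernel, one_pow, one_mul] at e1
    exact absurd e1 (by decide +kernel)
  · obtain ⟨t, t1, -, t3⟩ := exists_rep Φ (A := mT) (by decide +kernel)
    have ht : t ∈ stab Φ ⊓ S := e.symm ▸ (hS t).2 (t1 ▸ t3)
    exact mT_om (t1 ▸ mem_stab.1 ht.1)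

theorem three (w : V) : w + w + w = 0 := by
  ext i
  rw [Pi.add_apply, Pi.add_apply, Pi.zero_apply]
  generalize w i = a
  revert a
  decide

theorem mid (Φ : G ≃* GL (Fin 5) (ZMod 3)) (hS : ∀ g, g ∈ S ↔ (rep Φ g).det = 1) (h : Rel P x y s)
    {w : V} (hw : w ≠ 0) (hf : fa (rep Φ x) *ᵥ w = 0) (hn : ∀ k ∈ H, ∀ g ∈ P, k * g * k⁻¹ ∈ P) :
    ¬ IsMaximalIn S H := by
  set A := rep Φ x with hA
  have a11 : A ^ 11 = 1 := by rw [hA, ← map_pow, h.x11, map_one]
  have a1 : A ≠ 1 := fun e => h.x1 (rep_inj Φ (by rw [map_one]; exact e))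
  have y5 : rep Φ y ^ 5 = 1 := by rw [← map_pow, h.y5, map_one]
  have h0 : ∀ u, fa A *ᵥ u = 0 := fun u => by
    have e := irr a11 a1 (LinearMap.ker (fa A).mulVecLin) (fun u hu => by
      rw [LinearMap.mem_ker, mulVecLin_apply] at hu ⊢
      rw [mulVec_mulVec, show fa A * A = A * fa A by unfold fa; noncomm_ring, ← mulVec_mulVec, hu,
        mulVec_zero]) (w := w) hf hw
    exact (show u ∈ LinearMap.ker (fa A).mulVecLin from e ▸ Submodule.mem_top)
  obtain ⟨v, hv, hyv⟩ := exists_fix' y5 (S := {0}ᶜ) (fun u hu e => hu (inj_of_pow y5 e)) (by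
    have h2 := Set.ncard_add_ncard_compl ({0} : Set V)
    rw [show Nat.card V = 243 by simp, Set.ncard_singleton] at h2
    omega)
  obtain ⟨u, hu⟩ : ∃ u : ℕ → V, ∀ n, u n = (A ^ n) *ᵥ v := ⟨_, fun _ => rfl⟩
  have u1 : ∀ n, A *ᵥ u n = u (n + 1) := fun n => by rw [hu, hu, mulVec_mulVec, pow_succ']
  have u2 : ∀ n, u (5 + n) + u (4 + n) - u (3 + n) + u (2 + n) - u n = 0 := fun n => by
    simpa only [fa, hu, pow_add, ← mulVec_mulVec, add_mulVec, sub_mulVec, one_mulVec] using h0 (u n)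
  have u3 : ∀ n, rep Φ y *ᵥ u n = u (5 * n % 11) := fun n => by
    have e : rep Φ y * A ^ n = (A ^ 5) ^ n * rep Φ y :=
      SemiconjBy.pow_right (by rw [SemiconjBy, hA, ← map_pow, ← map_mul, ← map_mul, h.yx]) n
    rw [hu, hu, mulVec_mulVec, e, ← mulVec_mulVec, hyv, ← pow_mul, ← pow_eq_pow_mod _ a11]
  let b : Fin 5 → V := ![u 1, u 5, u 3, u 4, u 9]
  let T : Mt := (Matrix.of b)ᵀ
  have hT : ∀ {B C : Mt}, (∀ j, B *ᵥ b j = ∑ k, C k j • b k) → B * T = T * C := fun h => by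
    ext i j
    simpa [T, mul_apply, mulVec, dotProduct, mul_comm] using congrFun (h j) i
  have t1 : A * T = T * mX := hT fun j => by
    fin_cases j <;> simp [b, mX, Fin.sum_univ_five, u1]
    · linear_combination (norm := module) u2 4 - u2 3 - u2 2 - u2 1 + three (u 7)
    · linear_combination (norm := module) u2 1
    · linear_combination (norm := module) u2 5 + u2 4 - u2 1 + three (u 5) - three (u 9)
  have t2 : rep Φ y * T = T * mY := hT fun j => by
    fin_cases j <;> simp [b, mY, u3]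
  have t3 : LinearMap.range T.mulVecLin = ⊤ := irr a11 a1 _ (by
    rintro _ ⟨c, rfl⟩
    exact ⟨mX *ᵥ c, by simp only [mulVecLin_apply, mulVec_mulVec, t1]⟩) (w := u 1)
    ⟨Pi.single 0 1, by ext i; simp [T, b]⟩ (fun e => hv (inj_of_pow a11 (by rwa [hu, pow_one] at e)))
  obtain ⟨T', hT'⟩ : IsUnit T := mulVec_surjective_iff_isUnit.1 (LinearMap.range_eq_top.1 t3)
  have e : ∀ g, rep (Φ.trans (MulAut.conj T'⁻¹)) g = T'⁻¹.val * (rep Φ g * T) := fun g => by
    simp [rep, ← hT', mul_assoc]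
  refine core (Φ.trans (MulAut.conj T'⁻¹)) (fun g => ?_) h ?_ ?_ hn
  · rw [hS, e, ← hT', ← mul_assoc, det_units_conj']
  · rw [e, t1, ← hT', Units.inv_mul_cancel_left]
  · rw [e, t2, ← hT', Units.inv_mul_cancel_left]

theorem top (Φ : G ≃* GL (Fin 5) (ZMod 3)) (hS : ∀ g, g ∈ S ↔ (rep Φ g).det = 1) (h : Rel P x y s)
    (hn : ∀ k ∈ H, ∀ g ∈ P, k * g * k⁻¹ ∈ P) : ¬ IsMaximalIn S H := by
  by_cases h1 : fa (rep Φ x) *ᵥ om 0 = 0
  · exact mid Φ hS h (om_ne 0) h1 hn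
  refine mid Φ hS h.inv h1 ?_ hn
  set A := rep Φ x with hA
  have a11 : A ^ 11 = 1 := by rw [hA, ← map_pow, h.x11, map_one]
  have a1 : A ≠ 1 := fun e => h.x1 (rep_inj Φ (by rw [map_one]; exact e))
  have e1 : A ^ 5 * fa (rep Φ x⁻¹) = 1 + A - A ^ 2 + A ^ 3 - A ^ 5 := by
    simp only [fa, hA, mul_add, mul_sub, mul_one, ← map_pow, ← map_mul]
    rw [show x ^ 5 * x⁻¹ ^ 5 = 1 by group, show x ^ 5 * x⁻¹ ^ 4 = x by group,
      show x ^ 5 * x⁻¹ ^ 3 = x ^ 2 by group, show x ^ 5 * x⁻¹ ^ 2 = x ^ 3 by group, map_one]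
  obtain ⟨B, e2⟩ : ∃ B : Mt, (1 - A) * ((1 + A - A ^ 2 + A ^ 3 - A ^ 5) * fa A) = A ^ 11 - 1 + (B + B + B) :=
    ⟨A ^ 2 - A ^ 3 + A ^ 5 + A ^ 5 - A ^ 6 - A ^ 6 + A ^ 8 - A ^ 9, by unfold fa; noncomm_ring⟩
  have e3 := congrArg (· *ᵥ om 0) e2
  simp only [a11, sub_self, zero_add, add_mulVec, three, ← e1, ← mulVec_mulVec, sub_mulVec, one_mulVec,
    sub_eq_zero] at e3
  exact inj_of_pow (A := A ^ 5) (n := 10) (by rw [← pow_mul, mul_comm, pow_mul, a11, one_pow])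
    (no_fix a11 a1 e3.symm)

theorem exists_rel {K : Type*} [Field K] [Fintype K] (hK : Fintype.card K = 11) (e : P ≃* PSL(2, K)) :
    ∃ x y s, Rel P x y s := by
  let e' := e.trans (pslMapEquiv (Fin 2) (ZMod.ringEquivOfPrime K (p := 11) Fact.out hK).symm)
  let π : SL(2, ZMod 11) →* G :=
    P.subtype.comp (e'.symm.toMonoidHom.comp (QuotientGroup.mk' (Subgroup.center SL(2, ZMod 11))))
  have hπ : ∀ g, π g = 1 ↔ g ∈ Subgroup.center SL(2, ZMod 11) := fun g => by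
    simp [π, QuotientGroup.eq_one_iff]
  have hm : ∀ g, π g ∈ P := fun g => Subtype.prop _
  let y : SL(2, ZMod 11) := ⟨!![4, 0; 0, 3], by rw [det_fin_two]; decide⟩
  let s : SL(2, ZMod 11) := ⟨!![0, -1; 1, 0], by rw [det_fin_two]; decide⟩
  have hs : π s * π s = 1 := by
    rw [← map_mul, hπ, show s * s = -1 from Subtype.ext (by decide), Subgroup.mem_center_iff]
    simp
  have hx : (GT.slUp 1 : SL(2, ZMod 11)) ^ 11 = 1 := Subtype.ext (by decide +kernel)
  refine ⟨π (GT.slUp 1), π y, π s, fun h => ?_, by rw [← map_pow, hx, map_one],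
    by rw [← map_pow, show y ^ 5 = 1 from Subtype.ext (by decide), map_one], ?_, hs, ?_, ?_, hm _, hm _,
    fun g hg => ?_, fun g hg => ?_⟩
  · exact absurd (congrArg Subtype.val (Subgroup.mem_center_iff.1 ((hπ _).1 h) s)) (by decide)
  · rw [← map_pow, ← map_mul, ← map_mul, show y * GT.slUp 1 = GT.slUp 1 ^ 5 * y from Subtype.ext (by decide)]
  · rw [← map_mul, ← map_mul, show y * s * y = s from Subtype.ext (by decide)]
  · have e1 : π (GT.slUp 1) * (π s * π (GT.slUp 1) * π s) * π (GT.slUp 1) = π s := by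
      simp only [← map_mul]
      exact congrArg π (Subtype.ext (by decide))
    conv_rhs => rw [← e1]
    group
  · obtain ⟨a, ha⟩ := QuotientGroup.mk'_surjective (Subgroup.center SL(2, ZMod 11)) (e' ⟨g, hg⟩)
    have e1 : π a = g := by
      change (e'.symm (QuotientGroup.mk' _ a) : G) = g
      rw [ha, e'.symm_apply_apply]
    have e2 : a ∈ (Subgroup.closure {π (GT.slUp 1), π s}).comap π := by
      have h1 := Subgroup.subset_closure (k := {π (GT.slUp 1), π s}) (Set.mem_insert _ _)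
      have h2 := Subgroup.subset_closure (k := {π (GT.slUp 1), π s}) (Set.mem_insert_of_mem _ rfl)
      have h3 : a ∈ Subgroup.closure {GT.slUp (1 : ZMod 11), GT.slLo (-1)} := by
        rw [GT.closure_slUp_slLo_zmod (by decide) (by decide)]; exact Subgroup.mem_top a
      refine (Subgroup.closure_le ((Subgroup.closure {π (GT.slUp 1), π s}).comap π)).2
        (Set.pair_subset h1 ?_) h3
      rw [show GT.slLo (-1) = s * GT.slUp 1 * s⁻¹ from
        eq_mul_inv_of_mul_eq (Subtype.ext (by decide)), SetLike.mem_coe, Subgroup.mem_comap, map_mul, map_mul,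
        map_inv]
      exact mul_mem (mul_mem h2 h1) (inv_mem h2)
    exact e1 ▸ e2
  · have h1 := card_psl_two_mul (F := K)
    rw [Nat.card_eq_fintype_card, hK, ← Nat.card_congr e.toEquiv] at h1
    have h2 : Nat.card P = 660 := by norm_num at h1; omega
    exact congrArg Subtype.val (h2 ▸ pow_card_eq_one' (G := P) (x := ⟨g, hg⟩))

end LD

variable {F : Type*} [Field F] [Fintype F] {P : Subgroup (GL (Fin 5) F)}

theorem not_max_eleven (hF : Fintype.card F = 3) (hP : QS P) {K : Type*} [Field K] [Fintype K]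
    (hK : Fintype.card K = 11) (e : P ≃* PSL(2, K)) {H : Subgroup (GL (Fin 5) F)} (hle : P ≤ H)
    (hn : NormsG H P) : ¬ IsMaximalIn (specialLinear (Fin 5) F) H := by
  obtain ⟨x, y, s, h⟩ := LD.exists_rel hK e
  let σ := (ZMod.ringEquivOfPrime F Nat.prime_three hF).symm
  refine LD.top (glMapEquiv (Fin 5) σ) (fun g => ?_) h hn
  rw [mem_specialLinear_iff, ← σ.map_eq_one_iff, RingEquiv.map_det]
  rfl

end Cfsg.Agent.Cl.D5
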