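/-
Subgroups of `SL₅(F)`: negatives of reflections.
-/
import Mathlib
import Cfsg.Agent.Cl.D5Base

set_option autoImplicit false

namespace Cfsg.Agent.Cl.D5

open Matrix Cfsg.Geo Cfsg.Agent.Cl.Max Cfsg.Agent.Cl.Mx
open scoped MatrixGroups

variable {F : Type*} [Field F] {ι : Type} [Fintype ι] [DecidableEq ι]

/-- An element `x ↦ -x + (φ ⬝ x) v` of `P`, the negative of a reflection. -/
structure Rl (P : Subgroup (GL ι F)) where
  v : ι → F
  φ : ι → F
  two : φ ⬝ᵥ v = 2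
  ex : ∃ k ∈ P, ∀ x, (k : Matrix ι ι F) *ᵥ x = -x + (φ ⬝ᵥ x) • v

namespace Rl

variable {P : Subgroup (GL ι F)}

theorem ext' {a b : Rl P} (h : a.v = b.v) (h' : a.φ = b.φ) : a = b := by
  cases a; cases b; simp_all

/-- The Gram matrix. -/
def g (a b : Rl P) : F := a.φ ⬝ᵥ b.v

/-- The value of a pair. -/
def lam (a b : Rl P) : F := g a b * g b a

/-- The product along a triangle. -/
def cyc (a b c : Rl P) : F := g a b * g b c * g c a

/-- Non-symmetric triples. -/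
def NS (a b c : Rl P) : Prop := cyc a b c ≠ cyc a c b

/-- The Gram determinant of a triple. -/
def gdet (a b c : Rl P) : F := 8 - 2 * (lam a b + lam a c + lam b c) + cyc a b c + cyc a c b

/-- Two descriptions of one element. -/
def Same (a b : Rl P) : Prop := ∃ c : F, c ≠ 0 ∧ b.v = c • a.v ∧ b.φ = c⁻¹ • a.φ

/-- `c` lies in the plane of `a` and `b`. -/
def Pl (a b c : Rl P) : Prop :=
  (∃ x y : F, c.v = x • a.v + y • b.v) ∧ ∃ x y : F, c.φ = x • a.φ + y • b.φ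

/-- The members lying in the span of three members. -/
def InU (a b c : Rl P) : Set (Rl P) :=
  {s | (∃ x y z : F, s.v = x • a.v + y • b.v + z • c.v) ∧
    ∃ x y z : F, s.φ = x • a.φ + y • b.φ + z • c.φ}

/-- The group element. -/
noncomputable def el (a : Rl P) : P := ⟨a.ex.choose, a.ex.choose_spec.1⟩

theorem el_mulVec (a : Rl P) (x : ι → F) :
    ((a.el : GL ι F) : Matrix ι ι F) *ᵥ x = -x + (a.φ ⬝ᵥ x) • a.v := a.ex.choose_spec.2 x

theorem eq_el (a : Rl P) {k : P}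
    (h : ∀ x, ((k : GL ι F) : Matrix ι ι F) *ᵥ x = -x + (a.φ ⬝ᵥ x) • a.v) : k = a.el :=
  Subtype.ext (gl_ext fun x => by rw [h, el_mulVec])

theorem coe_el (a : Rl P) : ((a.el : GL ι F) : Matrix ι ι F) = -1 + vecMulVec a.v a.φ :=
  ext_of_mulVec_single fun i => by
    rw [el_mulVec, add_mulVec, neg_mulVec, one_mulVec, vecMulVec_mulVec]; simp

@[simp] theorem g_self (a : Rl P) : g a a = 2 := a.two

theorem el_mul_self (a : Rl P) : a.el * a.el = 1 :=
  Subtype.ext (gl_ext fun x => by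
    rw [Subgroup.coe_mul, mul_mulVec, el_mulVec, el_mulVec]
    simp only [dotProduct_add, dotProduct_neg, dotProduct_smul, a.two, smul_eq_mul,
      OneMemClass.coe_one, Units.val_one, one_mulVec]
    module)

theorem el_inv (a : Rl P) : a.el⁻¹ = a.el := inv_eq_of_mul_eq_one_right a.el_mul_self

theorem vecMul_el (a : Rl P) (χ : ι → F) :
    χ ᵥ* ((a.el : GL ι F) : Matrix ι ι F) = -χ + (χ ⬝ᵥ a.v) • a.φ :=
  dotProduct_eq _ _ fun x => by
    rw [← dotProduct_mulVec, el_mulVec]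
    simp only [dotProduct_add, dotProduct_neg, dotProduct_smul, add_dotProduct, neg_dotProduct,
      smul_dotProduct, smul_eq_mul]
    ring

theorem v_ne (h2 : (2 : F) ≠ 0) (a : Rl P) : a.v ≠ 0 := fun h => h2 (by
  rw [← a.two, h, dotProduct_zero])

theorem φ_ne (h2 : (2 : F) ≠ 0) (a : Rl P) : a.φ ≠ 0 := fun h => h2 (by
  rw [← a.two, h, zero_dotProduct])

/-- Conjugation. -/
def cj (x : P) (a : Rl P) : Rl P where
  v := ((x : GL ι F) : Matrix ι ι F) *ᵥ a.v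
  φ := a.φ ᵥ* (((x : GL ι F)⁻¹ : GL ι F) : Matrix ι ι F)
  two := by rw [← dotProduct_mulVec, inv_mulVec_mulVec, a.two]
  ex := ⟨x * a.el * (x : GL ι F)⁻¹, P.mul_mem (P.mul_mem x.2 a.el.2) (P.inv_mem x.2), fun y => by
    rw [mul_mulVec, mul_mulVec, el_mulVec, mulVec_add, mulVec_neg, mulVec_smul, mulVec_inv_mulVec,
      dotProduct_mulVec]⟩

theorem el_cj (x : P) (a : Rl P) : (cj x a).el = x * a.el * x⁻¹ :=
  ((cj x a).eq_el fun y => by
    rw [Subgroup.coe_mul, Subgroup.coe_mul, Subgroup.coe_inv, mul_mulVec, mul_mulVec, el_mulVec,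
      mulVec_add, mulVec_neg, mulVec_smul, mulVec_inv_mulVec, dotProduct_mulVec]
    rfl).symm

@[simp] theorem g_cj (x : P) (a b : Rl P) : g (cj x a) (cj x b) = g a b := by
  simp only [g, cj]
  rw [← dotProduct_mulVec, inv_mulVec_mulVec]

/-- Rescaling. -/
def sm (c : F) (hc : c ≠ 0) (a : Rl P) : Rl P where
  v := c • a.v
  φ := c⁻¹ • a.φ
  two := by simp only [smul_dotProduct, dotProduct_smul, a.two, smul_eq_mul]; field_simp
  ex := ⟨a.el, a.el.2, fun x => by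
    rw [el_mulVec, smul_dotProduct, smul_smul, smul_eq_mul]
    congr 2
    field_simp⟩

/-- `a` moved by `b`. -/
def mv (a b : Rl P) : Rl P where
  v := a.v - g b a • b.v
  φ := a.φ - g a b • b.φ
  two := by
    have ha := a.two
    have hb := b.two
    simp only [g, sub_dotProduct, dotProduct_sub, smul_dotProduct, dotProduct_smul, smul_eq_mul,
      ha, hb]
    ring
  ex := ⟨b.el * a.el * b.el, P.mul_mem (P.mul_mem b.el.2 a.el.2) b.el.2, fun x => by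
    have hb := b.two
    rw [mul_mulVec, mul_mulVec, el_mulVec, el_mulVec, el_mulVec]
    simp only [g, sub_dotProduct, dotProduct_add, dotProduct_neg, smul_dotProduct, dotProduct_smul,
      smul_eq_mul, hb]
    module⟩

theorem el_mv (a b : Rl P) : (mv a b).el = b.el * a.el * b.el :=
  ((mv a b).eq_el fun x => by
    have hb := b.two
    rw [Subgroup.coe_mul, Subgroup.coe_mul, mul_mulVec, mul_mulVec, el_mulVec, el_mulVec, el_mulVec]
    simp only [mv, g, sub_dotProduct, dotProduct_add, dotProduct_neg, smul_dotProduct,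
      dotProduct_smul, smul_eq_mul, hb]
    module).symm

theorem g_mv_left (a b c : Rl P) : g (mv a b) c = g a c - g a b * g b c := by
  simp only [mv, g, sub_dotProduct, smul_dotProduct, smul_eq_mul]

theorem g_mv_right (a b c : Rl P) : g c (mv a b) = g c a - g b a * g c b := by
  simp only [mv, g, dotProduct_sub, dotProduct_smul, smul_eq_mul]

theorem g_sm_left (c : F) (hc : c ≠ 0) (a b : Rl P) : g (sm c hc a) b = c⁻¹ * g a b := by
  simp only [sm, g, smul_dotProduct, smul_eq_mul]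

theorem g_sm_right (c : F) (hc : c ≠ 0) (a b : Rl P) : g b (sm c hc a) = c * g b a := by
  simp only [sm, g, dotProduct_smul, smul_eq_mul]

theorem mv_mv (a b : Rl P) : mv (mv a b) b = a := by
  refine ext' ?_ ?_
  · change a.v - g b a • b.v - g b (mv a b) • b.v = a.v
    rw [g_mv_right, g_self]; module
  · change a.φ - g a b • b.φ - g (mv a b) b • b.φ = a.φ
    rw [g_mv_left, g_self]; module

theorem cj_el (a b : Rl P) : cj b.el a = sm (-1) (by simp) (mv a b) := by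
  refine ext' ?_ ?_
  · change _ *ᵥ a.v = (-1 : F) • (a.v - g b a • b.v)
    rw [el_mulVec, g]; module
  · change a.φ ᵥ* _ = (-1 : F)⁻¹ • (a.φ - g a b • b.φ)
    rw [← Subgroup.coe_inv, el_inv, vecMul_el, g, inv_neg_one]; module

theorem lam_comm (a b : Rl P) : lam a b = lam b a := mul_comm _ _

theorem cyc_rot (a b c : Rl P) : cyc a b c = cyc b c a := by simp only [cyc]; ring

theorem cyc_mul (a b c : Rl P) : cyc a b c * cyc a c b = lam a b * lam a c * lam b c := by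
  simp only [cyc, lam]; ring

theorem lam_mv_self (a b : Rl P) : lam (mv a b) b = lam a b := by
  simp only [lam, g_mv_left, g_mv_right, g_self]; ring

theorem lam_mv (a b c : Rl P) :
    lam (mv a b) c = lam a c + lam a b * lam b c - cyc a b c - cyc a c b := by
  simp only [lam, cyc, g_mv_left, g_mv_right]; ring

theorem cyc_mv (a b c : Rl P) : cyc (mv a b) b c = lam a b * lam b c - cyc a b c := by
  simp only [lam, cyc, g_mv_left, g_mv_right, g_self]; ring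

theorem cyc_mv' (a b c : Rl P) : cyc (mv a b) c b = lam a b * lam b c - cyc a c b := by
  simp only [lam, cyc, g_mv_left, g_mv_right, g_self]; ring

theorem gdet_swap (a b c : Rl P) : gdet b a c = gdet a b c := by
  simp only [gdet, lam, cyc]; ring

theorem gdet_rot (a b c : Rl P) : gdet b c a = gdet a b c := by
  simp only [gdet, lam, cyc]; ring

theorem gdet_mv (a b c : Rl P) : gdet (mv a b) b c = gdet a b c := by
  simp only [gdet, lam, cyc, g_mv_left, g_mv_right, g_self]; ring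

variable {a b c t : Rl P}

theorem NS.swap (h : NS a b c) : NS b a c := fun e => h (by
  simp only [cyc] at e ⊢; linear_combination -e)

theorem NS.rot (h : NS a b c) : NS b c a := fun e => h (by
  simp only [cyc] at e ⊢; linear_combination e)

theorem NS.mv (h : NS a b c) : NS (mv a b) b c := fun e => h (by
  rw [cyc_mv, cyc_mv'] at e; linear_combination -e)

theorem NS.cj (h : NS a b c) (x : P) : NS (cj x a) (cj x b) (cj x c) := by
  simpa only [NS, cyc, g_cj] using h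

theorem Same.refl (a : Rl P) : Same a a := ⟨1, one_ne_zero, by simp, by simp⟩

theorem Same.symm (h : Same a b) : Same b a := by
  obtain ⟨x, hx, h1, h2⟩ := h
  exact ⟨x⁻¹, inv_ne_zero hx, by simp [h1, smul_smul, hx], by simp [h2, smul_smul, hx]⟩

theorem Same.trans (h : Same a b) (h' : Same b c) : Same a c := by
  obtain ⟨x, hx, h1, h2⟩ := h
  obtain ⟨y, hy, h3, h4⟩ := h'
  exact ⟨y * x, mul_ne_zero hy hx, by rw [h3, h1, smul_smul], by rw [h4, h2, smul_smul, mul_inv]⟩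

theorem same_sm (x : F) (hx : x ≠ 0) (a : Rl P) : Same a (sm x hx a) := ⟨x, hx, rfl, rfl⟩

theorem Same.g_eq (h : Same a b) : ∃ x : F, x ≠ 0 ∧ ∀ s, g b s = x⁻¹ * g a s ∧ g s b = x * g s a := by
  obtain ⟨x, hx, h1, h2⟩ := h
  exact ⟨x, hx, fun s => ⟨by simp [g, h2], by simp [g, h1]⟩⟩

theorem Same.lam_eq (h : Same a b) (s : Rl P) : lam a s = lam b s := by
  obtain ⟨x, hx, e⟩ := h.g_eq
  simp only [lam, (e s).1, (e s).2]; field_simp

theorem Same.cyc_eq (h : Same a b) (s t : Rl P) : cyc a s t = cyc b s t := by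
  obtain ⟨x, hx, e⟩ := h.g_eq
  simp only [cyc, (e s).1, (e t).2]; field_simp

theorem Same.lam_four (h : Same a b) : lam a b = 4 := by
  rw [h.lam_eq, lam, g_self]; norm_num

theorem Same.el_eq (h : Same a b) : a.el = b.el := by
  obtain ⟨x, hx, h1, h2⟩ := h
  refine b.eq_el fun y => ?_
  rw [el_mulVec, h1, h2, smul_dotProduct, smul_smul, smul_eq_mul]
  congr 2
  field_simp

theorem same_of_el (h2 : (2 : F) ≠ 0) (h : a.el = b.el) : Same a b := by
  have e : ∀ y, (a.φ ⬝ᵥ y) • a.v = (b.φ ⬝ᵥ y) • b.v := fun y =>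
    add_left_cancel (a := -y) (by rw [← el_mulVec, ← el_mulVec, h])
  have e1 := e b.v
  rw [b.two] at e1
  have h0 : a.φ ⬝ᵥ b.v ≠ 0 := fun h0 => b.v_ne h2 (by
    rw [h0, zero_smul] at e1; exact (smul_eq_zero.1 e1.symm).resolve_left h2)
  have e2 : b.v = (a.φ ⬝ᵥ b.v / 2) • a.v := by
    rw [div_eq_inv_mul, mul_smul, e1, smul_smul, inv_mul_cancel₀ h2, one_smul]
  refine ⟨_, div_ne_zero h0 h2, e2, dotProduct_eq _ _ fun y => ?_⟩
  have e3 := e y
  nth_rw 1 [e2] at e3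
  rw [smul_smul] at e3
  rw [smul_dotProduct, smul_left_injective F (a.v_ne h2) e3, smul_eq_mul]
  field_simp

theorem NS.not_same (h : NS a b c) : ¬ Same a b := fun e => h (by
  rw [e.cyc_eq, e.cyc_eq]; simp only [cyc, g_self]; ring)

theorem Pl.gdet (h : Pl a b c) : gdet a b c = 0 := by
  obtain ⟨⟨x, y, h1⟩, -⟩ := h
  have e : ∀ s, g s c = x * g s a + y * g s b := fun s => by simp [g, h1]
  have e1 := e c
  rw [g_self] at e1
  simp only [Rl.gdet, lam, cyc, e a, e b, g_self]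
  linear_combination (4 - g a b * g b a) * e1

/-- The zero rule. -/
theorem zero (h2 : (2 : F) ≠ 0) (hn : NoTv P) (h : g a b = 0) : g b a = 0 := by
  have ha := a.two
  have hb := b.two
  have h' : a.φ ⬝ᵥ b.v = 0 := h
  refine (hn b.v (g b a • a.φ) ⟨by simp [h'], _, (a.el * b.el * (a.el * b.el)).2,
    fun x => ?_⟩).elim (fun e => (b.v_ne h2 e).elim)
    fun e => (smul_eq_zero.1 e).resolve_right (a.φ_ne h2)
  simp only [Subgroup.coe_mul, mul_mulVec, el_mulVec, g, dotProduct_add, dotProduct_neg,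
    smul_dotProduct, dotProduct_smul, smul_eq_mul, ha, hb, h']
  module

theorem ne_zero (h2 : (2 : F) ≠ 0) (hn : NoTv P) (h : g a b ≠ 0) : g b a ≠ 0 :=
  fun e => h (zero h2 hn e)

theorem same_of_par (h2 : (2 : F) ≠ 0) (hn : NoTv P) {x : F} (h : b.v = x • a.v) : Same a b := by
  have ha := a.two
  have hb := b.two
  have hx : x ≠ 0 := fun e => b.v_ne h2 (by rw [h, e, zero_smul])
  rw [h, dotProduct_smul, smul_eq_mul] at hb
  refine ⟨x, hx, h, ?_⟩
  refine (hn a.v (x • b.φ - a.φ) ⟨by simp [ha, hb], _, (a.el * b.el).2, fun y => ?_⟩).elim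
    (fun e => (a.v_ne h2 e).elim) fun e => ?_
  · simp only [Subgroup.coe_mul, mul_mulVec, el_mulVec, h, dotProduct_add, dotProduct_neg,
      sub_dotProduct, smul_dotProduct, dotProduct_smul, smul_eq_mul, ha]
    module
  · rw [← sub_eq_zero.1 e, smul_smul, inv_mul_cancel₀ hx, one_smul]

theorem same_of_par' (h2 : (2 : F) ≠ 0) (hn : NoTv P) {x : F} (h : b.φ = x • a.φ) : Same a b := by
  have ha := a.two
  have hb := b.two
  have hx : x ≠ 0 := fun e => b.φ_ne h2 (by rw [h, e, zero_smul])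
  rw [h, smul_dotProduct, smul_eq_mul] at hb
  refine ⟨x⁻¹, inv_ne_zero hx, ?_, by rw [inv_inv, h]⟩
  refine (hn (a.v - x • b.v) a.φ ⟨by simp [ha, hb], _, (a.el * b.el).2, fun y => ?_⟩).elim
    (fun e => ?_) fun e => (a.φ_ne h2 e).elim
  · simp only [Subgroup.coe_mul, mul_mulVec, el_mulVec, h, dotProduct_add, dotProduct_neg,
      smul_dotProduct, dotProduct_smul, smul_eq_mul]
    linear_combination (norm := module) (a.φ ⬝ᵥ y) • hb • a.v
  · rw [sub_eq_zero.1 e, smul_smul, inv_mul_cancel₀ hx, one_smul]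

theorem NS.ne (h2 : (2 : F) ≠ 0) (hn : NoTv P) (h : NS a b c) : g a b ≠ 0 := fun e => h (by
  simp only [cyc, e, zero h2 hn e, zero_mul, mul_zero])

theorem NS.lam_ne (h2 : (2 : F) ≠ 0) (hn : NoTv P) (h : NS a b c) : lam a b ≠ 0 :=
  mul_ne_zero (h.ne h2 hn) (h.swap.ne h2 hn)

/-- A member adjacent to a non-symmetric triple forms such a triple with two of them. -/
theorem NS.kappa (h2 : (2 : F) ≠ 0) (hn : NoTv P) (h : NS a b c) (ha : g a t ≠ 0)
    (hb : g b t ≠ 0) (hc : g c t ≠ 0) : NS a b t ∨ NS a c t ∨ NS b c t := by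
  by_contra h0
  simp only [NS, cyc, not_or, not_not] at h0 h
  obtain ⟨h1, h3, h4⟩ := h0
  refine h (mul_right_cancel₀ (mul_ne_zero (mul_ne_zero (mul_ne_zero ha hb) hc)
    (mul_ne_zero (mul_ne_zero (ne_zero h2 hn ha) (ne_zero h2 hn hb)) (ne_zero h2 hn hc))) ?_)
  linear_combination (g b c * g c t * g t b * (g a t * g t c * g c a)) * h1 +
    (g a t * g t b * g b a * (g a t * g t c * g c a)) * h4 -
    (g a t * g t b * g b a * (g b t * g t c * g c b)) * h3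

/-- A non-symmetric triple can be made adjacent to a neighbour of its first member. -/
theorem NS.exists_adj (h2 : (2 : F) ≠ 0) (hn : NoTv P) (h : NS a b c) (ha : g a t ≠ 0) :
    ∃ b' c', (b' = b ∨ b' = Rl.mv b a) ∧ (c' = c ∨ c' = Rl.mv c a) ∧ NS a b' c' ∧
      gdet a b' c' = gdet a b c ∧ g b' t ≠ 0 ∧ g c' t ≠ 0 := by
  have key : ∀ {b c : Rl P}, NS a b c → ∃ b', (b' = b ∨ b' = Rl.mv b a) ∧ NS a b' c ∧
      gdet a b' c = gdet a b c ∧ g b' t ≠ 0 := fun {b c} h => by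
    by_cases hb : g b t = 0
    · refine ⟨_, .inr rfl, h.swap.mv.swap, by rw [← gdet_swap, gdet_mv, gdet_swap], ?_⟩
      rw [g_mv_left, hb, zero_sub]
      exact neg_ne_zero.2 (mul_ne_zero (h.swap.ne h2 hn) ha)
    · exact ⟨b, .inl rfl, h, rfl, hb⟩
  obtain ⟨b', e1, h', d1, hb⟩ := key h
  obtain ⟨c', e2, h'', d2, hc⟩ := key h'.swap.rot
  refine ⟨b', c', e1, e2, h''.swap.rot, ?_, hb, hc⟩
  simp only [gdet, lam, cyc] at d1 d2 ⊢
  linear_combination d1 + d2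

/-- Commutators in a Heisenberg group. -/
theorem heis (hn : NoTv P) {z ζ x ξ x' ξ' : ι → F} (hz : z ≠ 0) (hζ : ζ ≠ 0) (h0 : ζ ⬝ᵥ z = 0)
    (h1 : ζ ⬝ᵥ x = 0) (h1' : ζ ⬝ᵥ x' = 0) (h3 : ξ ⬝ᵥ z = 0) (h3' : ξ' ⬝ᵥ z = 0) {k k' : P}
    (e : ∀ y, ((k : GL ι F) : Matrix ι ι F) *ᵥ y = y + (ζ ⬝ᵥ y) • x + (ξ ⬝ᵥ y) • z)
    (e' : ∀ y, ((k' : GL ι F) : Matrix ι ι F) *ᵥ y = y + (ζ ⬝ᵥ y) • x' + (ξ' ⬝ᵥ y) • z) :
    ξ ⬝ᵥ x' = ξ' ⬝ᵥ x := by
  refine (hn z ((ξ ⬝ᵥ x' - ξ' ⬝ᵥ x) • ζ) ⟨by simp [h0], _, (k * k' * (k' * k)⁻¹).2,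
    fun y => ?_⟩).elim (fun e => (hz e).elim)
    fun e => sub_eq_zero.1 ((smul_eq_zero.1 e).resolve_right hζ)
  obtain ⟨y, rfl⟩ : ∃ u, ((k' * k : P) : GL ι F).val *ᵥ u = y := ⟨_, mulVec_inv_mulVec _ y⟩
  rw [Subgroup.coe_mul, Subgroup.coe_inv, mul_mulVec, inv_mulVec_mulVec]
  simp only [Subgroup.coe_mul, mul_mulVec, e, e', dotProduct_add, smul_dotProduct, dotProduct_smul,
    smul_eq_mul, h0, h1, h1', h3, h3']
  module

theorem lam_of_pow {n : ℕ} (h : (a.el * b.el) ^ n = 1) {U : ℕ → F}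
    (h0 : U 0 = 0) (h1 : U 1 = 1) (hU : ∀ k, U (k + 2) = (lam a b - 2) * U (k + 1) - U k) :
    U (n + 1) * 2 - U n * (lam a b - 2) = 2 := by
  have ha := a.two
  have hb := b.two
  have key : ∀ k, (((a.el * b.el) ^ k : P) : GL ι F).val *ᵥ a.v =
      (U (k + 1) + U k) • a.v - (U k * g b a) • b.v ∧
      (((a.el * b.el) ^ k : P) : GL ι F).val *ᵥ b.v =
      (U k * g a b) • a.v + (U (k + 1) - (lam a b - 1) * U k) • b.v := fun k => by
    induction k with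
    | zero => simp [h0, h1]
    | succ k ih =>
      simp only [pow_succ', Subgroup.coe_mul, mul_mulVec, ih.1, ih.2, el_mulVec, hU, lam, g,
        dotProduct_add, dotProduct_sub, dotProduct_neg, dotProduct_smul, smul_eq_mul, ha, hb]
      constructor <;> module
  have e := (key n).1
  rw [h, OneMemClass.coe_one, Units.val_one, one_mulVec] at e
  have e1 := congrArg (a.φ ⬝ᵥ ·) e
  simp only [dotProduct_sub, dotProduct_smul, smul_eq_mul, ha] at e1
  simp only [lam, g] at e1 ⊢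
  linear_combination -e1

theorem lam_of_three (h : (a.el * b.el) ^ 3 = 1) :
    lam a b = 1 ∨ lam a b = 4 := by
  obtain ⟨U, h0, h1, hU⟩ : ∃ U : ℕ → F, U 0 = 0 ∧ U 1 = 1 ∧
      ∀ k, U (k + 2) = (lam a b - 2) * U (k + 1) - U k :=
    ⟨fun n => (Nat.rec (0, 1) (fun _ p => (p.2, (lam a b - 2) * p.2 - p.1)) n : F × F).1, rfl, rfl,
      fun _ => rfl⟩
  have := lam_of_pow h h0 h1 hU
  simp only [hU, zero_add, h0, h1] at this
  have e : (lam a b - 4) * (lam a b - 1) ^ 2 = 0 := by linear_combination this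
  grind

theorem lam_of_four (h : (a.el * b.el) ^ 4 = 1) :
    lam a b = 0 ∨ lam a b = 2 ∨ lam a b = 4 := by
  obtain ⟨U, h0, h1, hU⟩ : ∃ U : ℕ → F, U 0 = 0 ∧ U 1 = 1 ∧
      ∀ k, U (k + 2) = (lam a b - 2) * U (k + 1) - U k :=
    ⟨fun n => (Nat.rec (0, 1) (fun _ p => (p.2, (lam a b - 2) * p.2 - p.1)) n : F × F).1, rfl, rfl,
      fun _ => rfl⟩
  have := lam_of_pow h h0 h1 hU
  simp only [hU, zero_add, h0, h1] at this
  have e : (lam a b - 4) * lam a b * (lam a b - 2) ^ 2 = 0 := by linear_combination this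
  grind

theorem lam_of_five (h : (a.el * b.el) ^ 5 = 1) :
    lam a b ^ 2 - 3 * lam a b + 1 = 0 ∨ lam a b = 4 := by
  obtain ⟨U, h0, h1, hU⟩ : ∃ U : ℕ → F, U 0 = 0 ∧ U 1 = 1 ∧
      ∀ k, U (k + 2) = (lam a b - 2) * U (k + 1) - U k :=
    ⟨fun n => (Nat.rec (0, 1) (fun _ p => (p.2, (lam a b - 2) * p.2 - p.1)) n : F × F).1, rfl, rfl,
      fun _ => rfl⟩
  have := lam_of_pow h h0 h1 hU
  simp only [hU, zero_add, h0, h1] at this
  have e : (lam a b - 4) * (lam a b ^ 2 - 3 * lam a b + 1) ^ 2 = 0 := by linear_combination this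
  grind

theorem lam_of_six (h : (a.el * b.el) ^ 6 = 1) :
    lam a b = 0 ∨ lam a b = 1 ∨ lam a b = 3 ∨ lam a b = 4 := by
  obtain ⟨U, h0, h1, hU⟩ : ∃ U : ℕ → F, U 0 = 0 ∧ U 1 = 1 ∧
      ∀ k, U (k + 2) = (lam a b - 2) * U (k + 1) - U k :=
    ⟨fun n => (Nat.rec (0, 1) (fun _ p => (p.2, (lam a b - 2) * p.2 - p.1)) n : F × F).1, rfl, rfl,
      fun _ => rfl⟩
  have := lam_of_pow h h0 h1 hU
  simp only [hU, zero_add, h0, h1] at this
  have e : (lam a b - 4) * lam a b * (lam a b - 1) ^ 2 * (lam a b - 3) ^ 2 = 0 := by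
    linear_combination this
  grind

/-- A pair of value four has a unipotent product. -/
theorem same_of_four (h2 : (2 : F) ≠ 0) (h4 : lam a b = 4) {n : ℕ} (hn : (n : F) ≠ 0)
    (h : (a.el * b.el) ^ n = 1) : Same a b := by
  have ha := a.two
  have hb := b.two
  set N : Matrix ι ι F := ((a.el * b.el : P) : GL ι F).val - 1 with hN
  have h3' : ∀ x, N *ᵥ (N *ᵥ (N *ᵥ x)) = 0 := fun x => by
    have h4' : a.φ ⬝ᵥ b.v * b.φ ⬝ᵥ a.v = 4 := h4
    simp only [hN, sub_mulVec, one_mulVec, Subgroup.coe_mul, mul_mulVec, el_mulVec,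
      dotProduct_add, dotProduct_sub, dotProduct_neg, dotProduct_smul, smul_eq_mul, ha, hb]
    linear_combination (norm := module)
      ((a.φ ⬝ᵥ b.v * b.φ ⬝ᵥ x - a.φ ⬝ᵥ x) * (a.φ ⬝ᵥ b.v * b.φ ⬝ᵥ a.v - 1) -
        b.φ ⬝ᵥ x * a.φ ⬝ᵥ b.v) • h4' • a.v -
      ((a.φ ⬝ᵥ b.v * b.φ ⬝ᵥ x - a.φ ⬝ᵥ x) * b.φ ⬝ᵥ a.v - b.φ ⬝ᵥ x) • h4' • b.v
  have h3 : N * (N * N) = 0 := ext_of_mulVec_single fun i => by
    rw [← mulVec_mulVec, ← mulVec_mulVec, h3', zero_mulVec]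
  have key : ∀ k : ℕ, ∃ c : F, (1 + N) ^ k = 1 + (k : F) • N + c • (N * N) := fun k => by
    induction k with
    | zero => exact ⟨0, by simp⟩
    | succ k ih =>
      obtain ⟨c, e⟩ := ih
      refine ⟨c + k, ?_⟩
      rw [pow_succ', e]
      simp only [mul_add, add_mul, mul_one, one_mul, mul_smul_comm, h3, Nat.cast_succ]
      module
  obtain ⟨c, e⟩ := key n
  rw [hN, add_sub_cancel, ← coe_coe_pow, h, ← hN] at e
  have e1 : (n : F) • N + c • (N * N) = 0 := by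
    rw [OneMemClass.coe_one, Units.val_one, add_assoc, left_eq_add] at e; exact e
  have e2 : N * N = 0 := by
    have := congrArg (N * ·) e1
    simp only [mul_add, mul_smul_comm, h3, smul_zero, add_zero, mul_zero] at this
    exact (smul_eq_zero.1 this).resolve_left hn
  rw [e2, smul_zero, add_zero] at e1
  have e3 : a.el * b.el = 1 := sub_ext (sub_eq_zero.1 ((smul_eq_zero.1 e1).resolve_left hn))
  exact same_of_el h2 (by rw [← b.el_inv]; exact eq_inv_of_mul_eq_one_left e3)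

section Fam

variable {T : Set (Rl P)}

theorem mv_mem (hT : ∀ a ∈ T, ∀ x : P, cj x a ∈ T)
    (hs : ∀ a ∈ T, ∀ (c : F) (hc : c ≠ 0), sm c hc a ∈ T) (ha : a ∈ T) (b : Rl P) :
    mv a b ∈ T := by
  have := hs _ (hT a ha b.el) (-1) (by simp)
  rw [cj_el] at this
  convert this using 1
  exact ext' (by simp [sm]) (by simp [sm])

theorem el_notMem_scalars (h2 : (2 : F) ≠ 0) (hc : 2 ≤ Fintype.card ι) (a : Rl P) :
    (a.el : GL ι F) ∉ scalars ι F := fun h => by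
  obtain ⟨k, -, hk⟩ := coe_eq_smul_of_mem_scalars h
  have e := a.el_mulVec
  simp only [hk, smul_mulVec, one_mulVec] at e
  have e1 := e a.v
  rw [a.two] at e1
  have h1 : k = 1 := smul_left_injective F (a.v_ne h2)
    (show k • a.v = (1 : F) • a.v by linear_combination (norm := module) e1)
  have e2 : ∀ x, x ∈ F ∙ a.v := fun x => Submodule.mem_span_singleton.2 ⟨2⁻¹ * a.φ ⬝ᵥ x, by
    have := e x
    rw [h1] at this
    rw [mul_smul, show (a.φ ⬝ᵥ x) • a.v = (2 : F) • x by linear_combination (norm := module) -this,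
      smul_smul, inv_mul_cancel₀ h2, one_smul]⟩
  have e3 := finrank_span_singleton (K := F) (a.v_ne h2)
  rw [(Submodule.eq_top_iff'.2 e2 :), finrank_top, Module.finrank_fintype_fun_eq_card] at e3
  omega

/-- An invariant set of members generates `P`. -/
theorem le_of_fam (h2 : (2 : F) ≠ 0) (hP : QS P) (hT : ∀ a ∈ T, ∀ x : P, cj x a ∈ T) (ha : a ∈ T)
    {M : Subgroup (GL ι F)} (hM : ∀ s ∈ T, (s.el : GL ι F) ∈ M) : P ≤ M := by
  let S : Set (GL ι F) := (fun s : Rl P => (s.el : GL ι F)) '' T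
  have hn : NormsG P (Subgroup.closure S) := fun h hh x hx => by
    induction hx using Subgroup.closure_induction with
    | mem x hx =>
      obtain ⟨s, hs, rfl⟩ := hx
      exact Subgroup.subset_closure ⟨_, hT s hs ⟨h, hh⟩, by simp [el_cj]⟩
    | one => simp
    | mul x y _ _ hx hy =>
      have := Subgroup.mul_mem _ hx hy
      rwa [show h * x * h⁻¹ * (h * y * h⁻¹) = h * (x * y) * h⁻¹ by group] at this
    | inv x _ hx =>
      have := Subgroup.inv_mem _ hx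
      rwa [show (h * x * h⁻¹)⁻¹ = h * x⁻¹ * h⁻¹ by group] at this
  rcases hP.simple _ ((Subgroup.closure_le _).2 (by rintro _ ⟨s, -, rfl⟩; exact s.el.2)) hn with h | h
  · exact (el_notMem_scalars h2 hP.two_le a (h (Subgroup.subset_closure ⟨a, ha, rfl⟩))).elim
  · rw [← h, Subgroup.closure_le]
    rintro _ ⟨s, hs, rfl⟩
    exact hM s hs

theorem bot_or_top (h2 : (2 : F) ≠ 0) (hP : QS P) (hT : ∀ a ∈ T, ∀ x : P, cj x a ∈ T) (ha : a ∈ T)
    (W : Submodule F (ι → F)) (hW : ∀ s ∈ T, ∀ x ∈ W, (s.φ ⬝ᵥ x) • s.v ∈ W) : W = ⊥ ∨ W = ⊤ :=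
  hP.irr W (inv_iff_le.2 (le_of_fam h2 hP hT ha fun s hs =>
    mem_subspaceStabilizer_of_maps fun x hx => by
      rw [el_mulVec]; exact W.add_mem (W.neg_mem hx) (hW s hs x hx)))

theorem exists_pair (h2 : (2 : F) ≠ 0) (hP : QS P) (hT : ∀ a ∈ T, ∀ x : P, cj x a ∈ T) (ha : a ∈ T)
    {χ u : ι → F} (hχ : χ ≠ 0) (hu : u ≠ 0) : ∃ s ∈ T, χ ⬝ᵥ s.v ≠ 0 ∧ s.φ ⬝ᵥ u ≠ 0 := by
  by_contra hn
  push Not at hn
  obtain ⟨b, h', h1⟩ : ∃ b ∈ T, χ ⬝ᵥ b.v ≠ 0 := by
    by_contra h1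
    push Not at h1
    refine (bot_or_top h2 hP hT ha (kerS (· = χ)) fun s hs x _ _ e => ?_).elim
      (fun e => a.v_ne h2 ?_) (kerS_ne_top rfl hχ)
    · rw [e, dotProduct_smul, h1 s hs, smul_zero]
    · rw [← Submodule.mem_bot F, ← e]
      exact fun _ e' => by rw [e', h1 a ha]
  refine (bot_or_top h2 hP hT ha (kerS fun ψ => ∃ s ∈ T, χ ⬝ᵥ s.v ≠ 0 ∧ ψ = s.φ) ?_).elim
    (fun e => hu ?_) (kerS_ne_top ⟨b, h', h1, rfl⟩ (b.φ_ne h2))
  · rintro s hs x hx _ ⟨b, h', h1, rfl⟩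
    rw [dotProduct_smul, smul_eq_mul]
    by_cases h0 : χ ⬝ᵥ s.v = 0
    · have := hx _ ⟨_, hT b h' s.el, by simpa [cj_el, sm, mv, h0] using h1, rfl⟩
      simp only [cj_el, sm, mv, smul_dotProduct, sub_dotProduct, hx _ ⟨b, h', h1, rfl⟩, smul_eq_mul,
        g, inv_neg_one] at this
      linear_combination this
    · rw [hx _ ⟨s, hs, h0, rfl⟩, zero_mul]
  · rw [← Submodule.mem_bot F, ← e]
    rintro _ ⟨s, hs, h0, rfl⟩
    exact hn s hs h0

end Fam

/-- Two of the three values are `1`. -/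
def Two1 (a b c : Rl P) : Prop :=
  (lam a b = 1 ∧ lam a c = 1) ∨ (lam a b = 1 ∧ lam b c = 1) ∨ (lam a c = 1 ∧ lam b c = 1)

/-- A monomial triple with the value `x`. -/
def M1 (P : Subgroup (GL ι F)) (x : F) : Prop :=
  ∃ a b t : Rl P, NS a b t ∧ gdet a b t ≠ 0 ∧ lam a b = x ∧ lam a t = 1 ∧ lam b t = 1

/-- Over the closure the members of `Δ` are monomial in three coordinates. -/
def Mono (Δ : Set (Rl P)) : Prop :=
  ∃ x ξ : Rl P → Fin 3 → AlgebraicClosure F,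
    (∀ s ∈ Δ, ∀ s' ∈ Δ, algebraMap F _ (g s s') = ξ s ⬝ᵥ x s') ∧
    ∀ s ∈ Δ, ∃ k, x s k = 0 ∧ ξ s k = 0 ∧
      ((∀ i, i ≠ k → x s i * ξ s i = 1) ∨ ∃ j, j ≠ k ∧ x s j = 0 ∧ ξ s j = 0)

/-- All values are `1`. -/
def Hess (Δ : Set (Rl P)) : Prop := ∀ s ∈ Δ, ∀ s' ∈ Δ, Same s s' ∨ lam s s' = 1

/-- A closed system in the span of an orthogonal frame `e`. -/
structure Exc (Δ : Set (Rl P)) (e : Fin 3 → Rl P) : Prop where
  mv : ∀ a ∈ Δ, ∀ b ∈ Δ, mv a b ∈ Δ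
  sm : ∀ a ∈ Δ, ∀ (c : F) (hc : c ≠ 0), sm c hc a ∈ Δ
  fr : ∀ i, e i ∈ Δ
  orth : ∀ i j, i ≠ j → g (e i) (e j) = 0
  spv : ∀ a ∈ Δ, ∃ x : Fin 3 → F, a.v = ∑ i, x i • (e i).v
  spφ : ∀ a ∈ Δ, ∃ x : Fin 3 → F, a.φ = ∑ i, x i • (e i).φ
  ns : ∃ a ∈ Δ, ∃ b ∈ Δ, ∃ c ∈ Δ, NS a b c ∧ gdet a b c ≠ 0
  swap : ∀ i j, i ≠ j → ∃ s ∈ Δ, Same (Rl.mv (e i) s) (e j)

/-- The projection to the span of a frame. -/
def pv (e : Fin 3 → Rl P) (y : ι → F) : ι → F := ∑ i, ((e i).φ ⬝ᵥ y / 2) • (e i).v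

/-- The projection to the span of a frame, on functionals. -/
def pφ (e : Fin 3 → Rl P) (χ : ι → F) : ι → F := ∑ i, (χ ⬝ᵥ (e i).v / 2) • (e i).φ

/-- Members that lie neither in the span of the frame nor in its complement. -/
def Mixed (e : Fin 3 → Rl P) (t : Rl P) : Prop := t.v ≠ pv e t.v ∧ ∃ i, g (e i) t ≠ 0

/-- The part of `t` in the complement of the frame. -/
def nu (e : Fin 3 → Rl P) (t : Rl P) : F := 2 - ∑ i, lam (e i) t / 2

/-- The values of `L₂(7)` and `A₆`. -/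
def V1 (x : F) : Prop :=
  x = 0 ∨ x = 1 ∨ x = 2 ∨ ((3 : F) ≠ 0 ∧ (5 : F) ≠ 0 ∧ x ^ 2 - 3 * x + 1 = 0)

/-- Systems of type `L₂(7)`, or `A₆` outside characteristic five. -/
structure K1 (Δ : Set (Rl P)) : Prop where
  swap : ∀ a ∈ Δ, ∀ b ∈ Δ, g a b = 0 → ∃ s ∈ Δ, Same (mv a s) b
  trans : ∀ a ∈ Δ, ∀ b ∈ Δ,
    ∃ a', Relation.ReflTransGen (fun x y => ∃ s ∈ Δ, y = mv x s) a a' ∧ Same a' b
  val : ∀ a ∈ Δ, ∀ b ∈ Δ, Same a b ∨ V1 (lam a b)

/-- Systems of type `3A₆`, `3A₇` in characteristic five. -/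
structure K2 (Δ : Set (Rl P)) (e : Fin 3 → Rl P) : Prop where
  five : (5 : F) = 0
  cen : ∃ (ω : F) (z : P), ω ^ 2 + ω + 1 = 0 ∧ ∀ y, ((z : GL ι F) : Matrix ι ι F) *ᵥ y =
    y + ∑ i, ((ω - 1) / 2 * (e i).φ ⬝ᵥ y) • (e i).v
  one : ∃ s ∈ Δ, lam s (e 0) = 1
  val : ∀ a ∈ Δ, ∀ b ∈ Δ, lam a b ^ 5 = lam a b

/-- Exceptional systems. -/
def EX (Δ : Set (Rl P)) : Prop := ∃ e, Exc Δ e ∧ (K1 Δ ∨ K2 Δ e)

/-- A monomial frame with `r` lines and parameter `c`. -/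
structure Frame (P : Subgroup (GL ι F)) (c : F) {r : ℕ} (e ε : Fin r → ι → F) : Prop where
  ne : c ≠ 0
  bi : ∀ i j, ε i ⬝ᵥ e j = if i = j then 1 else 0
  ex : ∀ i j, i ≠ j → ∀ n : ℕ,
    ∃ s : Rl P, s.v = e i - c ^ n • e j ∧ s.φ = ε i - (c ^ n)⁻¹ • ε j

end Rl

/-- The standing hypotheses. -/
structure RS (P : Subgroup (GL (Fin 5) F)) : Prop where
  two : (2 : F) ≠ 0
  qs : QS P
  nt : NoTv P

/-- The roots of the reflection group `W(K₅)`, with their coroots. -/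
def Kroot (ω : F) (x ξ : Fin 5 → F) : Prop :=
  (∃ (i j : Fin 5) (n : ℕ), i ≠ j ∧ i ≠ 4 ∧ j ≠ 4 ∧
    x = Pi.single i 1 - Pi.single j (ω ^ n) ∧ ξ = Pi.single i 1 - Pi.single j (ω ^ (2 * n))) ∨
  ∃ a b c : ℕ, x = ![ω ^ a, ω ^ b, ω ^ c, ω ^ (2 * (a + b + c)), 1] ∧
    ξ = ![ω ^ (2 * a) / 3, ω ^ (2 * b) / 3, ω ^ (2 * c) / 3, ω ^ (a + b + c) / 3, 2 / 3]

/-- The members of `P` are the roots of `W(K₅)` in suitable coordinates. -/
def KMod (P : Subgroup (GL (Fin 5) F)) (ω : F) (Q : GL (Fin 5) F) : Prop :=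
  (∀ s : Rl P, ∃ (x ξ : Fin 5 → F) (c : F), c ≠ 0 ∧ Kroot ω x ξ ∧
    s.v = c • (Q : Matrix (Fin 5) (Fin 5) F) *ᵥ x ∧
    s.φ = c⁻¹ • ξ ᵥ* ((Q⁻¹ : GL (Fin 5) F) : Matrix (Fin 5) (Fin 5) F)) ∧
  ∀ x ξ, Kroot ω x ξ → ∃ s : Rl P, s.v = (Q : Matrix (Fin 5) (Fin 5) F) *ᵥ x ∧
    s.φ = ξ ᵥ* ((Q⁻¹ : GL (Fin 5) F) : Matrix (Fin 5) (Fin 5) F)

end Cfsg.Agent.Cl.D5
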