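/-
Cycles of the negatives of reflections in a subgroup of `SL₅(F)`.
-/
import Mathlib
import Cfsg.Agent.Cl.D5RDefs

set_option autoImplicit false
set_option linter.unusedSectionVars false
set_option linter.unusedVariables false

namespace Cfsg.Agent.Cl.D5

open Matrix Cfsg.Geo Cfsg.Agent.Cl.Max Cfsg.Agent.Cl.Mx Rl
open scoped MatrixGroups

namespace RAx

variable {F : Type*} [Field F] {ι : Type} [Fintype ι] [DecidableEq ι] {P : Subgroup (GL ι F)}

theorem perm_ind {α : Type*} (Q : List α → Prop) (n : ℕ)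
    (rot : ∀ L M, Q (L ++ M) → Q (M ++ L))
    (swap : ∀ a b L, L.length + 2 = n → Q (a :: b :: L) → Q (b :: a :: L))
    {L L' : List α} (h : L.Perm L') (hn : L.length = n) (hQ : Q L) : Q L' := by
  have key : ∀ M : List α, (M ++ L).length = n → Q (M ++ L) → Q (M ++ L') := by
    clear hn hQ
    induction h with
    | nil => intro M _ h; exact h
    | cons x _ ih =>
      intro M hM h
      simpa using ih (M ++ [x]) (by simpa using hM) (by simpa using h)
    | swap x y l =>
      intro M hM h
      exact rot _ _ (swap y x (l ++ M) (by simp at hM ⊢; omega) (rot _ _ h))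
    | trans h1 _ ih1 ih2 =>
      intro M hM h
      exact ih2 M (by rw [List.length_append] at hM ⊢; rw [← h1.length_eq, hM]) (ih1 M hM h)
  exact key [] hn hQ

/-- The rank one part of a member. -/
def N (a : Rl P) : Matrix ι ι F := vecMulVec a.v a.φ

/-- Products of rank one parts. -/
def pr (L : List (Rl P)) : Matrix ι ι F := (L.map N).prod

/-- Cycles. -/
def cy (L : List (Rl P)) : F := (pr L).trace

theorem pr_nil : pr ([] : List (Rl P)) = 1 := rfl

theorem pr_cons (a : Rl P) (L : List (Rl P)) : pr (a :: L) = N a * pr L := by simp [pr]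

theorem pr_append (L M : List (Rl P)) : pr (L ++ M) = pr L * pr M := by simp [pr]

theorem cy_rot (L M : List (Rl P)) : cy (L ++ M) = cy (M ++ L) := by
  rw [cy, cy, pr_append, pr_append, trace_mul_comm]

theorem N_mul (a b : Rl P) : N a * N b = g a b • vecMulVec a.v b.φ := by
  rw [N, N, vecMulVec_mul_vecMulVec, vecMulVec_smul, g]

theorem N_tri (a b c : Rl P) : g a c • (N a * N b * N c) = (g a b * g b c) • (N a * N c) := by
  rw [N_mul, N_mul, smul_mul_assoc, N, vecMulVec_mul_vecMulVec, vecMulVec_smul, smul_smul, smul_smul,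
    smul_smul]
  congr 1
  simp only [g]
  ring

theorem cy_nil : cy ([] : List (Rl P)) = (Fintype.card ι : F) := by simp [cy, pr_nil]

theorem cy_one (a : Rl P) : cy [a] = 2 := by
  rw [cy, pr_cons, pr_nil, mul_one, N, trace_vecMulVec, dotProduct_comm]
  exact a.two

theorem cy_two (a b : Rl P) : cy [a, b] = lam a b := by
  rw [cy, pr_cons, pr_cons, pr_nil, mul_one, N_mul, trace_smul, trace_vecMulVec, dotProduct_comm]
  rfl

theorem cy_zero {a b : Rl P} (h : g a b = 0) (L : List (Rl P)) : cy (a :: b :: L) = 0 := by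
  rw [cy, pr_cons, pr_cons, ← mul_assoc, N_mul, h]
  simp

theorem cy_tri (a b c : Rl P) (L : List (Rl P)) :
    cy (a :: b :: c :: L) * lam a c = cyc a b c * cy (a :: c :: L) := by
  have := congrArg (fun X => (X * pr L).trace) (N_tri a b c)
  simp only [smul_mul_assoc, trace_smul, smul_eq_mul, mul_assoc] at this
  simp only [cy, pr_cons, lam, cyc]
  linear_combination g c a * this

theorem N_mv (a b : Rl P) : N (mv a b) = N a - N b * N a - N a * N b + lam a b • N b := by
  rw [N_mul, N_mul]
  ext i j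
  simp only [N, mv, lam, vecMulVec_apply, Matrix.sub_apply, Matrix.add_apply, Matrix.smul_apply,
    Pi.sub_apply, Pi.smul_apply, smul_eq_mul]
  ring

theorem cy_mv (a b : Rl P) (L : List (Rl P)) : cy (mv a b :: L) =
    cy (a :: L) - cy (b :: a :: L) - cy (a :: b :: L) + lam a b * cy (b :: L) := by
  simp only [cy, pr_cons, N_mv, sub_mul, add_mul, smul_mul_assoc, trace_sub, trace_add, trace_smul,
    smul_eq_mul, mul_assoc]

theorem cy_rev1 (a : Rl P) (L : List (Rl P)) : cy (a :: L).reverse = cy (a :: L.reverse) := by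
  rw [List.reverse_cons, cy_rot]; rfl

theorem cy_rev2 (a b : Rl P) (L : List (Rl P)) :
    cy (a :: b :: L).reverse = cy (b :: a :: L.reverse) := by
  rw [List.reverse_cons, List.reverse_cons, List.append_assoc, cy_rot]; rfl

theorem cy_rev3 (a b c : Rl P) (L : List (Rl P)) :
    cy (a :: b :: c :: L).reverse = cy (c :: b :: a :: L.reverse) := by
  rw [List.reverse_cons, List.reverse_cons, List.reverse_cons, List.append_assoc, List.append_assoc,
    cy_rot]; rfl

/-- Induction over the group generated by the members. -/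
theorem ind (h2 : (2 : F) ≠ 0) (hP : QS P) (a : Rl P) (Q : Matrix ι ι F → Matrix ι ι F → Prop)
    (h1 : Q 1 1) (hp : ∀ (a : Rl P) X Y, Q X Y → Q (X * (-1 + N a)) ((-1 + N a) * Y))
    {x : GL ι F} (hx : x ∈ P) : Q x (x⁻¹ : GL ι F) := by
  let M : Subgroup (GL ι F) :=
    { carrier := {y | (∀ X Y, Q X Y → Q (X * y) ((y⁻¹ : GL ι F) * Y)) ∧
        ∀ X Y, Q X Y → Q (X * (y⁻¹ : GL ι F)) (y * Y)}
      one_mem' := ⟨fun X Y h => by simpa using h, fun X Y h => by simpa using h⟩
      mul_mem' := fun {a b} ha hb => ⟨fun X Y h => by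
        simpa [mul_assoc] using hb.1 _ _ (ha.1 X Y h), fun X Y h => by
        simpa [mul_assoc] using ha.2 _ _ (hb.2 X Y h)⟩
      inv_mem' := fun {a} ha => ⟨ha.2, by simpa using ha.1⟩ }
  have hM : P ≤ M := le_of_fam (T := Set.univ) h2 hP (fun _ _ _ => trivial) (Set.mem_univ a)
    fun s _ => by
      have e1 : ((s.el : GL ι F) : Matrix ι ι F) = -1 + N s := s.coe_el
      have e2 : (((s.el : GL ι F)⁻¹ : GL ι F) : Matrix ι ι F) = -1 + N s := by
        rw [← Subgroup.coe_inv, el_inv, e1]
      refine ⟨fun X Y h => ?_, fun X Y h => ?_⟩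
      · rw [e2, e1]; exact hp _ _ _ h
      · rw [e2, e1]; exact hp _ _ _ h
  simpa using (hM hx).1 1 1 h1

theorem cy_mem (h2 : (2 : F) ≠ 0) {K : Subfield F} (h3 : ∀ a b c : Rl P, cyc a b c ∈ K)
    (L : List (Rl P)) : cy L ∈ K := by
  have hl : ∀ a b : Rl P, lam a b ∈ K := fun a b => by
    have := K.div_mem (h3 a a b) (ofNat_mem K 2)
    convert this using 1
    simp only [cyc, lam, g_self]
    field_simp
  induction hn : L.length using Nat.strong_induction_on generalizing L with
  | _ n ih =>
  have hperm : ∀ L' : List (Rl P), L'.Perm L → cy L' ∈ K → cy L ∈ K := fun _ h =>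
    perm_ind (fun L => cy L ∈ K) n (fun L M h => by rwa [cy_rot]) (fun a b M hM h => by
      have e := cy_mv a b M
      have := K.sub_mem (K.add_mem (K.sub_mem (ih _ (by simp; omega) (a :: M) rfl)
        (ih _ (by simp; omega) (mv a b :: M) rfl))
        (K.mul_mem (hl a b) (ih _ (by simp; omega) (b :: M) rfl))) h
      change _ ∈ K
      convert this using 1
      linear_combination e) h (h.length_eq.trans hn)
  match L, hn, hperm with
  | [], _, _ => rw [cy_nil]; exact natCast_mem K _
  | [a], _, _ => rw [cy_one]; exact ofNat_mem K 2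
  | [a, b], _, _ => rw [cy_two]; exact hl a b
  | a :: b :: c :: M, hn, hperm =>
    by_cases e1 : g a c = 0
    · exact hperm _ ((List.Perm.swap b c M).cons a) (by rw [cy_zero e1]; exact K.zero_mem)
    by_cases e2 : g c a = 0
    · exact hperm _ ((List.Perm.swap a c (b :: M)).trans ((List.Perm.swap b c M).cons a))
        (by rw [cy_zero e2]; exact K.zero_mem)
    rw [eq_div_of_mul_eq (mul_ne_zero e1 e2) (cy_tri a b c M)]
    exact K.div_mem (K.mul_mem (h3 a b c) (ih _ (by simp at hn ⊢; omega) (a :: c :: M) rfl)) (hl a c)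

theorem cy_coh (h2 : (2 : F) ≠ 0) (hn : NoTv P) {σ : F →+* F}
    (h3 : ∀ a b c : Rl P, σ (cyc a b c) = cyc a c b) (L : List (Rl P)) :
    σ (cy L) = cy L.reverse := by
  have hl : ∀ a b : Rl P, σ (lam a b) = lam a b := fun a b => by
    have := h3 a a b
    rw [show cyc a a b = 2 * lam a b by simp only [cyc, lam, g_self]; ring,
      show cyc a b a = 2 * lam a b by simp only [cyc, lam, g_self]; ring, map_mul, map_ofNat] at this
    exact mul_left_cancel₀ h2 this
  induction hL : L.length using Nat.strong_induction_on generalizing L with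
  | _ n ih =>
  have hperm : ∀ L' : List (Rl P), L'.Perm L → σ (cy L') = cy L'.reverse →
      σ (cy L) = cy L.reverse := fun _ h =>
    perm_ind (fun L => σ (cy L) = cy L.reverse) n
      (fun L M h => by
        simp only [List.reverse_append] at h ⊢
        rwa [cy_rot M, cy_rot L.reverse])
      (fun a b M hM h => by
        have e := congrArg σ (cy_mv a b M)
        have e' := cy_mv a b M.reverse
        have i1 := ih _ (by simp; omega) (a :: M) rfl
        have i2 := ih _ (by simp; omega) (b :: M) rfl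
        have i3 := ih _ (by simp; omega) (mv a b :: M) rfl
        rw [map_add, map_sub, map_sub, map_mul, hl, i1, i2, i3, cy_rev1, cy_rev1, cy_rev1, e'] at e
        simp only [cy_rev2] at h ⊢
        linear_combination e - h) h (h.length_eq.trans hL)
  subst hL
  match L, ih, hperm with
  | [], _, _ => simp [cy_nil]
  | [a], _, _ => simp [cy_one, map_ofNat]
  | [a, b], _, _ => rw [cy_rev2, List.reverse_nil, cy_two, cy_two, hl, lam_comm]
  | a :: b :: c :: M, ih, hperm =>
    by_cases e1 : g a c = 0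
    · exact hperm _ ((List.Perm.swap b c M).cons a) (by
        rw [cy_zero e1, cy_rev2 a c, cy_zero (zero h2 hn e1), map_zero])
    have e2 : g c a ≠ 0 := ne_zero h2 hn e1
    have i1 := ih _ (by simp) (a :: c :: M) rfl
    have e := congrArg σ (cy_tri a b c M)
    have e' := cy_tri c b a M.reverse
    rw [map_mul, map_mul, hl, h3, i1, cy_rev2] at e
    rw [cy_rev3]
    refine mul_right_cancel₀ (mul_ne_zero e1 e2) ?_
    simp only [lam, cyc] at e e'
    linear_combination e - e'

/-- Functions that are linear along moves and vanish on the diagonal. -/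
structure Alt (y : Rl P → Rl P → F) : Prop where
  left : ∀ a b c, y (mv a b) c = y a c - g a b * y b c
  right : ∀ a b c, y c (mv a b) = y c a - g b a * y c b
  self : ∀ a, y a a = 0

variable {y : Rl P → Rl P → F} {a b c t : Rl P}

theorem Alt.pair (h : Alt y) (a b : Rl P) : g b a * y a b + g a b * y b a = 0 := by
  have := h.self (mv a b)
  rw [h.left, h.right, h.right, h.self, h.self] at this
  linear_combination -this

theorem Alt.ratio (h : Alt y) (h2 : (2 : F) ≠ 0) (hn : NoTv P) (hs : NS a b c) :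
    y a c / g a c = y b c / g b c := by
  have e := h.pair (mv a b) c
  rw [h.left, h.right, g_mv_left, g_mv_right] at e
  have e1 := h.pair a c
  have e2 := h.pair b c
  have n1 : g a c ≠ 0 := hs.rot.rot.swap.ne h2 hn
  have n2 : g b c ≠ 0 := hs.rot.ne h2 hn
  rw [div_eq_div_iff n1 n2]
  refine mul_left_cancel₀ (sub_ne_zero.2 hs) ?_
  simp only [cyc]
  linear_combination (g a c * g b c) * e -
    (g b c * (g a c - g a b * g b c)) * e1 + (g a c * g b a * (g a c - g a b * g b c)) * e2

theorem Alt.anti (h : Alt y) (h2 : (2 : F) ≠ 0) (hn : NoTv P) (h0 : g a b ≠ 0) :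
    y b a / g b a = -(y a b / g a b) := by
  have := ne_zero h2 hn h0
  field_simp
  linear_combination h.pair a b

theorem Alt.of_ns (h : Alt y) (h2 : (2 : F) ≠ 0) (hn : NoTv P) (hs : NS a b c) : y a b = 0 := by
  have e1 := h.ratio h2 hn hs
  have e2 := h.ratio h2 hn hs.rot
  have e3 := h.ratio h2 hn hs.rot.rot
  have a1 := h.anti h2 hn (hs.ne h2 hn)
  have a2 := h.anti h2 hn (hs.rot.ne h2 hn)
  have a3 := h.anti h2 hn (hs.rot.rot.ne h2 hn)
  have : 2 * (y a b / g a b) = 0 := by linear_combination a1 + a2 - a3 + e1 - e2 - e3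
  exact (div_eq_zero_iff.1 ((mul_eq_zero.1 this).resolve_left h2)).resolve_right (hs.ne h2 hn)

theorem Alt.of_adj (h : Alt y) (h2 : (2 : F) ≠ 0) (hn : NoTv P) (hs : NS a b c)
    (ht : g a t ≠ 0) : y a t = 0 := by
  obtain ⟨b', c', -, -, hs', -, hb, hc⟩ := hs.exists_adj h2 hn ht
  rcases hs'.kappa h2 hn ht hb hc with h1 | h1 | h1
  · exact h.of_ns h2 hn h1.rot.rot.swap
  · exact h.of_ns h2 hn h1.rot.rot.swap
  · have h' : Alt fun s s' => y s t * g t s' + g s t * y t s' :=
      ⟨fun a b c => by simp only [h.left, g_mv_left]; ring,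
        fun a b c => by simp only [h.right, g_mv_right]; ring,
        fun a => by linear_combination h.pair a t⟩
    have e := h'.of_ns h2 hn hs'
    simp only [h.of_ns h2 hn h1.rot.rot, mul_zero, add_zero] at e
    exact (mul_eq_zero.1 e).resolve_right (ne_zero h2 hn hb)

theorem eq_zero (h2 : (2 : F) ≠ 0) (hP : QS P) (hn : NoTv P) (hs : NS a b c) {Y : Matrix ι ι F}
    (hY : ∀ s : Rl P, s.φ ⬝ᵥ Y *ᵥ s.v = 0) (x : ι → F) : Y *ᵥ x = 0 := by
  have h : Alt fun s s' : Rl P => s.φ ⬝ᵥ Y *ᵥ s'.v :=
    ⟨fun a b c => by simp only [mv, sub_dotProduct, smul_dotProduct, smul_eq_mul],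
      fun a b c => by
        simp only [mv, mulVec_sub, mulVec_smul, dotProduct_sub, dotProduct_smul, smul_eq_mul], hY⟩
  by_contra hx
  obtain ⟨s, ⟨s', s'', h3⟩, -, h4⟩ := exists_pair (T := {s | ∃ s' s'', NS s s' s''}) h2 hP
    (fun s ⟨s', s'', h⟩ x => ⟨_, _, h.cj x⟩) (a := a) ⟨b, c, hs⟩ (a.φ_ne h2) hx
  have h5 : s.φ ᵥ* Y ≠ 0 := fun e => h4 (by rw [dotProduct_mulVec, e, zero_dotProduct])
  obtain ⟨t, -, h6, h7⟩ := exists_pair (T := Set.univ) h2 hP (fun _ _ _ => trivial)
    (Set.mem_univ a) h5 (s.v_ne h2)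
  rw [← dotProduct_mulVec] at h6
  exact h6 (h.of_adj h2 hn h3 (ne_zero h2 hn h7))

end RAx

variable {F : Type*} [Field F] [Finite F] {P : Subgroup (GL (Fin 5) F)} {a b c t : Rl P}
  {Δ : Set (Rl P)} {e : Fin 3 → Rl P}

theorem r_tr_of_coh (H : RS P) (a : Rl P) {σ : F →+* F}
    (h : ∀ a b c : Rl P, σ (cyc a b c) = cyc a c b) (x : P) : σ (tr x) = tr x⁻¹ := by
  have := RAx.ind H.two H.qs a (fun X Y => ∀ L : List (Rl P), σ (X * RAx.pr L).trace =
      (RAx.pr L.reverse * Y).trace)
    (fun L => by rw [one_mul, mul_one]; exact RAx.cy_coh H.two H.nt h L)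
    (fun a X Y H L => by
      have h1 := H L
      have h2 := H (a :: L)
      rw [List.reverse_cons, RAx.pr_append, RAx.pr_cons, RAx.pr_cons, RAx.pr_nil, mul_one] at h2
      simp only [mul_add, add_mul, mul_neg, neg_mul, mul_one, one_mul, trace_add, trace_neg,
        map_add, map_neg, mul_assoc] at h1 h2 ⊢
      rw [h1, h2]) x.2 []
  rw [List.reverse_nil, RAx.pr_nil, mul_one, one_mul] at this
  exact this

theorem r_eq_top (H : RS P) (a : Rl P) (ht : TrGen P) {K : Subfield F}
    (h : ∀ a b c : Rl P, cyc a b c ∈ K) : K = ⊤ := by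
  refine ht K fun x hx => ?_
  have := RAx.ind H.two H.qs a (fun X _ => ∀ L : List (Rl P), (X * RAx.pr L).trace ∈ K)
    (fun L => by rw [one_mul]; exact RAx.cy_mem H.two h L)
    (fun a X _ H L => by
      rw [mul_add, add_mul, mul_neg, mul_one, neg_mul, trace_add, trace_neg, mul_assoc,
        ← RAx.pr_cons]
      exact K.add_mem (K.neg_mem (H _)) (H _)) hx []
  simpa [RAx.pr_nil] using this

theorem exists_ns (H : RS P) (hns : ∃ a b c : Rl P, NS a b c) (h : g a b ≠ 0) (hs : ¬ Same a b) :
    ∃ t, NS a b t := by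
  obtain ⟨a', b', c', h'⟩ := hns
  by_contra hn
  simp only [NS, not_exists, not_not] at hn
  have e := RAx.eq_zero H.two H.qs H.nt h'
    (Y := g a b • vecMulVec a.v b.φ - g b a • vecMulVec b.v a.φ) (fun s => by
      have := hn s
      simp only [cyc, g] at this
      simp only [sub_mulVec, smul_mulVec, vecMulVec_mulVec, dotProduct_sub, dotProduct_smul,
        op_smul_eq_smul, smul_eq_mul, g]
      linear_combination this) a.v
  have h0 := ne_zero H.two H.nt h
  refine hs (same_of_par H.two H.nt (x := g a b / 2) ?_)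
  simp only [sub_mulVec, smul_mulVec, vecMulVec_mulVec, op_smul_eq_smul, a.two] at e
  refine smul_right_injective _ (mul_ne_zero h0 H.two) ?_
  have h2 := H.two
  simp only [smul_smul]
  rw [show g b a * 2 * (g a b / 2) = g a b * g b a by field_simp]
  simp only [g] at e ⊢
  linear_combination (norm := module) -e

end Cfsg.Agent.Cl.D5
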