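/-
Degenerate non-symmetric triples of reflections are planar.
-/
import Mathlib
import Cfsg.Agent.Cl.D5RDefs
import Cfsg.Agent.S0205

set_option autoImplicit false
set_option linter.unusedSectionVars false

namespace Cfsg.Agent.Cl.D5

open Matrix Cfsg.Geo Cfsg.Agent.Cl.Max Cfsg.Agent.Cl.Mx Rl
open scoped MatrixGroups

variable {F : Type*} [Field F] [Finite F] {ι : Type} [Fintype ι] [DecidableEq ι]
  {P : Subgroup (GL ι F)} {a b c : Rl P}

namespace RB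

/-- Two by two matrices. -/
abbrev M2 (F : Type*) := Matrix (Fin 2) (Fin 2) F

theorem exists_lin {u X : M2 F} (hu : ∀ t : F, u ≠ t • (1 : M2 F)) (h : X * u = u * X) :
    ∃ α β : F, X = α • (1 : M2 F) + β • u := by
  have e := fun i j => congrFun (congrFun h i) j
  have e1 := e 0 0
  have e2 := e 0 1
  have e3 := e 1 0
  simp only [mul_apply, Fin.sum_univ_two] at e1 e2 e3
  obtain ⟨β, h1, h2, h3⟩ : ∃ β, X 0 1 = β * u 0 1 ∧ X 1 0 = β * u 1 0 ∧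
      X 0 0 - X 1 1 = β * (u 0 0 - u 1 1) := by
    by_cases b1 : u 0 1 = 0
    · by_cases b2 : u 1 0 = 0
      · have b3 : u 0 0 - u 1 1 ≠ 0 := fun b3 => hu (u 0 0) (by
          ext i j; fin_cases i <;> fin_cases j <;> simp [b1, b2, sub_eq_zero.1 b3])
        exact ⟨(X 0 0 - X 1 1) / (u 0 0 - u 1 1), by grind, by grind, by grind⟩
      · exact ⟨X 1 0 / u 1 0, by grind, by grind, by grind⟩
    · exact ⟨X 0 1 / u 0 1, by grind, by grind, by grind⟩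
  refine ⟨X 0 0 - β * u 0 0, β, ?_⟩
  ext i j
  fin_cases i <;> fin_cases j <;> simp [h1, h2]
  linear_combination -h3

theorem eq_or_neg {t : F} {g : GL (Fin 2) F} (hd : (g : M2 F).det = 1) (h : (g : M2 F) = t • 1) :
    g = 1 ∨ g = -1 := by
  rw [h, det_smul, det_one, mul_one, Fintype.card_fin, pow_two, mul_self_eq_one_iff] at hd
  rcases hd with rfl | rfl
  · exact Or.inl (Units.ext (by simpa using h))
  · exact Or.inr (Units.ext (by simpa using h))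

theorem scalar_of_sq (h2 : (2 : F) ≠ 0) {g : M2 F} (hd : g.det = 1) (h : g * g = 1) :
    g = g 0 0 • (1 : M2 F) := by
  have e := fun i j => congrFun (congrFun h i) j
  have e1 := e 0 0
  have e2 := e 0 1
  have e3 := e 1 0
  have e4 := e 1 1
  rw [det_fin_two] at hd
  simp [mul_apply, Fin.sum_univ_two] at e1 e2 e3 e4
  ext i j
  fin_cases i <;> fin_cases j <;> simp <;> grind

/-- Three reflections of the plane in general position generate `-1`. -/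
theorem neg_one_mem (h2 : (2 : F) ≠ 0) {Γ : Subgroup (GL (Fin 2) F)} {r s t : GL (Fin 2) F}
    (hr : r ∈ Γ) (hs : s ∈ Γ) (ht : t ∈ Γ) {x y : F} (er : (r : M2 F) = !![1, x; 0, -1])
    (es : (s : M2 F) = !![-1, 0; y, 1]) (et : (t : M2 F).det = -1) (hx : x ≠ 0) (hy : y ≠ 0)
    (h4 : x * y ≠ 4) (hn : s * r * t ≠ t * r * s) : -1 ∈ Γ := by
  by_contra hm
  let Γ0 := Γ ⊓ (GeneralLinearGroup.det (n := Fin 2) (R := F)).ker
  have m0 : ∀ {g}, g ∈ Γ0 ↔ g ∈ Γ ∧ (g : M2 F).det = 1 := fun {g} =>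
    and_congr_right fun _ => Units.ext_iff
  have ho : Odd (Nat.card Γ0) := by
    by_contra he
    have : Fact (Nat.Prime 2) := ⟨Nat.prime_two⟩
    obtain ⟨g, hg⟩ := exists_prime_orderOf_dvd_card' 2 (even_iff_two_dvd.1 (Nat.not_odd_iff_even.1 he))
    have g2 : (g : GL (Fin 2) F) * g = 1 := by
      have := pow_orderOf_eq_one g
      rw [hg, pow_two] at this
      exact congrArg Subtype.val this
    rcases eq_or_neg (m0.1 g.2).2 (scalar_of_sq h2 (m0.1 g.2).2 (congrArg Units.val g2)) with e | e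
    · rw [show g = 1 from Subtype.ext e, orderOf_one] at hg
      exact absurd hg (by decide)
    · exact hm (e ▸ g.2.1)
  have dr : (r : M2 F).det = -1 := by simp [er]
  have rs : r * s ∈ Γ0 := m0.2 ⟨mul_mem hr hs, by simp [dr, es]⟩
  have rt : r * t ∈ Γ0 := m0.2 ⟨mul_mem hr ht, by simp [dr, et]⟩
  obtain ⟨-, -, A, hA, hn', hb, hc, -⟩ := GT.HT.exists_comm_pGroup_le_of_solvable Γ0 Γ
    (Subgroup.le_normalizer_iff.2 fun g hg k hk => m0.2 ⟨mul_mem (mul_mem hg (m0.1 hk).1) (inv_mem hg),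
      by rw [Units.val_mul, Units.val_mul, det_units_conj, (m0.1 hk).2]⟩) (S0205.result ho) (fun e => by
        have := congrArg (fun g : GL (Fin 2) F => (g : M2 F) 0 1) (Subgroup.mem_bot.1 (e ▸ rs))
        simp [er, es, hx] at this)
  obtain ⟨⟨u, hu⟩, u1⟩ := Subgroup.ne_bot_iff_exists_ne_one.1 hb
  have ns : ∀ c : F, (u : M2 F) ≠ c • (1 : M2 F) := fun c e =>
    (eq_or_neg (m0.1 (hA hu)).2 e).elim (fun e => u1 (Subtype.ext e)) fun e => hm (e ▸ (hA hu).1)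
  set w : M2 F := (2 : F) • (u : M2 F) - (u : M2 F).trace • (1 : M2 F) with hw
  have nw : ∀ c : F, w ≠ c • (1 : M2 F) := fun c e => ns ((c + (u : M2 F).trace) / 2) (by
    rw [div_eq_inv_mul, mul_smul, add_smul, ← e, hw, sub_add_cancel, smul_smul,
      inv_mul_cancel₀ h2, one_smul])
  have key : ∀ g ∈ Γ, ∃ β : F, (g : M2 F) * w = β • (w * g) := fun g hg => by
    have m := (Subgroup.mem_normalizer_iff.1 (hn' hg) u).1 hu
    obtain ⟨α, β, e⟩ := exists_lin ns (X := (g * u * g⁻¹ : GL (Fin 2) F))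
      (congrArg (fun k : A => ((k : GL (Fin 2) F) : M2 F)) (hc.is_comm.comm ⟨_, m⟩ ⟨_, hu⟩))
    have e1 := congrArg trace e
    rw [Units.val_mul, Units.val_mul, trace_mul_cycle, Units.inv_mul, one_mul] at e1
    simp only [trace_add, trace_smul, trace_one, Fintype.card_fin, smul_eq_mul] at e1
    have e2 : (g : M2 F) * u = (α • (1 : M2 F) + β • (u : M2 F)) * g := by
      rw [← e, ← Units.val_mul, ← Units.val_mul, inv_mul_cancel_right]
    refine ⟨β, ?_⟩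
    simp only [hw, mul_sub, sub_mul, mul_smul_comm, smul_mul_assoc, e2, add_mul, mul_one, one_mul]
    push_cast at e1
    linear_combination (norm := module) -e1 • (g : M2 F)
  have tw : w 1 1 = -w 0 0 := by simp [hw, trace_fin_two]; ring
  by_cases hd : w.det = 0
  · obtain ⟨β, e⟩ := key r hr
    obtain ⟨γ, f⟩ := key s hs
    have e1 := congrFun (congrFun e 1) 0
    have e2 := congrFun (congrFun e 1) 1
    have f1 := congrFun (congrFun f 0) 1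
    have f2 := congrFun (congrFun f 0) 0
    rw [det_fin_two, tw] at hd
    simp [er, es, mul_apply, Fin.sum_univ_two, tw] at e1 e2 f1 f2
    have : w 0 0 = 0 ∧ w 0 1 = 0 ∧ w 1 0 = 0 := by grind
    refine nw 0 ?_
    ext i j
    fin_cases i <;> fin_cases j <;> simp [this, tw]
  have cm : ∀ g ∈ Γ0, (g : M2 F) * w = w * g := fun g hg => by
    obtain ⟨β, e⟩ := key g hg.1
    have e1 := congrArg det e
    rw [det_smul, det_mul, det_mul, (m0.1 hg).2, one_mul, mul_one, Fintype.card_fin] at e1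
    have e2 : β * β = 1 := mul_right_cancel₀ hd (by linear_combination -e1)
    have c2 : Commute (((g ^ 2 : GL (Fin 2) F)) : M2 F) w := by
      rw [Commute, SemiconjBy, pow_two, Units.val_mul, mul_assoc, e, mul_smul_comm, ← mul_assoc, e,
        smul_mul_assoc, smul_smul, e2, one_smul, mul_assoc]
    obtain ⟨k, hk⟩ := exists_pow_eq_self_of_coprime
      (ho.of_dvd_nat (Subgroup.orderOf_dvd_natCard _ hg)).coprime_two_left
    rw [← hk, Units.val_pow_eq_pow_val]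
    exact c2.pow_left k
  obtain ⟨α, β, e⟩ := exists_lin nw (cm _ rs)
  obtain ⟨α', β', e'⟩ := exists_lin nw (cm _ rt)
  refine hn (mul_left_cancel (a := r) ?_)
  rw [show r * (s * r * t) = r * s * (r * t) by group, show r * (t * r * s) = r * t * (r * s) by group]
  refine Units.ext ?_
  rw [Units.val_mul (r * s), Units.val_mul (r * t), e, e']
  simp only [mul_add, add_mul, mul_smul_comm, smul_mul_assoc, mul_one, one_mul]
  module

variable {B : Matrix ι (Fin 2) F} {Ψ : Matrix (Fin 2) ι F} {z ζ X Ξ : ι → F} {k k' : P}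
  {R R' : M2 F} {s t u : Rl P}

/-- A plane with coordinates, and the radical directions. -/
structure Fr (B : Matrix ι (Fin 2) F) (Ψ : Matrix (Fin 2) ι F) (z ζ : ι → F) : Prop where
  ΨB : ∀ u, Ψ *ᵥ (B *ᵥ u) = u
  Ψz : Ψ *ᵥ z = 0
  ζB : ∀ u, ζ ⬝ᵥ (B *ᵥ u) = 0
  ζz : ζ ⬝ᵥ z = 0

/-- `k` is block triangular with middle block `R`. -/
def Sh (B : Matrix ι (Fin 2) F) (Ψ : Matrix (Fin 2) ι F) (z ζ : ι → F) (k : P) (R : M2 F) : Prop :=
  ∃ (x ξ : Fin 2 → F) (c : F), ∀ y, ((k : GL ι F) : Matrix ι ι F) *ᵥ y =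
    R.det • (y - B *ᵥ (Ψ *ᵥ y)) + B *ᵥ (R *ᵥ (Ψ *ᵥ y)) + (ζ ⬝ᵥ y) • (B *ᵥ x + c • z) +
      (ξ ⬝ᵥ (Ψ *ᵥ y)) • z

/-- A member with coordinates `p`, `w` in the plane. -/
def Mem (B : Matrix ι (Fin 2) F) (Ψ : Matrix (Fin 2) ι F) (z ζ : ι → F) (s : Rl P)
    (p w : Fin 2 → F) : Prop :=
  (∃ m : F, s.v = B *ᵥ p + m • z) ∧ ∃ m : F, ∀ y, s.φ ⬝ᵥ y = w ⬝ᵥ (Ψ *ᵥ y) + m * ζ ⬝ᵥ y

theorem sh_one : Sh B Ψ z ζ (1 : P) 1 := ⟨0, 0, 0, fun y => by simp⟩

/-- Elements of a Heisenberg group. -/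
def Hz (P : Subgroup (GL ι F)) (z ζ X Ξ : ι → F) : Prop := ζ ⬝ᵥ X = 0 ∧ Ξ ⬝ᵥ z = 0 ∧
  ∃ k : P, ∀ y, ((k : GL ι F) : Matrix ι ι F) *ᵥ y = y + (ζ ⬝ᵥ y) • X + (Ξ ⬝ᵥ y) • z

/-- The member kills the radical directions. -/
def Ad (z ζ : ι → F) (s : Rl P) : Prop := s.φ ⬝ᵥ z = 0 ∧ ζ ⬝ᵥ s.v = 0

theorem Hz.mv (h : Hz P z ζ X Ξ) (hs : Ad z ζ s) :
    Hz P z ζ (X - (s.φ ⬝ᵥ X) • s.v) (Ξ - (Ξ ⬝ᵥ s.v) • s.φ) := by
  obtain ⟨h1, h2, k, e⟩ := h
  refine ⟨by simp [h1, hs.2], by simp [h2, hs.1], s.el * k * s.el, fun y => ?_⟩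
  simp only [Subgroup.coe_mul, mul_mulVec, el_mulVec, e, dotProduct_add, dotProduct_neg,
    dotProduct_smul, sub_dotProduct, smul_dotProduct, smul_eq_mul, hs.1, hs.2, s.two]
  module

theorem Hz.key (hn : NoTv P) (hz : z ≠ 0) (hζ : ζ ≠ 0) (h0 : ζ ⬝ᵥ z = 0) (h : Hz P z ζ X Ξ)
    (hs : Ad z ζ s) (ht : Ad z ζ t) (hu : Ad z ζ u) (ns : NS s t u) :
    Ξ ⬝ᵥ s.v * u.φ ⬝ᵥ X = 0 := by
  have he : ∀ {X' Ξ'}, Hz P z ζ X' Ξ' → Ξ ⬝ᵥ X' = Ξ' ⬝ᵥ X := fun h' => by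
    obtain ⟨h1, h2, k, e⟩ := h
    obtain ⟨h1', h2', k', e'⟩ := h'
    exact heis hn hz hζ h0 h1 h1' h2 h2' e e'
  have e1 := he ((h.mv ht).mv hs)
  have e2 := he ((h.mv hu).mv ht)
  have e3 := he ((h.mv hu).mv hs)
  have e4 := he (((h.mv hu).mv ht).mv hs)
  simp only [dotProduct_sub, dotProduct_smul, sub_dotProduct, smul_dotProduct,
    smul_eq_mul] at e1 e2 e3 e4
  refine (mul_eq_zero.1 ?_).resolve_right (sub_ne_zero.2 ns)
  simp only [cyc, g]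
  linear_combination (-(u.φ ⬝ᵥ s.v)) * (e4 - e1 - e2 - e3) -
    (u.φ ⬝ᵥ t.v * t.φ ⬝ᵥ s.v) * e3

theorem tv1 (hn : NoTv P) {v φ : ι → F} (h0 : φ ⬝ᵥ v = 0)
    (e : ∀ y, ((k : GL ι F) : Matrix ι ι F) *ᵥ y = y + (φ ⬝ᵥ y) • v) : k = 1 :=
  Subtype.ext (gl_ext fun y => by
    rcases hn v φ ⟨h0, k, k.2, e⟩ with rfl | rfl <;> simp [e])

namespace Fr

variable (f : Fr B Ψ z ζ) {p w p' w' : Fin 2 → F}
include f

theorem sh_Ψ (h : Sh B Ψ z ζ k R) : ∃ x : Fin 2 → F, ∀ y,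
    Ψ *ᵥ (((k : GL ι F) : Matrix ι ι F) *ᵥ y) = R *ᵥ (Ψ *ᵥ y) + (ζ ⬝ᵥ y) • x := by
  obtain ⟨x, ξ, c, e⟩ := h
  exact ⟨x, fun y => by
    simp only [e, mulVec_add, mulVec_sub, mulVec_smul, f.ΨB, f.Ψz]; module⟩

theorem sh_ζ (h : Sh B Ψ z ζ k R) (y : ι → F) :
    ζ ⬝ᵥ (((k : GL ι F) : Matrix ι ι F) *ᵥ y) = R.det * ζ ⬝ᵥ y := by
  obtain ⟨x, ξ, c, e⟩ := h
  simp only [e, dotProduct_add, dotProduct_sub, dotProduct_smul, f.ζB, f.ζz, smul_eq_mul]
  ring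

theorem sh_z (h : Sh B Ψ z ζ k R) : ((k : GL ι F) : Matrix ι ι F) *ᵥ z = R.det • z := by
  obtain ⟨x, ξ, c, e⟩ := h
  simp [e, f.Ψz, f.ζz]

theorem sh_mul (h : Sh B Ψ z ζ k R) (h' : Sh B Ψ z ζ k' R') : Sh B Ψ z ζ (k * k') (R * R') := by
  have h1 := f.sh_ζ h'
  obtain ⟨x, ξ, c, e⟩ := h
  obtain ⟨x', ξ', c', e'⟩ := h'
  have h2 : ∀ y, Ψ *ᵥ (((k' : GL ι F) : Matrix ι ι F) *ᵥ y) = R' *ᵥ (Ψ *ᵥ y) + (ζ ⬝ᵥ y) • x' :=
    fun y => by simp only [e', mulVec_add, mulVec_sub, mulVec_smul, f.ΨB, f.Ψz]; module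
  refine ⟨R *ᵥ x' + R'.det • x, ξ ᵥ* R' + R.det • ξ', ξ ⬝ᵥ x' + R'.det * c + R.det * c',
    fun y => ?_⟩
  rw [Subgroup.coe_mul, mul_mulVec, e, h1, h2, e']
  simp only [det_mul, ← mulVec_mulVec, mulVec_add, mulVec_smul, dotProduct_add, add_dotProduct,
    dotProduct_smul, smul_dotProduct, smul_eq_mul, ← dotProduct_mulVec]
  module

theorem Ψ_v (h : Mem B Ψ z ζ s p w) : Ψ *ᵥ s.v = p := by
  obtain ⟨⟨m, e⟩, -⟩ := h
  simp [e, mulVec_add, mulVec_smul, f.ΨB, f.Ψz]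

theorem ad (h : Mem B Ψ z ζ s p w) : Ad z ζ s := by
  obtain ⟨⟨m, e⟩, m', e'⟩ := h
  exact ⟨by simp [e', f.Ψz, f.ζz], by simp [e, f.ζB, f.ζz]⟩

theorem g_eq (h : Mem B Ψ z ζ s p w) (h' : Mem B Ψ z ζ t p' w') : g s t = w ⬝ᵥ p' := by
  obtain ⟨m, e⟩ := h.2
  rw [g, e, f.Ψ_v h', (f.ad h').2, mul_zero, add_zero]

theorem det_el (h : Mem B Ψ z ζ s p w) : (-1 + vecMulVec p w).det = -1 := by
  have := f.g_eq h h
  rw [g_self] at this
  simp [det_fin_two, vecMulVec_apply, dotProduct, Fin.sum_univ_two] at this ⊢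
  linear_combination this

theorem sh_el (h : Mem B Ψ z ζ s p w) : Sh B Ψ z ζ s.el (-1 + vecMulVec p w) := by
  have hd := f.det_el h
  obtain ⟨⟨m, e⟩, m', e'⟩ := h
  refine ⟨m' • p, m • w, m * m', fun y => ?_⟩
  rw [el_mulVec, hd, e', e, add_mulVec, neg_mulVec, one_mulVec, vecMulVec_mulVec]
  simp only [mulVec_add, mulVec_neg, mulVec_smul, smul_dotProduct, smul_eq_mul, op_smul_eq_smul]
  module

theorem ker (h2 : (2 : F) ≠ 0) (hn : NoTv P) (ns : NS a b c) (h4 : lam a b ≠ 4)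
    (ha : Mem B Ψ z ζ a ![1, 0] ![2, g a b]) (hb : Mem B Ψ z ζ b ![0, 1] ![g b a, 2])
    (hc : Mem B Ψ z ζ c p ![g c a, g c b]) (h : Sh B Ψ z ζ k 1) : k = 1 := by
  obtain ⟨x, ξ, d, e⟩ := h
  simp only [det_one, one_smul, one_mulVec, sub_add_cancel] at e
  by_cases h1 : ξ = 0 ∨ z = 0
  · exact tv1 hn (v := B *ᵥ x + d • z) (φ := ζ) (by simp [f.ζB, f.ζz]) fun y => by
      rcases h1 with rfl | rfl <;> simp [e]
  by_cases h3 : x = 0 ∨ ζ = 0
  · refine tv1 hn (v := z) (φ := d • ζ + ξ ᵥ* Ψ) (by simp [f.ζz, ← dotProduct_mulVec, f.Ψz])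
      fun y => ?_
    rw [e, add_dotProduct, smul_dotProduct, ← dotProduct_mulVec]
    rcases h3 with rfl | rfl
    · simp only [mulVec_zero, smul_eq_mul]; module
    · simp
  exfalso
  push Not at h1 h3
  have hz : Hz P z ζ (B *ᵥ x + d • z) (ξ ᵥ* Ψ) :=
    ⟨by simp [f.ζB, f.ζz], by simp [← dotProduct_mulVec, f.Ψz], k, fun y => by
      rw [e, dotProduct_mulVec]⟩
  have key : ∀ {s t u : Rl P} {p₁ w₁ p₂ w₂ p₃ w₃}, Mem B Ψ z ζ s p₁ w₁ → Mem B Ψ z ζ t p₂ w₂ →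
      Mem B Ψ z ζ u p₃ w₃ → NS s t u → ξ ⬝ᵥ p₁ * w₃ ⬝ᵥ x = 0 := fun hs ht hu ns => by
    have := hz.key hn h1.2 h3.2 f.ζz (f.ad hs) (f.ad ht) (f.ad hu) ns
    obtain ⟨m, e'⟩ := hu.2
    rwa [← dotProduct_mulVec, f.Ψ_v hs, e', hz.1, mul_zero, add_zero, mulVec_add, mulVec_smul,
      f.ΨB, f.Ψz, smul_zero, add_zero] at this
  have k1 := key ha hb hc ns
  have k2 := key hb ha hc ns.swap
  have k3 := key hb hc ha ns.rot
  have k4 := key hc ha hb ns.rot.rot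
  have k5 := key hc hb ha ns.rot.swap
  have k6 := key ha hc hb ns.swap.rot
  have g1 := f.g_eq ha hc
  have g2 := f.g_eq hb hc
  have g3 := f.g_eq hc hc
  have n1 : ¬ (ξ 0 = 0 ∧ ξ 1 = 0) := fun h => h1.1 (funext fun i => by fin_cases i <;> simp [h])
  have n2 : ¬ (x 0 = 0 ∧ x 1 = 0) := fun h => h3.1 (funext fun i => by fin_cases i <;> simp [h])
  simp only [NS, cyc, lam, g1, g2, g_self, dotProduct, Fin.sum_univ_two, cons_val_zero,
    cons_val_one, mul_one, mul_zero, add_zero, zero_add] at ns h4 k1 k2 k3 k4 k5 k6 g3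
  generalize g a b = g12 at *
  generalize g b a = g21 at *
  generalize g c a = g31 at *
  generalize g c b = g32 at *
  have n3 : ¬ (2 * x 0 + g12 * x 1 = 0 ∧ g21 * x 0 + 2 * x 1 = 0) := fun h => n2 (by grind)
  by_cases b : ξ 0 = 0
  · have b1 : ξ 1 ≠ 0 := fun h => n1 ⟨b, h⟩
    have b2 : p 1 = 0 := by grind
    have b3 : 2 * g32 = g12 * g31 := by grind
    grind
  · have b2 : p 0 = 0 := by grind
    have b3 : 2 * g31 = g21 * g32 := by grind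
    grind

end Fr

theorem scalar_aux {p w : Fin 2 → F} (h : g s s = w ⬝ᵥ p) :
    (-1 + vecMulVec p w) * (-1 + vecMulVec p w) = 1 := by
  rw [g_self] at h
  simp only [mul_add, add_mul, vecMulVec_mul_vecMulVec, ← h, vecMulVec_smul, neg_mul, mul_neg,
    one_mul, mul_one]
  module

theorem main (h2 : (2 : F) ≠ 0) (hn : NoTv P) (h : NS a b c) (h0 : gdet a b c = 0)
    (h4 : lam a b ≠ 4) : Pl a b c := by
  have hD : 4 - g a b * g b a ≠ 0 := sub_ne_zero.2 (Ne.symm h4)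
  obtain ⟨D, eD⟩ : ∃ D, D * (4 - g a b * g b a) = 1 := ⟨_, inv_mul_cancel₀ hD⟩
  obtain ⟨B, hB⟩ : ∃ B : Matrix ι (Fin 2) F, ∀ u, B *ᵥ u = u 0 • a.v + u 1 • b.v :=
    ⟨of fun i j => ![a.v, b.v] j i, fun u => funext fun i => by
      simp [mulVec, dotProduct, Fin.sum_univ_two, mul_comm]⟩
  obtain ⟨Ψ, hΨ⟩ : ∃ Ψ : Matrix (Fin 2) ι F, ∀ y, Ψ *ᵥ y =
      ![D * (2 * a.φ ⬝ᵥ y - g a b * b.φ ⬝ᵥ y), D * (2 * b.φ ⬝ᵥ y - g b a * a.φ ⬝ᵥ y)] :=
    ⟨of ![D • ((2 : F) • a.φ - g a b • b.φ), D • ((2 : F) • b.φ - g b a • a.φ)], fun y =>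
      funext fun i => by
        fin_cases i
        · change (D • ((2 : F) • a.φ - g a b • b.φ)) ⬝ᵥ y = _
          simp
        · change (D • ((2 : F) • b.φ - g b a • a.φ)) ⬝ᵥ y = _
          simp⟩
  have ΨB : ∀ u, Ψ *ᵥ (B *ᵥ u) = u := fun u => by
    rw [hΨ, hB]
    simp only [dotProduct_add, dotProduct_smul, smul_eq_mul, a.two, b.two, g] at eD ⊢
    funext i
    fin_cases i
    · simp; linear_combination u 0 * eD
    · simp; linear_combination u 1 * eD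
  obtain ⟨z, hz⟩ : ∃ z, z = c.v - B *ᵥ (Ψ *ᵥ c.v) := ⟨_, rfl⟩
  obtain ⟨ζ, hζ⟩ : ∃ ζ, ζ = c.φ - ![g c a, g c b] ᵥ* Ψ := ⟨_, rfl⟩
  have f : Fr B Ψ z ζ := by
    have Ψz : Ψ *ᵥ z = 0 := by rw [hz, mulVec_sub, ΨB, sub_self]
    refine ⟨ΨB, Ψz, fun u => ?_, ?_⟩
    · rw [hζ, sub_dotProduct, ← dotProduct_mulVec, ΨB, hB]
      simp [g, mul_comm, vecHead, vecTail]
    · rw [hζ, sub_dotProduct, ← dotProduct_mulVec, Ψz, hz, hB, hΨ]
      simp only [gdet, lam, cyc] at h0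
      simp only [dotProduct_zero, sub_zero, dotProduct_sub, dotProduct_add, dotProduct_smul,
        smul_eq_mul, c.two, cons_val_zero, cons_val_one, g] at h0 eD ⊢
      linear_combination D * h0 - 2 * eD
  have ha : Mem B Ψ z ζ a ![1, 0] ![2, g a b] :=
    ⟨⟨0, by simp [hB]⟩, 0, fun y => by simp [hΨ]; linear_combination -(a.φ ⬝ᵥ y) * eD⟩
  have hb : Mem B Ψ z ζ b ![0, 1] ![g b a, 2] :=
    ⟨⟨0, by simp [hB]⟩, 0, fun y => by simp [hΨ]; linear_combination -(b.φ ⬝ᵥ y) * eD⟩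
  have hc : Mem B Ψ z ζ c (Ψ *ᵥ c.v) ![g c a, g c b] :=
    ⟨⟨1, by simp [hz]⟩, 1, fun y => by rw [hζ, sub_dotProduct, dotProduct_mulVec]; ring⟩
  let Γ : Subgroup (GL (Fin 2) F) :=
    { carrier := {R | ∃ k : P, Sh B Ψ z ζ k (R : M2 F)}
      one_mem' := ⟨1, sh_one⟩
      mul_mem' := fun ⟨_, h⟩ ⟨_, h'⟩ => ⟨_, f.sh_mul h h'⟩
      inv_mem' := fun {R} ⟨k, h⟩ => by
        have : ∀ n : ℕ, Sh B Ψ z ζ (k ^ n) ((R ^ n : GL (Fin 2) F) : M2 F) := fun n => by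
          induction n with
          | zero => simpa using sh_one
          | succ n ih => rw [pow_succ, pow_succ]; exact f.sh_mul ih h
        obtain ⟨n, e⟩ : R⁻¹ ∈ Submonoid.powers R :=
          mem_powers_iff_mem_zpowers.2 (inv_mem (Subgroup.mem_zpowers R))
        exact ⟨_, (show R ^ n = R⁻¹ from e) ▸ this n⟩ }
  have mk : ∀ {s : Rl P} {p w}, Mem B Ψ z ζ s p w →
      ∃ r ∈ Γ, (r : M2 F) = -1 + vecMulVec p w := fun hs =>
    ⟨GeneralLinearGroup.mkOfDetNeZero _ (by rw [f.det_el hs]; simp), ⟨_, f.sh_el hs⟩, rfl⟩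
  obtain ⟨r, hr, er⟩ := mk ha
  obtain ⟨s, hs, es⟩ := mk hb
  obtain ⟨t, ht, et⟩ := mk hc
  obtain ⟨w, hw⟩ : -1 ∈ Γ := by
    refine neg_one_mem h2 hr hs ht (x := g a b) (y := g b a) ?_ ?_ (et ▸ f.det_el hc)
      (h.ne h2 hn) (h.swap.ne h2 hn) h4 fun e => h ?_
    · rw [er]; ext i j; fin_cases i <;> fin_cases j <;> simp [vecMulVec_apply]; norm_num
    · rw [es]; ext i j; fin_cases i <;> fin_cases j <;> simp [vecMulVec_apply]; norm_num
    · have e1 := congrArg (fun k : GL (Fin 2) F => (k : M2 F).trace) e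
      simp only [Units.val_mul, er, es, et] at e1
      simp only [cyc, f.g_eq ha hc, f.g_eq hb hc]
      simp [trace_fin_two, mul_apply, vecMulVec_apply, Fin.sum_univ_two, dotProduct] at e1 ⊢
      linear_combination -e1
  rw [Units.val_neg, Units.val_one] at hw
  have ww : w * w = 1 := f.ker h2 hn h h4 ha hb hc (by simpa using f.sh_mul hw hw)
  have key : ∀ {s : Rl P} {p v}, Mem B Ψ z ζ s p v →
      ((w : GL ι F) : Matrix ι ι F) *ᵥ s.v = -s.v ∧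
      ∀ y, s.φ ⬝ᵥ (((w : GL ι F) : Matrix ι ι F) *ᵥ y) = -(s.φ ⬝ᵥ y) := fun {s p v} hs => by
    have wi : w⁻¹ = w := inv_eq_of_mul_eq_one_right ww
    have e : w * s.el * (w * s.el) = 1 := f.ker h2 hn h h4 ha hb hc (by
      have := f.sh_mul (f.sh_mul hw (f.sh_el hs)) (f.sh_mul hw (f.sh_el hs))
      rwa [neg_one_mul, neg_mul_neg, scalar_aux (f.g_eq hs hs)] at this)
    obtain ⟨m, m0, e1, e2⟩ := same_of_el h2 (a := s) (b := cj w s) (by
      rw [el_cj, wi, ← s.el_inv, inv_eq_iff_mul_eq_one, s.el_inv]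
      exact mul_eq_one_comm.1 (by rw [← e]; group))
    change _ *ᵥ s.v = _ at e1
    change s.φ ᵥ* _ = _ at e2
    obtain ⟨x, ex⟩ := f.sh_Ψ hw
    have e3 := congrArg (v ⬝ᵥ Ψ *ᵥ ·) e1
    simp only [ex, (f.ad hs).2, mulVec_smul, f.Ψ_v hs, neg_mulVec, one_mulVec, zero_smul, add_zero,
      dotProduct_neg, dotProduct_smul, ← f.g_eq hs hs, g_self, smul_eq_mul] at e3
    obtain rfl : m = -1 := mul_right_cancel₀ h2 (by linear_combination -e3)
    refine ⟨by simpa using e1, fun y => ?_⟩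
    rw [← Subgroup.coe_inv, wi] at e2
    rw [dotProduct_mulVec, e2]
    simp
  have z0 : z = 0 := by
    have e := f.sh_z hw
    rw [det_neg, det_one] at e
    nth_rw 1 [hz] at e
    rw [hB, mulVec_sub, mulVec_add, mulVec_smul, mulVec_smul, (key ha).1, (key hb).1,
      (key hc).1] at e
    refine (smul_eq_zero.1 ?_).resolve_left h2
    rw [hB] at hz
    simp only [Fintype.card_fin] at e
    linear_combination (norm := module) hz - e
  have ζ0 : ζ = 0 := dotProduct_eq _ _ fun y => by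
    have e := f.sh_ζ hw y
    rw [det_neg, det_one] at e
    nth_rw 1 [hζ] at e
    rw [sub_dotProduct, ← dotProduct_mulVec, hΨ, (key ha).2, (key hb).2, (key hc).2] at e
    have e' := congrArg (· ⬝ᵥ y) hζ
    simp only [sub_dotProduct, ← dotProduct_mulVec, hΨ] at e'
    simp at e e' ⊢
    refine mul_left_cancel₀ h2 ?_
    linear_combination e' - e
  refine ⟨⟨_, _, by rw [← hB, ← sub_eq_zero, ← hz, z0]⟩,
    D * (2 * g c a - g b a * g c b), D * (2 * g c b - g a b * g c a), dotProduct_eq _ _ fun y => ?_⟩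
  rw [ζ0, eq_comm, sub_eq_zero] at hζ
  rw [hζ, ← dotProduct_mulVec, hΨ]
  simp
  ring

end RB

theorem pl_of_gdet (h2 : (2 : F) ≠ 0) (hn : NoTv P) (h : NS a b c) (h0 : gdet a b c = 0) :
    Pl a b c := by
  have key : ∀ {a b c : Rl P}, ¬ Same a b → Pl a c b → Pl a b c := by
    rintro a b c n ⟨⟨x, y, e⟩, x', y', e'⟩
    have hy : y ≠ 0 := fun k => n (same_of_par h2 hn (x := x) (by simpa [k] using e))
    have hy' : y' ≠ 0 := fun k => n (same_of_par' h2 hn (x := x') (by simpa [k] using e'))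
    exact ⟨⟨-(y⁻¹ * x), y⁻¹, by rw [e, smul_add, smul_smul, smul_smul, inv_mul_cancel₀ hy]; module⟩,
      -(y'⁻¹ * x'), y'⁻¹, by rw [e', smul_add, smul_smul, smul_smul, inv_mul_cancel₀ hy']; module⟩
  by_cases h1 : lam a b = 4
  swap
  · exact RB.main h2 hn h h0 h1
  by_cases h3 : lam a c = 4
  swap
  · exact key h.not_same (RB.main h2 hn h.swap.rot (by rwa [gdet_rot, gdet_swap]) h3)
  by_cases h4 : lam b c = 4
  swap
  · obtain ⟨⟨x, y, e⟩, x', y', e'⟩ :=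
      key h.swap.not_same (RB.main h2 hn h.rot (by rwa [gdet_rot]) h4)
    exact ⟨⟨y, x, by rw [e, add_comm]⟩, y', x', by rw [e', add_comm]⟩
  have e := cyc_mul a b c
  rw [gdet, h1, h3, h4] at h0
  rw [h1, h3, h4] at e
  exact absurd (sub_eq_zero.1 (pow_eq_zero_iff two_ne_zero |>.1 (by
    linear_combination (cyc a b c + cyc a c b + 16) * h0 - 4 * e))) h

end Cfsg.Agent.Cl.D5
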