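/-
Three transvections in `GL₃(F)`, characteristic two, no commuting involutions.
-/
import Mathlib
import Cfsg.Agent.Cl.D5Base
import Cfsg.Agent.Cl.D3Two
import Cfsg.Agent.Blk.BrauerSuzuki
import Cfsg.Agent.S0205
import Cfsg.Agent.GT.MinNormal

set_option autoImplicit false

namespace Cfsg.Agent.Cl.D5.TI

open Matrix Cfsg.Geo Cfsg.Agent.Cl.Max Cfsg.Agent.Cl.Mx
open scoped MatrixGroups commutatorElement

variable {F : Type*} [Field F]

/-- The transvection with centre the `i`-th basis vector and axis the `i`-th row of `Γ`. -/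
def tm (Γ : Matrix (Fin 3) (Fin 3) F) (i : Fin 3) : Matrix (Fin 3) (Fin 3) F :=
  1 + vecMulVec (Pi.single i 1) (Γ i)

variable {a b c d e f : F}

theorem tm0 : tm !![0, a, b; c, 0, d; e, f, 0] 0 = !![1, a, b; 0, 1, 0; 0, 0, 1] := by
  ext i j; fin_cases i <;> fin_cases j <;> simp [tm, vecMulVec_apply]

theorem tm1 : tm !![0, a, b; c, 0, d; e, f, 0] 1 = !![1, 0, 0; c, 1, d; 0, 0, 1] := by
  ext i j; fin_cases i <;> fin_cases j <;> simp [tm, vecMulVec_apply]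

theorem tm2 : tm !![0, a, b; c, 0, d; e, f, 0] 2 = !![1, 0, 0; 0, 1, 0; e, f, 1] := by
  ext i j; fin_cases i <;> fin_cases j <;> simp [tm, vecMulVec_apply]

omit [Field F] in
theorem entries {A B : Matrix (Fin 3) (Fin 3) F} (h : A = B) :
    (A 0 0 = B 0 0 ∧ A 0 1 = B 0 1 ∧ A 0 2 = B 0 2) ∧ (A 1 0 = B 1 0 ∧ A 1 1 = B 1 1 ∧ A 1 2 = B 1 2) ∧
      (A 2 0 = B 2 0 ∧ A 2 1 = B 2 1 ∧ A 2 2 = B 2 2) := by simp [h]

theorem det_zero0 (h2 : (2 : F) = 0) (ha : a ≠ 0) {n : Matrix (Fin 3) (Fin 3) F}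
    (h : n * !![1, a, b; 0, 1, 0; 0, 0, 1] = !![1, a, b; 0, 1, 0; 0, 0, 1] * n)
    (ht : n.trace = 0) : n.det = 0 := by
  have := entries h
  simp [mul_apply, Fin.sum_univ_three] at this
  rw [trace_fin_three] at ht
  rw [det_fin_three]
  grind

theorem det_zero1 (h2 : (2 : F) = 0) (hc : c ≠ 0) {n : Matrix (Fin 3) (Fin 3) F}
    (h : n * !![1, 0, 0; c, 1, d; 0, 0, 1] = !![1, 0, 0; c, 1, d; 0, 0, 1] * n)
    (ht : n.trace = 0) : n.det = 0 := by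
  have := entries h
  simp [mul_apply, Fin.sum_univ_three] at this
  rw [trace_fin_three] at ht
  rw [det_fin_three]
  grind

theorem scalar_of_comm (ha : a ≠ 0) (hb : b ≠ 0) (hc : c ≠ 0) (he : e ≠ 0)
    {n : Matrix (Fin 3) (Fin 3) F}
    (h0 : n * !![1, a, b; 0, 1, 0; 0, 0, 1] = !![1, a, b; 0, 1, 0; 0, 0, 1] * n)
    (h1 : n * !![1, 0, 0; c, 1, d; 0, 0, 1] = !![1, 0, 0; c, 1, d; 0, 0, 1] * n)
    (h2 : n * !![1, 0, 0; 0, 1, 0; e, f, 1] = !![1, 0, 0; 0, 1, 0; e, f, 1] * n) :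
    n = n 0 0 • (1 : Matrix (Fin 3) (Fin 3) F) := by
  have k0 := entries h0
  have k1 := entries h1
  have k2 := entries h2
  simp [mul_apply, Fin.sum_univ_three, ha, hb, hc, he] at k0 k1 k2
  ext i j
  fin_cases i <;> fin_cases j <;> simp <;> grind

/-- A transvection with at most one non-zero entry in each row. -/
theorem mono (h2 : (2 : F) = 0) {x y : Fin 3 → F} (h0 : y ⬝ᵥ x = 0) (hx : x ≠ 0) (hy : y ≠ 0)
    (h : ∀ i j k, j ≠ k → (1 + vecMulVec x y) i j = 0 ∨ (1 + vecMulVec x y) i k = 0) :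
    (x 0 = 0 ∧ y 0 = 0 ∧ x 1 * y 1 = 1 ∧ x 2 * y 2 = 1) ∨
      (x 1 = 0 ∧ y 1 = 0 ∧ x 0 * y 0 = 1 ∧ x 2 * y 2 = 1) ∨
      (x 2 = 0 ∧ y 2 = 0 ∧ x 0 * y 0 = 1 ∧ x 1 * y 1 = 1) := by
  have hx' : x 0 ≠ 0 ∨ x 1 ≠ 0 ∨ x 2 ≠ 0 := by
    by_contra e
    push Not at e
    exact hx (funext fun i => by fin_cases i <;> simp [e])
  have hy' : y 0 ≠ 0 ∨ y 1 ≠ 0 ∨ y 2 ≠ 0 := by
    by_contra e
    push Not at e
    exact hy (funext fun i => by fin_cases i <;> simp [e])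
  have k : ∀ i, ((1 + vecMulVec x y) i 0 = 0 ∨ (1 + vecMulVec x y) i 1 = 0) ∧
      ((1 + vecMulVec x y) i 0 = 0 ∨ (1 + vecMulVec x y) i 2 = 0) ∧
      ((1 + vecMulVec x y) i 1 = 0 ∨ (1 + vecMulVec x y) i 2 = 0) := fun i =>
    ⟨h i 0 1 (by decide), h i 0 2 (by decide), h i 1 2 (by decide)⟩
  have k0 := k 0
  have k1 := k 1
  have k2 := k 2
  simp [vecMulVec_apply, one_apply] at k0 k1 k2
  simp only [dotProduct, Fin.sum_univ_three] at h0
  generalize x 0 = x0, x 1 = x1, x 2 = x2, y 0 = y0, y 1 = y1, y 2 = y2 at *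
  by_cases a0 : x0 = 0 <;> by_cases a1 : x1 = 0 <;> by_cases a2 : x2 = 0 <;>
    by_cases b0 : y0 = 0 <;> by_cases b1 : y1 = 0 <;> by_cases b2 : y2 = 0 <;>
    simp_all <;> grind

theorem fin_mono (h2 : (2 : F) = 0) {x₁ y₁ x₂ y₂ x₃ y₃ : Fin 3 → F}
    (h₁ : (x₁ 0 = 0 ∧ y₁ 0 = 0 ∧ x₁ 1 * y₁ 1 = 1 ∧ x₁ 2 * y₁ 2 = 1) ∨
      (x₁ 1 = 0 ∧ y₁ 1 = 0 ∧ x₁ 0 * y₁ 0 = 1 ∧ x₁ 2 * y₁ 2 = 1) ∨
      (x₁ 2 = 0 ∧ y₁ 2 = 0 ∧ x₁ 0 * y₁ 0 = 1 ∧ x₁ 1 * y₁ 1 = 1))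
    (h₂ : (x₂ 0 = 0 ∧ y₂ 0 = 0 ∧ x₂ 1 * y₂ 1 = 1 ∧ x₂ 2 * y₂ 2 = 1) ∨
      (x₂ 1 = 0 ∧ y₂ 1 = 0 ∧ x₂ 0 * y₂ 0 = 1 ∧ x₂ 2 * y₂ 2 = 1) ∨
      (x₂ 2 = 0 ∧ y₂ 2 = 0 ∧ x₂ 0 * y₂ 0 = 1 ∧ x₂ 1 * y₂ 1 = 1))
    (h₃ : (x₃ 0 = 0 ∧ y₃ 0 = 0 ∧ x₃ 1 * y₃ 1 = 1 ∧ x₃ 2 * y₃ 2 = 1) ∨
      (x₃ 1 = 0 ∧ y₃ 1 = 0 ∧ x₃ 0 * y₃ 0 = 1 ∧ x₃ 2 * y₃ 2 = 1) ∨
      (x₃ 2 = 0 ∧ y₃ 2 = 0 ∧ x₃ 0 * y₃ 0 = 1 ∧ x₃ 1 * y₃ 1 = 1))
    (ha : y₁ ⬝ᵥ x₂ = a) (hb : y₁ ⬝ᵥ x₃ = b) (hc : y₂ ⬝ᵥ x₁ = c) (hd : y₂ ⬝ᵥ x₃ = d)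
    (he : y₃ ⬝ᵥ x₁ = e) (hf : y₃ ⬝ᵥ x₂ = f) (hdet : a * d * e + b * f * c ≠ 0) (h12 : a * c ≠ 1) :
    b * e = 1 ∧ d * f = 1 ∧ a * d * e + b * f * c = a * c := by
  simp only [dotProduct, Fin.sum_univ_three] at ha hb hc hd he hf
  subst ha hb hc hd he hf
  rcases h₁ with ⟨p1, p2, p3, p4⟩ | ⟨p1, p2, p3, p4⟩ | ⟨p1, p2, p3, p4⟩ <;>
  rcases h₂ with ⟨q1, q2, q3, q4⟩ | ⟨q1, q2, q3, q4⟩ | ⟨q1, q2, q3, q4⟩ <;>
  rcases h₃ with ⟨r1, r2, r3, r4⟩ | ⟨r1, r2, r3, r4⟩ | ⟨r1, r2, r3, r4⟩ <;>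
  simp only [p1, p2, q1, q2, r1, r2, mul_zero, zero_mul, add_zero, zero_add] at hdet h12 ⊢ <;>
  grind

theorem cube_of_conj {g n z : GL (Fin 3) F} (hz : z ∈ scalars (Fin 3) F)
    (h : g * n * g⁻¹ = z * n) : ∃ ω : Fˣ, ω ^ 3 = 1 ∧ sc (Fin 3) ω = z := by
  obtain ⟨ω, rfl⟩ := (mem_scalars_iff_sc z).1 hz
  refine ⟨ω, Units.ext ?_, rfl⟩
  have := congrArg GeneralLinearGroup.det h
  rw [map_mul, map_mul, map_mul, map_inv, mul_inv_cancel_comm, right_eq_mul] at this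
  simpa [coe_sc] using congrArg Units.val this

theorem cube_comm {G : Type*} [Group G] {s n z : G} (e : s * n * s⁻¹ = z * n) (hz : Commute z s)
    (h3 : z ^ 3 = 1) : Commute (s ^ 3) n := by
  have h1 : s ^ 3 * n * (s ^ 3)⁻¹ = s * (s * (s * n * s⁻¹) * s⁻¹) * s⁻¹ := by
    rw [pow_three]; group
  have step : ∀ w, Commute w s → s * (w * n) * s⁻¹ = w * z * n := fun w hw => by
    rw [← mul_assoc, ← hw.eq, mul_assoc w, mul_assoc w, e, mul_assoc]
  rw [e, step z hz, step _ (hz.mul_left hz), ← pow_three', h3, one_mul,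
    mul_inv_eq_iff_eq_mul] at h1
  exact h1

theorem dist (h2 : (2 : F) = 0) {x y z x' y' z' : F} (q0 : x * x' = 1) (q1 : y * y' = 1)
    (q2 : z * z' = 1) (p2 : x + y + z = x' + y' + z') (p3 : x * y * z = 1) (h : x = y) :
    x = 1 ∧ y = 1 ∧ z = 1 := by
  have h1 : (x - 1) ^ 4 = 0 := by grind
  have h3 := pow_eq_zero_iff (by norm_num) |>.1 h1
  grind

section Core

variable {X : Subgroup (GL (Fin 3) F)} {t : Fin 3 → X} {N : Subgroup X}

/-- The scalars of `X`. -/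
abbrev Zs (X : Subgroup (GL (Fin 3) F)) : Subgroup X := (scalars (Fin 3) F).subgroupOf X

theorem Zs_comm {z : X} (hz : z ∈ Zs X) (g : X) : Commute z g :=
  Subtype.ext (mul_comm_of_mem_scalars hz g)

theorem cm {g h : X} (e : Commute g h) :
    ((g : GL (Fin 3) F) : Matrix (Fin 3) (Fin 3) F) * ((h : GL (Fin 3) F) : Matrix _ _ F) =
      ((h : GL (Fin 3) F) : Matrix _ _ F) * ((g : GL (Fin 3) F) : Matrix _ _ F) := coe_commute e

theorem nonab (h2 : (2 : F) = 0) [hN : N.Normal] (hodd : Odd (Nat.card N)) (hN' : ⁅N, N⁆ ≤ Zs X)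
    (hZ : N ⊓ Subgroup.centralizer N ≤ Zs X) {m n : X} (hm : m ∈ N) (hn : n ∈ N)
    (hmn : ¬ Commute m n)
    (ht : ∀ i, ((t i : GL (Fin 3) F) : Matrix _ _ F) = tm !![0, a, b; c, 0, d; e, f, 0] i)
    (hsq : ∀ i, t i * t i = 1) (ha : a ≠ 0) (hc : c ≠ 0) : a * c = 1 := by
  have h3' : (3 : F) ≠ 0 := fun h => one_ne_zero (α := F) (by linear_combination h - h2)
  have cz : ∀ {m n : X}, m ∈ N → n ∈ N → ∃ z ∈ Zs X, z ∈ N ∧ m * n * m⁻¹ = z * n :=
    fun {m n} hm hn => ⟨⁅m, n⁆, hN' (Subgroup.commutator_mem_commutator hm hn),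
      Subgroup.commutator_le_left N N (Subgroup.commutator_mem_commutator hm hn),
      by rw [commutatorElement_def]; group⟩
  have K1 : ∀ n ∈ N, ∀ i, i = 0 ∨ i = 1 → Commute n (t i) → n ∈ Zs X := fun n hn i hi hc' => by
    by_contra h0
    obtain ⟨m, hm, h1⟩ : ∃ m ∈ N, m * n ≠ n * m := by
      by_contra h1
      push Not at h1
      exact h0 (hZ ⟨hn, h1⟩)
    obtain ⟨z, hz, -, e⟩ := cz hm hn
    obtain ⟨ω, -, hω⟩ := coe_eq_smul_of_mem_scalars (g := (z : GL (Fin 3) F)) hz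
    have e1 := trace_eq_of_isConj (isConj_iff.2 ⟨m, e⟩)
    rw [Subgroup.coe_mul, Units.val_mul, hω, smul_mul_assoc, one_mul, trace_smul, smul_eq_mul] at e1
    have h3 : ω ≠ 1 := fun h3 => h1 (by
      rw [show z = 1 from sub_ext (by simp [hω, h3]), one_mul, mul_inv_eq_iff_eq_mul] at e
      exact e)
    have h4 : ((n : GL (Fin 3) F) : Matrix (Fin 3) (Fin 3) F).trace = 0 := by grind
    have h5 := cm hc'
    refine (Matrix.isUnits_det_units (n : GL (Fin 3) F)).ne_zero ?_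
    rcases hi with rfl | rfl
    · rw [ht, tm0] at h5; exact det_zero0 h2 ha h5 h4
    · rw [ht, tm1] at h5; exact det_zero1 h2 hc h5 h4
  have cc : ∀ i x, t i * (t i * x * (t i)⁻¹) * (t i)⁻¹ = x := fun i x => by
    rw [show t i * (t i * x * (t i)⁻¹) * (t i)⁻¹ = t i * t i * x * (t i * t i)⁻¹ by group, hsq]
    simp
  have K2 : ∀ n ∈ N, ∀ i, i = 0 ∨ i = 1 → n * (t i * n * (t i)⁻¹) ∈ Zs X := fun n hn i hi => by
    have h1 := hN.conj_mem n hn (t i)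
    refine K1 _ (mul_mem hn h1) i hi ?_
    obtain ⟨z, hz, hzN, e⟩ := cz h1 hn
    have e1 : t i * (n * (t i * n * (t i)⁻¹)) * (t i)⁻¹ = z * (n * (t i * n * (t i)⁻¹)) := by
      rw [← mul_assoc z, ← e, inv_mul_cancel_right]
      nth_rw 4 [← cc i n]
      group
    have e2 := cc i (n * (t i * n * (t i)⁻¹))
    rw [e1, ← mul_assoc (t i), ← (Zs_comm hz (t i)).eq, mul_assoc z, mul_assoc z, e1, ← mul_assoc z,
      mul_eq_right] at e2
    have e3 : z = 1 := by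
      have h3 : orderOf z ∣ 2 := orderOf_dvd_of_pow_eq_one (by rw [pow_two, e2])
      exact orderOf_eq_one_iff.1 (Nat.eq_one_of_dvd_coprimes
        (Nat.coprime_two_left.2 hodd) h3 (N.orderOf_dvd_natCard hzN))
    rw [e3, one_mul, mul_inv_eq_iff_eq_mul] at e1
    exact e1.symm
  have K3 : ∀ n ∈ N, Commute ((t 0 * t 1) ^ 3) n := fun n hn => by
    have z0 := K2 n hn 0 (.inl rfl)
    have z1 := K2 n hn 1 (.inr rfl)
    set p := n * (t 0 * n * (t 0)⁻¹) with hp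
    set q := n * (t 1 * n * (t 1)⁻¹) with hq
    have e : t 0 * t 1 * n * (t 0 * t 1)⁻¹ = p⁻¹ * q * n := by
      calc _ = t 0 * n⁻¹ * (q * (t 0)⁻¹) := by rw [hq]; group
        _ = p⁻¹ * (n * q) := by rw [(Zs_comm z1 (t 0)⁻¹).eq, hp]; group
        _ = _ := by rw [mul_assoc p⁻¹, (Zs_comm z1 n).eq]
    have hz := mul_mem (inv_mem z0) z1
    set z := p⁻¹ * q
    set s := t 0 * t 1
    obtain ⟨ω, h3, hω⟩ := cube_of_conj (z := (z : GL (Fin 3) F)) hz (congrArg Subtype.val e)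
    have h4 : z ^ 3 = 1 := Subtype.ext (by rw [Subgroup.coe_pow, ← hω, ← map_pow, h3, map_one]; rfl)
    exact cube_comm e (Zs_comm hz s) h4
  obtain ⟨z, hz, -, e⟩ := cz hm hn
  obtain ⟨ω, h3, hω⟩ := cube_of_conj (z := (z : GL (Fin 3) F)) hz (congrArg Subtype.val e)
  have h1 : ω ≠ 1 := fun h1 => hmn (by
    rw [show z = 1 from Subtype.ext (by rw [← hω, h1, map_one]; rfl), one_mul,
      mul_inv_eq_iff_eq_mul] at e
    exact e)
  have h4 := D3.scalar_of_pair h3' h1 h3 (a := m) (b := n)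
    (by rw [hω]; exact congrArg Subtype.val e) (y := ((t 0 * t 1) ^ 3 : X))
    (congrArg Subtype.val (K3 m hm)) (congrArg Subtype.val (K3 n hn))
  obtain ⟨k, -, hk⟩ := coe_eq_smul_of_mem_scalars h4
  rw [coe_coe_pow, Subgroup.coe_mul, Units.val_mul, ht, ht, tm0, tm1] at hk
  have := congrFun (congrFun hk 1) 0
  simp [pow_succ, mul_apply, Fin.sum_univ_three] at this
  grind

theorem abel [Finite F] (h2 : (2 : F) = 0) [hN : N.Normal] (hodd : Odd (Nat.card N))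
    (hab : ∀ m ∈ N, ∀ n ∈ N, Commute m n) {n : X} (hn : n ∈ N) {i : Fin 3}
    (hni : ¬ Commute n (t i))
    (ht : ∀ i, ((t i : GL (Fin 3) F) : Matrix _ _ F) = tm !![0, a, b; c, 0, d; e, f, 0] i)
    (hsq : ∀ i, t i * t i = 1) (ha : a ≠ 0) (hc : c ≠ 0) (he : e ≠ 0)
    (hdet : a * d * e + b * f * c ≠ 0) (h12 : a * c ≠ 1) :
    b * e = 1 ∧ d * f = 1 ∧ a * d * e + b * f * c = a * c := by
  let K := AlgebraicClosure F
  let j := algebraMap F K
  have k2 : (2 : K) = 0 := by rw [← map_ofNat j, h2, map_zero]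
  have : NeZero ((Nat.card N : ℕ) : K) := ⟨by
    obtain ⟨k, hk⟩ := hodd
    rw [hk, Nat.cast_add, Nat.cast_mul, Nat.cast_ofNat, k2]; simp⟩
  have : NeZero (Nat.card N) := ⟨Nat.card_pos.ne'⟩
  obtain ⟨ζ, hζ⟩ := HasEnoughRootsOfUnity.exists_primitiveRoot K (Nat.card N)
  let ψ : X →* Matrix (Fin 3) (Fin 3) K :=
    j.mapMatrix.toMonoidHom.comp ((Units.coeHom _).comp X.subtype)
  obtain ⟨Q, δ, hδ⟩ := Cls.exists_hom_rootsOfUnity (ψ.comp N.subtype)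
    (fun x y => Subtype.ext (hab _ x.2 _ y.2)) Nat.card_pos hζ fun _ => pow_card_eq_one'
  let ρ : X →* Matrix (Fin 3) (Fin 3) K :=
    { toFun x := (Q⁻¹).val * ψ x * Q.val
      map_one' := by simp
      map_mul' x y := by simp only [map_mul, mul_assoc, Units.mul_inv_cancel_left] }
  have hD : ∀ x ∈ N, ∃ D : Fin 3 → K, ρ x = diagonal D := fun x hx => ⟨_, hδ ⟨x, hx⟩⟩
  have ti : (t i)⁻¹ = t i := inv_eq_of_mul_eq_one_right (hsq i)
  set r := n * (t i * n⁻¹ * (t i)⁻¹) with hr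
  have hrN : r ∈ N := mul_mem hn (hN.conj_mem _ (inv_mem hn) _)
  obtain ⟨D, eD⟩ := hD r hrN
  obtain ⟨D', eD'⟩ := hD r⁻¹ (inv_mem hrN)
  have p1 : ∀ k, D k * D' k = 1 := fun k => by
    have := congrFun (congrFun (map_mul ρ r r⁻¹) k) k
    rw [mul_inv_cancel, map_one, eD, eD', diagonal_mul_diagonal] at this
    simpa using this.symm
  have p2 : D 0 + D 1 + D 2 = D' 0 + D' 1 + D' 2 := by
    have e1 : t i * r * t i = r⁻¹ := by
      rw [hr, ti]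
      simp only [_root_.mul_inv_rev, ti, inv_inv, mul_assoc, hsq, mul_one]
    have := congrArg (fun x => (ρ x).trace) e1
    simp only [map_mul] at this
    rw [trace_mul_cycle, ← map_mul, hsq, map_one, one_mul, eD, eD'] at this
    simpa [Fin.sum_univ_three] using this
  have p3 : D 0 * D 1 * D 2 = 1 := by
    let δ : X →* Kˣ := (detMonoidHom.comp ρ).toHomUnits
    have : δ r = 1 := by
      rw [hr]; simp only [map_mul, map_inv]; rw [mul_inv_cancel_comm, mul_inv_cancel]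
    have := congrArg Units.val this
    simpa [δ, eD, Fin.prod_univ_three] using this
  have p4 : ¬ (D 0 = 1 ∧ D 1 = 1 ∧ D 2 = 1) := fun h => hni (by
    have e1 : ρ r = 1 := by
      rw [eD, ← diagonal_one]
      exact congrArg _ (funext fun k => by fin_cases k <;> simp [h])
    have e2 : ψ r = 1 := by
      change (Q⁻¹).val * ψ r * Q.val = 1 at e1
      rwa [mul_assoc, Units.inv_mul_eq_one, ← Units.mul_inv_eq_iff_eq_mul, Units.mul_inv,
        eq_comm] at e1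
    have e3 : r = 1 := sub_ext (Matrix.map_injective j.injective (e2.trans (by simp)))
    rw [hr, ← mul_assoc, ← mul_assoc, mul_inv_eq_one, mul_inv_eq_iff_eq_mul] at e3
    exact e3)
  have p5 : Function.Injective D := by
    have q0 := p1 0
    have q1 := p1 1
    have q2 := p1 2
    have : D 0 ≠ D 1 ∧ D 0 ≠ D 2 ∧ D 1 ≠ D 2 := by
      refine ⟨fun h => p4 (dist k2 q0 q1 q2 p2 p3 h), fun h => p4 ?_, fun h => p4 ?_⟩
      · have := dist k2 q0 q2 q1 (by linear_combination p2) (by linear_combination p3) h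
        tauto
      · have := dist k2 q1 q2 q0 (by linear_combination p2) (by linear_combination p3) h
        tauto
    intro k l h
    fin_cases k <;> fin_cases l <;> simp_all
  let Γ : Matrix (Fin 3) (Fin 3) F := !![0, a, b; c, 0, d; e, f, 0]
  let x : Fin 3 → Fin 3 → K := fun k => (Q⁻¹).val *ᵥ Pi.single k 1
  let y : Fin 3 → Fin 3 → K := fun k => (j ∘ Γ k) ᵥ* Q.val
  have dot : ∀ k l, y k ⬝ᵥ x l = j (Γ k l) := fun k l => by
    simp only [x, y]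
    rw [← dotProduct_mulVec, mulVec_mulVec, Units.mul_inv, one_mulVec]
    simp
  have et : ∀ k, ρ (t k) = 1 + vecMulVec (x k) (y k) := fun k => by
    have : ψ (t k) = 1 + vecMulVec (Pi.single k 1) (j ∘ Γ k) := by
      change ((t k : GL (Fin 3) F) : Matrix (Fin 3) (Fin 3) F).map j = _
      rw [ht]
      ext u v
      simp only [tm, Γ, map_apply, Matrix.add_apply, one_apply, vecMulVec_apply, Pi.single_apply,
        Function.comp]
      split_ifs <;> simp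
    change (Q⁻¹).val * ψ (t k) * Q.val = _
    rw [this, mul_add, add_mul, mul_one, Units.inv_mul, mul_vecMulVec, vecMulVec_mul]
  have ne : ∀ k, ∃ l l', Γ k l ≠ 0 ∧ Γ l' k ≠ 0 := fun k => by
    have hb : d ≠ 0 ∨ b ≠ 0 := by grind
    fin_cases k
    · exact ⟨1, 1, ha, hc⟩
    · exact ⟨0, 0, hc, ha⟩
    · exact hb.elim (fun h => ⟨0, 1, he, h⟩) fun h => ⟨0, 0, he, h⟩
  have mk := fun k => mono k2 (x := x k) (y := y k)
    (by rw [dot]; fin_cases k <;> simp [Γ])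
    (fun h => by
      obtain ⟨-, l, -, h1⟩ := ne k
      exact h1 (j.injective (by rw [← dot, h]; simp)))
    (fun h => by
      obtain ⟨l, -, h1, -⟩ := ne k
      exact h1 (j.injective (by rw [← dot, h]; simp)))
    (fun u v w hvw => by
      obtain ⟨E, eE⟩ := hD _ (hN.conj_mem r hrN (t k))
      have e1 : ρ (t k) * diagonal D = diagonal E * ρ (t k) := by
        rw [← eD, ← eE, ← map_mul, ← map_mul, inv_mul_cancel_right]
      have e2 := congrFun (congrFun e1 u) v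
      have e3 := congrFun (congrFun e1 u) w
      rw [mul_diagonal, diagonal_mul, et] at e2 e3
      by_contra h
      push Not at h
      rw [mul_comm] at e2 e3
      exact p5.ne hvw ((mul_right_cancel₀ h.1 e2).trans (mul_right_cancel₀ h.2 e3).symm))
  have := fin_mono k2 (mk 0) (mk 1) (mk 2) (dot 0 1) (dot 0 2) (dot 1 0) (dot 1 2) (dot 2 0)
    (dot 2 1) (by simp only [← map_mul, ← map_add, _root_.map_ne_zero]; exact hdet)
    (fun h => h12 (j.injective (by rw [map_mul, map_one]; exact h)))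
  refine ⟨j.injective ?_, j.injective ?_, j.injective ?_⟩
  · rw [map_mul, map_one]; exact this.1
  · rw [map_mul, map_one]; exact this.2.1
  · simp only [map_mul, map_add]; exact this.2.2

theorem core [Finite F] (h2 : (2 : F) = 0)
    (hI : ∀ s t : X, orderOf s = 2 → orderOf t = 2 → Commute s t → s = t)
    (ht : ∀ i, ((t i : GL (Fin 3) F) : Matrix _ _ F) = tm !![0, a, b; c, 0, d; e, f, 0] i)
    (ha : a ≠ 0) (hb : b ≠ 0) (hc : c ≠ 0) (he : e ≠ 0)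
    (hdet : a * d * e + b * f * c ≠ 0) (h12 : a * c ≠ 1) :
    b * e = 1 ∧ d * f = 1 ∧ a * d * e + b * f * c = a * c := by
  have hsq : ∀ i, t i * t i = 1 := fun i => sub_ext (by
    rw [Subgroup.coe_mul, Units.val_mul, ht]
    ext u v
    fin_cases i <;> simp only [Fin.reduceFinMk, tm0, tm1, tm2] <;> fin_cases u <;> fin_cases v <;>
      simp [mul_apply, Fin.sum_univ_three] <;> grind)
  have h0 : orderOf (t 0) = 2 := orderOf_eq_prime (by rw [pow_two, hsq]) fun h => by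
    have := ht 0
    rw [h, tm0] at this
    exact ha (by simpa using (congrFun (congrFun this 0) 1).symm)
  have hO : ¬ oddCore X ≤ Zs X := fun h => by
    have h1 := h (Blk.BS.commutator_mem_oddCore hI h0 (t 1))
    rw [inv_eq_of_mul_eq_one_right (hsq 0), inv_eq_of_mul_eq_one_right (hsq 1)] at h1
    obtain ⟨k, -, hk⟩ := coe_eq_smul_of_mem_scalars
      (g := ((t 0 * t 1 * t 0 * t 1 : X) : GL (Fin 3) F)) h1
    simp only [Subgroup.coe_mul, Units.val_mul, ht, tm0, tm1] at hk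
    have := congrFun (congrFun hk 1) 0
    simp [mul_apply, Fin.sum_univ_three] at this
    grind
  obtain ⟨N, ⟨hN, hNO, hNZ⟩, hmin⟩ := exists_minimal_of_wellFoundedLT
    (fun N : Subgroup X => N.Normal ∧ N ≤ oddCore X ∧ ¬ N ≤ Zs X) ⟨_, inferInstance, le_rfl, hO⟩
  have hlt : ∀ M : Subgroup X, M.Normal → M < N → M ≤ Zs X := fun M hM h => by
    by_contra h1
    exact h.not_ge (hmin ⟨hM, h.le.trans hNO, h1⟩ h.le)
  have hodd : Odd (Nat.card N) := GT.odd_card_oddCore.of_dvd_nat (Subgroup.card_dvd_of_le hNO)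
  by_cases hab : ∀ m ∈ N, ∀ n ∈ N, Commute m n
  · obtain ⟨n, hn, h1⟩ := SetLike.not_le_iff_exists.1 hNZ
    obtain ⟨i, hi⟩ : ∃ i, ¬ Commute n (t i) := by
      by_contra h3
      push Not at h3
      have k0 := cm (h3 0)
      have k1 := cm (h3 1)
      have k2 := cm (h3 2)
      rw [ht] at k0 k1 k2
      rw [tm0] at k0
      rw [tm1] at k1
      rw [tm2] at k2
      exact h1 (mem_scalars_of_eq_smul (scalar_of_comm ha hb hc he k0 k1 k2))
    exact abel h2 hodd hab hn hi ht hsq ha hc he hdet h12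
  push Not at hab
  obtain ⟨m, hm, n, hn, hmn⟩ := hab
  have := S0205.result hodd
  refine (h12 (nonab h2 hodd (hlt _ inferInstance ?_) (hlt _ inferInstance ?_) hm hn hmn ht hsq ha
    hc)).elim
  · exact GT.commutator_lt_of_isSolvable fun h => hNZ (h ▸ bot_le)
  · exact lt_of_le_of_ne inf_le_left fun h => hmn ((inf_eq_left.1 h hn) m hm)

end Core

end Cfsg.Agent.Cl.D5.TI
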