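/-
Three negatives of reflections in `SL₃(F)` normalising a subgroup that is abelian modulo scalars.
-/
import Mathlib
import Cfsg.Agent.Cl.D5RDefs
import Cfsg.Agent.Cl.D5TIa

set_option autoImplicit false

namespace Cfsg.Agent.Cl.D5

open Matrix Cfsg.Geo Cfsg.Agent.Cl.Max Cfsg.Agent.Cl.Mx Rl
open scoped MatrixGroups commutatorElement

namespace RCa

open TI

section Lin

variable {K : Type*} [Field K]

theorem irr {x ξ : Fin 3 → Fin 3 → K} (hne : ∀ i j, ξ i ⬝ᵥ x j ≠ 0)
    (hdet : (of fun i j => ξ i ⬝ᵥ x j).det ≠ 0) (W : Submodule K (Fin 3 → K))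
    (hW : ∀ i, ∀ w ∈ W, (ξ i ⬝ᵥ w) • x i ∈ W) : W = ⊥ ∨ W = ⊤ := by
  have e : (of fun i j => ξ i ⬝ᵥ x j) = of ξ * (of x)ᵀ := by
    ext i j; simp [mul_apply, dotProduct]
  rw [e, det_mul, mul_ne_zero_iff] at hdet
  by_cases h : ∀ w ∈ W, ∀ i, ξ i ⬝ᵥ w = 0
  · refine .inl (eq_bot_iff.2 fun w hw => ?_)
    by_contra h0
    exact hdet.1 (exists_mulVec_eq_zero_iff.1 ⟨w, h0, funext fun i => h w hw i⟩)
  push Not at h
  obtain ⟨w, hw, i, hi⟩ := h
  have h1 : x i ∈ W := (W.smul_mem_iff hi).1 (hW i w hw)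
  have h2 : ∀ j, x j ∈ W := fun j => (W.smul_mem_iff (hne j i)).1 (hW j _ h1)
  refine .inr (eq_top_iff.2 fun y _ => ?_)
  obtain ⟨c, rfl⟩ := mulVec_surjective_iff_isUnit.2
    ((isUnit_iff_isUnit_det _).2 (Ne.isUnit hdet.2)) y
  rw [mulVec_transpose, vecMul_eq_sum]
  exact W.sum_mem fun j _ => W.smul_mem _ (h2 j)

theorem mono (h2 : (2 : K) ≠ 0) {x y : Fin 3 → K} (h0 : y ⬝ᵥ x = 2)
    (h : ∀ i j k, j ≠ k → (-1 + vecMulVec x y) i j = 0 ∨ (-1 + vecMulVec x y) i k = 0) :
    ∃ k, x k = 0 ∧ y k = 0 ∧ ((∀ i, i ≠ k → x i * y i = 1) ∨ ∃ j, j ≠ k ∧ x j = 0 ∧ y j = 0) := by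
  have k : ∀ i, ((-1 + vecMulVec x y) i 0 = 0 ∨ (-1 + vecMulVec x y) i 1 = 0) ∧
      ((-1 + vecMulVec x y) i 0 = 0 ∨ (-1 + vecMulVec x y) i 2 = 0) ∧
      ((-1 + vecMulVec x y) i 1 = 0 ∨ (-1 + vecMulVec x y) i 2 = 0) := fun i =>
    ⟨h i 0 1 (by decide), h i 0 2 (by decide), h i 1 2 (by decide)⟩
  have k0 := k 0
  have k1 := k 1
  have k2 := k 2
  simp [vecMulVec_apply, one_apply] at k0 k1 k2
  simp only [dotProduct, Fin.sum_univ_three] at h0
  simp only [Fin.exists_fin_succ, Fin.forall_fin_succ]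
  simp
  generalize x 0 = x0, x 1 = x1, x 2 = x2, y 0 = y0, y 1 = y1, y 2 = y2 at *
  by_cases a0 : x0 = 0 <;> by_cases a1 : x1 = 0 <;> by_cases a2 : x2 = 0 <;>
    by_cases b0 : y0 = 0 <;> by_cases b1 : y1 = 0 <;> by_cases b2 : y2 = 0 <;>
    simp_all <;> grind

end Lin

variable {F : Type*} [Field F] {X : Subgroup (GL (Fin 3) F)} {N : Subgroup X}

theorem comm_of_sq {y m z : X} (hy : y * y = 1) (hz : z ∈ Zs X) (e : y * m * y⁻¹ = z * m) :
    Commute y m := by
  obtain ⟨ω, h3, hω⟩ := cube_of_conj (z := (z : GL (Fin 3) F)) hz (congrArg Subtype.val e)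
  have h4 : z ^ 3 = 1 := Subtype.ext (by rw [Subgroup.coe_pow, ← hω, ← map_pow, h3, map_one]; rfl)
  have h5 : y * (y * m * y⁻¹) * y⁻¹ = m := by
    rw [show y * (y * m * y⁻¹) * y⁻¹ = y * y * m * (y * y)⁻¹ by group, hy]; simp
  rw [e, ← mul_assoc y, ← (Zs_comm hz y).eq, mul_assoc z, mul_assoc z, e, ← mul_assoc z,
    mul_eq_right] at h5
  rw [pow_three', h5, one_mul] at h4
  rw [h4, one_mul, mul_inv_eq_iff_eq_mul] at e
  exact e

theorem nonab (h2 : (2 : F) ≠ 0) [hN : N.Normal] (hN' : ⁅N, N⁆ ≤ Zs X)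
    (hZ : N ⊓ Subgroup.centralizer N ≤ Zs X) (h3 : ¬ N ≤ Zs X) :
    Hess (Set.univ : Set (Rl X)) := by
  have cz : ∀ {m n : X}, m ∈ N → n ∈ N → ∃ z ∈ Zs X, m * n * m⁻¹ = z * n :=
    fun {m n} hm hn => ⟨⁅m, n⁆, hN' (Subgroup.commutator_mem_commutator hm hn),
      by rw [commutatorElement_def]; group⟩
  have pair : ∀ n ∈ N, n ∉ Zs X → ∃ m ∈ N, ∃ ω : Fˣ, ω ≠ 1 ∧ ω ^ 3 = 1 ∧
      (m : GL (Fin 3) F) * n * (m : GL (Fin 3) F)⁻¹ = sc (Fin 3) ω * n := fun n hn h0 => by
    obtain ⟨m, hm, h1⟩ : ∃ m ∈ N, m * n ≠ n * m := by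
      by_contra h1
      push Not at h1
      exact h0 (hZ ⟨hn, h1⟩)
    obtain ⟨z, hz, e⟩ := cz hm hn
    obtain ⟨ω, h3, hω⟩ := cube_of_conj (z := (z : GL (Fin 3) F)) hz (congrArg Subtype.val e)
    refine ⟨m, hm, ω, fun h4 => h1 ?_, h3, by rw [hω]; exact congrArg Subtype.val e⟩
    rw [show z = 1 from Subtype.ext (by rw [← hω, h4, map_one]; rfl), one_mul,
      mul_inv_eq_iff_eq_mul] at e
    exact e
  obtain ⟨n₀, hn₀, h0⟩ := SetLike.not_le_iff_exists.1 h3
  obtain ⟨m₀, hm₀, ω₀, w1, w3, e₀⟩ := pair n₀ hn₀ h0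
  have h3' : (3 : F) ≠ 0 := fun h => w1 (Units.ext (by
    have h4 : (ω₀ : F) ^ 3 = 1 := by rw [← Units.val_pow_eq_pow_val, w3, Units.val_one]
    have h5 : ((ω₀ : F) - 1) ^ 3 = 0 := by linear_combination h4 + ((ω₀ : F) - ω₀ ^ 2) * h
    exact sub_eq_zero.1 (pow_eq_zero_iff (by norm_num) |>.1 h5)))
  have K1 : ∀ n ∈ N, ∀ s : Rl X, Commute s.el n → n ∈ Zs X := fun n hn s hc => by
    by_contra h0
    obtain ⟨m, hm, ω, w1, w3, e⟩ := pair n hn h0
    have sp : ∀ {y : X}, Commute y m → Commute y n → y ∈ Zs X := fun {y} h1 h4 =>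
      D3.scalar_of_pair h3' w1 w3 e (y := y) (congrArg Subtype.val h1) (congrArg Subtype.val h4)
    set t := s.el with ht
    have tt : t * t = 1 := s.el_mul_self
    have ti : t⁻¹ = t := s.el_inv
    set u := m⁻¹ * (t * m * t⁻¹) with hu
    have huN : u ∈ N := mul_mem (inv_mem hm) (hN.conj_mem m hm t)
    obtain ⟨z, hz, ez⟩ := cz hm hn
    have un : Commute u n := by
      have h1 : Commute (m⁻¹ * t * m) n := by
        have h4 : Commute t (m * n * m⁻¹) := by
          rw [ez]; exact (Zs_comm hz t).symm.mul_right hc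
        calc m⁻¹ * t * m * n = m⁻¹ * (t * (m * n * m⁻¹)) * m := by group
          _ = _ := by rw [h4.eq]; group
      rw [hu, ti, ← mul_assoc, ← mul_assoc]
      exact h1.mul_left hc
    obtain ⟨z', hz', ez'⟩ := cz hm huN
    obtain ⟨ω', w3', hω'⟩ := cube_of_conj (z := (z' : GL (Fin 3) F)) hz'
      (congrArg Subtype.val ez')
    obtain ⟨k, hk⟩ : ∃ k : ℕ, ω' = ω ^ k := by
      have a1 : (ω : F) ^ 3 = 1 := by rw [← Units.val_pow_eq_pow_val, w3, Units.val_one]
      have a2 : (ω' : F) ^ 3 = 1 := by rw [← Units.val_pow_eq_pow_val, w3', Units.val_one]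
      have a3 : (ω : F) ≠ 1 := fun h => w1 (Units.ext h)
      have : (ω' : F) = 1 ∨ (ω' : F) = ω ∨ (ω' : F) = ω ^ 2 := by grind
      rcases this with h | h | h
      exacts [⟨0, Units.ext (by simpa using h)⟩, ⟨1, Units.ext (by simpa using h)⟩,
        ⟨2, Units.ext (by simpa using h)⟩]
    have zk : z' = z ^ k := Subtype.ext (by
      have : (z : GL (Fin 3) F) = sc (Fin 3) ω :=
        mul_right_cancel ((congrArg Subtype.val ez).symm.trans e)
      rw [Subgroup.coe_pow, ← hω', hk, map_pow, this])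
    have c1 : u * (n ^ k)⁻¹ ∈ Zs X := by
      refine sp ?_ (un.mul_left ((Commute.refl n).pow_left k).inv_left)
      have h1 : m * n ^ k * m⁻¹ = z ^ k * n ^ k := by
        rw [← conj_pow, ez, (Zs_comm hz n).mul_pow]
      have h4 : m * (u * (n ^ k)⁻¹) * m⁻¹ = u * (n ^ k)⁻¹ := by
        calc _ = m * u * m⁻¹ * (m * n ^ k * m⁻¹)⁻¹ := by group
          _ = _ := by
            rw [ez', h1, zk, (Zs_comm (pow_mem hz k) u).eq, (Zs_comm (pow_mem hz k) _).eq]; group
      exact (mul_inv_eq_iff_eq_mul.1 h4).symm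
    have tu : Commute t u := by
      rw [← inv_mul_cancel_right u (n ^ k)]
      exact (Zs_comm c1 t).symm.mul_right (hc.pow_right k)
    have uu : u * u = 1 := by
      have h1 : t * u * t * u = 1 := by
        rw [hu, ti]
        calc _ = t * m⁻¹ * (t * m * (t * t) * m⁻¹ * t) * m * t := by group
          _ = 1 := by rw [tt, mul_one, mul_inv_cancel_right, tt, mul_one, inv_mul_cancel_right, tt]
      rwa [tu.eq, mul_assoc u, tt, mul_one] at h1
    obtain ⟨z₂, hz₂, e₂⟩ := cz huN hm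
    have uz := sp (comm_of_sq uu hz₂ e₂) un
    have tm := comm_of_sq (m := m) tt uz (by rw [(Zs_comm uz m).eq, hu]; group)
    exact el_notMem_scalars h2 (by simp) s (sp tm hc)
  have K2 : ∀ n ∈ N, ∀ s : Rl X, n * (s.el * n * s.el⁻¹) ∈ Zs X := fun n hn s => by
    have h1 := hN.conj_mem n hn s.el
    refine K1 _ (mul_mem hn h1) s ?_
    obtain ⟨z, hz, e⟩ := cz h1 hn
    refine comm_of_sq s.el_mul_self hz ?_
    rw [← mul_assoc z, ← e, inv_mul_cancel_right]
    calc _ = s.el * n * s.el⁻¹ * (s.el * s.el * n * (s.el * s.el)⁻¹) := by group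
      _ = _ := by rw [s.el_mul_self]; simp
  intro s _ s' _
  have K3 : ∀ n ∈ N, Commute ((s.el * s'.el) ^ 3) n := fun n hn => by
    have z0 := K2 n hn s
    have z1 := K2 n hn s'
    set p := n * (s.el * n * s.el⁻¹) with hp
    set q := n * (s'.el * n * s'.el⁻¹) with hq
    have e : s.el * s'.el * n * (s.el * s'.el)⁻¹ = p⁻¹ * q * n := by
      calc _ = s.el * n⁻¹ * (q * s.el⁻¹) := by rw [hq]; group
        _ = p⁻¹ * (n * q) := by rw [(Zs_comm z1 s.el⁻¹).eq, hp]; group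
        _ = _ := by rw [mul_assoc p⁻¹, (Zs_comm z1 n).eq]
    have hz := mul_mem (inv_mem z0) z1
    set z := p⁻¹ * q
    set r := s.el * s'.el
    obtain ⟨ω, h3, hω⟩ := cube_of_conj (z := (z : GL (Fin 3) F)) hz (congrArg Subtype.val e)
    have h4 : z ^ 3 = 1 := Subtype.ext (by rw [Subgroup.coe_pow, ← hω, ← map_pow, h3, map_one]; rfl)
    exact cube_comm e (Zs_comm hz r) h4
  have h4 := D3.scalar_of_pair h3' w1 w3 e₀ (y := ((s.el * s'.el) ^ 3 : X))
    (congrArg Subtype.val (K3 m₀ hm₀)) (congrArg Subtype.val (K3 n₀ hn₀))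
  obtain ⟨k, -, hk⟩ := coe_eq_smul_of_mem_scalars h4
  obtain ⟨w, hw, ew⟩ := (exists_mulVec_eq_zero_iff (M := of ![s.φ, s'.φ, 0])).2
    (det_eq_zero_of_row_eq_zero 2 fun _ => rfl)
  have a0 : s.φ ⬝ᵥ w = 0 := congrFun ew 0
  have a1 : s'.φ ⬝ᵥ w = 0 := congrFun ew 1
  have a2 : ((s.el * s'.el : X) : GL (Fin 3) F).val *ᵥ w = w := by
    rw [Subgroup.coe_mul, mul_mulVec, el_mulVec, el_mulVec]; simp [a0, a1]
  have a3 := congrArg (· *ᵥ w) hk
  rw [coe_coe_pow] at a3
  simp only [pow_three, ← mulVec_mulVec, a2, smul_mulVec, one_mulVec] at a3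
  have a4 : k = 1 := smul_left_injective F hw (show k • w = (1 : F) • w by rw [one_smul, ← a3])
  have a5 : (s.el * s'.el) ^ 3 = 1 := sub_ext (hk.trans (by rw [a4, one_smul]; rfl))
  exact (lam_of_three a5).elim .inr fun h => .inl (same_of_four h2 h (n := 3) (by simpa using h3') a5)

variable {e : Fin 3 → Rl X}

theorem card_ne [Finite F] [hN : N.Normal] (hab : ∀ m ∈ N, ∀ n ∈ N, Commute m n)
    (hne : ∀ i j, g (e i) (e j) ≠ 0) (hdet : (of fun i j => g (e i) (e j)).det ≠ 0) :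
    ((Nat.card N : ℕ) : F) ≠ 0 := fun h => by
  have := Fintype.ofFinite F
  obtain ⟨p, hp⟩ := CharP.exists F
  have hpp := CharP.char_is_prime F p
  have := Fact.mk hpp
  obtain ⟨y, hy⟩ := exists_prime_orderOf_dvd_card' p ((CharP.cast_eq_zero_iff F p _).1 h)
  let Ω : Subgroup X :=
    { carrier := {x | x ∈ N ∧ x ^ p = 1}
      mul_mem' := fun {x x'} h1 h2 => ⟨mul_mem h1.1 h2.1, by
        rw [(hab x h1.1 x' h2.1).mul_pow, h1.2, h2.2, mul_one]⟩
      one_mem' := ⟨one_mem N, one_pow p⟩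
      inv_mem' := fun {x} h1 => ⟨inv_mem h1.1, by rw [inv_pow, h1.2, inv_one]⟩ }
  have hΩ : IsPGroup p Ω := fun x => ⟨1, Subtype.ext (by simpa using x.2.2)⟩
  letI : MulAction Ω (Fin 3 → F) :=
    { smul := fun x v => ((x : X) : GL (Fin 3) F).val *ᵥ v
      one_smul := fun v => one_mulVec v
      mul_smul := fun x x' v => (mulVec_mulVec v _ _).symm }
  obtain ⟨w, hw, h0⟩ := hΩ.exists_fixed_point_of_prime_dvd_card_of_fixed_point (Fin 3 → F)
    (by
      rw [Nat.card_fun, Nat.card_eq_fintype_card (α := F)]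
      exact dvd_pow ((prime_dvd_char_iff_dvd_card p).1 (by rw [ringChar.eq F p])) (by simp))
    (a := 0) fun x => mulVec_zero _
  let W : Submodule F (Fin 3 → F) :=
    { carrier := {v | ∀ x ∈ Ω, (x : GL (Fin 3) F).val *ᵥ v = v}
      add_mem' := fun h1 h2 x hx => by rw [mulVec_add, h1 x hx, h2 x hx]
      zero_mem' := fun x _ => mulVec_zero _
      smul_mem' := fun c v h1 x hx => by rw [mulVec_smul, h1 x hx] }
  rcases irr hne hdet W (fun i v hv => by
      have h1 : ((e i).el : GL (Fin 3) F).val *ᵥ v ∈ W := fun x hx => by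
        have := hv ((e i).el⁻¹ * x * (e i).el⁻¹⁻¹)
          ⟨hN.conj_mem x hx.1 _, by rw [conj_pow, hx.2]; simp⟩
        rw [inv_inv, Subgroup.coe_mul, Subgroup.coe_mul, mul_mulVec, mul_mulVec] at this
        nth_rw 2 [← this]
        rw [Subgroup.coe_inv, mulVec_inv_mulVec]
      have h2 := W.add_mem hv h1
      rwa [el_mulVec, add_neg_cancel_left] at h2) with h1 | h1
  · exact h0.symm ((Submodule.eq_bot_iff W).1 h1 w fun x hx => hw ⟨x, hx⟩)
  · have h2 : (y : X) = 1 := Subtype.ext (gl_ext fun v => by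
      rw [(Submodule.eq_top_iff'.1 h1 v) y ⟨y.2, by
        rw [← hy, ← Subgroup.coe_pow, pow_orderOf_eq_one]; rfl⟩]
      simp)
    rw [show y = 1 from Subtype.ext h2, orderOf_one] at hy
    exact hpp.one_lt.ne hy

theorem abel [Finite F] (h2 : (2 : F) ≠ 0) [hN : N.Normal] (hab : ∀ m ∈ N, ∀ n ∈ N, Commute m n)
    (hne : ∀ i j, g (e i) (e j) ≠ 0) (hdet : (of fun i j => g (e i) (e j)).det ≠ 0)
    (h3 : ¬ N ≤ Zs X) : Mono (Set.univ : Set (Rl X)) := by
  let K := AlgebraicClosure F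
  let j := algebraMap F K
  have k2 : (2 : K) ≠ 0 := by rw [← map_ofNat j]; exact (_root_.map_ne_zero j).2 h2
  have : NeZero ((Nat.card N : ℕ) : K) := ⟨by
    rw [← map_natCast j]; exact (_root_.map_ne_zero j).2 (card_ne hab hne hdet)⟩
  have : NeZero (Nat.card N) := ⟨Nat.card_pos.ne'⟩
  obtain ⟨ζ, hζ⟩ := HasEnoughRootsOfUnity.exists_primitiveRoot K (Nat.card N)
  let ψ : X →* Matrix (Fin 3) (Fin 3) K :=
    j.mapMatrix.toMonoidHom.comp ((Units.coeHom _).comp X.subtype)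
  obtain ⟨Q, δ, hδ⟩ := Cls.exists_hom_rootsOfUnity (ψ.comp N.subtype)
    (fun x y => Subtype.ext (hab _ x.2 _ y.2)) Nat.card_pos hζ fun _ => pow_card_eq_one'
  let ρ : X →* Matrix (Fin 3) (Fin 3) K :=
    { toFun x := (Q⁻¹).val * ψ x * Q.val
      map_one' := by simp
      map_mul' x y := by simp only [map_mul, mul_assoc, Units.mul_inv_cancel_left] }
  obtain ⟨D, hD⟩ : ∃ D : X → Fin 3 → K, ∀ x ∈ N, ρ x = diagonal (D x) :=
    ⟨fun x i => ρ x i i, fun x hx => by
      have : ρ x = diagonal _ := hδ ⟨x, hx⟩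
      rw [this]; simp only [this, diagonal_apply_eq]⟩
  let x : Rl X → Fin 3 → K := fun s => (Q⁻¹).val *ᵥ (j ∘ s.v)
  let y : Rl X → Fin 3 → K := fun s => (j ∘ s.φ) ᵥ* Q.val
  have dot : ∀ s s', j (g s s') = y s ⬝ᵥ x s' := fun s s' => by
    simp only [x, y]
    rw [← dotProduct_mulVec, mulVec_mulVec, Units.mul_inv, one_mulVec, g, RingHom.map_dotProduct]
  have et : ∀ s : Rl X, ρ s.el = -1 + vecMulVec (x s) (y s) := fun s => by
    have : ψ s.el = -1 + vecMulVec (j ∘ s.v) (j ∘ s.φ) := by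
      change ((s.el : GL (Fin 3) F) : Matrix (Fin 3) (Fin 3) F).map j = _
      rw [coe_el]
      ext u v
      simp only [map_apply, Matrix.add_apply, Matrix.neg_apply, one_apply, vecMulVec_apply,
        Function.comp]
      split_ifs <;> simp
    change (Q⁻¹).val * ψ s.el * Q.val = _
    rw [this, mul_add, add_mul, mul_neg, mul_one, neg_mul, Units.inv_mul, mul_vecMulVec,
      vecMulVec_mul]
  have rel : ∀ (s : Rl X), ∀ n ∈ N, ∀ u v, (-1 + vecMulVec (x s) (y s)) u v ≠ 0 →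
      D n v = D (s.el * n * s.el⁻¹) u := fun s n hn u v h => by
    have e1 : ρ s.el * diagonal (D n) = diagonal (D (s.el * n * s.el⁻¹)) * ρ s.el := by
      rw [← hD n hn, ← hD _ (hN.conj_mem n hn _), ← map_mul, ← map_mul, inv_mul_cancel_right]
    have e2 := congrFun (congrFun e1 u) v
    rw [mul_diagonal, diagonal_mul, et, mul_comm] at e2
    exact mul_right_cancel₀ h e2
  have sep : ∀ v w, v ≠ w → ∃ n ∈ N, D n v ≠ D n w := fun v w hvw => by
    by_contra h
    push Not at h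
    obtain ⟨u, uv, uw, hu⟩ : ∃ u : Fin 3, u ≠ v ∧ u ≠ w ∧ ∀ i, i ≠ u → i = v ∨ i = w := by
      clear h; revert v w; decide
    obtain ⟨n, hn, h1⟩ : ∃ n ∈ N, D n u ≠ D n v := by
      by_contra h1
      push Not at h1
      refine h3 fun n hn => ?_
      have e1 : ρ n = D n v • (1 : Matrix (Fin 3) (Fin 3) K) := by
        rw [hD n hn, smul_one_eq_diagonal]
        refine congrArg _ (funext fun i => ?_)
        by_cases hi : i = u
        · rw [hi, h1 n hn]
        · rcases hu i hi with rfl | rfl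
          exacts [rfl, (h n hn).symm]
      have e2 : ψ n = D n v • (1 : Matrix (Fin 3) (Fin 3) K) := by
        change (Q⁻¹).val * ψ n * Q.val = _ at e1
        rwa [mul_assoc, Units.inv_mul_eq_iff_eq_mul, ← Units.eq_mul_inv_iff_mul_eq, mul_smul_comm,
          mul_one, smul_mul_assoc, Units.mul_inv] at e1
      have e3 : ∀ i k, j (((n : GL (Fin 3) F) : Matrix (Fin 3) (Fin 3) F) i k) =
          D n v * (1 : Matrix (Fin 3) (Fin 3) K) i k := fun i k => congrFun (congrFun e2 i) k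
      refine mem_scalars_of_eq_smul (g := (n : GL (Fin 3) F))
        (c := ((n : GL (Fin 3) F) : Matrix (Fin 3) (Fin 3) F) 0 0) ?_
      ext i k
      refine j.injective ?_
      rw [e3, Matrix.smul_apply, smul_eq_mul, map_mul, e3]
      simp [one_apply]
    let W : Submodule K (Fin 3 → K) :=
      { carrier := {z | ∀ i, i ≠ u → z i = 0}
        add_mem' := fun h1 h2 i hi => by simp [h1 i hi, h2 i hi]
        zero_mem' := fun _ _ => rfl
        smul_mem' := fun c z h1 i hi => by simp [h1 i hi] }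
    rcases irr (x := fun i => x (e i)) (ξ := fun i => y (e i))
      (fun i k => by rw [← dot]; exact (_root_.map_ne_zero j).2 (hne i k))
      (by
        rw [← (_root_.map_ne_zero j), RingHom.map_det] at hdet
        rwa [show (of fun i k => y (e i) ⬝ᵥ x (e k)) = j.mapMatrix (of fun i k => g (e i) (e k)) from
          Matrix.ext fun i k => (dot _ _).symm]) W (fun i z hz k hk => by
        set s := e i
        have e1 : y s ⬝ᵥ z = y s u * z u :=
          Finset.sum_eq_single u (fun l _ hl => by rw [hz l hl, mul_zero]) (by simp)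
        rw [e1, Pi.smul_apply, smul_eq_mul]
        by_contra h4
        have h5 : x s k * y s u ≠ 0 := fun h5 => h4 (by linear_combination z u * h5)
        have h6 := rel s n hn k u (by simpa [vecMulVec_apply, one_apply, hk] using h5)
        have h' := h _ (hN.conj_mem n hn s.el)
        have h7 : ∀ l l', l ≠ u → l' ≠ u → (-1 + vecMulVec (x s) (y s)) l l' = 0 :=
          fun l l' hl hl' => by
            by_contra h7
            have h8 := rel s n hn l l' h7
            have h9 := h n hn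
            rcases hu k hk with rfl | rfl <;> rcases hu l hl with rfl | rfl <;>
              rcases hu l' hl' with rfl | rfl <;> grind
        have a1 := h7 v v uv.symm uv.symm
        have a2 := h7 w w uw.symm uw.symm
        have a3 := h7 v w uv.symm uw.symm
        simp only [Matrix.add_apply, Matrix.neg_apply, vecMulVec_apply, one_apply, hvw,
          if_true, if_false] at a1 a2 a3
        exact one_ne_zero (α := K) (by
          linear_combination -a1 - x s v * y s v * a2 + x s w * y s v * a3)) with h4 | h4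
    · have := (Submodule.eq_bot_iff W).1 h4 (Pi.single u 1) fun i hi => by simp [hi]
      simpa using congrFun this u
    · simpa using Submodule.eq_top_iff'.1 h4 (Pi.single v 1) v uv.symm
  refine ⟨x, y, fun s _ s' _ => dot s s', fun s _ => mono k2 (by
    rw [← dot, g_self, map_ofNat]) fun u v w hvw => ?_⟩
  by_contra h
  push Not at h
  obtain ⟨n, hn, h1⟩ := sep v w hvw
  exact h1 ((rel s n hn u v h.1).trans (rel s n hn u w h.2).symm)

end RCa

variable {F : Type*} [Field F] [Fintype F] {X : Subgroup (GL (Fin 3) F)} {a b t : Rl X}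

theorem core3_sol (h2 : (2 : F) ≠ 0) (hX : X ≤ specialLinear (Fin 3) F) (hn : NoTv X)
    (h : NS a b t) (h0 : gdet a b t ≠ 0) {N : Subgroup (GL (Fin 3) F)} (hN : N ≤ X)
    (hN' : NormsG X N) (h1 : ⁅N, N⁆ ≤ scalars (Fin 3) F) (h3 : ¬ N ≤ scalars (Fin 3) F) :
    Mono (Set.univ : Set (Rl X)) ∨ Hess (Set.univ : Set (Rl X)) := by
  have := hX
  have hM : (N.subgroupOf X).Normal := ⟨fun n hn g => hN' g g.2 n hn⟩
  by_cases hZ : N.subgroupOf X ⊓ Subgroup.centralizer (N.subgroupOf X) ≤ TI.Zs X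
  · refine .inr (RCa.nonab h2 (Subgroup.commutator_le.2 fun x hx y hy => ?_) hZ fun e => h3 ?_)
    · exact h1 (Subgroup.commutator_mem_commutator (show (x : GL (Fin 3) F) ∈ N from hx)
        (show (y : GL (Fin 3) F) ∈ N from hy))
    · exact fun x hx => e (show (⟨x, hN hx⟩ : X) ∈ N.subgroupOf X from hx)
  · refine .inl (RCa.abel (e := ![a, b, t])
      (N := N.subgroupOf X ⊓ Subgroup.centralizer (N.subgroupOf X)) h2
      (fun m hm n hn => hn.2 m hm.1) (fun i j => ?_) ?_ hZ)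
    · have a1 := h.ne h2 hn
      have a2 := h.swap.ne h2 hn
      have a3 := h.rot.ne h2 hn
      have a4 := h.rot.swap.ne h2 hn
      have a5 := h.rot.rot.ne h2 hn
      have a6 := h.rot.rot.swap.ne h2 hn
      fin_cases i <;> fin_cases j <;> simpa
    · convert h0 using 1
      simp [det_fin_three, gdet, lam, cyc]
      ring

end Cfsg.Agent.Cl.D5
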