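/-
Characteristic two, unique centres and axes: a non-symmetric triple of transvections is monomial.
-/
import Mathlib
import Cfsg.Agent.Cl.D5Base
import Cfsg.Agent.Cl.D5TIa

set_option autoImplicit false

namespace Cfsg.Agent.Cl.D5

open Matrix Cfsg.Geo Cfsg.Agent.Cl.Max Cfsg.Agent.Cl.Mx
open scoped MatrixGroups

variable {F : Type*} [Field F] {ι : Type} [Fintype ι] [DecidableEq ι]
  {P : Subgroup (GL ι F)}

namespace TI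

/-- There is no one-sided pair. -/
theorem zero_rule (h1 : ∀ v φ φ', TA P v φ → TA P v φ' → φ = φ') {v φ w ψ : ι → F}
    (h : TA P v φ) (h' : TA P w ψ) (h0 : ψ ⬝ᵥ v = 0) : φ ⬝ᵥ w = 0 := by
  by_contra hn
  have e := h1 v φ _ h ⟨h.1, smul_ne_zero hn h'.2.1, h.2.2.comm h'.2.2 h0⟩
  exact hn (by rw [e, smul_dotProduct, h'.2.2.1, smul_zero])

/-- Extension of a matrix on a three-dimensional direct summand by the identity. -/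
def emb (V : Matrix ι (Fin 3) F) (Ψ : Matrix (Fin 3) ι F) (h : Ψ * V = 1) :
    Matrix (Fin 3) (Fin 3) F →* Matrix ι ι F where
  toFun M := 1 + V * (M - 1) * Ψ
  map_one' := by simp
  map_mul' M M' := by
    have : V * (M - 1) * Ψ * (V * (M' - 1) * Ψ) = V * ((M - 1) * (M' - 1)) * Ψ := by
      simp only [Matrix.mul_assoc]
      rw [← Matrix.mul_assoc Ψ V, h, Matrix.one_mul]
    rw [add_mul, mul_add, mul_add, this]
    simp only [mul_one, one_mul, Matrix.mul_sub, Matrix.sub_mul, Matrix.mul_one]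
    abel

variable {V : Matrix ι (Fin 3) F} {Ψ : Matrix (Fin 3) ι F} (h : Ψ * V = 1)

theorem emb_tv {g : GL (Fin 3) F} {u χ : Fin 3 → F}
    (e : ∀ x, (g : Matrix (Fin 3) (Fin 3) F) *ᵥ x = x + (χ ⬝ᵥ x) • u) (y : ι → F) :
    ((Units.map (emb V Ψ h) g : GL ι F) : Matrix ι ι F) *ᵥ y =
      y + ((χ ᵥ* Ψ) ⬝ᵥ y) • (V *ᵥ u) := by
  change (1 + V * ((g : Matrix (Fin 3) (Fin 3) F) - 1) * Ψ) *ᵥ y = _
  rw [add_mulVec, one_mulVec, ← mulVec_mulVec, ← mulVec_mulVec, sub_mulVec, e, one_mulVec,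
    add_sub_cancel_left, mulVec_smul, dotProduct_mulVec]

omit [DecidableEq ι] in
include h in
theorem inj_V {u u' : Fin 3 → F} (e : V *ᵥ u = V *ᵥ u') : u = u' := by
  simpa [h] using congrArg (Ψ *ᵥ ·) e

omit [DecidableEq ι] in
include h in
theorem inj_Ψ {u u' : Fin 3 → F} (e : u ᵥ* Ψ = u' ᵥ* Ψ) : u = u' := by
  simpa [h] using congrArg (· ᵥ* V) e

theorem ta_emb {g : GL (Fin 3) F} (hg : g ∈ P.comap (Units.map (emb V Ψ h))) (h1 : g ≠ 1)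
    {u χ : Fin 3 → F} (h0 : χ ⬝ᵥ u = 0)
    (e : ∀ x, (g : Matrix (Fin 3) (Fin 3) F) *ᵥ x = x + (χ ⬝ᵥ x) • u) :
    (u ≠ 0 ∧ χ ≠ 0) ∧ TA P (V *ᵥ u) (χ ᵥ* Ψ) := by
  have hu : u ≠ 0 := fun a => h1 (gl_ext fun x => by simp [e, a])
  have hχ : χ ≠ 0 := fun a => h1 (gl_ext fun x => by simp [e, a])
  refine ⟨⟨hu, hχ⟩, fun a => hu (inj_V h (by simpa using a)), fun a => hχ (inj_Ψ h (by simpa using a)),
    ?_, _, hg, emb_tv h e⟩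
  rw [← dotProduct_mulVec, mulVec_mulVec, h, one_mulVec, h0]

theorem inv_eq (h2 : (2 : F) = 0)
    (h1 : ∀ v φ φ', TA P v φ → TA P v φ' → φ = φ') (h1' : ∀ v v' φ, TA P v φ → TA P v' φ → v = v')
    (s t : P.comap (Units.map (emb V Ψ h))) (hs : orderOf s = 2) (ht : orderOf t = 2)
    (hc : Commute s t) : s = t := by
  have s2 : s * s = 1 := by rw [← pow_two, ← hs, pow_orderOf_eq_one]
  have t2 : t * t = 1 := by rw [← pow_two, ← ht, pow_orderOf_eq_one]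
  have s1 : (s : GL (Fin 3) F) ≠ 1 := fun e => by
    rw [show s = 1 from Subtype.ext e] at hs; simp at hs
  have t1 : (t : GL (Fin 3) F) ≠ 1 := fun e => by
    rw [show t = 1 from Subtype.ext e] at ht; simp at ht
  obtain ⟨u, χ, a0, a⟩ := D3.Two.exists_tv h2 (congrArg Subtype.val s2)
  obtain ⟨w, ψ, b0, b⟩ := D3.Two.exists_tv h2 (congrArg Subtype.val t2)
  obtain ⟨⟨a1, a2⟩, a3⟩ := ta_emb h s.2 s1 a0 a
  obtain ⟨⟨b1, b2⟩, b3⟩ := ta_emb h t.2 t1 b0 b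
  have st : s * t * (s * t) = 1 := by
    rw [mul_assoc, ← mul_assoc t, ← hc.eq, mul_assoc, t2, mul_one, s2]
  refine Subtype.ext (gl_ext fun x => ?_)
  rcases D3.Two.share h2 (congrArg Subtype.val hc.eq) (congrArg Subtype.val st) a0 a1 b2 a b with
    e | e
  · obtain ⟨c, rfl⟩ := D3.Two.par_of_cross e a1
    have b' : ∀ x, ((t : GL (Fin 3) F) : Matrix (Fin 3) (Fin 3) F) *ᵥ x = x + ((c • ψ) ⬝ᵥ x) • u :=
      fun x => by rw [b, smul_dotProduct, smul_smul, smul_eq_mul, mul_comm]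
    have := h1 _ _ _ a3 (ta_emb h t.2 t1 (by simpa [mul_comm] using b0) b').2
    rw [a, b', inj_Ψ h this]
  · obtain ⟨c, rfl⟩ := D3.Two.par_of_cross e a2
    have b' : ∀ x, ((t : GL (Fin 3) F) : Matrix (Fin 3) (Fin 3) F) *ᵥ x = x + (χ ⬝ᵥ x) • c • w :=
      fun x => by rw [b, smul_dotProduct, smul_smul, smul_eq_mul, mul_comm]
    have := h1' _ _ _ a3 (ta_emb h t.2 t1 (by simpa [mul_comm] using b0) b').2
    rw [a, b', inj_V h this]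

end TI

open TI in
theorem core_three [Finite F] (h2 : (2 : F) = 0)
    (h1 : ∀ v φ φ', TA P v φ → TA P v φ' → φ = φ') (h1' : ∀ v v' φ, TA P v φ → TA P v' φ → v = v')
    {v₁ φ₁ v₂ φ₂ v₃ φ₃ : ι → F} (h₁ : TA P v₁ φ₁) (h₂ : TA P v₂ φ₂) (h₃ : TA P v₃ φ₃)
    (hne : cyc3 v₁ φ₁ v₂ φ₂ v₃ φ₃ ≠ cyc3 v₁ φ₁ v₃ φ₃ v₂ φ₂) (h12 : φ₁ ⬝ᵥ v₂ * φ₂ ⬝ᵥ v₁ ≠ 1) :
    φ₁ ⬝ᵥ v₃ * φ₃ ⬝ᵥ v₁ = 1 ∧ φ₂ ⬝ᵥ v₃ * φ₃ ⬝ᵥ v₂ = 1 ∧
      cyc3 v₁ φ₁ v₂ φ₂ v₃ φ₃ + cyc3 v₁ φ₁ v₃ φ₃ v₂ φ₂ = φ₁ ⬝ᵥ v₂ * φ₂ ⬝ᵥ v₁ := by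
  have ha : φ₁ ⬝ᵥ v₂ ≠ 0 := fun e => hne (by simp [cyc3, e, zero_rule h1 h₂ h₁ e])
  have hc : φ₂ ⬝ᵥ v₁ ≠ 0 := fun e => ha (zero_rule h1 h₁ h₂ e)
  have hb : φ₁ ⬝ᵥ v₃ ≠ 0 := fun e => hne (by simp [cyc3, e, zero_rule h1 h₃ h₁ e])
  have he : φ₃ ⬝ᵥ v₁ ≠ 0 := fun e => hb (zero_rule h1 h₁ h₃ e)
  have hdet : φ₁ ⬝ᵥ v₂ * φ₂ ⬝ᵥ v₃ * φ₃ ⬝ᵥ v₁ + φ₁ ⬝ᵥ v₃ * φ₃ ⬝ᵥ v₂ * φ₂ ⬝ᵥ v₁ ≠ 0 := fun e =>
    hne (by simp only [cyc3]; linear_combination e - (φ₁ ⬝ᵥ v₃ * φ₃ ⬝ᵥ v₂ * φ₂ ⬝ᵥ v₁) * h2)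
  let v := ![v₁, v₂, v₃]
  let Φ : Matrix (Fin 3) ι F := of ![φ₁, φ₂, φ₃]
  let V : Matrix ι (Fin 3) F := (of v)ᵀ
  set Γ : Matrix (Fin 3) (Fin 3) F := !![0, φ₁ ⬝ᵥ v₂, φ₁ ⬝ᵥ v₃; φ₂ ⬝ᵥ v₁, 0, φ₂ ⬝ᵥ v₃;
    φ₃ ⬝ᵥ v₁, φ₃ ⬝ᵥ v₂, 0] with hΓ
  have e0 : Φ * V = Γ := by
    ext i j
    fin_cases i <;> fin_cases j <;>
      first | rfl | exact h₁.2.2.1 | exact h₂.2.2.1 | exact h₃.2.2.1
  have hu : IsUnit Γ.det := by
    rw [hΓ, det_fin_three, isUnit_iff_ne_zero]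
    simp only [of_apply, cons_val', cons_val_zero, cons_val_one, cons_val_two, cons_val_fin_one,
      Nat.succ_eq_add_one, tail_cons, head_cons, head_fin_const]
    exact fun e => hdet (by linear_combination e)
  have h : Γ⁻¹ * Φ * V = 1 := by rw [Matrix.mul_assoc, e0, nonsing_inv_mul _ hu]
  have hT : ∀ i, TA P (v i) (Φ i) := fun i => by fin_cases i <;> assumption
  have ex : ∀ i, ∃ t : P.comap (Units.map (emb V _ h)),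
      ((t : GL (Fin 3) F) : Matrix (Fin 3) (Fin 3) F) = tm Γ i := fun i => by
    have d : (tm Γ i).det ≠ 0 := by
      fin_cases i <;> simp only [hΓ, Fin.reduceFinMk, tm0, tm1, tm2] <;> simp [det_fin_three]
    refine ⟨⟨GeneralLinearGroup.mkOfDetNeZero _ d, ?_⟩, rfl⟩
    obtain ⟨-, g, hg, e⟩ := (hT i).2.2
    refine Subgroup.mem_comap.2 (Set.mem_of_eq_of_mem (gl_ext fun y => ?_) hg)
    rw [emb_tv h (u := Pi.single i 1) (χ := Γ i) fun x => ?_, e]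
    · have a1 : Γ i ᵥ* (Γ⁻¹ * Φ) = Φ i := by
        have := congrFun (show Γ * (Γ⁻¹ * Φ) = Φ by
          rw [← Matrix.mul_assoc, mul_nonsing_inv _ hu, Matrix.one_mul]) i
        exact this
      have a2 : V *ᵥ Pi.single i 1 = v i := by
        ext k; simp [V]
      rw [a1, a2]
    · change tm Γ i *ᵥ x = _
      rw [tm, add_mulVec, one_mulVec, vecMulVec_mulVec, op_smul_eq_smul]
  choose t ht using ex
  exact core h2 (inv_eq h h2 h1 h1') ht ha hb hc he hdet h12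

end Cfsg.Agent.Cl.D5
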