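/-
Subgroups of `SL₅(F)`: closed systems of negatives of reflections inside a three-dimensional frame.
-/
import Mathlib
import Cfsg.Agent.Cl.D5RDefs

set_option autoImplicit false

namespace Cfsg.Agent.Cl.D5

open Matrix Cfsg.Geo Cfsg.Agent.Cl.Max Cfsg.Agent.Cl.Mx Rl
open scoped MatrixGroups

variable {F : Type*} [Field F] [Finite F] {P : Subgroup (GL (Fin 5) F)} {a b c t : Rl P}
  {Δ : Set (Rl P)} {e : Fin 3 → Rl P}

omit [Finite F] in
theorem swap_data (h2 : (2 : F) ≠ 0) (_hn : NoTv P) {s : Rl P} (hab : g a b = 0)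
    (hs : Same (mv a s) b) : ∃ κ γ γ' : F, κ ≠ 0 ∧ 2 * γ * γ' = 1 ∧
      s.v = γ' • (a.v - κ • b.v) ∧ s.φ = γ • (a.φ - κ⁻¹ • b.φ) := by
  obtain ⟨x, hx, h1, h3⟩ := hs
  have h4 : g s a * g a s = 2 := by
    have e : g a b = x * g a (mv a s) := by simp only [g, h1, dotProduct_smul, smul_eq_mul]
    rw [hab, g_mv_right, g_self] at e
    exact (sub_eq_zero.1 ((mul_eq_zero.1 e.symm).resolve_left hx)).symm
  have h5 : g s a ≠ 0 := fun e => h2 (by rw [← h4, e, zero_mul])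
  have h6 : g a s ≠ 0 := fun e => h2 (by rw [← h4, e, mul_zero])
  refine ⟨x⁻¹, (g a s)⁻¹, (g s a)⁻¹, inv_ne_zero hx, by rw [← h4]; field_simp, ?_, ?_⟩
  · rw [h1, smul_smul, inv_mul_cancel₀ hx, one_smul]
    simp only [mv, sub_sub_cancel, smul_smul, inv_mul_cancel₀ h5, one_smul]
  · rw [h3, inv_inv, smul_smul, mul_inv_cancel₀ hx, one_smul]
    simp only [mv, sub_sub_cancel, smul_smul, inv_mul_cancel₀ h6, one_smul]

namespace RXa

omit [Finite F]

theorem padj (e : Fin 3 → Rl P) (χ y : Fin 5 → F) : pφ e χ ⬝ᵥ y = χ ⬝ᵥ pv e y := by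
  simp only [pφ, pv, Fin.sum_univ_three, add_dotProduct, dotProduct_add, smul_dotProduct,
    dotProduct_smul, smul_eq_mul]
  ring

theorem pv_add (e : Fin 3 → Rl P) (x y : Fin 5 → F) : pv e (x + y) = pv e x + pv e y := by
  simp only [pv, Fin.sum_univ_three, dotProduct_add, add_div]
  module

theorem pv_smul (e : Fin 3 → Rl P) (c : F) (y : Fin 5 → F) : pv e (c • y) = c • pv e y := by
  simp only [pv, Fin.sum_univ_three, dotProduct_smul, smul_eq_mul, mul_div_assoc]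
  module

theorem pv_sub (e : Fin 3 → Rl P) (x y : Fin 5 → F) : pv e (x - y) = pv e x - pv e y := by
  simp only [pv, Fin.sum_univ_three, dotProduct_sub, sub_div]
  module

theorem pφ_smul (e : Fin 3 → Rl P) (c : F) (y : Fin 5 → F) : pφ e (c • y) = c • pφ e y := by
  simp only [pφ, Fin.sum_univ_three, smul_dotProduct, smul_eq_mul, mul_div_assoc]
  module

theorem pφ_sub (e : Fin 3 → Rl P) (x y : Fin 5 → F) : pφ e (x - y) = pφ e x - pφ e y := by
  simp only [pφ, Fin.sum_univ_three, sub_dotProduct, sub_div]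
  module

theorem sum_v (h : ∀ i j, i ≠ j → g (e i) (e j) = 0) (x : Fin 3 → F) (j : Fin 3) :
    (e j).φ ⬝ᵥ ∑ i, x i • (e i).v = 2 * x j := by
  rw [dotProduct_sum, Finset.sum_eq_single j]
  · rw [dotProduct_smul, (e j).two, smul_eq_mul, mul_comm]
  · intro i _ hi
    rw [dotProduct_smul, show (e j).φ ⬝ᵥ (e i).v = 0 from h j i hi.symm, smul_zero]
  · simp

theorem sum_φ (h : ∀ i j, i ≠ j → g (e i) (e j) = 0) (x : Fin 3 → F) (j : Fin 3) :
    (∑ i, x i • (e i).φ) ⬝ᵥ (e j).v = 2 * x j := by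
  rw [sum_dotProduct, Finset.sum_eq_single j]
  · rw [smul_dotProduct, (e j).two, smul_eq_mul, mul_comm]
  · intro i _ hi
    rw [smul_dotProduct, show (e i).φ ⬝ᵥ (e j).v = 0 from h i j hi, smul_zero]
  · simp

theorem φ_pv (h : ∀ i j, i ≠ j → g (e i) (e j) = 0) (h2 : (2 : F) ≠ 0) (y : Fin 5 → F)
    (j : Fin 3) : (e j).φ ⬝ᵥ pv e y = (e j).φ ⬝ᵥ y := by
  rw [pv, sum_v h]; field_simp

theorem pφ_v (h : ∀ i j, i ≠ j → g (e i) (e j) = 0) (h2 : (2 : F) ≠ 0) (y : Fin 5 → F)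
    (j : Fin 3) : pφ e y ⬝ᵥ (e j).v = y ⬝ᵥ (e j).v := by
  rw [pφ, sum_φ h]; field_simp

theorem pv_pv (h : ∀ i j, i ≠ j → g (e i) (e j) = 0) (h2 : (2 : F) ≠ 0) (y : Fin 5 → F) :
    pv e (pv e y) = pv e y := by
  conv_lhs => rw [pv]
  simp only [φ_pv h h2]
  rfl

theorem nu_def (e : Fin 3 → Rl P) (t : Rl P) : nu e t = 2 - t.φ ⬝ᵥ pv e t.v := by
  simp only [nu, pv, lam, g, Fin.sum_univ_three, dotProduct_add, dotProduct_smul, smul_eq_mul]
  ring

end RXa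

namespace Rl.Exc

open RXa

omit [Finite F] in
theorem pv_eq (h : Exc Δ e) (h2 : (2 : F) ≠ 0) (ha : a ∈ Δ) :
    pv e a.v = a.v ∧ pφ e a.φ = a.φ := by
  obtain ⟨x, hx⟩ := h.spv a ha
  obtain ⟨y, hy⟩ := h.spφ a ha
  constructor
  · rw [hx, pv]
    exact Finset.sum_congr rfl fun i _ => by rw [sum_v h.orth, mul_div_cancel_left₀ _ h2]
  · rw [hy, pφ]
    exact Finset.sum_congr rfl fun i _ => by rw [sum_φ h.orth, mul_div_cancel_left₀ _ h2]

omit [Finite F] in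
theorem g_eq (h : Exc Δ e) (h2 : (2 : F) ≠ 0) (ha : a ∈ Δ) (t : Rl P) :
    g a t = ∑ i, g a (e i) * g (e i) t / 2 ∧ g t a = ∑ i, g t (e i) * g (e i) a / 2 := by
  obtain ⟨h1, h3⟩ := h.pv_eq h2 ha
  constructor
  · rw [g, ← h3, pφ, sum_dotProduct]
    exact Finset.sum_congr rfl fun i _ => by
      rw [smul_dotProduct, smul_eq_mul, g, g]; ring
  · rw [g, ← h1, pv, dotProduct_sum]
    exact Finset.sum_congr rfl fun i _ => by
      rw [dotProduct_smul, smul_eq_mul, g, g]; ring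

omit [Finite F] in
theorem perp (h : Exc Δ e) (h2 : (2 : F) ≠ 0) (ha : a ∈ Δ) (y : Fin 5 → F) :
    a.φ ⬝ᵥ (y - pv e y) = 0 ∧ (y - pφ e y) ⬝ᵥ a.v = 0 := by
  obtain ⟨h1, h3⟩ := h.pv_eq h2 ha
  constructor
  · rw [dotProduct_sub, ← padj, h3, sub_self]
  · rw [sub_dotProduct, padj, h1, sub_self]

omit [Finite F] in
theorem nu_eq (h : Exc Δ e) (h2 : (2 : F) ≠ 0) (t : Rl P) :
    (t.φ - pφ e t.φ) ⬝ᵥ (t.v - pv e t.v) = nu e t ∧ pφ e t.φ ⬝ᵥ pv e t.v = 2 - nu e t ∧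
      (t.φ - pφ e t.φ) ⬝ᵥ pv e t.v = 0 ∧ pφ e t.φ ⬝ᵥ (t.v - pv e t.v) = 0 := by
  simp only [sub_dotProduct, dotProduct_sub, padj, pv_pv h.orth h2, nu_def, t.two]
  refine ⟨by ring, by ring, by ring, by ring⟩

omit [Finite F] in
theorem flip (h : Exc Δ e) (h2 : (2 : F) ≠ 0) (t : Rl P) : ∃ t' : Rl P,
    t'.v = pv e t.v - (t.v - pv e t.v) ∧ t'.φ = pφ e t.φ - (t.φ - pφ e t.φ) := by
  have o := h.orth
  have k : ∀ x : F, x = 2 * (x / 2) := fun x => by field_simp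
  refine ⟨Rl.sm (-1) (by simp) (Rl.mv (Rl.mv (Rl.mv t (e 0)) (e 1)) (e 2)), ?_, ?_⟩
  · change (-1 : F) • (t.v - g (e 0) t • (e 0).v - g (e 1) (Rl.mv t (e 0)) • (e 1).v -
      g (e 2) (Rl.mv (Rl.mv t (e 0)) (e 1)) • (e 2).v) = _
    simp only [g_mv_right, o 1 0 (by decide), o 2 0 (by decide), o 2 1 (by decide), mul_zero,
      sub_zero, pv, Fin.sum_univ_three]
    simp only [g]
    linear_combination (norm := module) k ((e 0).φ ⬝ᵥ t.v) • (e 0).v +
      k ((e 1).φ ⬝ᵥ t.v) • (e 1).v + k ((e 2).φ ⬝ᵥ t.v) • (e 2).v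
  · change (-1 : F)⁻¹ • (t.φ - g t (e 0) • (e 0).φ - g (Rl.mv t (e 0)) (e 1) • (e 1).φ -
      g (Rl.mv (Rl.mv t (e 0)) (e 1)) (e 2) • (e 2).φ) = _
    simp only [g_mv_left, o 0 1 (by decide), o 0 2 (by decide), o 1 2 (by decide), mul_zero,
      sub_zero, pφ, Fin.sum_univ_three, inv_neg_one]
    simp only [g]
    linear_combination (norm := module) k (t.φ ⬝ᵥ (e 0).v) • (e 0).φ +
      k (t.φ ⬝ᵥ (e 1).v) • (e 1).φ + k (t.φ ⬝ᵥ (e 2).v) • (e 2).φ

omit [Finite F] in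
theorem exists_mixed (h : Exc Δ e) (H : RS P) : ∃ t, Mixed e t := by
  by_contra hn
  push Not at hn
  let W : Submodule F (Fin 5 → F) := Submodule.span F (Set.range fun i => (e i).v)
  have hp : ∀ y, pv e y ∈ W := fun y =>
    W.sum_mem fun i _ => W.smul_mem _ (Submodule.subset_span ⟨i, rfl⟩)
  rcases bot_or_top H.two H.qs (T := Set.univ) (a := e 0) (fun _ _ _ => trivial) trivial W
    (fun s _ x hx => by
      by_cases h1 : s.v = pv e s.v
      · exact W.smul_mem _ (h1 ▸ hp _)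
      · have h3 : ∀ i, g (e i) s = 0 := fun i => by
          by_contra k
          exact hn s ⟨h1, i, k⟩
        have h4 : s.φ ⬝ᵥ x = 0 := by
          obtain ⟨y, rfl⟩ := (Submodule.mem_span_range_iff_exists_fun F).1 hx
          rw [dotProduct_sum]
          exact Finset.sum_eq_zero fun i _ => by
            rw [dotProduct_smul, show s.φ ⬝ᵥ (e i).v = 0 from zero H.two H.nt (h3 i), smul_zero]
        rw [h4, zero_smul]
        exact W.zero_mem) with k | k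
  · exact (e 0).v_ne H.two ((Submodule.eq_bot_iff W).1 k _ (Submodule.subset_span ⟨0, rfl⟩))
  · have := finrank_range_le_card (R := F) fun i => (e i).v
    rw [Set.finrank, show Submodule.span F _ = ⊤ from k, finrank_top,
      Module.finrank_fintype_fun_eq_card] at this
    simp at this

omit [Finite F] in
theorem mixed_ne (h : Exc Δ e) (H : RS P) (ht : Mixed e t) :
    t.φ ≠ pφ e t.φ ∧ pv e t.v ≠ 0 ∧ pφ e t.φ ≠ 0 ∧ ∀ a ∈ Δ, ¬ Same a t := by
  obtain ⟨h1, i, hi⟩ := ht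
  refine ⟨fun k => h1 ?_, fun k => hi ?_, fun k => ne_zero H.two H.nt hi ?_, fun a ha k => h1 ?_⟩
  · obtain ⟨t', e1, e2⟩ := h.flip H.two t
    rw [← k, sub_self, sub_zero] at e2
    obtain ⟨c, hc, e3, e4⟩ := same_of_par' H.two H.nt (a := t) (b := t') (x := 1)
      (by rw [e2, one_smul])
    have e5 : c⁻¹ = 1 := smul_left_injective F (t.φ_ne H.two) (by
      change c⁻¹ • t.φ = (1 : F) • t.φ
      rw [← e4, e2, one_smul])
    rw [inv_eq_one.1 e5, one_smul, e1] at e3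
    refine smul_right_injective _ H.two ?_
    change (2 : F) • t.v = (2 : F) • pv e t.v
    linear_combination (norm := module) -e3
  · rw [g, ← φ_pv h.orth H.two, k, dotProduct_zero]
  · rw [g, ← pφ_v h.orth H.two, k, zero_dotProduct]
  · obtain ⟨c, -, e1, -⟩ := k
    rw [e1, pv_smul, (h.pv_eq H.two ha).1]

omit [Finite F] in
/-- The product of a member of value zero in the complement and its flip. -/
theorem heis_el (h : Exc Δ e) (h2 : (2 : F) ≠ 0) (h0 : nu e t = 0) : ∃ k : P, ∀ y,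
    ((k : GL (Fin 5) F) : Matrix (Fin 5) (Fin 5) F) *ᵥ y =
      y + ((t.φ - pφ e t.φ) ⬝ᵥ y) • ((-2 : F) • pv e t.v) +
        (((2 : F) • pφ e t.φ - (4 : F) • (t.φ - pφ e t.φ)) ⬝ᵥ y) • (t.v - pv e t.v) := by
  obtain ⟨t', e1, e2⟩ := h.flip h2 t
  obtain ⟨k1, k2, k3, k4⟩ := h.nu_eq h2 t
  rw [h0] at k1 k2
  generalize hx : pv e t.v = x at *
  generalize hχ : pφ e t.φ = χ at *
  obtain ⟨f, hf⟩ : ∃ f, t.v = x + f := ⟨t.v - x, by abel⟩
  obtain ⟨ψ, hψ⟩ : ∃ f, t.φ = χ + f := ⟨t.φ - χ, by abel⟩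
  rw [hf, add_sub_cancel_left] at e1 k1 k4
  rw [hψ, add_sub_cancel_left] at e2 k1 k3
  refine ⟨t.el * t'.el, fun y => ?_⟩
  simp only [Subgroup.coe_mul, mul_mulVec, el_mulVec, e1, e2, hf, hψ, add_sub_cancel_left,
    dotProduct_add, dotProduct_sub, dotProduct_neg, add_dotProduct, sub_dotProduct,
    smul_dotProduct, dotProduct_smul, smul_eq_mul, k1, k2, k3, k4]
  module

omit [Finite F] in
theorem not_ns (h : Exc Δ e) (H : RS P) (ht : Mixed e t) (h0 : nu e t = 0) (ha : a ∈ Δ)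
    (hb : b ∈ Δ) : ¬ NS a b t := fun hn => hn (by
  have h2 := H.two
  obtain ⟨a1, a2⟩ := h.pv_eq h2 ha
  obtain ⟨b1, b2⟩ := h.pv_eq h2 hb
  set s := Rl.mv (Rl.mv t b) a with hs
  have s1 : pv e s.v = pv e t.v - g b t • b.v - g a (Rl.mv t b) • a.v := by
    change pv e (t.v - g b t • b.v - g a (Rl.mv t b) • a.v) = _
    rw [pv_sub, pv_sub, pv_smul, pv_smul, a1, b1]
  have s2 : pφ e s.φ = pφ e t.φ - g t b • b.φ - g (Rl.mv t b) a • a.φ := by
    change pφ e (t.φ - g t b • b.φ - g (Rl.mv t b) a • a.φ) = _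
    rw [pφ_sub, pφ_sub, pφ_smul, pφ_smul, a2, b2]
  have s3 : s.v - pv e s.v = t.v - pv e t.v := by
    rw [s1]
    change t.v - g b t • b.v - g a (Rl.mv t b) • a.v - _ = _
    abel
  have s4 : s.φ - pφ e s.φ = t.φ - pφ e t.φ := by
    rw [s2]
    change t.φ - g t b • b.φ - g (Rl.mv t b) a • a.φ - _ = _
    abel
  obtain ⟨k1, k2, k3, k4⟩ := h.nu_eq h2 t
  obtain ⟨l1, l2, l3, l4⟩ := h.nu_eq h2 s
  rw [s3, s4, k1] at l1
  obtain ⟨k, hk⟩ := h.heis_el h2 h0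
  obtain ⟨k', hk'⟩ := h.heis_el h2 (l1.symm.trans h0)
  rw [s3, s4] at hk'
  rw [s4] at l3
  rw [s3] at l4
  rw [h0] at k1
  have := heis H.nt (sub_ne_zero.2 ht.1) (sub_ne_zero.2 (h.mixed_ne H ht).1) k1
    (by rw [dotProduct_smul, k3, smul_zero]) (by rw [dotProduct_smul, l3, smul_zero])
    (by rw [sub_dotProduct, smul_dotProduct, smul_dotProduct, k1, k4]; simp)
    (by rw [sub_dotProduct, smul_dotProduct, smul_dotProduct, k1, l4]; simp) hk hk'
  rw [sub_dotProduct, sub_dotProduct] at this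
  simp only [smul_dotProduct, dotProduct_smul, k3, l3, smul_eq_mul] at this
  rw [s1, s2] at this
  have p1 : ∀ {c : Rl P}, c ∈ Δ → pφ e t.φ ⬝ᵥ c.v = g t c := fun hc => by
    rw [padj, (h.pv_eq h2 hc).1, g]
  have p2 : ∀ {c : Rl P}, c ∈ Δ → c.φ ⬝ᵥ pv e t.v = g c t := fun hc => by
    rw [← padj, (h.pv_eq h2 hc).2, g]
  simp only [dotProduct_sub, sub_dotProduct, dotProduct_smul, smul_dotProduct, smul_eq_mul,
    p1 ha, p1 hb, p2 ha, p2 hb, g_mv_left, g_mv_right] at this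
  refine mul_left_cancel₀ (mul_ne_zero h2 h2) ?_
  simp only [cyc]
  linear_combination -this)

omit [Finite F] in
/-- A triple of non-zero Gram determinant spans the frame. -/
theorem eq_zero_of_gdet (h : Exc Δ e) (h2 : (2 : F) ≠ 0) (ha : a ∈ Δ) (hb : b ∈ Δ) (hc : c ∈ Δ)
    (hd : gdet a b c ≠ 0) (h1 : g a t = 0) (h3 : g b t = 0) (h4 : g c t = 0) (i : Fin 3) :
    g (e i) t = 0 := by
  let u : Fin 3 → Rl P := ![a, b, c]
  have hu : ∀ i, u i ∈ Δ := fun i => by fin_cases i; exacts [ha, hb, hc]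
  let M : Matrix (Fin 3) (Fin 3) F := of fun i j => g (u i) (e j) / 2
  let N : Matrix (Fin 3) (Fin 3) F := of fun i j => g (e i) (u j)
  have e1 : M * N = of fun i j => g (u i) (u j) := by
    ext i j
    rw [mul_apply, of_apply, (h.g_eq h2 (hu i) (u j)).1]
    exact Finset.sum_congr rfl fun k _ => by simp only [M, N, of_apply]; ring
  have e2 : M.det ≠ 0 := fun k => hd (by
    have := congrArg det e1
    rw [det_mul, k, zero_mul, det_fin_three] at this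
    simp only [u, of_apply, cons_val_zero, cons_val_one, cons_val, g_self] at this
    simp only [gdet, lam, cyc]
    linear_combination -this)
  refine congrFun (eq_zero_of_mulVec_eq_zero e2 (v := fun i => g (e i) t) (funext fun j => ?_)) i
  have : g (u j) t = 0 := by fin_cases j; exacts [h1, h3, h4]
  rw [(h.g_eq h2 (hu j) t).1] at this
  rw [Pi.zero_apply, ← this, mulVec, dotProduct]
  exact Finset.sum_congr rfl fun k _ => by simp only [M, of_apply]; ring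

omit [Finite F] in
theorem nu_ne (h : Exc Δ e) (H : RS P) (ht : Mixed e t) : nu e t ≠ 0 := fun h0 => by
  have key : ∀ {a b c : Rl P}, a ∈ Δ → b ∈ Δ → c ∈ Δ → NS a b c → g a t = 0 :=
    fun {a b c} ha hb hc hn => by
    by_contra k
    obtain ⟨b', c', e1, e2, n1, -, k1, k2⟩ := hn.exists_adj H.two H.nt k
    have hb' : b' ∈ Δ := e1.elim (· ▸ hb) (· ▸ h.mv _ hb _ ha)
    have hc' : c' ∈ Δ := e2.elim (· ▸ hc) (· ▸ h.mv _ hc _ ha)
    rcases n1.kappa H.two H.nt k k1 k2 with n | n | n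
    exacts [h.not_ns H ht h0 ha hb' n, h.not_ns H ht h0 ha hc' n, h.not_ns H ht h0 hb' hc' n]
  obtain ⟨a, ha, b, hb, c, hc, hn, hd⟩ := h.ns
  obtain ⟨i, hi⟩ := ht.2
  exact hi (h.eq_zero_of_gdet H.two ha hb hc hd (key ha hb hc hn) (key hb hc ha hn.rot)
    (key hc ha hb hn.rot.rot) i)

omit [Finite F] in
theorem pv_frame (h : Exc Δ e) (h2 : (2 : F) ≠ 0) {e' : Fin 3 → Rl P} (h1 : ∀ i, e' i ∈ Δ)
    (h0 : ∀ i j, i ≠ j → g (e' i) (e' j) = 0) (y : Fin 5 → F) : pv e' y = pv e y := by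
  let M : Matrix (Fin 3) (Fin 3) F := of fun i j => g (e' i) (e j) / 2
  let N : Matrix (Fin 3) (Fin 3) F := of fun i j => g (e i) (e' j) / 2
  have e1 : M * N = 1 := by
    ext i j
    have : (M * N) i j = g (e' i) (e' j) / 2 := by
      rw [mul_apply, (h.g_eq h2 (h1 i) (e' j)).1, Finset.sum_div]
      exact Finset.sum_congr rfl fun k _ => by simp only [M, N, of_apply]; ring
    rw [this]
    by_cases k : i = j
    · rw [k, g_self, one_apply_eq, div_self h2]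
    · rw [h0 i j k, one_apply_ne k, zero_div]
  have e2 := mul_eq_one_comm.1 e1
  have e3 : ∀ j, (e' j).v = ∑ k, N k j • (e k).v := fun j => (h.pv_eq h2 (h1 j)).1.symm
  have e4 : ∀ j, (e' j).φ ⬝ᵥ y / 2 = ∑ k, M j k * ((e k).φ ⬝ᵥ y / 2) := fun j => by
    rw [← (h.pv_eq h2 (h1 j)).2, pφ, sum_dotProduct, Finset.sum_div]
    exact Finset.sum_congr rfl fun k _ => by
      simp only [M, of_apply, smul_dotProduct, smul_eq_mul, g]; ring
  have e5 : ∀ k, ∑ j, N k j * ((e' j).φ ⬝ᵥ y / 2) = (e k).φ ⬝ᵥ y / 2 := fun k => by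
    have := congrFun (mulVec_mulVec (fun k => (e k).φ ⬝ᵥ y / 2) N M) k
    rw [e2, one_mulVec] at this
    rw [← this]
    simp only [e4]
    rfl
  rw [pv, pv]
  simp only [e3, Finset.smul_sum, smul_smul, ← e5, Finset.sum_smul]
  rw [Finset.sum_comm]
  simp only [mul_comm]

omit [Finite F] in
theorem frame (h : Exc Δ e) (H : RS P) (hK : K1 Δ) {e' : Fin 3 → Rl P} (h1 : ∀ i, e' i ∈ Δ)
    (h0 : ∀ i j, i ≠ j → g (e' i) (e' j) = 0) :
    Exc Δ e' ∧ (∀ y, pv e' y = pv e y) ∧ (∀ y, pφ e' y = pφ e y) ∧ ∀ t, nu e' t = nu e t := by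
  have k1 := h.pv_frame H.two h1 h0
  have k2 : ∀ y, pφ e' y = pφ e y := fun y => dotProduct_eq _ _ fun x => by rw [padj, padj, k1]
  exact ⟨⟨h.mv, h.sm, h1, h0, fun a ha => ⟨_, ((k1 _).trans (h.pv_eq H.two ha).1).symm⟩,
    fun a ha => ⟨_, ((k2 _).trans (h.pv_eq H.two ha).2).symm⟩, h.ns,
    fun i j k => hK.swap _ (h1 i) _ (h1 j) (h0 i j k)⟩, k1, k2,
    fun t => by rw [nu_def, nu_def, k1]⟩

end Rl.Exc

end Cfsg.Agent.Cl.D5
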