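/-
Subgroups of `SL₅(F)`: no exceptional system of type `L₂(7)` in characteristic three.
-/
import Mathlib
import Cfsg.Agent.Cl.D5RDefs
import Cfsg.Agent.Cl.D5RX
import Cfsg.Agent.Cl.D5RB

set_option autoImplicit false

namespace Cfsg.Agent.Cl.D5

open Matrix Cfsg.Geo Cfsg.Agent.Cl.Max Cfsg.Agent.Cl.Mx Rl
open scoped MatrixGroups

variable {F : Type*} [Field F] [Finite F] {P : Subgroup (GL (Fin 5) F)} {a b c t : Rl P}
  {Δ : Set (Rl P)} {e : Fin 3 → Rl P}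

namespace RE3

variable {s s' : Rl P} {κ κ' μ μ' : F} {f ζ f' ζ' : Fin 5 → F}

/-- `s` interchanges `a` and `b`. -/
def Sw (a b s : Rl P) (κ κ' : F) : Prop :=
  κ * κ' = 1 ∧ ∃ γ γ' : F, 2 * γ * γ' = 1 ∧
    ∀ t, g s t = γ * (g a t - κ' * g b t) ∧ g t s = γ' * (g t a - κ * g t b)

/-- Orthogonal frames. -/
structure Fr (Δ : Set (Rl P)) (a b c : Rl P) : Prop where
  ha : a ∈ Δ
  hb : b ∈ Δ
  hc : c ∈ Δ
  ab : g a b = 0
  ba : g b a = 0
  ac : g a c = 0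
  ca : g c a = 0
  bc : g b c = 0
  cb : g c b = 0

omit [Finite F] in
theorem Fr.swap (h : Fr Δ a b c) : Fr Δ b a c :=
  ⟨h.hb, h.ha, h.hc, h.ba, h.ab, h.bc, h.cb, h.ac, h.ca⟩

omit [Finite F] in
theorem Fr.rot (h : Fr Δ a b c) : Fr Δ b c a :=
  ⟨h.hb, h.hc, h.ha, h.bc, h.cb, h.ba, h.ab, h.ca, h.ac⟩

theorem exists_sw (H : RS P) (hK : K1 Δ) (ha : a ∈ Δ) (hb : b ∈ Δ) (hab : g a b = 0) :
    ∃ s ∈ Δ, ∃ κ κ', Sw a b s κ κ' := by
  obtain ⟨s, hs, h1⟩ := hK.swap a ha b hb hab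
  obtain ⟨κ, γ, γ', hκ, h2, h3, h4⟩ := swap_data H.two H.nt hab h1
  refine ⟨s, hs, κ, κ⁻¹, mul_inv_cancel₀ hκ, γ, γ', h2, fun t => ⟨?_, ?_⟩⟩
  · simp only [g, h4, smul_dotProduct, sub_dotProduct, smul_eq_mul]
  · simp only [g, h3, dotProduct_smul, dotProduct_sub, smul_eq_mul]

omit [Finite F] in
theorem Sw.neg (h : Sw a b s κ κ') (ab : g a b = 0) (ba : g b a = 0) :
    Sw a b (mv s a) (-κ) (-κ') := by
  obtain ⟨h1, γ, γ', h2, h3⟩ := h
  refine ⟨by linear_combination h1, -γ, -γ', by linear_combination h2, fun t => ⟨?_, ?_⟩⟩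
  · rw [g_mv_left, (h3 t).1, (h3 a).1, g_self, ba]; ring
  · rw [g_mv_right, (h3 t).2, (h3 a).2, g_self, ab]; ring

omit [Finite F] in
theorem Sw.comp (h : Sw a b s κ κ') (h' : Sw b c s' μ μ') (hf : Fr Δ a b c) :
    Sw a c (mv s s') (κ * μ) (κ' * μ') := by
  obtain ⟨h1, γ, γ', h2, h3⟩ := h
  obtain ⟨k1, δ, δ', k2, k3⟩ := h'
  refine ⟨by linear_combination μ * μ' * h1 + k1, γ, γ', h2, fun t => ⟨?_, ?_⟩⟩
  · rw [g_mv_left, (h3 t).1, (h3 s').1, (k3 t).1, (k3 a).2, (k3 b).2, g_self, hf.ab, hf.ac, hf.bc]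
    linear_combination γ * κ' * (g b t - μ' * g c t) * k2
  · rw [g_mv_right, (h3 t).2, (h3 s').2, (k3 t).2, (k3 a).1, (k3 b).1, g_self, hf.ba, hf.ca, hf.cb]
    linear_combination γ' * κ * (g t b - μ * g t c) * k2

omit [Finite F] in
theorem Sw.lam (h : Sw a b s κ κ') (t : Rl P) : 2 * lam s t =
    lam a t + lam b t - κ * (g a t * g t b) - κ' * (g b t * g t a) := by
  obtain ⟨h1, γ, γ', h2, h3⟩ := h
  simp only [Rl.lam, (h3 t).1, (h3 t).2]
  linear_combination (g a t - κ' * g b t) * (g t a - κ * g t b) * h2 + g b t * g t b * h1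

omit [Finite F] in
theorem Sw.fr (h : Sw a b s κ κ') (hE : Exc Δ e) (hs : s ∈ Δ) (hf : Fr Δ a b c) :
    Fr Δ s (mv s a) c := by
  obtain ⟨-, δ, δ', -, k3⟩ := h.neg hf.ab hf.ba
  obtain ⟨h1, γ, γ', h2, h3⟩ := h
  refine ⟨hs, hE.mv _ hs _ hf.ha, hf.hc, ?_, ?_, ?_, ?_, ?_, ?_⟩
  · rw [(h3 _).1, (k3 a).2, (k3 b).2, g_self, g_self, hf.ab, hf.ba]
    linear_combination (-2 * γ * δ') * h1
  · rw [(h3 _).2, (k3 a).1, (k3 b).1, g_self, g_self, hf.ab, hf.ba]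
    linear_combination (-2 * γ' * δ) * h1
  · rw [(h3 c).1, hf.ac, hf.bc]; ring
  · rw [(h3 c).2, hf.ca, hf.cb]; ring
  · rw [(k3 c).1, hf.ac, hf.bc]; ring
  · rw [(k3 c).2, hf.ca, hf.cb]; ring

theorem Fr.eq (H : RS P) (hE : Exc Δ e) (hK : K1 Δ) (hf : Fr Δ a b c) (t : Rl P) :
    pv e t.v = (g a t / 2) • a.v + (g b t / 2) • b.v + (g c t / 2) • c.v ∧
    pφ e t.φ = (g t a / 2) • a.φ + (g t b / 2) • b.φ + (g t c / 2) • c.φ ∧
    2 * nu e t = 4 - (lam a t + lam b t + lam c t) := by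
  obtain ⟨-, h1, h2, h3⟩ := hE.frame H hK (e' := ![a, b, c])
    (fun i => by fin_cases i <;> simp [hf.ha, hf.hb, hf.hc])
    (fun i j hij => by
      fin_cases i <;> fin_cases j <;> simp [hf.ab, hf.ba, hf.ac, hf.ca, hf.bc, hf.cb] at hij ⊢)
  rw [← h1, ← h2, ← h3]
  refine ⟨by simp [pv, g, Fin.sum_univ_three], by simp [pφ, g, Fin.sum_univ_three], ?_⟩
  have := H.two
  simp only [nu, Fin.sum_univ_three, cons_val_zero, cons_val_one, cons_val]
  field_simp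
  ring

omit [Finite F] in
theorem pv_lin (x y : F) (u w : Fin 5 → F) : pv e (x • u + y • w) = x • pv e u + y • pv e w := by
  simp only [pv, Fin.sum_univ_three, dotProduct_add, dotProduct_smul, smul_eq_mul]
  module

omit [Finite F] in
theorem pφ_lin (x y : F) (u w : Fin 5 → F) : pφ e (x • u + y • w) = x • pφ e u + y • pφ e w := by
  simp only [pφ, Fin.sum_univ_three, add_dotProduct, smul_dotProduct, smul_eq_mul]
  module

theorem sym_of_mixed (H : RS P) (hE : Exc Δ e) (ht : Mixed e t) (ha : a ∈ Δ) (hb : b ∈ Δ)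
    (h0 : gdet a b t = 0) : cyc a b t = cyc a t b := by
  by_contra hn
  obtain ⟨⟨x, y, h⟩, -⟩ := pl_of_gdet H.two H.nt hn h0
  refine ht.1 ?_
  rw [h, pv_lin, (hE.pv_eq H.two ha).1, (hE.pv_eq H.two hb).1]

/-- `t` has the part `a` in the span of `Δ` and the part `(f, ζ)` in the complement. -/
def TA (Δ : Set (Rl P)) (a t : Rl P) (f ζ : Fin 5 → F) : Prop :=
  a ∈ Δ ∧ (∀ s ∈ Δ, s.φ ⬝ᵥ f = 0 ∧ ζ ⬝ᵥ s.v = 0) ∧
    ∃ x y : F, x * y = 2 ∧ t.v = x • a.v + f ∧ t.φ = y • a.φ + ζ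

theorem ta_200 (H : RS P) (h3 : (3 : F) = 0) (hE : Exc Δ e) (hK : K1 Δ) (hf : Fr Δ a b c)
    (h1 : lam a t = 2) (h2 : lam b t = 0) (h4 : lam c t = 0) :
    ∃ a, TA Δ a t (t.v - pv e t.v) (t.φ - pφ e t.φ) := by
  have z : ∀ {b : Rl P}, lam b t = 0 → g b t = 0 ∧ g t b = 0 := fun {b} h =>
    (mul_eq_zero.1 h).elim (fun h => ⟨h, zero H.two H.nt h⟩) fun h => ⟨zero H.two H.nt h, h⟩
  obtain ⟨e1, e2, -⟩ := hf.eq H hE hK t
  rw [(z h2).1, (z h4).1] at e1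
  rw [(z h2).2, (z h4).2] at e2
  refine ⟨a, hf.ha, fun s hs => ⟨(hE.perp H.two hs _).1, (hE.perp H.two hs _).2⟩, g a t / 2,
    g t a / 2, ?_, by rw [e1]; module, by rw [e2]; module⟩
  have := H.two
  simp only [lam] at h1
  field_simp
  linear_combination h1 - 2 * h3

/-- The configuration of swaps. -/
theorem cfg (H : RS P) (h3 : (3 : F) = 0) (hE : Exc Δ e) (hK : K1 Δ)
    (hv : ∀ a b : Rl P, lam a b = 0 ∨ lam a b = 1 ∨ lam a b = 2) (hf : Fr Δ a b c)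
    (hs : s ∈ Δ) (h : Sw a b s κ κ') : ∃ ρ ∈ Δ, ∃ p ∈ Δ, ∃ q ∈ Δ, ∃ l l' α α' β β' : F,
      Sw a c p (-(κ * l)) (-(κ' * l')) ∧ Sw b c q l l' ∧ α * α' = 1 ∧ β * β' = 2 ∧
      (∀ t, g ρ t = α * (g a t + κ' * g b t) + β * g c t ∧
        g t ρ = α' * (g t a + κ * g t b) + β' * g t c) ∧
      -(κ * l) * β * α' + -(κ' * l') * β' * α = 2 := by
  have hf' := h.fr hE hs hf
  obtain ⟨ρ, hρ, τ, τ', k1, δ, δ', k2, k3⟩ := exists_sw H hK hf'.hb hf'.hc hf'.bc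
  obtain ⟨q, hq, μ, μ', hq'⟩ := exists_sw H hK hf.hb hf.hc hf.bc
  obtain ⟨m1, γ, γ', m2, m3⟩ := h.neg hf.ab hf.ba
  have e1 : ∀ t, g ρ t = δ * γ * (g a t + κ' * g b t) + -(δ * τ') * g c t ∧
      g t ρ = δ' * γ' * (g t a + κ * g t b) + -(δ' * τ) * g t c := fun t => by
    rw [(k3 t).1, (k3 t).2, (m3 t).1, (m3 t).2]
    constructor <;> ring
  have a1 : δ * γ * (δ' * γ') = 1 := by grind
  have b1 : -(δ * τ') * -(δ' * τ) = 2 := by grind
  have hp := h.comp hq' hf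
  have hp0 := hE.mv _ hs _ hq
  generalize δ * γ = α at *
  generalize δ' * γ' = α' at *
  generalize -(δ * τ') = β at *
  generalize -(δ' * τ) = β' at *
  generalize mv s q = p at *
  have v1 := hp.lam ρ
  simp only [lam, (e1 a).1, (e1 a).2, (e1 c).1, (e1 c).2, g_self, hf.ab, hf.ba, hf.ac, hf.ca,
    hf.bc, hf.cb] at v1
  rcases hv p ρ with h0 | h0 | h0
  · exfalso
    obtain ⟨n1, σ, σ', n2, n3⟩ := hp
    have z : g p ρ = 0 ∧ g ρ p = 0 :=
      (mul_eq_zero.1 h0).elim (fun h => ⟨h, zero H.two H.nt h⟩) fun h => ⟨zero H.two H.nt h, h⟩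
    rw [(n3 ρ).1, (n3 ρ).2] at z
    simp only [(e1 a).1, (e1 a).2, (e1 c).1, (e1 c).2, g_self, hf.ab, hf.ba, hf.ac, hf.ca,
      hf.bc, hf.cb] at z
    have := H.two
    grind
  · refine ⟨ρ, hρ, _, hE.mv _ hp0 _ hf.ha, q, hq, μ, μ', α, α', β, β', hp.neg hf.ac hf.ca, hq', a1,
      b1, e1, ?_⟩
    simp only [lam] at h0
    grind
  · refine ⟨ρ, hρ, p, hp0, _, hE.mv _ hq _ hf.hb, -μ, -μ', α, α', β, β', by simpa using hp,
      hq'.neg hf.bc hf.cb, a1, b1, e1, ?_⟩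
    simp only [lam] at h0
    grind

theorem ta_110 (H : RS P) (h3 : (3 : F) = 0) (hE : Exc Δ e) (hK : K1 Δ)
    (hv : ∀ a b : Rl P, lam a b = 0 ∨ lam a b = 1 ∨ lam a b = 2) (ht : Mixed e t)
    (hf : Fr Δ a b c) (h1 : lam a t = 1) (h2 : lam b t = 1) (h4 : lam c t = 0) :
    ∃ a, TA Δ a t (t.v - pv e t.v) (t.φ - pφ e t.φ) := by
  obtain ⟨s, hs, κ, κ', h⟩ := exists_sw H hK hf.ha hf.hb hf.ab
  have hf' := h.fr hE hs hf
  have v1 := h.lam t
  have v2 := (h.neg hf.ab hf.ba).lam t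
  have two := H.two
  rcases hv s t with h0 | h0 | h0
  · exact ta_200 H h3 hE hK hf'.swap (by grind) h0 h4
  swap
  · exact ta_200 H h3 hE hK hf' h0 (by grind) h4
  exfalso
  have z : g c t = 0 ∧ g t c = 0 :=
    (mul_eq_zero.1 h4).elim (fun h => ⟨h, zero H.two H.nt h⟩) fun h => ⟨zero H.two H.nt h, h⟩
  obtain ⟨ρ, hρ, p, hp, q, -, l, l', α, α', β, β', ⟨n1, σ, σ', n2, n3⟩, -, a1, b1, e1, y1⟩ :=
    cfg H h3 hE hK hv hf hs h
  have k1 := h.1
  have key : ∀ (ε : F) (r : Rl P), r ∈ Δ → ε * ε = 1 →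
      (∀ t, g r t = α * (g a t + ε * κ' * g b t) + β * g c t ∧
        g t r = α' * (g t a + ε * κ * g t b) + β' * g t c) →
      ε * (1 + κ' * l' * β' * α) * (κ' * (g b t * g t a)) = -1 → False := fun ε r hr hε e2 hs => by
    have c1 : cyc p r t = (1 + κ' * l' * β' * α) * (1 + ε * (κ' * (g b t * g t a))) := by
      simp only [cyc, (n3 r).1, (n3 t).2, (e2 t).1, (e2 a).2, (e2 c).2, g_self, z.1, z.2, hf.ab,
        hf.ac, hf.ca, hf.cb]
      simp only [lam] at h1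
      linear_combination (α * α' + κ' * l' * β' * α) * (g a t * g t a + ε * (κ' * (g b t * g t a))) *
        n2 + (g a t * g t a + ε * (κ' * (g b t * g t a))) * a1 + (1 + κ' * l' * β' * α) * h1
    have c2 : cyc p t r = (1 + κ * l * β * α') * (1 + ε * (κ * (g a t * g t b))) := by
      simp only [cyc, (n3 r).2, (n3 t).1, (e2 t).2, (e2 a).1, (e2 c).1, g_self, z.1, z.2, hf.ba,
        hf.ac, hf.ca, hf.bc]
      simp only [lam] at h1
      linear_combination (α * α' + κ * l * β * α') * (g a t * g t a + ε * (κ * (g a t * g t b))) *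
        n2 + (g a t * g t a + ε * (κ * (g a t * g t b))) * a1 + (1 + κ * l * β * α') * h1
    have l1 : lam p r = 2 := by
      simp only [lam, (n3 r).1, (n3 r).2, (e2 a).1, (e2 a).2, (e2 c).1, (e2 c).2, g_self, hf.ab,
        hf.ba, hf.ac, hf.ca, hf.cb, hf.bc]
      grind
    have l2 : lam p t = 2 := by
      simp only [lam, (n3 t).1, (n3 t).2, z.1, z.2] at h1 ⊢
      linear_combination σ * σ' * h1 - n2 + (σ * σ' - 1) * h3
    have l3 : lam r t = 2 := by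
      rw [h0, h1, h2] at v1
      simp only [lam, (e2 t).1, (e2 t).2, z.1, z.2] at h1 h2 ⊢
      linear_combination (g a t + ε * κ' * g b t) * (g t a + ε * κ * g t b) * a1 + h1 + ε * v1 +
        κ * κ' * (g b t * g t b) * hε + g b t * g t b * k1 + h2
    have := sym_of_mixed H hE ht hp hr (by rw [gdet, c1, c2, l1, l2, l3]; grind)
    rw [c1, c2] at this
    grind
  have sq : ((1 + κ' * l' * β' * α) * (κ' * (g b t * g t a))) ^ 2 = 1 := by
    simp only [lam] at h1 h2 v1 h0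
    grind
  rcases sq_eq_one_iff.1 sq with h5 | h5
  · refine key (-1) (mv ρ b) (hE.mv _ hρ _ hf.hb) (by ring) (fun t => ?_) (by linear_combination -h5)
    rw [g_mv_left, g_mv_right, (e1 t).1, (e1 t).2, (e1 b).1, (e1 b).2, g_self, hf.ab, hf.ba, hf.bc,
      hf.cb]
    constructor <;> ring
  · exact key 1 ρ hρ (by ring) (by simpa using e1) (by linear_combination h5)

theorem ta_221 (H : RS P) (h3 : (3 : F) = 0) (hE : Exc Δ e) (hK : K1 Δ)
    (hv : ∀ a b : Rl P, lam a b = 0 ∨ lam a b = 1 ∨ lam a b = 2) (ht : Mixed e t)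
    (hf : Fr Δ a b c) (h1 : lam a t = 2) (h2 : lam b t = 2) (h4 : lam c t = 1) :
    ∃ a, TA Δ a t (t.v - pv e t.v) (t.φ - pφ e t.φ) := by
  obtain ⟨s, hs, κ, κ', h⟩ := exists_sw H hK hf.ha hf.hb hf.ab
  have hf' := h.fr hE hs hf
  have v1 := h.lam t
  have v2 := (h.neg hf.ab hf.ba).lam t
  have two := H.two
  rcases hv s t with h0 | h0 | h0
  · exact ta_110 H h3 hE hK hv ht hf'.rot (by grind) h4 h0
  · exact ta_110 H h3 hE hK hv ht hf'.swap.rot h0 h4 (by grind)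
  exfalso
  obtain ⟨k1, γ, γ', k2, k3⟩ := h
  have c1 : cyc a s t = 2 - κ' * (g b t * g t a) := by
    simp only [cyc, (k3 t).1, (k3 a).2, g_self, hf.ab]
    simp only [lam] at h1
    grind
  have c2 : cyc a t s = 2 - κ * (g a t * g t b) := by
    simp only [cyc, (k3 t).2, (k3 a).1, g_self, hf.ba]
    simp only [lam] at h1
    grind
  have l1 : lam a s = 2 := by
    simp only [lam, (k3 a).1, (k3 a).2, g_self, hf.ab, hf.ba]
    grind
  have := sym_of_mixed H hE ht hf.ha hs (by rw [gdet, c1, c2, l1, h1, h0]; grind)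
  rw [c1, c2] at this
  simp only [lam] at h1 h2 v1 h0
  grind

omit [Finite F] in
theorem fr0 (hE : Exc Δ e) : Fr Δ (e 0) (e 1) (e 2) :=
  ⟨hE.fr 0, hE.fr 1, hE.fr 2, hE.orth _ _ (by simp), hE.orth _ _ (by simp), hE.orth _ _ (by simp),
    hE.orth _ _ (by simp), hE.orth _ _ (by simp), hE.orth _ _ (by simp)⟩

theorem ta_one (H : RS P) (h3 : (3 : F) = 0) (hE : Exc Δ e) (hK : K1 Δ)
    (hv : ∀ a b : Rl P, lam a b = 0 ∨ lam a b = 1 ∨ lam a b = 2) (ht : Mixed e t)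
    (h1 : nu e t = 1) : ∃ a, TA Δ a t (t.v - pv e t.v) (t.φ - pφ e t.φ) := by
  have hf := fr0 hE
  have h := (hf.eq H hE hK t).2.2
  have two := H.two
  rcases hv (e 0) t with a | a | a <;> rcases hv (e 1) t with b | b | b <;>
    rcases hv (e 2) t with c | c | c <;> first
    | exact ta_200 H h3 hE hK hf a b c
    | exact ta_200 H h3 hE hK hf.rot b c a
    | exact ta_200 H h3 hE hK hf.rot.rot c a b
    | exact ta_110 H h3 hE hK hv ht hf a b c
    | exact ta_110 H h3 hE hK hv ht hf.rot b c a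
    | exact ta_110 H h3 hE hK hv ht hf.rot.rot c a b
    | exact ta_221 H h3 hE hK hv ht hf a b c
    | exact ta_221 H h3 hE hK hv ht hf.rot b c a
    | exact ta_221 H h3 hE hK hv ht hf.rot.rot c a b
    | (exfalso; grind)

theorem exists_two (H : RS P) (h3 : (3 : F) = 0) (hE : Exc Δ e) (hK : K1 Δ)
    (hv : ∀ a b : Rl P, lam a b = 0 ∨ lam a b = 1 ∨ lam a b = 2) (ht : Mixed e t)
    (h1 : nu e t = 2) : ∃ s ∈ Δ, lam s t = 2 := by
  by_contra hn
  have hv' : ∀ s ∈ Δ, lam s t = 0 ∨ lam s t = 1 := fun s hs => by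
    rcases hv s t with h | h | h
    exacts [.inl h, .inr h, (hn ⟨s, hs, h⟩).elim]
  have hf := fr0 hE
  have h := (hf.eq H hE hK t).2.2
  have two := H.two
  obtain ⟨i, hi⟩ := ht.2
  have hi' : lam (e i) t ≠ 0 := mul_ne_zero hi (ne_zero H.two H.nt hi)
  have all : lam (e 0) t = 1 ∧ lam (e 1) t = 1 ∧ lam (e 2) t = 1 := by
    have a := hv' _ hf.ha
    have b := hv' _ hf.hb
    have c := hv' _ hf.hc
    fin_cases i <;> simp only [Fin.zero_eta, Fin.mk_one, Fin.reduceFinMk] at hi' <;> grind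
  have key : ∀ {a b s : Rl P} {κ κ' : F}, a ∈ Δ → s ∈ Δ → g a b = 0 → g b a = 0 → Sw a b s κ κ' →
      lam a t = 1 → lam b t = 1 → (κ * (g a t * g t b)) ^ 2 = -1 :=
    fun {a b s κ κ'} ha hs ab ba h la lb => by
      have v1 := h.lam t
      have v2 := (h.neg ab ba).lam t
      have w1 := hv' _ hs
      have w2 := hv' _ (hE.mv _ hs _ ha)
      have := h.1
      have w3 : κ * (g a t * g t b) + κ' * (g b t * g t a) = 0 := by grind
      simp only [lam] at la lb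
      grind
  obtain ⟨s, hs, κ, κ', h1⟩ := exists_sw H hK hf.ha hf.hb hf.ab
  obtain ⟨s', hs', μ, μ', h2⟩ := exists_sw H hK hf.hb hf.hc hf.bc
  have k1 := key hf.ha hs hf.ab hf.ba h1 all.1 all.2.1
  have k2 := key hf.hb hs' hf.bc hf.cb h2 all.2.1 all.2.2
  have k3 := key hf.ha (hE.mv _ hs _ hs') hf.ac hf.ca (h1.comp h2 hf) all.1 all.2.2
  have := all.2.1
  simp only [lam] at this
  grind

theorem ta_mixed (H : RS P) (h3 : (3 : F) = 0) (hE : Exc Δ e) (hK : K1 Δ)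
    (hv : ∀ a b : Rl P, lam a b = 0 ∨ lam a b = 1 ∨ lam a b = 2) (ht : Mixed e t) :
    ∃ a t' f ζ, ∃ x : F, x ≠ 0 ∧ TA Δ a t' f ζ ∧ f = x • (t.v - pv e t.v) := by
  have two := H.two
  have hn := hE.nu_ne H ht
  have h := ((fr0 hE).eq H hE hK t).2.2
  have h12 : nu e t = 1 ∨ nu e t = 2 := by
    have a := hv (e 0) t
    have b := hv (e 1) t
    have c := hv (e 2) t
    grind
  rcases h12 with h1 | h1
  · obtain ⟨a, ha⟩ := ta_one H h3 hE hK hv ht h1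
    exact ⟨a, t, _, _, 1, one_ne_zero, ha, (one_smul _ _).symm⟩
  obtain ⟨s, hs, h2⟩ := exists_two H h3 hE hK hv ht h1
  have e1 : (mv s t).v - pv e (mv s t).v = -g t s • (t.v - pv e t.v) := by
    have : (mv s t).v = (1 : F) • s.v + -g t s • t.v := by simp only [mv]; module
    rw [this, pv_lin, (hE.pv_eq H.two hs).1]; module
  have e2 : (mv s t).φ - pφ e (mv s t).φ = -g s t • (t.φ - pφ e t.φ) := by
    have : (mv s t).φ = (1 : F) • s.φ + -g s t • t.φ := by simp only [mv]; module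
    rw [this, pφ_lin, (hE.pv_eq H.two hs).2]; module
  have n1 : nu e (mv s t) = 1 := by
    rw [← (hE.nu_eq H.two _).1, e1, e2, smul_dotProduct, dotProduct_smul, (hE.nu_eq H.two _).1, h1]
    simp only [lam] at h2
    simp only [smul_eq_mul]
    grind
  have hm : Mixed e (mv s t) := by
    refine ⟨fun e0 => ?_, ?_⟩
    · rw [← (hE.nu_eq H.two _).1, sub_eq_zero.2 e0, dotProduct_zero] at n1
      exact zero_ne_one n1
    · by_contra h0
      push Not at h0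
      simp only [nu, lam, h0, zero_mul, zero_div, Finset.sum_const_zero] at n1
      grind
  obtain ⟨a, ha⟩ := ta_one H h3 hE hK hv hm n1
  refine ⟨a, _, _, _, -g t s, fun h0 => ?_, ha, e1⟩
  rw [lam, neg_eq_zero.1 h0, mul_zero] at h2
  exact two h2.symm

omit [Finite F] in
theorem TA.one (h3 : (3 : F) = 0) (h : TA Δ a t f ζ) : ζ ⬝ᵥ f = 1 := by
  obtain ⟨ha, h1, x, y, h2, h4, h5⟩ := h
  have := t.two
  rw [h4, h5] at this
  simp only [add_dotProduct, dotProduct_add, smul_dotProduct, dotProduct_smul, a.two, smul_eq_mul,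
    (h1 a ha).1, (h1 a ha).2] at this
  grind

omit [Finite F] in
theorem TA.move (hE : Exc Δ e) (hK : K1 Δ) (h : TA Δ a t f ζ) (hb : b ∈ Δ) :
    ∃ t, TA Δ b t f ζ := by
  obtain ⟨a', h1, c, hc, h2, h4⟩ := hK.trans a h.1 b hb
  have : ∃ t, TA Δ a' t f ζ := by
    clear h2 h4
    induction h1 with
    | refl => exact ⟨t, h⟩
    | tail _ h1 ih =>
      obtain ⟨s, hs, rfl⟩ := h1
      obtain ⟨t, ha, k1, x, y, k2, k3, k4⟩ := ih
      refine ⟨mv t s, hE.mv _ ha _ hs, k1, x, y, k2, ?_, ?_⟩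
      · simp only [mv, g, k3, dotProduct_add, dotProduct_smul, (k1 s hs).1, smul_eq_mul]
        module
      · simp only [mv, g, k4, add_dotProduct, smul_dotProduct, (k1 s hs).2, smul_eq_mul]
        module
  obtain ⟨t, -, k1, x, y, k2, k3, k4⟩ := this
  refine ⟨t, hb, k1, x * c⁻¹, y * c, by field_simp; exact k2, ?_, ?_⟩
  · rw [k3, h2, smul_smul, inv_mul_cancel_right₀ hc]
  · rw [k4, h4, smul_smul, mul_inv_cancel_right₀ hc]

theorem triple (H : RS P) (h3 : (3 : F) = 0) (hE : Exc Δ e) (hK : K1 Δ)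
    (hv : ∀ a b : Rl P, lam a b = 0 ∨ lam a b = 1 ∨ lam a b = 2) :
    ∃ a ∈ Δ, ∃ b ∈ Δ, ∃ s ∈ Δ, lam a b = 2 ∧ lam a s = 1 ∧ lam s b = 1 ∧
      cyc a s b + cyc a b s = 1 := by
  have hf := fr0 hE
  generalize e 0 = a, e 1 = b, e 2 = c at hf
  obtain ⟨s, hs, κ, κ', h⟩ := exists_sw H hK hf.ha hf.hb hf.ab
  obtain ⟨ρ, hρ, p, hp, q, hq, l, l', α, α', β, β', ⟨n1, σ, σ', n2, n3⟩, ⟨m1, τ, τ', m2, m3⟩, a1,
    b1, e1, y1⟩ := cfg H h3 hE hK hv hf hs h
  have k1 := h.1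
  refine ⟨p, hp, ρ, hρ, q, hq, ?_, ?_, ?_, ?_⟩ <;>
    simp only [lam, cyc, (n3 ρ).1, (n3 ρ).2, (n3 q).1, (n3 q).2, (m3 ρ).1, (m3 ρ).2, (m3 a).1,
      (m3 a).2, (m3 c).1, (m3 c).2, (e1 a).1, (e1 a).2, (e1 b).1, (e1 b).2, (e1 c).1, (e1 c).2,
      g_self, hf.ab, hf.ba, hf.ac, hf.ca, hf.cb, hf.bc] <;> grind

theorem not_orth (H : RS P) (h3 : (3 : F) = 0) (hE : Exc Δ e) (hK : K1 Δ)
    (hv : ∀ a b : Rl P, lam a b = 0 ∨ lam a b = 1 ∨ lam a b = 2) (h : TA Δ a t f ζ)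
    (h' : TA Δ b s f' ζ') (h1 : ζ ⬝ᵥ f' = 0) (h2 : ζ' ⬝ᵥ f = 0) : False := by
  obtain ⟨a, ha, b, hb, q, hq, l1, l2, l3, l4⟩ := triple H h3 hE hK hv
  obtain ⟨t, h⟩ := h.move hE hK ha
  obtain ⟨s, h'⟩ := h'.move hE hK hb
  have o := h'.one h3
  obtain ⟨-, k1, x, y, k2, k3, k4⟩ := h
  obtain ⟨-, m1, x', y', m2, m3, m4⟩ := h'
  have g1 : g t q = y * g a q := by simp [g, k4, (k1 q hq).2]
  have g2 : g q t = x * g q a := by simp [g, k3, (k1 q hq).1]
  have g3 : g s q = y' * g b q := by simp [g, m4, (m1 q hq).2]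
  have g4 : g q s = x' * g q b := by simp [g, m3, (m1 q hq).1]
  have g5 : g t s = x' * (y * g a b) := by simp [g, k4, m3, (m1 a ha).1, (k1 b hb).2, h1]
  have g6 : g s t = x * (y' * g b a) := by simp [g, k3, m4, (m1 a ha).2, (k1 b hb).1, h2]
  have c1 : cyc t q s = cyc a q b := by simp only [cyc, g1, g4, g6]; grind
  have c2 : cyc t s q = cyc a b q := by simp only [cyc, g2, g3, g5]; grind
  have cm := cyc_mul a q b
  have two := H.two
  obtain ⟨⟨u, w, h0⟩, -⟩ := pl_of_gdet H.two H.nt (a := t) (b := q) (c := s)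
    (by rw [NS, c1, c2]; grind) (by
      rw [gdet, c1, c2]
      simp only [lam, g1, g2, g3, g4, g5, g6] at l1 l2 l3 ⊢
      grind)
  have := congrArg (ζ' ⬝ᵥ ·) h0
  simp [k3, m3, (m1 a ha).2, (m1 b hb).2, (m1 q hq).2, h2, o] at this

omit [Finite F] in
theorem TA.mem (h3 : (3 : F) = 0) (h : TA Δ a t f ζ) :
    ∃ (E : Rl P) (x y : F), x * y = 2 ∧ E.v = y • f ∧ E.φ = x • ζ := by
  obtain ⟨ha, k1, x, y, k2, k3, k4⟩ := h
  refine ⟨mv a t, x, y, k2, ?_, ?_⟩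
  · simp only [mv, g, k3, k4, add_dotProduct, smul_dotProduct, a.two, (k1 a ha).2, smul_eq_mul]
    linear_combination (norm := module) (-2 : F) • k2 • a.v - h3 • a.v - y • h3 • f
  · simp only [mv, g, k3, k4, dotProduct_add, dotProduct_smul, a.two, (k1 a ha).1, smul_eq_mul]
    linear_combination (norm := module) (-2 : F) • k2 • a.φ - h3 • a.φ - x • h3 • ζ

theorem par (H : RS P) (h3 : (3 : F) = 0) (hE : Exc Δ e) (hK : K1 Δ)
    (hv : ∀ a b : Rl P, lam a b = 0 ∨ lam a b = 1 ∨ lam a b = 2) (h : TA Δ a t f ζ)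
    (h' : TA Δ b s f' ζ') : ∃ c : F, f' = c • f := by
  by_contra hn
  push Not at hn
  have two := H.two
  have o := h.one h3
  have o' := h'.one h3
  obtain ⟨E, x, y, k2, k3, k4⟩ := h.mem h3
  obtain ⟨E', x', y', m2, m3, m4⟩ := h'.mem h3
  have g1 : g E E' = y' * (x * ζ ⬝ᵥ f') := by simp [g, k4, m3]
  have g2 : g E' E = y * (x' * ζ' ⬝ᵥ f) := by simp [g, k3, m4]
  rcases hv E E' with h0 | h0 | h0
  · have z : g E E' = 0 ∧ g E' E = 0 :=
      (mul_eq_zero.1 h0).elim (fun h => ⟨h, zero H.two H.nt h⟩) fun h => ⟨zero H.two H.nt h, h⟩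
    exact not_orth H h3 hE hK hv h h' (by grind) (by grind)
  · have hf := fr0 hE
    have z : ζ - (ζ ⬝ᵥ f') • ζ' = 0 := by
      by_contra z
      obtain ⟨w, hw, e0⟩ := exists_vecMul_eq_zero_iff.2 (exists_mulVec_eq_zero_iff.1
        ⟨_, z, show of ![(e 0).v, (e 1).v, (e 2).v, f, f'] *ᵥ (ζ - (ζ ⬝ᵥ f') • ζ') = 0 from
          funext fun i => by
            simp only [lam, g1, g2] at h0
            fin_cases i <;>
              simp [mulVec, dotProduct_comm _ ζ, dotProduct_comm _ ζ', (h.2.1 _ (hE.fr _)).2,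
                (h'.2.1 _ (hE.fr _)).2, o, o']
            grind⟩)
      have e1 : w 0 • (e 0).v + w 1 • (e 1).v + w 2 • (e 2).v + w 3 • f + w 4 • f' = 0 := by
        rw [← e0, vecMul_eq_sum, Fin.sum_univ_five]; rfl
      have w0 := congrArg ((e 0).φ ⬝ᵥ ·) e1
      have w1 := congrArg ((e 1).φ ⬝ᵥ ·) e1
      have w2 := congrArg ((e 2).φ ⬝ᵥ ·) e1
      obtain ⟨-, -, -, q1, q2, q3, q4, q5, q6⟩ := hf
      simp only [g] at q1 q2 q3 q4 q5 q6
      simp [Rl.two, (h.2.1 _ (hE.fr _)).1, (h'.2.1 _ (hE.fr _)).1, q1, q2, q3, q4, q5, q6,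
        two] at w0 w1 w2
      simp only [w0, w1, w2, zero_smul, zero_add] at e1
      by_cases w4 : w 4 = 0
      · have w3 := congrArg (ζ ⬝ᵥ ·) e1
        simp [w4, o] at w3
        exact hw (funext fun i => by fin_cases i <;> simp [*])
      · exact hn (-(w 4)⁻¹ * w 3) (smul_right_injective _ w4 (by
          simp only [smul_smul]
          field_simp
          linear_combination (norm := module) e1))
    obtain ⟨c, hc, e1, -⟩ := same_of_par' H.two H.nt (a := E') (b := E)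
      (x := x * (ζ ⬝ᵥ f') * (2 * y')) (by
        rw [k4, m4, sub_eq_zero.1 z]
        simp only [smul_dotProduct, o', smul_smul, smul_eq_mul]
        congr 1
        grind)
    rw [k3, m3, smul_smul] at e1
    have hy : c * y' ≠ 0 := mul_ne_zero hc (by grind)
    exact hn ((c * y')⁻¹ * y) (by rw [mul_smul, e1, smul_smul, inv_mul_cancel₀ hy, one_smul])
  · obtain ⟨ha, n1, u, w, n2, n3, n4⟩ := id h
    simp only [lam, g1, g2] at h0
    refine not_orth H h3 hE hK hv h (b := a) (s := mv t E') (f' := f + (ζ' ⬝ᵥ f) • f')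
      (ζ' := ζ + (ζ ⬝ᵥ f') • ζ') ⟨ha, fun s hs => by
        simp [(n1 s hs).1, (n1 s hs).2, (h'.2.1 s hs).1, (h'.2.1 s hs).2], u, w, n2, ?_, ?_⟩ ?_ ?_
    · simp only [mv, g, n3, m3, m4, dotProduct_add, smul_dotProduct, dotProduct_smul,
        (h'.2.1 a ha).2, smul_eq_mul]
      linear_combination (norm := module) -(ζ' ⬝ᵥ f) • m2 • f' - (ζ' ⬝ᵥ f) • h3 • f'
    · simp only [mv, g, n4, m3, m4, add_dotProduct, smul_dotProduct, dotProduct_smul,
        (h'.2.1 a ha).1, smul_eq_mul]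
      linear_combination (norm := module) -(ζ ⬝ᵥ f') • m2 • ζ' - (ζ ⬝ᵥ f') • h3 • ζ'
    · simp only [dotProduct_add, dotProduct_smul, o, smul_eq_mul]; grind
    · simp only [add_dotProduct, smul_dotProduct, o, smul_eq_mul]; grind

end RE3

open RE3 in
theorem not_k1_three (H : RS P) (h3 : (3 : F) = 0) (h : Exc Δ e) (hK : K1 Δ)
    (hv : ∀ a b : Rl P, lam a b = 0 ∨ lam a b = 1 ∨ lam a b = 2) : False := by
  obtain ⟨t0, ht0⟩ := h.exists_mixed H
  obtain ⟨a, t, f, ζ, -, -, ht, -⟩ := ta_mixed H h3 h hK hv ht0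
  obtain ⟨χ, hχ, e0⟩ := exists_mulVec_eq_zero_iff.2
    (det_eq_zero_of_row_eq_zero (A := of ![(e 0).v, (e 1).v, (e 2).v, f, 0]) 4 fun _ => rfl)
  have z0 : χ ⬝ᵥ (e 0).v = 0 := (dotProduct_comm _ _).trans (congrFun e0 0)
  have z1 : χ ⬝ᵥ (e 1).v = 0 := (dotProduct_comm _ _).trans (congrFun e0 1)
  have z2 : χ ⬝ᵥ (e 2).v = 0 := (dotProduct_comm _ _).trans (congrFun e0 2)
  have z3 : χ ⬝ᵥ f = 0 := (dotProduct_comm _ _).trans (congrFun e0 3)
  have zp : ∀ y, χ ⬝ᵥ pv e y = 0 := fun y => by simp [pv, Fin.sum_univ_three, z0, z1, z2]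
  obtain ⟨s, -, h1, h2⟩ := exists_pair H.two H.qs (T := Set.univ) (fun _ _ _ => trivial)
    (Set.mem_univ t) hχ (t.v_ne H.two)
  have key : ∀ {b s f' ζ'}, RE3.TA Δ b s f' ζ' → χ ⬝ᵥ f' = 0 := fun h' => by
    obtain ⟨c, rfl⟩ := par H h3 h hK hv ht h'
    simp [z3]
  by_cases hs : ∃ i, g (e i) s ≠ 0
  · obtain ⟨b, s', f', ζ', x, hx, h', rfl⟩ := ta_mixed H h3 h hK hv (t := s)
      ⟨fun e1 => h1 (by rw [e1, zp]), hs⟩
    have := key h'
    simp [zp, hx, h1] at this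
  · push Not at hs
    have p1 : pv e s.v = 0 := Finset.sum_eq_zero fun i _ => by
      rw [show (e i).φ ⬝ᵥ s.v = 0 from hs i]; simp
    have p2 : pφ e s.φ = 0 := Finset.sum_eq_zero fun i _ => by
      rw [show s.φ ⬝ᵥ (e i).v = 0 from zero H.two H.nt (hs i)]; simp
    obtain ⟨ha, n1, u, w, n2, n3, n4⟩ := id ht
    have := key (b := a) (s := mv t s) (f' := f - g s t • s.v) (ζ' := ζ - g t s • s.φ)
      ⟨ha, fun r hr => by
        have q1 := (h.perp H.two hr s.v).1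
        have q2 := (h.perp H.two hr s.φ).2
        rw [p1, sub_zero] at q1
        rw [p2, sub_zero] at q2
        simp [(n1 r hr).1, (n1 r hr).2, q1, q2], u, w, n2, by simp only [mv, n3]; module,
        by simp only [mv, n4]; module⟩
    simp [z3, h1, g, h2] at this

end Cfsg.Agent.Cl.D5
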