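/-
Subgroups of `SL₅(F)`: systems of type `3A₆`, `3A₇` in characteristic five do not occur.
-/
import Mathlib
import Cfsg.Agent.Cl.D5RX

set_option autoImplicit false

namespace Cfsg.Agent.Cl.D5

open Matrix Cfsg.Geo Cfsg.Agent.Cl.Max Cfsg.Agent.Cl.Mx Rl
open scoped MatrixGroups

variable {F : Type*} [Field F] [Finite F] {P : Subgroup (GL (Fin 5) F)} {a b c t : Rl P}
  {Δ : Set (Rl P)} {e : Fin 3 → Rl P}

namespace RE5

omit [Finite F]

open RXa

/-- A member with prescribed coordinates in the plane of `x, f`. -/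
def Ex (P : Subgroup (GL (Fin 5) F)) (x f χ ψ : Fin 5 → F) (α β : F) : Prop :=
  ∃ s : Rl P, s.v = x + α • f ∧ s.φ = χ + β • ψ

/-- An element acting through the plane of `x, f`. -/
def Rp (P : Subgroup (GL (Fin 5) F)) (x f χ ψ : Fin 5 → F) (A B C D : F) : Prop :=
  ∃ k : P, ∀ y, ((k : GL (Fin 5) F) : Matrix (Fin 5) (Fin 5) F) *ᵥ y =
    y + (A * χ ⬝ᵥ y + B * ψ ⬝ᵥ y) • x + (C * χ ⬝ᵥ y + D * ψ ⬝ᵥ y) • f

variable {x f χ ψ : Fin 5 → F} {μ ν : F}

theorem Ex.rp (h1 : χ ⬝ᵥ x = μ) (h2 : ψ ⬝ᵥ f = ν) (h3 : χ ⬝ᵥ f = 0) (h4 : ψ ⬝ᵥ x = 0)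
    {α β α' β' : F} (h : Ex P x f χ ψ α β) (h' : Ex P x f χ ψ α' β') :
    Rp P x f χ ψ (μ + β * α' * ν - 2) ((μ + β * α' * ν) * β' - β - β')
      (α * (μ + β * α' * ν) - α - α') (α * (μ + β * α' * ν) * β' - α * β - α' * β') := by
  obtain ⟨s, e1, e2⟩ := h
  obtain ⟨s', e3, e4⟩ := h'
  refine ⟨s.el * s'.el, fun y => ?_⟩
  simp only [Subgroup.coe_mul, mul_mulVec, el_mulVec, e1, e2, e3, e4, dotProduct_add,
    dotProduct_neg, add_dotProduct, smul_dotProduct, dotProduct_smul, smul_eq_mul, h1, h2, h3, h4]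
  module

theorem Rp.mul (h1 : χ ⬝ᵥ x = μ) (h2 : ψ ⬝ᵥ f = ν) (h3 : χ ⬝ᵥ f = 0) (h4 : ψ ⬝ᵥ x = 0)
    {A B C D A' B' C' D' : F} (h : Rp P x f χ ψ A B C D) (h' : Rp P x f χ ψ A' B' C' D') :
    Rp P x f χ ψ (A + A' + A * μ * A' + B * ν * C') (B + B' + A * μ * B' + B * ν * D')
      (C + C' + C * μ * A' + D * ν * C') (D + D' + C * μ * B' + D * ν * D') := by
  obtain ⟨k, e1⟩ := h
  obtain ⟨k', e2⟩ := h'
  refine ⟨k * k', fun y => ?_⟩
  simp only [Subgroup.coe_mul, mul_mulVec, e1, e2, dotProduct_add, dotProduct_smul, smul_eq_mul,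
    h1, h2, h3, h4]
  module

theorem Rp.congr {A B C D A' B' C' D' : F} (h : Rp P x f χ ψ A B C D) (e1 : A = A') (e2 : B = B')
    (e3 : C = C') (e4 : D = D') : Rp P x f χ ψ A' B' C' D' := by
  rwa [← e1, ← e2, ← e3, ← e4]

theorem Rp.tv (hn : NoTv P) (h1 : χ ⬝ᵥ x = μ) (h2 : ψ ⬝ᵥ f = ν) (h3 : χ ⬝ᵥ f = 0)
    (h4 : ψ ⬝ᵥ x = 0) {p q r s : F} (h : Rp P x f χ ψ (p * r) (p * s) (q * r) (q * s))
    (h0 : r * p * μ + s * q * ν = 0) : p • x + q • f = 0 ∨ r • χ + s • ψ = 0 := by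
  obtain ⟨k, e1⟩ := h
  refine hn _ _ ⟨?_, k, k.2, fun y => ?_⟩
  · simp only [dotProduct_add, add_dotProduct, smul_dotProduct, dotProduct_smul, smul_eq_mul,
      h1, h2, h3, h4]
    linear_combination h0
  · rw [e1]
    simp only [add_dotProduct, smul_dotProduct, smul_eq_mul]
    module

theorem step (h : Exc Δ e) (h2 : (2 : F) ≠ 0) {ω : F} {z : P} (hω : ω ^ 2 + ω + 1 = 0)
    (hz : ∀ y, ((z : GL (Fin 5) F) : Matrix (Fin 5) (Fin 5) F) *ᵥ y =
      y + ∑ i, ((ω - 1) / 2 * (e i).φ ⬝ᵥ y) • (e i).v)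
    (k1 : pv e x = x) (k2 : pv e f = 0) (k3 : pφ e χ = χ) (k4 : pφ e ψ = 0) {α β : F}
    (hs : Ex P x f χ ψ α β) : Ex P x f χ ψ ((1 + ω) * α) (-ω * β) := by
  obtain ⟨s, e1, e2⟩ := hs
  obtain ⟨s', e3, e4⟩ := h.flip h2 s
  have hω0 : ω ≠ 0 := fun k => by simp [k] at hω
  have hz' : ∀ y, ((z : GL (Fin 5) F) : Matrix (Fin 5) (Fin 5) F) *ᵥ y =
      y + (ω - 1) • pv e y := fun y => by
    rw [hz, pv, Finset.smul_sum]
    congr 1
    exact Finset.sum_congr rfl fun i _ => by rw [smul_smul]; congr 1; ring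
  have pa : ∀ u w : Fin 5 → F, pφ e (u + w) = pφ e u + pφ e w := fun u w => by
    simp only [pφ, Fin.sum_univ_three, add_dotProduct, add_div]
    module
  rw [e1, pv_add, pv_smul, k1, k2] at e3
  rw [e2, pa, pφ_smul, k3, k4] at e4
  simp only [smul_zero, add_zero, add_sub_cancel_left] at e3 e4
  refine ⟨Rl.sm (ω ^ 2) (pow_ne_zero _ hω0) (cj z s'), ?_, ?_⟩
  · change (ω ^ 2) • (((z : GL (Fin 5) F) : Matrix (Fin 5) (Fin 5) F) *ᵥ s'.v) = _
    rw [hz', e3]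
    simp only [pv_sub, pv_add, pv_smul, k1, k2]
    linear_combination (norm := module) ((ω - 1) * hω) • x - (α * hω) • f
  · change (ω ^ 2)⁻¹ • (s'.φ ᵥ* (((z : GL (Fin 5) F)⁻¹ : GL (Fin 5) F) :
      Matrix (Fin 5) (Fin 5) F)) = _
    have hi : (ω ^ 2)⁻¹ = ω := by
      refine inv_eq_of_mul_eq_one_right ?_
      linear_combination (ω - 1) * hω
    rw [hi]
    refine dotProduct_eq _ _ fun y => ?_
    obtain ⟨y, rfl⟩ : ∃ u, ((z : GL (Fin 5) F) : Matrix (Fin 5) (Fin 5) F) *ᵥ u = y :=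
      ⟨_, mulVec_inv_mulVec _ y⟩
    have q1 : χ ⬝ᵥ pv e y = χ ⬝ᵥ y := by rw [← padj, k3]
    have q2 : ψ ⬝ᵥ pv e y = 0 := by rw [← padj, k4, zero_dotProduct]
    rw [smul_dotProduct, ← dotProduct_mulVec, inv_mulVec_mulVec, hz', e4]
    simp only [add_dotProduct, sub_dotProduct, smul_dotProduct, dotProduct_add, dotProduct_smul,
      smul_eq_mul, q1, q2, zero_dotProduct]
    ring

theorem five_cases (h5 : (5 : F) = 0) {u : F} (hu : u ^ 5 = u) :
    u = 0 ∨ u = 1 ∨ u = 2 ∨ u = 3 ∨ u = 4 := by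
  have : u * (u - 1) * (u - 2) * (u - 3) * (u - 4) = 0 := by
    linear_combination hu + (-2 * u ^ 4 + 7 * u ^ 3 - 10 * u ^ 2 + 5 * u) * h5
  simp only [mul_eq_zero, sub_eq_zero] at this
  tauto

theorem nu_one (H : RS P) (h : Exc Δ e) (hK : K2 Δ e)
    (hv : ∀ a b : Rl P, lam a b ^ 5 = lam a b) (ht : Mixed e t) : nu e t = 1 := by
  have h2 := H.two
  have h5 := hK.five
  obtain ⟨ω, z, hω, hz⟩ := hK.cen
  obtain ⟨k2, k1, k4, k3⟩ := h.nu_eq h2 t
  obtain ⟨n1, n2, n3, -⟩ := h.mixed_ne H ht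
  have n0 := h.nu_ne H ht
  have hν : nu e t = 0 ∨ nu e t = 1 ∨ nu e t = 2 ∨ nu e t = 3 ∨ nu e t = 4 := by
    have i2 : ∀ u : F, u / 2 = 3 * u := fun u => by
      field_simp
      linear_combination (-u) * h5
    have ad : ∀ u v : F, u ^ 5 = u → v ^ 5 = v → (u + v) ^ 5 = u + v := fun u v hu hv => by
      linear_combination hu + hv + (u ^ 4 * v + 2 * u ^ 3 * v ^ 2 + 2 * u ^ 2 * v ^ 3 + u * v ^ 4) * h5
    have := ad _ _ (ad _ _ (hv (e 0) t) (hv (e 1) t)) (hv (e 2) t)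
    refine five_cases h5 ?_
    have e0 : nu e t = 2 + 2 * (lam (e 0) t + lam (e 1) t + lam (e 2) t) := by
      simp only [nu, Fin.sum_univ_three, i2]
      linear_combination (-(lam (e 0) t + lam (e 1) t + lam (e 2) t)) * h5
    rw [e0]
    refine ad _ _ (by linear_combination 6 * h5) ?_
    linear_combination 32 * this + 6 * (lam (e 0) t + lam (e 1) t + lam (e 2) t) * h5
  have p1 : pv e (pv e t.v) = pv e t.v := pv_pv h.orth h2 _
  have p2 : pv e (t.v - pv e t.v) = 0 := by rw [pv_sub, p1, sub_self]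
  have p3 : pφ e (pφ e t.φ) = pφ e t.φ :=
    dotProduct_eq _ _ fun y => by rw [padj, padj, padj, pv_pv h.orth h2]
  have p4 : pφ e (t.φ - pφ e t.φ) = 0 := by rw [pφ_sub, p3, sub_self]
  have t0 : Ex P (pv e t.v) (t.v - pv e t.v) (pφ e t.φ) (t.φ - pφ e t.φ) 1 1 :=
    ⟨t, by simp, by simp⟩
  have t1 := step h h2 hω hz p1 p2 p3 p4 t0
  have t2 := step h h2 hω hz p1 p2 p3 p4 t1
  have t3 := step h h2 hω hz p1 p2 p3 p4 t2
  have t4 := step h h2 hω hz p1 p2 p3 p4 t3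
  generalize pv e t.v = x at *
  generalize pφ e t.φ = χ at *
  generalize t.v - x = f at *
  generalize t.φ - χ = ψ at *
  rcases hν with hν | hν | hν | hν | hν
  · exact (n0 hν).elim
  · exact hν
  · exfalso
    have r := (t0.rp k1 k2 k3 k4 t1).mul k1 k2 k3 k4 (t3.rp k1 k2 k3 k4 t4)
    rw [hν] at r k1 k2
    have r' := Rp.tv H.nt k1 k2 k3 k4 (p := 1) (q := 0) (r := 2 + 4 * ω) (s := 0)
      (r.congr (by grind) (by grind) (by grind) (by grind)) (by ring)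
    rw [one_smul, zero_smul, add_zero, zero_smul, add_zero, smul_eq_zero] at r'
    rcases r' with r' | r' | r'
    exacts [n2 r', by grind, n3 r']
  · exfalso
    have r := (t0.rp k1 k2 k3 k4 t1).mul k1 k2 k3 k4 (t2.rp k1 k2 k3 k4 t3)
    rw [hν] at r k1 k2
    have r' := Rp.tv H.nt k1 k2 k3 k4 (p := 1) (q := 3 + ω) (r := 4 + 3 * ω) (s := 1)
      (r.congr (by grind) (by grind) (by grind) (by grind)) (by grind)
    rcases r' with r' | r'
    · have := congrArg (χ ⬝ᵥ ·) r'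
      simp only [dotProduct_add, dotProduct_smul, k1, k3, smul_eq_mul, dotProduct_zero] at this
      grind
    · have := congrArg (· ⬝ᵥ f) r'
      simp only [add_dotProduct, smul_dotProduct, k2, k3, smul_eq_mul, zero_dotProduct] at this
      grind
  · exfalso
    have r := (t0.rp k1 k2 k3 k4 t1).mul k1 k2 k3 k4 (t2.rp k1 k2 k3 k4 t3)
    rw [hν] at r k1 k2
    have r' := Rp.tv H.nt k1 k2 k3 k4 (p := 1) (q := 4 + 3 * ω) (r := 2 + 4 * ω) (s := 4)
      (r.congr (by grind) (by grind) (by grind) (by grind)) (by grind)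
    rcases r' with r' | r'
    · have := congrArg (χ ⬝ᵥ ·) r'
      simp only [dotProduct_add, dotProduct_smul, k1, k3, smul_eq_mul, dotProduct_zero] at this
      grind
    · have := congrArg (· ⬝ᵥ f) r'
      simp only [add_dotProduct, smul_dotProduct, k2, k3, smul_eq_mul, zero_dotProduct] at this
      grind

theorem val (H : RS P) (h : Exc Δ e) (hK : K2 Δ e)
    (hv : ∀ a b : Rl P, lam a b ^ 5 = lam a b) (ht : Mixed e t) {s : Rl P} (hs : s ∈ Δ) :
    lam s t = 0 ∨ lam s t = 1 ∨ lam s t = 2 := by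
  have h2 := H.two
  by_cases h0 : g t s = 0
  · left; rw [lam, h0, mul_zero]
  obtain ⟨s1, s2⟩ := h.pv_eq h2 hs
  have e1 : (Rl.mv s t).v - pv e (Rl.mv s t).v = (-g t s) • (t.v - pv e t.v) := by
    change s.v - g t s • t.v - pv e (s.v - g t s • t.v) = _
    rw [pv_sub, pv_smul, s1]
    module
  have e2 : (Rl.mv s t).φ - pφ e (Rl.mv s t).φ = (-g s t) • (t.φ - pφ e t.φ) := by
    change s.φ - g s t • t.φ - pφ e (s.φ - g s t • t.φ) = _
    rw [pφ_sub, pφ_smul, s2]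
    module
  have e3 : nu e (Rl.mv s t) = lam s t := by
    rw [← (h.nu_eq h2 _).1, e1, e2, smul_dotProduct, dotProduct_smul, (h.nu_eq h2 t).1,
      nu_one H h hK hv ht, lam, smul_eq_mul, smul_eq_mul]
    ring
  by_cases hm : ∃ i, g (e i) (Rl.mv s t) ≠ 0
  · right; left
    rw [← e3]
    refine nu_one H h hK hv ⟨fun k => ?_, hm⟩
    rw [← sub_eq_zero, e1, smul_eq_zero, neg_eq_zero, sub_eq_zero] at k
    exact k.elim h0 ht.1
  · push Not at hm
    right; right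
    rw [← e3]
    simp [nu, lam, hm]

end RE5

open RE5

omit [Finite F] in
theorem not_k2 (H : RS P) (h : Exc Δ e) (hK : K2 Δ e)
    (hv : ∀ a b : Rl P, lam a b ^ 5 = lam a b) : False := by
  have h2 := H.two
  have h5 := hK.five
  obtain ⟨t, ht⟩ := h.exists_mixed H
  have hν := nu_one H h hK hv ht
  have z : ∀ i, lam (e i) t = 0 → g (e i) t = 0 ∧ g t (e i) = 0 := fun i k =>
    (mul_eq_zero.1 k).elim (fun k => ⟨k, zero h2 H.nt k⟩) fun k => ⟨zero h2 H.nt k, k⟩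
  have A : ∀ i k, i ≠ k → lam (e i) t = 1 → lam (e k) t = 0 → False := fun i k hik hi hk => by
    obtain ⟨s, hs, hs'⟩ := h.swap i k hik
    obtain ⟨κ, γ, γ', -, e0, e1, e2⟩ := swap_data h2 H.nt (h.orth i k hik) hs'
    obtain ⟨z1, z2⟩ := z k hk
    have e3 : lam s t = γ * γ' * lam (e i) t := by
      simp only [lam, g] at z1 z2 ⊢
      rw [e1, e2]
      simp only [smul_dotProduct, dotProduct_smul, sub_dotProduct, dotProduct_sub, z1, z2,
        smul_eq_mul]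
      ring
    have := val H h hK hv ht hs
    rw [e3, hi] at this
    grind
  have one : ∀ i, ∃ s ∈ Δ, lam s (e i) = 1 := fun i => by
    obtain ⟨s, hs, hs'⟩ := hK.one
    by_cases hi : 0 = i
    · exact ⟨s, hs, hi ▸ hs'⟩
    obtain ⟨σ, hσ, hσ'⟩ := h.swap 0 i hi
    refine ⟨Rl.mv s σ, h.mv _ hs _ hσ, ?_⟩
    rw [lam_comm, ← hσ'.lam_eq, ← hs']
    simp only [lam, g_mv_left, g_mv_right, g_self]
    ring
  have B : ∀ i, lam (e i) t = 2 → (∀ k, k ≠ i → lam (e k) t = 0) → False := fun i hi hk => by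
    obtain ⟨s, hs, hs'⟩ := one i
    obtain ⟨e1, e2⟩ := h.g_eq h2 hs t
    rw [Finset.sum_eq_single i (fun k _ hki => by rw [(z k (hk k hki)).1]; simp) (by simp)] at e1
    rw [Finset.sum_eq_single i (fun k _ hki => by rw [(z k (hk k hki)).2]; simp) (by simp)] at e2
    have e3 : 4 * lam s t = lam s (e i) * lam (e i) t := by
      simp only [lam, e1, e2]
      field_simp
      ring
    have := val H h hK hv ht hs
    rw [hs', hi] at e3
    grind
  have i2 : ∀ u : F, u / 2 = 3 * u := fun u => by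
    field_simp
    linear_combination (-u) * h5
  simp only [nu, Fin.sum_univ_three, i2] at hν
  have B0 := fun h0 h1 h2 => B 0 h0 (fun k hk => by fin_cases k; exacts [(hk rfl).elim, h1, h2])
  have B1 := fun h0 h1 h2 => B 1 h0 (fun k hk => by fin_cases k; exacts [h1, (hk rfl).elim, h2])
  have B2 := fun h0 h1 h2 => B 2 h0 (fun k hk => by fin_cases k; exacts [h1, h2, (hk rfl).elim])
  have A01 := A 0 1 (by decide)
  have A02 := A 0 2 (by decide)
  have A10 := A 1 0 (by decide)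
  rcases val H h hK hv ht (h.fr 0) with e0 | e0 | e0 <;>
  rcases val H h hK hv ht (h.fr 1) with e1 | e1 | e1 <;>
  rcases val H h hK hv ht (h.fr 2) with e2 | e2 | e2 <;>
  first
    | exact B0 e0 e1 e2
    | exact B1 e1 e0 e2
    | exact B2 e2 e0 e1
    | exact A01 e0 e1
    | exact A02 e0 e2
    | exact A10 e1 e0
    | (rw [e0, e1, e2] at hν; grind)

end Cfsg.Agent.Cl.D5
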