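/-
Subgroups of `SL₅(F)`: systems of type `L₂(7)` or `A₆` do not extend when `3 ≠ 0`.
-/
import Mathlib
import Cfsg.Agent.Cl.D5RX

set_option autoImplicit false

namespace Cfsg.Agent.Cl.D5

open Matrix Cfsg.Geo Cfsg.Agent.Cl.Max Cfsg.Agent.Cl.Mx Rl
open scoped MatrixGroups

variable {F : Type*} [Field F] [Finite F] {P : Subgroup (GL (Fin 5) F)} {a b c t : Rl P}
  {Δ : Set (Rl P)} {e : Fin 3 → Rl P}

namespace RE7

omit [Finite F]

theorem half (h2 : (2 : F) ≠ 0) (h3 : (3 : F) ≠ 0) {x y : F} (e : 2 * y = x) (hx : V1 x)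
    (hy : V1 y) : x = 0 ∨ x = 2 := by
  subst e
  rcases hx with k | k | k | ⟨-, k5, k⟩
  · exact .inl k
  · exfalso
    rcases hy with l | l | l | ⟨-, -, l⟩ <;> grind
  · exact .inr k
  · exfalso
    rcases hy with l | l | l | ⟨-, -, l⟩ <;> grind

theorem not_four (h2 : (2 : F) ≠ 0) (h3 : (3 : F) ≠ 0) : ¬ V1 (4 : F) := by
  rintro (l | l | l | ⟨-, k5, l⟩)
  · exact mul_ne_zero h2 h2 (by linear_combination l)
  all_goals grind

theorem not_sq (h2 : (2 : F) ≠ 0) (h3 : (3 : F) ≠ 0) (h5 : (5 : F) ≠ 0) {y : F}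
    (h : y ^ 2 - 3 * y + 1 = 0) : ¬ V1 (y ^ 2) := by
  rintro (l | l | l | ⟨-, -, l⟩)
  · grind
  · grind
  · grind
  · have k : y ^ 2 = 0 := mul_left_cancel₀ (mul_ne_zero h2 h2)
      (by linear_combination l - (y ^ 2 + 3 * y + 1) * h)
    rw [pow_eq_zero_iff two_ne_zero] at k
    simp [k] at h

/-- Two equal irrational values. -/
theorem eleven (h2 : (2 : F) ≠ 0) (h3 : (3 : F) ≠ 0) (h5 : (5 : F) ≠ 0) {y : F}
    (h : y ^ 2 - 3 * y + 1 = 0) (hv : V1 ((2 - y - y) ^ 2)) : (11 : F) = 0 ∧ y = 5 := by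
  have e : (2 - y - y) ^ 2 = 4 * y := by linear_combination 4 * h
  rw [e] at hv
  rcases hv with l | l | l | ⟨-, -, l⟩
  · have k : y = 0 := mul_left_cancel₀ (mul_ne_zero h2 h2) (by linear_combination l)
    simp [k] at h
  · exfalso; grind
  · exfalso; grind
  · have k : y * (5 * y - 3) = 0 := mul_left_cancel₀ h3 (by linear_combination l - h)
    have k1 : 5 * y - 3 = 0 := (mul_eq_zero.1 k).resolve_left fun c => by grind
    have k2 : (11 : F) = 0 := by grind
    exact ⟨k2, mul_left_cancel₀ h5 (by linear_combination k1 - 2 * k2)⟩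

theorem ones (h2 : (2 : F) ≠ 0) (h3 : (3 : F) ≠ 0) {x y z : F} (hx : V1 x) (hy : V1 y)
    (hz : V1 z) (x0 : x ≠ 0) (y0 : y ≠ 0) (z0 : z ≠ 0) (hxy : V1 ((2 - x - y) ^ 2))
    (hxz : V1 ((2 - x - z) ^ 2)) (hyz : V1 ((2 - y - z) ^ 2)) (h : V1 ((2 - x - y - z) ^ 2)) :
    x = 1 := by
  have n4 := not_four h2 h3
  have n3 : ¬ V1 (3 : F) := by rintro (l | l | l | ⟨-, -, l⟩) <;> grind
  have k22 : ∀ {x y : F}, x = 2 → y = 2 → V1 ((2 - x - y) ^ 2) → False := by
    rintro _ _ rfl rfl k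
    exact n4 (by convert k using 1; norm_num)
  have k2r : ∀ {x y : F}, (5 : F) ≠ 0 → x ^ 2 - 3 * x + 1 = 0 → y = 2 →
      V1 ((2 - x - y) ^ 2) → False := by
    rintro x _ h5 k rfl l
    exact not_sq h2 h3 h5 k (by convert l using 1; ring)
  have k2r' : ∀ {x y : F}, (5 : F) ≠ 0 → x ^ 2 - 3 * x + 1 = 0 → y = 2 →
      V1 ((2 - y - x) ^ 2) → False := fun h5 k e l => k2r h5 k e (by convert l using 2; ring)
  have krr : ∀ {x y : F}, (5 : F) ≠ 0 → x ^ 2 - 3 * x + 1 = 0 → y ^ 2 - 3 * y + 1 = 0 →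
      V1 ((2 - x - y) ^ 2) → x + y = 3 ∨ ((11 : F) = 0 ∧ x = 5 ∧ y = 5) := fun {x y} h5 k l m => by
    have : (x - y) * (x + y - 3) = 0 := by linear_combination k - l
    rcases mul_eq_zero.1 this with e | e
    · obtain rfl := sub_eq_zero.1 e
      exact .inr ⟨(eleven h2 h3 h5 k m).1, (eleven h2 h3 h5 k m).2, (eleven h2 h3 h5 k m).2⟩
    · exact .inl (sub_eq_zero.1 e)
  have f4 : ∀ {s : F}, V1 s → s = 4 → False := fun k e => n4 (e ▸ k)
  rcases hx with a | a | a | ⟨-, h5, a⟩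
  · exact (x0 a).elim
  · exact a
  · exfalso
    rcases hy with b | b | b | ⟨-, h5, b⟩
    · exact y0 b
    · rcases hz with c | c | c | ⟨-, h5, c⟩
      · exact z0 c
      · exact f4 h (by rw [a, b, c]; norm_num)
      · exact k22 a c hxz
      · exact k2r' h5 c a hxz
    · exact k22 a b hxy
    · exact k2r' h5 b a hxy
  · exfalso
    rcases hy with b | b | b | ⟨-, -, b⟩
    · exact y0 b
    · rcases hz with c | c | c | ⟨-, -, c⟩
      · exact z0 c
      · exact not_sq h2 h3 h5 a (by convert h using 1; rw [b, c]; ring)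
      · exact k2r h5 a c hxz
      · rcases krr h5 a c hxz with d | ⟨d, d1, d2⟩
        · exact f4 h (by rw [b]; linear_combination (x + z + 1) * d)
        · exact f4 h (by rw [b, d1, d2]; linear_combination 7 * d)
    · exact k2r h5 a b hxy
    · rcases hz with c | c | c | ⟨-, -, c⟩
      · exact z0 c
      · rcases krr h5 a b hxy with d | ⟨d, d1, d2⟩
        · exact f4 h (by rw [c]; linear_combination (x + y + 1) * d)
        · exact f4 h (by rw [c, d1, d2]; linear_combination 7 * d)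
      · exact k2r h5 a c hxz
      · have key : ∀ {x y z : F}, (11 : F) = 0 → x = 5 → y = 5 → (x + z = 3 ∨ z = 5) →
            V1 ((2 - x - y - z) ^ 2) → False := by
          rintro _ _ z d rfl rfl (e | rfl) k
          · exact n3 (by
              convert k using 1
              rw [show z = -2 by linear_combination e]
              linear_combination -3 * d)
          · exact f4 k (by linear_combination 15 * d)
        rcases krr h5 a b hxy with d | ⟨d, d1, d2⟩
        · rcases krr h5 a c hxz with d' | ⟨d', d1, d2⟩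
          · rcases krr h5 b c hyz with d'' | ⟨d'', d1, d2⟩
            · grind
            · exact key (z := x) d'' d1 d2 (.inl (by linear_combination d))
                (by convert h using 2; ring)
          · exact key d' d1 d2 (.inl d) (by convert h using 2; ring)
        · exact key d d1 d2 ((krr h5 a c hxz).imp id fun k => k.2.2) h

/-- Three pairwise orthogonal members. -/
structure Fr (Δ : Set (Rl P)) (a b c : Rl P) : Prop where
  ha : a ∈ Δ
  hb : b ∈ Δ
  hc : c ∈ Δ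
  ab : g a b = 0
  ba : g b a = 0
  ac : g a c = 0
  ca : g c a = 0
  bc : g b c = 0
  cb : g c b = 0

theorem Fr.swap (h : Fr Δ a b c) : Fr Δ b a c :=
  ⟨h.hb, h.ha, h.hc, h.ba, h.ab, h.bc, h.cb, h.ac, h.ca⟩

theorem Fr.rot (h : Fr Δ a b c) : Fr Δ b c a :=
  ⟨h.hb, h.hc, h.ha, h.bc, h.cb, h.ba, h.ab, h.ca, h.ac⟩

/-- A member that interchanges `a` and `b`. -/
def Sw (a b s : Rl P) (κ : F) : Prop := κ ≠ 0 ∧ ∃ γ γ' : F, 2 * γ * γ' = 1 ∧
  s.v = γ' • (a.v - κ • b.v) ∧ s.φ = γ • (a.φ - κ⁻¹ • b.φ)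

theorem Sw.g_eq {s : Rl P} {κ : F} (h : Sw a b s κ) : ∃ γ γ' : F, 2 * γ * γ' = 1 ∧
    (∀ t, g t s = γ' * (g t a - κ * g t b)) ∧ ∀ t, g s t = γ * (g a t - κ⁻¹ * g b t) := by
  obtain ⟨-, γ, γ', e, h1, h2⟩ := h
  exact ⟨γ, γ', e, fun t => by simp only [g, h1, dotProduct_smul, dotProduct_sub, smul_eq_mul],
    fun t => by simp only [g, h2, smul_dotProduct, sub_dotProduct, smul_eq_mul]⟩

theorem Sw.lam_eq {s : Rl P} {κ : F} (h : Sw a b s κ) (t : Rl P) :
    2 * lam s t = (g a t - κ⁻¹ * g b t) * (g t a - κ * g t b) := by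
  obtain ⟨γ, γ', e, h1, h2⟩ := h.g_eq
  rw [lam, h1, h2]
  linear_combination (g a t - κ⁻¹ * g b t) * (g t a - κ * g t b) * e

theorem Sw.mv {s : Rl P} {κ : F} (h : Sw a b s κ) (ab : g a b = 0) (ba : g b a = 0) :
    Sw a b (Rl.mv s a) (-κ) := by
  obtain ⟨γ, γ', e, h1, h2⟩ := h.g_eq
  obtain ⟨hκ, δ, δ', e', h3, h4⟩ := h
  refine ⟨neg_ne_zero.2 hκ, -δ, -δ', by linear_combination e', ?_, ?_⟩
  · change s.v - g a s • a.v = _
    have : g a s = δ' * 2 := by
      rw [g, h3, dotProduct_smul, dotProduct_sub, dotProduct_smul, a.two,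
        show a.φ ⬝ᵥ b.v = 0 from ab]; simp
    rw [this, h3]; module
  · change s.φ - g s a • a.φ = _
    have : g s a = δ * 2 := by
      rw [g, h4, smul_dotProduct, sub_dotProduct, smul_dotProduct, a.two,
        show b.φ ⬝ᵥ a.v = 0 from ba]; simp
    rw [this, h4, inv_neg]; module

theorem Fr.sw (h : Exc Δ e) (f : Fr Δ a b c) {s : Rl P} {κ : F} (hs : s ∈ Δ) (k : Sw a b s κ) :
    Fr Δ s (Rl.mv s a) c := by
  obtain ⟨γ, γ', e, h1, h2⟩ := k.g_eq
  have sc : g s c = 0 := by rw [h2, f.ac, f.bc]; simp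
  have cs : g c s = 0 := by rw [h1, f.ca, f.cb]; simp
  have as : g a s * g s a = 2 := by
    rw [h1, h2, g_self, f.ab, f.ba]; linear_combination 2 * e
  exact ⟨hs, h.mv _ hs _ f.ha, f.hc, by rw [g_mv_right, g_self, as, sub_self],
    by rw [g_mv_left, g_self, mul_comm, as, sub_self], sc, cs,
    by rw [g_mv_left, sc, f.ac]; simp, by rw [g_mv_right, cs, f.ca]; simp⟩

theorem Fr.exists_sw (H : RS P) (hK : K1 Δ) (f : Fr Δ a b c) : ∃ s ∈ Δ, ∃ κ, Sw a b s κ :=
  let ⟨s, hs, k⟩ := hK.swap a f.ha b f.hb f.ab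
  let ⟨κ, γ, γ', k1, k2⟩ := swap_data H.two H.nt f.ab k
  ⟨s, hs, κ, k1, γ, γ', k2⟩

theorem Fr.adj (H : RS P) (h : Exc Δ e) (hK : K1 Δ) (ht : Mixed e t) (f : Fr Δ a b c)
    (h1 : g a t = 0) (h2 : g b t = 0) (h3 : g c t = 0) : False := by
  have k := (h.frame H hK (e' := ![a, b, c])
    (fun i => by fin_cases i; exacts [f.ha, f.hb, f.hc]) fun i j k => by
      fin_cases i <;> fin_cases j <;>
        first
        | exact (k rfl).elim | exact f.ab | exact f.ba | exact f.ac | exact f.ca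
        | exact f.bc | exact f.cb).2.1 t.v
  refine (h.mixed_ne H ht).2.1 (k.symm.trans ?_)
  simp only [g] at h1 h2 h3
  simp [pv, Fin.sum_univ_three, h1, h2, h3]

theorem not_same (ht : Mixed e t) {t' : Rl P} {u : Fin 5 → F} (hu : pv e u = u) (h0 : u ≠ 0)
    (e1 : t'.v = t.v - u) : ¬ Same t' t := by
  rintro ⟨c, -, e2, -⟩
  rw [e1] at e2
  have e3 := congrArg (pv e) e2
  rw [RXa.pv_smul, RXa.pv_sub, hu] at e3
  have e4 : (c - 1) • (t.v - pv e t.v) = 0 := by linear_combination (norm := module) e3 - e2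
  rw [sub_eq_zero.1 ((smul_eq_zero.1 e4).resolve_right (sub_ne_zero.2 ht.1)), one_smul] at e2
  exact h0 (by linear_combination (norm := module) e2)

variable (H : RS P) (h : Exc Δ e) (hK : K1 Δ) (hv : ∀ a b : Rl P, Same a b ∨ V1 (lam a b))
  (ht : Mixed e t)

include H h hv ht

theorem v_one (ha : a ∈ Δ) : V1 (lam a t) :=
  (hv a t).resolve_left ((h.mixed_ne H ht).2.2.2 a ha)

theorem v_two (f : Fr Δ a b c) (h0 : lam a t ≠ 0) : V1 ((2 - lam a t - lam b t) ^ 2) := by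
  have := (hv (mv (mv t a) b) t).resolve_left (not_same ht (u := g a t • a.v + g b t • b.v)
    (by rw [RXa.pv_add, RXa.pv_smul, RXa.pv_smul, (h.pv_eq H.two f.ha).1, (h.pv_eq H.two f.hb).1])
    (fun k => h0 (by
      have := congrArg (a.φ ⬝ᵥ ·) k
      simp only [dotProduct_add, dotProduct_smul, a.two, show a.φ ⬝ᵥ b.v = 0 from f.ab,
        smul_eq_mul, dotProduct_zero, mul_zero, add_zero] at this
      rw [lam, (mul_eq_zero.1 this).resolve_right H.two, zero_mul]))
    (by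
      change t.v - g a t • a.v - g b (mv t a) • b.v = _
      rw [g_mv_right, f.ba]; module))
  convert this using 1
  simp only [lam, g_mv_left, g_mv_right, g_self, f.ab, f.ba]
  ring

theorem v_three (f : Fr Δ a b c) (h0 : lam a t ≠ 0) :
    V1 ((2 - lam a t - lam b t - lam c t) ^ 2) := by
  have := (hv (mv (mv (mv t a) b) c) t).resolve_left (not_same ht
    (u := g a t • a.v + g b t • b.v + g c t • c.v)
    (by rw [RXa.pv_add, RXa.pv_add, RXa.pv_smul, RXa.pv_smul, RXa.pv_smul, (h.pv_eq H.two f.ha).1,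
      (h.pv_eq H.two f.hb).1, (h.pv_eq H.two f.hc).1])
    (fun k => h0 (by
      have := congrArg (a.φ ⬝ᵥ ·) k
      simp only [dotProduct_add, dotProduct_smul, a.two, show a.φ ⬝ᵥ b.v = 0 from f.ab,
        show a.φ ⬝ᵥ c.v = 0 from f.ac, smul_eq_mul, dotProduct_zero, mul_zero, add_zero] at this
      rw [lam, (mul_eq_zero.1 this).resolve_right H.two, zero_mul]))
    (by
      change t.v - g a t • a.v - g b (mv t a) • b.v - g c (mv (mv t a) b) • c.v = _
      simp only [g_mv_right, f.ba, f.ca, f.cb]; module))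
  convert this using 1
  simp only [lam, g_mv_left, g_mv_right, g_self, f.ab, f.ba, f.ac, f.ca, f.bc, f.cb]
  ring

include hK

theorem zero_or_two (h3 : (3 : F) ≠ 0) (f : Fr Δ a b c) (h0 : g b t = 0) :
    lam a t = 0 ∨ lam a t = 2 := by
  obtain ⟨s, hs, κ, k⟩ := f.exists_sw H hK
  refine half H.two h3 ?_ (v_one H h hv ht f.ha) (v_one H h hv ht hs)
  rw [k.lam_eq, h0, zero H.two H.nt h0, lam]; ring

theorem ne_zero' (h3 : (3 : F) ≠ 0) (f : Fr Δ a b c) : lam c t ≠ 0 := fun h0 => by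
  have z : ∀ {a : Rl P}, lam a t = 0 → g a t = 0 := fun k =>
    (mul_eq_zero.1 k).elim id (zero H.two H.nt)
  have key : ∀ {a b : Rl P}, Fr Δ a b c → lam a t = 2 → lam b t = 0 → False := fun {a b} f h1 h2 => by
    obtain ⟨s, hs, κ, k⟩ := f.exists_sw H hK
    have e1 := k.lam_eq t
    rw [z h2, zero H.two H.nt (z h2), mul_zero, mul_zero, sub_zero, sub_zero, ← lam, h1] at e1
    have h2 := H.two
    rcases zero_or_two H h hK hv ht h3 (f.sw h hs k).swap.rot (z h0) with e | e <;> grind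
  rcases zero_or_two H h hK hv ht h3 f.swap.rot (z h0) with h1 | h1 <;>
    rcases zero_or_two H h hK hv ht h3 f.rot (z h0) with h2 | h2
  · exact f.adj H h hK ht (z h1) (z h2) (z h0)
  · exact key f.swap h2 h1
  · exact key f h1 h2
  · exact not_four H.two h3 (by
      convert v_two H h hv ht f (h1 ▸ H.two) using 1
      rw [h1, h2]; norm_num)

theorem eq_one (h3 : (3 : F) ≠ 0) (f : Fr Δ a b c) : lam a t = 1 := by
  have ha := ne_zero' H h hK hv ht h3 f.rot
  have hb := ne_zero' H h hK hv ht h3 f.rot.rot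
  exact ones H.two h3 (v_one H h hv ht f.ha) (v_one H h hv ht f.hb) (v_one H h hv ht f.hc) ha hb
    (ne_zero' H h hK hv ht h3 f) (v_two H h hv ht f ha) (v_two H h hv ht f.swap.rot ha)
    (v_two H h hv ht f.rot hb) (v_three H h hv ht f ha)

theorem ratio (h3 : (3 : F) ≠ 0) (f : Fr Δ a b c) {s : Rl P} {κ : F} (hs : s ∈ Δ)
    (k : Sw a b s κ) : (κ * g a t * g t b) ^ 2 = -1 := by
  have e1 := k.lam_eq t
  have e2 := eq_one H h hK hv ht h3 f
  have e3 := eq_one H h hK hv ht h3 f.swap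
  rw [eq_one H h hK hv ht h3 (f.sw h hs k)] at e1
  have e4 := mul_inv_cancel₀ k.1
  simp only [lam] at e2 e3
  grind

end RE7

open RE7 in
theorem not_k1 (H : RS P) (h3 : (3 : F) ≠ 0) (h : Exc Δ e) (hK : K1 Δ)
    (hv : ∀ a b : Rl P, Same a b ∨ V1 (lam a b)) : False := by
  obtain ⟨t, ht⟩ := h.exists_mixed H
  have o := h.orth
  have f : Fr Δ (e 0) (e 1) (e 2) := ⟨h.fr 0, h.fr 1, h.fr 2, o _ _ (by decide), o _ _ (by decide),
    o _ _ (by decide), o _ _ (by decide), o _ _ (by decide), o _ _ (by decide)⟩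
  generalize e 0 = a, e 1 = b, e 2 = c at f
  obtain ⟨s, hs, κ, k⟩ := f.exists_sw H hK
  obtain ⟨s', hs', κ', k'⟩ := f.rot.exists_sw H hK
  have k'' : Sw a c (mv s s') (κ * κ') := by
    obtain ⟨hκ, γ, γ', e, h1, h2⟩ := k
    obtain ⟨hκ', δ, δ', e', h3, h4⟩ := k'
    refine ⟨mul_ne_zero hκ hκ', γ, γ', e, ?_, ?_⟩
    · change s.v - g s' s • s'.v = _
      have : g s' s = -(2 * δ * γ' * κ) := by
        simp only [g, h1, h4, dotProduct_smul, smul_dotProduct, dotProduct_sub, sub_dotProduct,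
          b.two, show b.φ ⬝ᵥ a.v = 0 from f.ba, show c.φ ⬝ᵥ a.v = 0 from f.ca,
          show c.φ ⬝ᵥ b.v = 0 from f.cb, smul_eq_mul]
        ring
      rw [this, h1, h3]
      linear_combination (norm := module) (γ' * κ) • e' • b.v - (γ' * κ * κ') • e' • c.v
    · change s.φ - g s s' • s'.φ = _
      have : g s s' = -(2 * δ' * γ * κ⁻¹) := by
        simp only [g, h2, h3, dotProduct_smul, smul_dotProduct, dotProduct_sub, sub_dotProduct,
          b.two, show a.φ ⬝ᵥ b.v = 0 from f.ab, show a.φ ⬝ᵥ c.v = 0 from f.ac,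
          show b.φ ⬝ᵥ c.v = 0 from f.bc, smul_eq_mul]
        ring
      rw [this, h2, h4, mul_inv]
      linear_combination (norm := module) (γ * κ⁻¹) • e' • b.φ - (γ * κ⁻¹ * κ'⁻¹) • e' • c.φ
  have r1 := ratio H h hK hv ht h3 f hs k
  have r2 := ratio H h hK hv ht h3 f.rot hs' k'
  have r3 := ratio H h hK hv ht h3 f.swap.rot (h.mv _ hs _ hs') k''
  have e2 := eq_one H h hK hv ht h3 f.rot
  have h2 := H.two
  simp only [lam] at e2
  grind

end Cfsg.Agent.Cl.D5
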