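/-
Negatives of reflections in dimension five: monomial frames.
-/
import Mathlib
import Cfsg.Agent.Cl.D5RDefs

set_option autoImplicit false
set_option linter.unusedSectionVars false

namespace Cfsg.Agent.Cl.D5

open Matrix Cfsg.Geo Cfsg.Agent.Cl.Max Cfsg.Agent.Cl.Mx Rl
open scoped MatrixGroups

namespace RF

variable {F : Type*} [Field F] {P : Subgroup (GL (Fin 5) F)} {c : F}

/-- A member of monomial type. -/
def Tf (P : Subgroup (GL (Fin 5) F)) (p π q κ : Fin 5 → F) (b : F) : Prop :=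
  ∃ s : Rl P, s.v = p - b • q ∧ s.φ = π - b⁻¹ • κ

theorem Tf.symm {p π q κ : Fin 5 → F} {b : F} (h : Tf P p π q κ b) (hb : b ≠ 0) :
    Tf P q κ p π b⁻¹ := by
  obtain ⟨s, h1, h2⟩ := h
  have hb' := mul_inv_cancel₀ hb
  refine ⟨sm (-b⁻¹) (by simpa) s, ?_, ?_⟩
  · simp only [sm, h1]
    linear_combination (norm := module) hb' • q
  · simp only [sm, h2, inv_neg, inv_inv]
    linear_combination (norm := module) hb' • κ

theorem Tf.trans {p π q κ u σ : Fin 5 → F} {b b' : F} (h : Tf P p π q κ b)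
    (h' : Tf P q κ u σ b') (a1 : κ ⬝ᵥ p = 0) (a2 : σ ⬝ᵥ p = 0) (a3 : κ ⬝ᵥ q = 1) (a4 : σ ⬝ᵥ q = 0)
    (a5 : π ⬝ᵥ q = 0) (a6 : π ⬝ᵥ u = 0) (a7 : κ ⬝ᵥ u = 0) : Tf P p π u σ (b * b') := by
  obtain ⟨s, h1, h2⟩ := h
  obtain ⟨s', h3, h4⟩ := h'
  refine ⟨mv s s', ?_, ?_⟩ <;>
    simp only [mv, g, h1, h2, h3, h4, dotProduct_sub, dotProduct_smul, sub_dotProduct,
      smul_dotProduct, smul_eq_mul, a1, a2, a3, a4, a5, a6, a7, mul_inv] <;> module

/-- Powers of the parameter. -/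
def Pw (c b : F) : Prop := ∃ n : ℕ, b = c ^ n

theorem Pw.one : Pw c 1 := ⟨0, by simp⟩

theorem Pw.pow (n : ℕ) : Pw c (c ^ n) := ⟨n, rfl⟩

theorem Pw.self : Pw c c := ⟨1, by simp⟩

theorem Pw.mul {b b' : F} (h : Pw c b) (h' : Pw c b') : Pw c (b * b') := by
  obtain ⟨n, rfl⟩ := h
  obtain ⟨m, rfl⟩ := h'
  exact ⟨n + m, by rw [pow_add]⟩

theorem Pw.ne {b : F} (h : Pw c b) (hc : c ≠ 0) : b ≠ 0 := by
  obtain ⟨n, rfl⟩ := h
  exact pow_ne_zero _ hc

theorem Pw.inv [Finite F] {b : F} (h : Pw c b) (hc : c ≠ 0) : Pw c b⁻¹ := by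
  obtain ⟨n, rfl⟩ := h
  cases nonempty_fintype F
  have h1 := FiniteField.pow_card_sub_one_eq_one c hc
  have h2 : 1 < Fintype.card F := Fintype.one_lt_card
  obtain ⟨k, hk⟩ : ∃ k, Fintype.card F - 1 = k + 1 := ⟨Fintype.card F - 2, by omega⟩
  rw [hk] at h1
  exact ⟨k * n, inv_eq_of_mul_eq_one_right (by
    rw [← pow_add, show n + k * n = (k + 1) * n by ring, pow_mul, h1, one_pow])⟩

theorem third {r : ℕ} (hr : 3 ≤ r) (i j : Fin r) : ∃ k, k ≠ i ∧ k ≠ j := by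
  by_contra h
  push Not at h
  have : (Finset.univ : Finset (Fin r)) ⊆ {i, j} := fun k _ => by
    by_cases e : k = i
    · simp [e]
    · simp [h k e]
  have := (Finset.card_le_card this).trans Finset.card_le_two
  simp at this
  omega

theorem bi5 {e ε : Fin 5 → Fin 5 → F} (h : ∀ i j, ε i ⬝ᵥ e j = if i = j then 1 else 0)
    (y : Fin 5 → F) : y = ∑ i, (ε i ⬝ᵥ y) • e i ∧ y = ∑ i, (y ⬝ᵥ e i) • ε i := by
  have h1 : Matrix.of ε * (Matrix.of e)ᵀ = 1 := by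
    ext i j; rw [Matrix.one_apply, ← h]; rfl
  have h2 := mul_eq_one_comm.1 h1
  constructor
  · conv_lhs => rw [← one_mulVec y, ← h2, ← mulVec_mulVec]
    ext k
    simp [mulVec, dotProduct, mul_comm]
  · conv_lhs => rw [← vecMul_one y, ← h2, ← vecMul_vecMul]
    ext k
    simp [vecMul, dotProduct]

end RF

open RF

variable {F : Type*} [Field F] {P : Subgroup (GL (Fin 5) F)} {a b t s : Rl P}
  {c : F} {r : ℕ} {e ε : Fin r → Fin 5 → F}

namespace Rl.Frame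

theorem one (h : Frame P c e ε) (i : Fin r) : ε i ⬝ᵥ e i = 1 := by simp [h.bi]

theorem orth (h : Frame P c e ε) {i j : Fin r} (hij : i ≠ j) : ε i ⬝ᵥ e j = 0 := by
  simp [h.bi, hij]

theorem tf (h : Frame P c e ε) {i j : Fin r} (hij : i ≠ j) {b : F} (hb : Pw c b) :
    Tf P (e i) (ε i) (e j) (ε j) b := by
  obtain ⟨n, rfl⟩ := hb
  exact h.ex i j hij n

theorem li (h : Frame P c e ε) : LinearIndependent F e := by
  rw [Fintype.linearIndependent_iff]
  intro g hg i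
  have := congrArg (ε i ⬝ᵥ ·) hg
  simp only [dotProduct_sum, dotProduct_smul, dotProduct_zero, smul_eq_mul] at this
  rwa [Finset.sum_eq_single i (fun j _ hj => by rw [h.orth hj.symm, mul_zero]) (by simp), h.one,
    mul_one] at this

theorem dot_sum (h : Frame P c e ε) (x : Fin r → F) (i : Fin r) :
    ε i ⬝ᵥ ∑ j, x j • e j = x i := by
  simp [dotProduct_sum, h.bi]

theorem sum_dot (h : Frame P c e ε) (x : Fin r → F) (i : Fin r) :
    (∑ j, x j • ε j) ⬝ᵥ e i = x i := by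
  simp [sum_dotProduct, h.bi]

variable [Finite F]

theorem cons (h : Frame P c e ε) {f f' : Fin 5 → F} (h1 : f' ⬝ᵥ f = 1) (h2 : ∀ j, ε j ⬝ᵥ f = 0)
    (h3 : ∀ j, f' ⬝ᵥ e j = 0) (h4 : ∀ j b, Pw c b → Tf P (e j) (ε j) f f' b) :
    Frame P c (Fin.cons f e : Fin (r + 1) → Fin 5 → F) (Fin.cons f' ε) where
  ne := h.ne
  bi i j := by
    cases i using Fin.cases <;> cases j using Fin.cases <;>
      simp [h1, h2, h3, h.bi, (Fin.succ_ne_zero _).symm]
  ex i j hij n := by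
    cases i using Fin.cases <;> cases j using Fin.cases
    · exact absurd rfl hij
    · simpa [Tf] using (h4 _ _ ((Pw.pow n).inv h.ne)).symm (inv_ne_zero (pow_ne_zero _ h.ne))
    · simpa [Tf] using h4 _ _ (Pw.pow n)
    · simpa using h.ex _ _ (fun e => hij (by rw [e])) n

/-- The pair obtained from a member with `x_i ξ_i = 1`. -/
theorem split (h : Frame P c e ε) {i : Fin r} (h1 : ε i ⬝ᵥ s.v * s.φ ⬝ᵥ e i = 1) :
    ∃ f f' : Fin 5 → F, Tf P (e i) (ε i) f f' 1 ∧ f' ⬝ᵥ f = 1 ∧ ε i ⬝ᵥ f = 0 ∧ f' ⬝ᵥ e i = 0 ∧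
      s.v = (ε i ⬝ᵥ s.v) • (e i - f) ∧ s.φ = (s.φ ⬝ᵥ e i) • (ε i - f') := by
  have h2 := s.two
  have hx : ε i ⬝ᵥ s.v ≠ 0 := left_ne_zero_of_mul_eq_one h1
  have hi : (ε i ⬝ᵥ s.v)⁻¹ = s.φ ⬝ᵥ e i := inv_eq_of_mul_eq_one_right h1
  refine ⟨e i - (s.φ ⬝ᵥ e i) • s.v, ε i - (ε i ⬝ᵥ s.v) • s.φ,
    ⟨sm _ (inv_ne_zero hx) s, by simp [sm, hi], by simp [sm]⟩, ?_, ?_, ?_, ?_, ?_⟩
  · simp only [dotProduct_sub, dotProduct_smul, sub_dotProduct, smul_dotProduct, smul_eq_mul, h.one,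
      h2]
    linear_combination 0 * h1
  · simp only [dotProduct_sub, dotProduct_smul, smul_eq_mul, h.one]; linear_combination -h1
  · simp only [sub_dotProduct, smul_dotProduct, smul_eq_mul, h.one]; linear_combination -h1
  · linear_combination (norm := module) -h1 • s.v
  · linear_combination (norm := module) -h1 • s.φ

theorem ext (h : Frame P c e ε) {i : Fin r} (h1 : ε i ⬝ᵥ s.v * s.φ ⬝ᵥ e i = 1)
    (h0 : ∀ l, l ≠ i → ε l ⬝ᵥ s.v = 0 ∧ s.φ ⬝ᵥ e l = 0) (hr : 2 ≤ r) :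
    ∃ e' ε' : Fin (r + 1) → Fin 5 → F, Frame P c e' ε' := by
  obtain ⟨f, f', t0, b3, b1, b2, e1, e2⟩ := h.split h1
  have hx := left_ne_zero_of_mul_eq_one h1
  have hy := right_ne_zero_of_mul_eq_one h1
  have b4 : ∀ j, ε j ⬝ᵥ f = 0 := fun j => by
    by_cases hj : j = i
    · rw [hj, b1]
    · have := (h0 j hj).1
      rw [e1] at this
      simpa [h.orth hj, hx] using this
  have b5 : ∀ j, f' ⬝ᵥ e j = 0 := fun j => by
    by_cases hj : j = i
    · rw [hj, b2]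
    · have := (h0 j hj).2
      rw [e2] at this
      simpa [h.orth (Ne.symm hj), hy] using this
  have t1 : ∀ j, j ≠ i → ∀ b, Pw c b → Tf P (e j) (ε j) f f' b := fun j hj b hb => by
    simpa using (h.tf hj hb).trans t0 (h.orth hj.symm) (b5 j) (h.one i) b2 (h.orth hj) (b4 j) b1
  have : Nontrivial (Fin r) := Fin.nontrivial_iff_two_le.2 hr
  obtain ⟨k, hk⟩ := exists_ne i
  refine ⟨_, _, h.cons b3 b4 b5 fun j b hb => ?_⟩
  by_cases hj : j = i
  · rw [hj]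
    simpa using (h.tf hk.symm hb).trans (t1 k hk 1 Pw.one) (h.orth hk) b2 (h.one k) (b5 k)
      (h.orth hk.symm) b1 (b4 k)
  · exact t1 j hj b hb

theorem scale (h : Frame P c e ε) (n : Fin r → ℕ) :
    Frame P c (fun i => c ^ n i • e i) (fun i => (c ^ n i)⁻¹ • ε i) where
  ne := h.ne
  bi i j := by
    by_cases hij : i = j
    · simp [hij, h.one, h.ne]
    · simp [hij, h.orth hij]
  ex i j hij m := by
    have hi := pow_ne_zero (n i) h.ne
    have hi' := mul_inv_cancel₀ hi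
    obtain ⟨s, h1, h2⟩ := h.tf hij (((Pw.pow m).mul (Pw.pow (n j))).mul ((Pw.pow (n i)).inv h.ne))
    refine ⟨sm _ hi s, ?_, ?_⟩
    · simp only [sm, h1]
      linear_combination (norm := module) -(c ^ m * c ^ n j) • hi' • e j
    · simp only [sm, h2, mul_inv, inv_inv]
      linear_combination (norm := module) -((c ^ m)⁻¹ * (c ^ n j)⁻¹) • hi' • ε j

theorem zero (H : RS P) (h : Frame P c e ε) (hc : c ≠ 1) (hr : 3 ≤ r)
    (h0 : ∀ i, ε i ⬝ᵥ s.v * s.φ ⬝ᵥ e i = 0) (i : Fin r) : ε i ⬝ᵥ s.v = 0 ∧ s.φ ⬝ᵥ e i = 0 := by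
  have c0 := mul_inv_cancel₀ h.ne
  have k : ∀ {i j}, i ≠ j → (s.φ ⬝ᵥ e i = 0 → s.φ ⬝ᵥ e j = 0 → ε i ⬝ᵥ s.v = 0) ∧
      (ε i ⬝ᵥ s.v = 0 → ε j ⬝ᵥ s.v = 0 → s.φ ⬝ᵥ e i = 0) := fun {i j} hij => by
    obtain ⟨u, u1, u2⟩ := h.tf hij Pw.one
    obtain ⟨w, w1, w2⟩ := h.tf hij Pw.self
    constructor <;> intro x y
    · have p := Rl.zero H.two H.nt (a := s) (b := u) (by simp [g, u1, x, y])
      have q := Rl.zero H.two H.nt (a := s) (b := w) (by simp [g, w1, x, y])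
      simp only [g, u2, w2, sub_dotProduct, smul_dotProduct, smul_eq_mul, inv_one] at p q
      grind
    · have p := Rl.zero H.two H.nt (a := u) (b := s) (by simp [g, u2, x, y])
      have q := Rl.zero H.two H.nt (a := w) (b := s) (by simp [g, w2, x, y])
      simp only [g, u1, w1, dotProduct_sub, dotProduct_smul, smul_eq_mul] at p q
      grind
  obtain ⟨j, hj, -⟩ := third hr i i
  obtain ⟨l, hl, hl'⟩ := third hr i j
  have := k hj.symm
  have := k hl.symm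
  have := k hl'.symm
  have := h0 i
  have := h0 j
  have := h0 l
  grind

theorem diag (h : Frame P c e ε) {i j : Fin r} (hij : i ≠ j) (n : ℕ) : ∃ k : P, (∀ y,
    ((k : GL (Fin 5) F) : Matrix (Fin 5) (Fin 5) F) *ᵥ y =
      y + ((c ^ n - 1) * ε i ⬝ᵥ y) • e i + (((c ^ n)⁻¹ - 1) * ε j ⬝ᵥ y) • e j) ∧
    ∀ s : Rl P, (cj k s).φ =
      s.φ + (((c ^ n)⁻¹ - 1) * s.φ ⬝ᵥ e i) • ε i + ((c ^ n - 1) * s.φ ⬝ᵥ e j) • ε j := by
  obtain ⟨u, u1, u2⟩ := h.tf hij Pw.one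
  obtain ⟨w, w1, w2⟩ := h.tf hij (Pw.pow n)
  have hb := mul_inv_cancel₀ (pow_ne_zero n h.ne)
  generalize c ^ n = b at *
  refine ⟨u.el * w.el, fun y => ?_, fun s => ?_⟩
  · rw [Subgroup.coe_mul, mul_mulVec, el_mulVec, el_mulVec]
    simp only [u1, u2, w1, w2, dotProduct_add, dotProduct_neg, dotProduct_sub, dotProduct_smul,
      sub_dotProduct, smul_dotProduct, smul_eq_mul, h.one, h.orth hij, h.orth hij.symm, inv_one]
    linear_combination (norm := module) -(ε j ⬝ᵥ y) • hb • e i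
  · change s.φ ᵥ* _ = _
    rw [← Subgroup.coe_inv, _root_.mul_inv_rev, el_inv, el_inv, Subgroup.coe_mul, Units.val_mul,
      ← vecMul_vecMul, vecMul_el, vecMul_el]
    simp only [u1, u2, w1, w2, add_dotProduct, neg_dotProduct, dotProduct_sub, dotProduct_smul,
      sub_dotProduct, smul_dotProduct, smul_eq_mul, h.one, h.orth hij, h.orth hij.symm, inv_one]
    linear_combination (norm := module) -(s.φ ⬝ᵥ e j) • hb • ε i

theorem not_inv (H : RS P) (h : Frame P c e ε) (h0 : 2 ≤ r) (h5 : r < 5) :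
    ∃ s : Rl P, s.v ≠ ∑ i, (ε i ⬝ᵥ s.v) • e i ∧ ∃ i, s.φ ⬝ᵥ e i ≠ 0 := by
  by_contra hn
  push Not at hn
  obtain ⟨u, -⟩ := h.ex ⟨0, by omega⟩ ⟨1, by omega⟩ (by simp) 0
  refine (bot_or_top (T := Set.univ) H.two H.qs (fun _ _ _ => trivial) (Set.mem_univ u)
    (Submodule.span F (Set.range e)) fun s _ x hx => ?_).elim (fun a => ?_) fun a => ?_
  · by_cases a : s.v = ∑ i, (ε i ⬝ᵥ s.v) • e i
    · rw [a]
      exact Submodule.smul_mem _ _ (Submodule.sum_mem _ fun i _ =>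
        Submodule.smul_mem _ _ (Submodule.subset_span ⟨i, rfl⟩))
    · have : Submodule.span F (Set.range e) ≤ kerS (· = s.φ) :=
        Submodule.span_le.2 (by rintro _ ⟨i, rfl⟩ _ rfl; exact hn s a i)
      rw [this hx s.φ rfl, zero_smul]
      exact zero_mem _
  · exact h.li.ne_zero ⟨0, by omega⟩ ((Submodule.span_eq_bot.1 a) _ ⟨_, rfl⟩)
  · have := finrank_span_eq_card h.li
    rw [a, finrank_top] at this
    simp at this
    omega

theorem five {e ε : Fin 5 → Fin 5 → F} (h : Frame P c e ε) (y : Fin 5 → F) :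
    y = ∑ i, (ε i ⬝ᵥ y) • e i ∧ y = ∑ i, (y ⬝ᵥ e i) • ε i := bi5 h.bi y

theorem four {e ε : Fin 4 → Fin 5 → F} (h : Frame P c e ε) {f χ : Fin 5 → F} (hf : f ≠ 0)
    (h1 : ∀ i, ε i ⬝ᵥ f = 0) (h2 : ∀ i, χ ⬝ᵥ e i = 0) :
    (χ ⬝ᵥ f = 0 → χ = 0) ∧ ∀ y, (∀ i, ε i ⬝ᵥ y = 0) → ∃ x : F, y = x • f := by
  obtain ⟨k, hk⟩ := Function.ne_iff.1 hf
  set ψ : Fin 5 → F := Pi.single k (f k)⁻¹
  have e1 : ψ ⬝ᵥ f = 1 := by simp [ψ, inv_mul_cancel₀ hk]
  have key := bi5 (e := Fin.cons f e) (ε := Fin.cons (ψ - ∑ i, (ψ ⬝ᵥ e i) • ε i) ε) fun i j => by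
    cases i using Fin.cases <;> cases j using Fin.cases
    · simp [e1, sum_dotProduct, h1]
    · simp [h.sum_dot, (Fin.succ_ne_zero _).symm]
    · simp [h1]
    · simp [h.bi]
  refine ⟨fun e0 => ?_, fun y hy => ⟨(ψ - ∑ i, (ψ ⬝ᵥ e i) • ε i) ⬝ᵥ y, ?_⟩⟩
  · rw [(key χ).2, Fin.sum_univ_succ]
    simp [e0, h2]
  · conv_lhs => rw [(key y).1, Fin.sum_univ_succ]
    simp only [Fin.cons_zero, Fin.cons_succ, hy, zero_smul, Finset.sum_const_zero, add_zero]

theorem not_mono (H : RS P) {e ε : Fin 5 → Fin 5 → F} (h : Frame P c e ε) (hc : c ≠ 1)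
    (hs : ∀ s : Rl P, ∃ i j, i ≠ j ∧ (∀ l, l ≠ i → l ≠ j → ε l ⬝ᵥ s.v = 0 ∧ s.φ ⬝ᵥ e l = 0) ∧
      ((ε j ⬝ᵥ s.v = 0 ∧ s.φ ⬝ᵥ e j = 0) ∨
        (ε i ⬝ᵥ s.v * s.φ ⬝ᵥ e i = 1 ∧ ε j ⬝ᵥ s.v * s.φ ⬝ᵥ e j = 1))) : False := by
  have sp : Submodule.span F (Set.range e) = ⊤ := h.li.span_eq_top_of_card_eq_finrank (by simp)
  have hD : IsMDecomposition 1 fun i => Submodule.span F {e i} :=
    ⟨by omega, one_pos, fun i => finrank_span_singleton (h.li.ne_zero i),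
      h.li.iSupIndep_span_singleton, by rw [← sp, Submodule.span_range_eq_iSup]⟩
  obtain ⟨k, eg, -⟩ := h.diag (i := 0) (j := 1) (by decide) 1
  obtain ⟨u, -⟩ := h.ex 0 1 (by decide) 0
  refine H.qs.not_le_decomp hD (a := k) (mem_fixAll.2 fun l x hx => ?_)
    (fun x hx => P.mul_mem (P.mul_mem k.2 hx) (P.inv_mem k.2)) ?_
    (le_of_fam (T := Set.univ) H.two H.qs (fun _ _ _ => trivial) (Set.mem_univ u) fun s _ => ?_)
  · obtain ⟨y, rfl⟩ := Submodule.mem_span_singleton.1 hx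
    rw [eg]
    refine add_mem (add_mem hx ?_) ?_
    · by_cases a : 0 = l
      · exact a ▸ Submodule.smul_mem _ _ (Submodule.mem_span_singleton_self _)
      · simp [h.orth a]
    · by_cases a : 1 = l
      · exact a ▸ Submodule.smul_mem _ _ (Submodule.mem_span_singleton_self _)
      · simp [h.orth a]
  · refine notMem_scalars_of_fix (u := e 2) (v := e 0) (h.li.ne_zero 2)
      (by simp [eg, h.bi]) fun a => hc ?_
    have := congrArg (ε 0 ⬝ᵥ ·) a
    simpa [eg, h.bi, sub_eq_zero] using this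
  obtain ⟨i, j, hij, h0, h1⟩ := hs s
  have hv : s.v = (ε i ⬝ᵥ s.v) • e i + (ε j ⬝ᵥ s.v) • e j := by
    conv_lhs => rw [(h.five s.v).1]
    exact Finset.sum_eq_add i j hij (fun l _ hl => by simp [h0 l hl.1 hl.2]) (by simp) (by simp)
  have h2 := s.two
  rw [hv, dotProduct_add, dotProduct_smul, dotProduct_smul, smul_eq_mul, smul_eq_mul] at h2
  have key : ∀ (σ : Equiv.Perm (Fin 5)), (∀ l, ∃ x : F, x ≠ 0 ∧
      -e l + (s.φ ⬝ᵥ e l) • s.v = x • e (σ l)) →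
      (s.el : GL (Fin 5) F) ∈ decompositionStabilizer fun i => Submodule.span F {e i} :=
    fun σ k => ⟨σ, fun l => by
      obtain ⟨x, hx, k⟩ := k l
      beta_reduce
      rw [Submodule.map_span, Set.image_singleton, toLin'_apply, el_mulVec, k,
        Submodule.span_singleton_smul_eq hx.isUnit]⟩
  generalize ε i ⬝ᵥ s.v = x, ε j ⬝ᵥ s.v = y at hv h1 h2
  rcases h1 with ⟨rfl, h1⟩ | ⟨h1, h1'⟩
  · refine key 1 fun l => ?_
    by_cases a : l = i
    · exact ⟨1, one_ne_zero, by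
        rw [a, hv, Equiv.Perm.one_apply]; linear_combination (norm := module) h2 • e i⟩
    · refine ⟨-1, by simp, ?_⟩
      by_cases b : l = j
      · simp [b, h1]
      · simp [h0 l a b]
  · refine key (Equiv.swap i j) fun l => ?_
    by_cases a : l = i
    · exact ⟨s.φ ⬝ᵥ e i * y, by grind, by
        rw [a, hv, Equiv.swap_apply_left]; linear_combination (norm := module) h1 • e i⟩
    by_cases b : l = j
    · exact ⟨s.φ ⬝ᵥ e j * x, by grind, by
        rw [b, hv, Equiv.swap_apply_right]; linear_combination (norm := module) h1' • e j⟩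
    · exact ⟨-1, by simp, by simp [h0 l a b, Equiv.swap_apply_of_ne_of_ne a b]⟩

end Rl.Frame

variable [Finite F]

theorem frame_of_triple (h : NS a b t) (h1 : lam a t = 1) (h1' : lam b t = 1)
    (h3 : cyc a b t + cyc a t b = lam a b) : ∃ (c : F) (e ε : Fin 3 → Fin 5 → F),
      Frame P c e ε ∧ c ≠ 1 ∧ lam a b = 2 + c + c⁻¹ := by
  wlog n : g a t = 1 ∧ g t a = 1 ∧ g b t = 1 ∧ g t b = 1 generalizing a b
  · have a1 := left_ne_zero_of_mul_eq_one h1
    have a2 := left_ne_zero_of_mul_eq_one h1'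
    have b1 := mul_inv_cancel₀ a1
    have b2 := mul_inv_cancel₀ a2
    have := this (a := sm _ a1 a) (b := sm _ a2 b)
    simp only [NS, lam, cyc, g_sm_left, g_sm_right] at *
    obtain ⟨c, e, ε, k1, k2, k3⟩ := this (by grind) (by grind) (by grind) (by grind) (by grind)
    exact ⟨c, e, ε, k1, k2, by grind⟩
  obtain ⟨n1, n2, n3, n4⟩ := n
  simp only [NS, cyc, lam, n1, n2, n3, n4, mul_one, one_mul] at h h3 ⊢
  obtain ⟨c, hc⟩ : ∃ c, g a b = 1 + c := ⟨g a b - 1, by ring⟩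
  obtain ⟨d, hd⟩ : ∃ d, g b a = 1 + d := ⟨g b a - 1, by ring⟩
  rw [hc, hd] at h h3 ⊢
  have cd : c * d = 1 := by grind
  have c0 : c ≠ 0 := left_ne_zero_of_mul_eq_one cd
  have c2 : c⁻¹ = d := inv_eq_of_mul_eq_one_right cd
  have c1 := mul_inv_cancel₀ (show c - 1 ≠ 0 by grind)
  have d1 := mul_inv_cancel₀ (show d - 1 ≠ 0 by grind)
  let e : Fin 3 → Fin 5 → F := ![a.v + (c - 1)⁻¹ • (a.v - b.v), (c - 1)⁻¹ • (a.v - b.v),
    a.v + (c - 1)⁻¹ • (a.v - b.v) - t.v]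
  let ε : Fin 3 → Fin 5 → F := ![a.φ + (d - 1)⁻¹ • (a.φ - b.φ), (d - 1)⁻¹ • (a.φ - b.φ),
    a.φ + (d - 1)⁻¹ • (a.φ - b.φ) - t.φ]
  have bi : ∀ i j, ε i ⬝ᵥ e j = if i = j then 1 else 0 := fun i j => by
    simp only [g] at n1 n2 n3 n4 hc hd
    fin_cases i <;> fin_cases j <;>
      simp [e, ε, a.two, b.two, t.two, n1, n2, n3, n4, hc, hd] <;> grind
  have one : ∀ i, ε i ⬝ᵥ e i = 1 := fun i => by simp [bi]
  have zero : ∀ {i j}, i ≠ j → ε i ⬝ᵥ e j = 0 := fun h => by simp [bi, h]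
  have tr : ∀ {i j k : Fin 3} {b b' : F}, i ≠ j → j ≠ k → i ≠ k → Tf P (e i) (ε i) (e j) (ε j) b →
      Tf P (e j) (ε j) (e k) (ε k) b' → Tf P (e i) (ε i) (e k) (ε k) (b * b') :=
    fun ij jk ik p q => p.trans q (zero ij.symm) (zero ik.symm) (one _) (zero jk.symm) (zero ij)
      (zero ik) (zero jk)
  have p01 : Tf P (e 0) (ε 0) (e 1) (ε 1) 1 := ⟨a, by simp [e], by simp [ε]⟩
  have p02 : Tf P (e 0) (ε 0) (e 2) (ε 2) 1 := ⟨t, by simp [e], by simp [ε]⟩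
  have q01 : Tf P (e 0) (ε 0) (e 1) (ε 1) c := ⟨b, by
    simp only [e, Matrix.cons_val_zero, Matrix.cons_val_one]
    linear_combination (norm := module) c1 • (a.v - b.v), by
    simp only [ε, c2, Matrix.cons_val_zero, Matrix.cons_val_one]
    linear_combination (norm := module) d1 • (a.φ - b.φ)⟩
  have p10 := p01.symm one_ne_zero
  have p20 := p02.symm one_ne_zero
  rw [inv_one] at p10 p20
  have p12 := tr (by decide) (by decide) (by decide) p10 p02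
  have p21 := tr (by decide) (by decide) (by decide) p20 p01
  rw [mul_one] at p12 p21
  have q02 := tr (by decide) (by decide) (by decide) q01 p12
  have q21 := tr (by decide) (by decide) (by decide) p20 q01
  rw [mul_one] at q02
  rw [one_mul] at q21
  have q20 := tr (by decide) (by decide) (by decide) q21 p10
  have q12 := tr (by decide) (by decide) (by decide) p10 q02
  rw [mul_one] at q20
  rw [one_mul] at q12
  have q10 := tr (by decide) (by decide) (by decide) q12 p20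
  rw [mul_one] at q10
  have p : ∀ i j, i ≠ j → Tf P (e i) (ε i) (e j) (ε j) 1 := fun i j h => by
    fin_cases i <;> fin_cases j <;> first | exact absurd rfl h | assumption
  have q : ∀ i j, i ≠ j → Tf P (e i) (ε i) (e j) (ε j) c := fun i j h => by
    fin_cases i <;> fin_cases j <;> first | exact absurd rfl h | assumption
  refine ⟨c, e, ε, ⟨c0, bi, fun i j h n => ?_⟩, by grind, by grind⟩
  change Tf P _ _ _ _ _
  induction n generalizing i j with
  | zero => simpa using p i j h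
  | succ n ih =>
    obtain ⟨k, k1, k2⟩ := third le_rfl i j
    rw [pow_succ]
    exact tr k1.symm k2 h (ih _ _ k1.symm) (q _ _ k2)

end Cfsg.Agent.Cl.D5
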