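/-
Negatives of reflections in dimension five: no monomial triple of order at least four.
-/
import Mathlib
import Cfsg.Agent.Cl.D5RF

set_option autoImplicit false
set_option linter.unusedSectionVars false

namespace Cfsg.Agent.Cl.D5

open Matrix Cfsg.Geo Cfsg.Agent.Cl.Max Cfsg.Agent.Cl.Mx Rl RF
open scoped MatrixGroups

variable {F : Type*} [Field F] [Finite F] {P : Subgroup (GL (Fin 5) F)} {s : Rl P}
  {c : F} {r : ℕ} {e ε : Fin r → Fin 5 → F}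

namespace RM

/-- Members acting monomially on the frame. -/
def Mn (e ε : Fin r → Fin 5 → F) (s : Rl P) : Prop :=
  ∃ (i j : Fin r) (x y x' y' : F), i ≠ j ∧ s.v = x • e i + y • e j ∧ s.φ = x' • ε i + y' • ε j ∧
    ((y = 0 ∧ y' = 0) ∨ (x * x' = 1 ∧ y * y' = 1))

theorem Mn.sum (h : Frame P c e ε) (m : Mn e ε s) : s.v = ∑ i, (ε i ⬝ᵥ s.v) • e i := by
  obtain ⟨i, j, x, y, -, -, hij, h1, -⟩ := m
  rw [Finset.sum_eq_add i j hij (fun l _ hl => by simp [h1, h.orth hl.1, h.orth hl.2]) (by simp)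
    (by simp)]
  simp [h1, h.one, h.orth hij, h.orth hij.symm]

theorem not_mn (H : RS P) {e ε : Fin 5 → Fin 5 → F} (h : Frame P c e ε) (hc : c ≠ 1)
    (hs : ∀ s : Rl P, Mn e ε s) : False :=
  h.not_mono H hc fun s => by
    obtain ⟨i, j, x, y, x', y', hij, h1, h2, h3⟩ := hs s
    refine ⟨i, j, hij, fun l a b => by
      simp [h1, h2, h.orth a, h.orth b, h.orth a.symm, h.orth b.symm], ?_⟩
    simpa [h1, h2, h.one, h.orth hij, h.orth hij.symm] using h3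

theorem not_six {e ε : Fin 6 → Fin 5 → F} (h : Frame P c e ε) : False := by
  simpa using h.li.fintype_card_le_finrank

theorem not_zero (H : RS P) {e ε : Fin 5 → Fin 5 → F} (h : Frame P c e ε)
    (h0 : ∀ i, s.φ ⬝ᵥ e i = 0) : False :=
  s.φ_ne H.two (by rw [(h.five s.φ).2]; simp [h0])

theorem sum_five {e ε : Fin 5 → Fin 5 → F} (h : Frame P c e ε) (s : Rl P) :
    ∑ i, ε i ⬝ᵥ s.v * s.φ ⬝ᵥ e i = 2 := by
  rw [← s.two]
  conv_rhs => rw [(h.five s.v).1]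
  simp [dotProduct_sum]

theorem tg (h : Frame P c e ε) {i j : Fin r} (hij : i ≠ j) {b : F} (hb : Pw c b) :
    ∃ u : Rl P, u.v = e i - b • e j ∧ u.φ = ε i - b⁻¹ • ε j ∧ ∀ s : Rl P,
      g u s = ε i ⬝ᵥ s.v - b⁻¹ * ε j ⬝ᵥ s.v ∧ g s u = s.φ ⬝ᵥ e i - b * s.φ ⬝ᵥ e j := by
  obtain ⟨u, h1, h2⟩ := h.tf hij hb
  exact ⟨u, h1, h2, fun s => ⟨by simp [g, h2], by simp [g, h1]⟩⟩

theorem diag {p π q κ : Fin 5 → F} {b : F} (hb : b ≠ 0) (h1 : Tf P p π q κ 1)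
    (h2 : Tf P p π q κ b) (a1 : π ⬝ᵥ p = 1) (a2 : π ⬝ᵥ q = 0) (a3 : κ ⬝ᵥ p = 0) (a4 : κ ⬝ᵥ q = 1) :
    ∃ k : P, ∀ y, ((k : GL (Fin 5) F) : Matrix (Fin 5) (Fin 5) F) *ᵥ y =
      y + ((b - 1) * π ⬝ᵥ y) • p + ((b⁻¹ - 1) * κ ⬝ᵥ y) • q := by
  obtain ⟨u, u1, u2⟩ := h1
  obtain ⟨w, w1, w2⟩ := h2
  have hb' := mul_inv_cancel₀ hb
  refine ⟨u.el * w.el, fun y => ?_⟩
  rw [Subgroup.coe_mul, mul_mulVec, el_mulVec, el_mulVec]
  simp only [u1, u2, w1, w2, dotProduct_add, dotProduct_neg, dotProduct_sub, dotProduct_smul,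
    sub_dotProduct, smul_dotProduct, smul_eq_mul, a1, a2, a3, a4, inv_one]
  linear_combination (norm := module) -(κ ⬝ᵥ y) • hb' • p

/-- The standing hypotheses. -/
structure Hy (P : Subgroup (GL (Fin 5) F)) (c : F) : Prop where
  rs : RS P
  c0 : c ≠ 0
  c2 : c ^ 2 ≠ 1
  c3 : c ^ 3 ≠ 1
  hh : ∀ a b t : Rl P, NS a b t → lam a b = 2 + c + c⁻¹ →
    (lam a t = 1 ∧ lam b t = 1) ∨ Pl a b t

theorem inside (H : Hy P c) {p π q κ z ζ : Fin 5 → F} {m : F} (hm : m ≠ 0)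
    (h1 : ∀ b, Pw c b → Tf P p π q κ b)
    (h2 : ∀ b, Pw c b → Tf P p π (m • (q + z)) (m⁻¹ • (κ + ζ)) b)
    (a1 : π ⬝ᵥ p = 1) (a2 : π ⬝ᵥ q = 0) (a3 : κ ⬝ᵥ p = 0) (a4 : κ ⬝ᵥ q = 1)
    (a5 : π ⬝ᵥ z = 0) (a6 : κ ⬝ᵥ z = 0) (a7 : ζ ⬝ᵥ p = 0) (a8 : ζ ⬝ᵥ q = 0) (a9 : ζ ⬝ᵥ z = 0) :
    z = 0 ∧ ζ = 0 := by
  have hm' := mul_inv_cancel₀ hm
  have key : ∀ b, Pw c b → ∃ k : P, ∀ y, ((k : GL (Fin 5) F) : Matrix (Fin 5) (Fin 5) F) *ᵥ y =
      y + (ζ ⬝ᵥ y) • ((b⁻¹ - 1) • (q + z)) + (((1 - b) • κ) ⬝ᵥ y) • z := fun b hb => by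
    have b0 := hb.ne H.c0
    obtain ⟨k, e⟩ := diag b0 (h2 1 .one) (h2 b hb) a1 (by simp [a2, a5])
      (by simp [a3, a7]) (by simp [a4, a6, a8, a9, hm])
    obtain ⟨k', e'⟩ := diag (inv_ne_zero b0) (h1 1 .one) (h1 _ (hb.inv H.c0)) a1 a2 a3 a4
    refine ⟨k * k', fun y => ?_⟩
    have hb' := mul_inv_cancel₀ b0
    rw [Subgroup.coe_mul, mul_mulVec, e', e]
    simp only [dotProduct_add, dotProduct_smul, add_dotProduct, smul_dotProduct, smul_eq_mul,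
      a1, a2, a3, a4, a7, a8, inv_inv]
    ext l
    simp only [Pi.add_apply, Pi.smul_apply, smul_eq_mul]
    grind
  have c0 := mul_inv_cancel₀ H.c0
  have c2 := H.c2
  have hq : q ≠ 0 := fun e => by simp [e] at a4
  have hκ : κ ≠ 0 := fun e => by simp [e] at a4
  obtain ⟨k, e⟩ := key c .self
  by_cases hz : z = 0 <;> by_cases hζ : ζ = 0
  · exact ⟨hz, hζ⟩
  · refine (H.rs.nt ((c⁻¹ - 1) • q) ζ ⟨by simp [a8], k, k.2, fun y => by simp [e, hz]⟩).elim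
      (fun a => ?_) fun a => (hζ a).elim
    have := (smul_eq_zero.1 a).resolve_right hq
    grind
  · refine (H.rs.nt z ((1 - c) • κ) ⟨by simp [a6], k, k.2, fun y => by simp [e, hζ]⟩).elim
      (fun a => (hz a).elim) fun a => ?_
    have := (smul_eq_zero.1 a).resolve_right hκ
    grind
  · obtain ⟨k', e'⟩ := key (c * c) (Pw.self.mul .self)
    have := heis H.rs.nt hz hζ a9 (by simp [a8, a9]) (by simp [a8, a9]) (by simp [a6])
      (by simp [a6]) e e'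
    simp only [dotProduct_add, dotProduct_smul, smul_dotProduct, smul_eq_mul, a4, a6, mul_inv]
      at this
    grind

section

variable (H : Hy P c) (h : Frame P c e ε)
include H h

theorem link0 (s : Rl P) {i j : Fin r} (hij : i ≠ j) :
    ε i ⬝ᵥ s.v * s.φ ⬝ᵥ e i = ε j ⬝ᵥ s.v * s.φ ⬝ᵥ e j ∨
      (∃ x y x' y' : F, s.v = x • e i + y • e j ∧ s.φ = x' • ε i + y' • ε j) ∨
      (ε i ⬝ᵥ s.v * s.φ ⬝ᵥ e i = 1 ∧ ε j ⬝ᵥ s.v = 0 ∧ s.φ ⬝ᵥ e j = 0) ∨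
      (ε j ⬝ᵥ s.v * s.φ ⬝ᵥ e j = 1 ∧ ε i ⬝ᵥ s.v = 0 ∧ s.φ ⬝ᵥ e i = 0) := by
  have c0 := mul_inv_cancel₀ H.c0
  have c2 := H.c2
  rw [or_iff_not_imp_left, or_iff_not_imp_left]
  intro a pl
  have key : ∀ b, Pw c b →
      (ε i ⬝ᵥ s.v - b⁻¹ * ε j ⬝ᵥ s.v) * (s.φ ⬝ᵥ e i - b * s.φ ⬝ᵥ e j) = 1 := fun b hb => by
    obtain ⟨u, u1, u2, u3⟩ := tg h hij hb
    obtain ⟨w, w1, w2, w3⟩ := tg h hij (hb.mul .self)
    have b0 := mul_inv_cancel₀ (hb.ne H.c0)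
    have e1 : g u w = 1 + c := by
      simp only [(u3 w).1, w1, dotProduct_sub, dotProduct_smul, h.one, h.orth hij,
        h.orth hij.symm, smul_eq_mul]
      grind
    have e2 : g w u = 1 + c⁻¹ := by
      simp only [(w3 u).1, u1, dotProduct_sub, dotProduct_smul, h.one, h.orth hij,
        h.orth hij.symm, smul_eq_mul, mul_inv]
      grind
    rcases H.hh u w s (by
      simp only [NS, cyc, e1, e2, u3 s, w3 s, mul_inv]
      grind) (by simp only [lam, e1, e2]; grind) with k | ⟨⟨x, y, k⟩, x', y', k'⟩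
    · simpa only [lam, u3 s] using k.1
    · exact (pl ⟨x + y, -(x * b + y * (b * c)), x' + y', -(x' * b⁻¹ + y' * (b * c)⁻¹),
        by rw [k, u1, w1]; module, by rw [k', u2, w2]; module⟩).elim
  have k0 := key 1 .one
  have k1 := key c .self
  have k2 := key (c * c) (Pw.self.mul .self)
  rw [mul_inv] at k2
  rw [inv_one] at k0
  generalize ε i ⬝ᵥ s.v = x, ε j ⬝ᵥ s.v = y, s.φ ⬝ᵥ e i = x', s.φ ⬝ᵥ e j = y', c⁻¹ = d at *
  have a2 : x * y' = 0 := by grind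
  have a3 : y * x' = 0 := by grind
  grind

theorem link (hr : 3 ≤ r) (s : Rl P) {i j : Fin r} (hij : i ≠ j) :
    ε i ⬝ᵥ s.v * s.φ ⬝ᵥ e i = ε j ⬝ᵥ s.v * s.φ ⬝ᵥ e j ∨
      (∃ (l : Fin r) (x x' : F), s.v = x • e l ∧ s.φ = x' • ε l) ∨
      (ε i ⬝ᵥ s.v * s.φ ⬝ᵥ e i = 1 ∧ ε j ⬝ᵥ s.v = 0 ∧ s.φ ⬝ᵥ e j = 0) ∨
      (ε j ⬝ᵥ s.v * s.φ ⬝ᵥ e j = 1 ∧ ε i ⬝ᵥ s.v = 0 ∧ s.φ ⬝ᵥ e i = 0) := by
  rcases link0 H h s hij with a | ⟨x, y, x', y', e1, e2⟩ | a
  · exact .inl a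
  rotate_left
  · exact .inr (.inr a)
  obtain ⟨k, k1, k2⟩ := third hr i j
  have h2 := s.two
  have t2 := H.rs.two
  have o1 := h.orth hij
  have o2 := h.orth hij.symm
  have o3 := h.orth k1
  have o4 := h.orth k1.symm
  have o5 := h.orth k2
  have o6 := h.orth k2.symm
  have p := link0 H h s k1.symm
  have q := link0 H h s k2.symm
  rcases p with p | ⟨z, w, z', w', p, p'⟩ | p | p
  · rcases q with q | ⟨z, w, z', w', q, q'⟩ | q | q
    · simp only [e1, e2, dotProduct_add, add_dotProduct, dotProduct_smul, smul_dotProduct, h.one,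
        o1, o2, o3, o4, o5, o6, smul_eq_mul] at p q h2 ⊢
      grind
    · have a := congrArg (ε i ⬝ᵥ ·) (e1.symm.trans q)
      have a' := congrArg (· ⬝ᵥ e i) (e2.symm.trans q')
      simp [h.one, o1, o2, o3, o4] at a a'
      exact .inr (.inl ⟨j, y, y', by simp [e1, a], by simp [e2, a']⟩)
    all_goals
      simp only [e1, e2, dotProduct_add, add_dotProduct, dotProduct_smul, smul_dotProduct, h.one,
        o1, o2, o3, o4, o5, o6, smul_eq_mul] at p q h2 ⊢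
      grind
  · have a := congrArg (ε j ⬝ᵥ ·) (e1.symm.trans p)
    have a' := congrArg (· ⬝ᵥ e j) (e2.symm.trans p')
    simp [h.one, o1, o2, o5, o6] at a a'
    exact .inr (.inl ⟨i, x, x', by simp [e1, a], by simp [e2, a']⟩)
  all_goals
    simp only [e1, e2, dotProduct_add, add_dotProduct, dotProduct_smul, smul_dotProduct, h.one,
      o1, o2, o3, o4, o5, o6, smul_eq_mul] at p h2 ⊢
    grind

theorem step (hr : 3 ≤ r) (s : Rl P) :
    (∃ e' ε' : Fin (r + 1) → Fin 5 → F, Frame P c e' ε') ∨ (∀ i, s.φ ⬝ᵥ e i = 0) ∨ Mn e ε s ∨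
      ∃ a : F, a ≠ 0 ∧ ∀ i, ε i ⬝ᵥ s.v * s.φ ⬝ᵥ e i = a := by
  have c1 : c ≠ 1 := fun a => H.c2 (by simp [a])
  by_cases h0 : ∀ i j, ε i ⬝ᵥ s.v * s.φ ⬝ᵥ e i = ε j ⬝ᵥ s.v * s.φ ⬝ᵥ e j
  · let i : Fin r := ⟨0, by omega⟩
    by_cases a : ε i ⬝ᵥ s.v * s.φ ⬝ᵥ e i = 0
    · exact .inr (.inl fun l => (h.zero H.rs c1 hr (fun l => (h0 l i).trans a) l).2)
    · exact .inr (.inr (.inr ⟨_, a, fun l => h0 l i⟩))
  by_cases hd : ∃ (l : Fin r) (x x' : F), s.v = x • e l ∧ s.φ = x' • ε l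
  · obtain ⟨l, x, x', e1, e2⟩ := hd
    obtain ⟨k, hk, -⟩ := third hr l l
    exact .inr (.inr (.inl ⟨l, k, x, 0, x', 0, hk.symm, by simp [e1], by simp [e2], by simp⟩))
  obtain ⟨i, k, hi, k1, k2⟩ : ∃ i k, ε i ⬝ᵥ s.v * s.φ ⬝ᵥ e i = 1 ∧ ε k ⬝ᵥ s.v = 0 ∧
      s.φ ⬝ᵥ e k = 0 := by
    push Not at h0
    obtain ⟨i, j, h0⟩ := h0
    rcases link H h hr s (i := i) (j := j) (fun e => h0 (by rw [e])) with a | a | a | a
    exacts [absurd a h0, absurd a hd, ⟨_, _, a⟩, ⟨_, _, a⟩]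
  have hx := left_ne_zero_of_mul_eq_one hi
  have hy := right_ne_zero_of_mul_eq_one hi
  have hik : k ≠ i := fun e => hx (e ▸ k1)
  by_cases hj : ∃ j, j ≠ i ∧ ε j ⬝ᵥ s.v * s.φ ⬝ᵥ e j = 1
  · obtain ⟨j, hj, a⟩ := hj
    obtain ⟨f, f', t0, b3, b1, b2, e1, e2⟩ := h.split hi
    generalize ε i ⬝ᵥ s.v = x, s.φ ⬝ᵥ e i = x' at hi hx hy e1 e2
    have b4 : ε k ⬝ᵥ f = 0 := by simpa [e1, h.orth hik, hx] using k1
    have b5 : f' ⬝ᵥ e k = 0 := by simpa [e2, h.orth hik.symm, hy] using k2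
    have t1 := (h.tf hik .one).trans t0 (h.orth hik.symm) b5 (h.one i) b2 (h.orth hik) b4 b1
    have t3 : ∀ b, Pw c b → Tf P (e i) (ε i) f f' b := fun b hb => by
      simpa using (h.tf hik.symm hb).trans t1 (h.orth hik) b2 (h.one k) b5 (h.orth hik.symm) b1 b4
    have b8 : ε j ⬝ᵥ f * f' ⬝ᵥ e j = 1 := by
      simp only [e1, e2, dotProduct_smul, smul_dotProduct, dotProduct_sub, sub_dotProduct,
        h.orth hj, h.orth hj.symm, smul_eq_mul] at a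
      grind
    obtain ⟨m, hm⟩ : ∃ m, ε j ⬝ᵥ f = m := ⟨_, rfl⟩
    have m0 : m ≠ 0 := hm ▸ left_ne_zero_of_mul_eq_one b8
    have m1 := mul_inv_cancel₀ m0
    have b7 : f' ⬝ᵥ e j = m⁻¹ := by grind
    obtain ⟨z1, z2⟩ := inside H (z := m⁻¹ • f - e j) (ζ := m • f' - ε j) m0
      (fun b hb => h.tf hj.symm hb) (fun b hb => by simpa [smul_smul, m0] using t3 b hb) (h.one i)
      (h.orth hj.symm) (h.orth hj) (h.one j) (by simp [b1, h.orth hj.symm])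
      (by simp [hm, h.one, m0]) (by simp [b2, h.orth hj]) (by simp [b7, h.one, m0]) (by
        simp only [dotProduct_sub, sub_dotProduct, dotProduct_smul, smul_dotProduct, smul_eq_mul,
          b3, hm, b7, h.one]
        grind)
    refine .inr (.inr (.inl ⟨i, j, x, -(x * m), x', -(x' * m⁻¹), hj.symm, ?_, ?_, by grind⟩))
    · rw [e1]; linear_combination (norm := module) -(x * m) • z1 + x • m1 • f
    · rw [e2]; linear_combination (norm := module) -(x' * m⁻¹) • z2 + x' • m1 • f'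
  push Not at hj
  refine .inl (h.ext hi (fun j hji => ?_) (by omega))
  rcases link H h hr s hji.symm with a | a | a | a
  exacts [absurd (a.symm.trans hi) (hj j hji), absurd a hd, a.2, absurd a.1 (hj j hji)]

omit H h in
theorem four_roots {a p q w x y z u : F} (h1 : x ≠ y) (h2 : x ≠ z) (h3 : x ≠ u) (h4 : y ≠ z)
    (h5 : y ≠ u) (h6 : z ≠ u) (e : ∀ b, b = x ∨ b = y ∨ b = z ∨ b = u →
      a * b ^ 3 + p * b ^ 2 + q * b + w = 0) : a = 0 := by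
  have e1 := e x (by simp)
  have e2 := e y (by simp)
  have e3 := e z (by simp)
  have e4 := e u (by simp)
  have k : ∀ {y}, x ≠ y → a * y ^ 3 + p * y ^ 2 + q * y + w = 0 →
      a * (x ^ 2 + x * y + y ^ 2) + p * (x + y) + q = 0 := fun h e =>
    mul_left_cancel₀ (sub_ne_zero.2 h) (by linear_combination e1 - e)
  have k' : ∀ {z}, y ≠ z → a * (x ^ 2 + x * z + z ^ 2) + p * (x + z) + q = 0 →
      a * (x + y + z) + p = 0 := fun h e =>
    mul_left_cancel₀ (sub_ne_zero.2 h) (by linear_combination k h1 e2 - e)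
  exact mul_left_cancel₀ (sub_ne_zero.2 h6) (by linear_combination k' h4 (k h2 e3) - k' h5 (k h3 e4))

theorem all (hr : 3 ≤ r) {a : F} (a0 : a ≠ 0) (ha : ∀ i, ε i ⬝ᵥ s.v * s.φ ⬝ᵥ e i = a) :
    2 * a = 1 ∧ c ^ 2 = -1 := by
  obtain ⟨i, -, -⟩ := third hr ⟨0, by omega⟩ ⟨0, by omega⟩
  obtain ⟨j, hj, -⟩ := third hr i i
  obtain ⟨k, hk, hk'⟩ := third hr i j
  have x1 := ha i
  have x2 := ha j
  have x3 := ha k
  have n1 : ε i ⬝ᵥ s.v ≠ 0 := fun e => a0 (by rw [← x1, e, zero_mul])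
  have n2 : ε j ⬝ᵥ s.v ≠ 0 := fun e => a0 (by rw [← x2, e, zero_mul])
  have n3 : ε k ⬝ᵥ s.v ≠ 0 := fun e => a0 (by rw [← x3, e, zero_mul])
  obtain ⟨ρ, hρ⟩ : ∃ ρ, ε i ⬝ᵥ s.v = ρ * ε k ⬝ᵥ s.v := ⟨ε i ⬝ᵥ s.v / ε k ⬝ᵥ s.v, by field_simp⟩
  have ρ0 : ρ ≠ 0 := fun e => n1 (by rw [hρ, e, zero_mul])
  have key : ∀ b, Pw c b → (b * ρ - 1) * (a * (b * ρ) ^ 2 + (1 - 2 * a) * (b * ρ) + a) = 0 ∨
      (b * ρ = -1 ∧ 2 * a = 1) := fun b hb => by
    obtain ⟨u, u1, u2, u3⟩ := tg h hk.symm hb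
    have b0 := mul_inv_cancel₀ (hb.ne H.c0)
    have y1 : ε i ⬝ᵥ (mv u s).v = 1 - g s u * ε i ⬝ᵥ s.v := by
      simp [mv, u1, h.one, h.orth hk.symm]
    have y2 : ε j ⬝ᵥ (mv u s).v = -(g s u * ε j ⬝ᵥ s.v) := by
      simp [mv, u1, h.orth hj, h.orth hk'.symm]
    have y3 : (mv u s).φ ⬝ᵥ e i = 1 - g u s * s.φ ⬝ᵥ e i := by
      simp [mv, u2, h.one, h.orth hk]
    have y4 : (mv u s).φ ⬝ᵥ e j = -(g u s * s.φ ⬝ᵥ e j) := by
      simp [mv, u2, h.orth hj.symm, h.orth hk']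
    have := link H h hr (mv u s) hj.symm
    have d : (∃ (l : Fin r) (x x' : F), (mv u s).v = x • e l ∧ (mv u s).φ = x' • ε l) →
        ε j ⬝ᵥ (mv u s).v = 0 ∨ (ε i ⬝ᵥ (mv u s).v = 0 ∧ (mv u s).φ ⬝ᵥ e i = 0) := by
      rintro ⟨l, x, x', p, q⟩
      by_cases a : j = l
      · simp [p, q, ← a, h.orth hj, h.orth hj.symm]
      · simp [p, h.orth a]
    rw [y1, y2, y3] at d
    rw [y1, y2, y3, y4] at this
    rw [(u3 s).1, (u3 s).2] at this d
    generalize (∃ (l : Fin r) (x x' : F), (mv u s).v = x • e l ∧ (mv u s).φ = x' • ε l) = D at *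
    generalize ε i ⬝ᵥ s.v = x, ε j ⬝ᵥ s.v = y, ε k ⬝ᵥ s.v = z, s.φ ⬝ᵥ e i = x', s.φ ⬝ᵥ e j = y',
      s.φ ⬝ᵥ e k = z', b⁻¹ = b' at *
    clear y1 y2 y3 y4 u1 u2 u3 ha
    subst hρ
    have z1 : z' = ρ * x' := mul_left_cancel₀ n3 (by grind)
    subst z1
    have f1 : (x' - b * (ρ * x')) * (ρ * z) = a * (1 - b * ρ) := by linear_combination (1 - b * ρ) * x1
    have f2 : (ρ * z - b' * z) * x' * (b * ρ) = a * (b * ρ - 1) := by
      linear_combination (b * ρ - 1) * x1 - ρ * z * x' * b0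
    have f3 : (x' - b * (ρ * x')) * (ρ * z - b' * z) * (b * ρ) = -a * (1 - b * ρ) ^ 2 :=
      mul_left_cancel₀ a0 (by
        linear_combination (ρ * z - b' * z) * x' * (b * ρ) * f1 + a * (1 - b * ρ) * f2 -
          (x' - b * (ρ * x')) * (ρ * z - b' * z) * (b * ρ) * x1)
    have f4 : (x' - b * (ρ * x')) * y = 0 → b * ρ - 1 = 0 := fun k => mul_left_cancel₀ a0 (by
      rw [(mul_eq_zero.1 k).resolve_right n2] at f1; linear_combination f1)
    have f5 : 1 - (x' - b * (ρ * x')) * (ρ * z) = 0 → 1 - (ρ * z - b' * z) * x' = 0 →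
        b * ρ = -1 ∧ 2 * a = 1 := fun k k' => by
      have k1 : a * (1 - b * ρ) = 1 := by linear_combination -f1 - k
      have k2 : b * ρ = -1 := by linear_combination b * ρ * k' + f2 - k1
      exact ⟨k2, by linear_combination k1 + a * k2⟩
    rcases this with k | k | k | k
    · left
      rw [mul_eq_zero]
      right
      linear_combination b * ρ * k + b * ρ * (1 - (ρ * z - b' * z) * x') * f1 + (1 - a * (1 - b * ρ)) * f2 +
        a * f3 + (x' - b * (ρ * x')) * (ρ * z - b' * z) * (b * ρ) * x2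
    · rcases d k with k | k
      · exact .inl (by rw [f4 (neg_eq_zero.1 k), zero_mul])
      · exact .inr (f5 k.1 k.2)
    · exact .inl (by rw [f4 (neg_eq_zero.1 k.2.1), zero_mul])
    · exact .inr (f5 k.2.1 k.2.2)
  have c0 := H.c0
  have c2 := H.c2
  have c3 := H.c3
  have k0 := key 1 .one
  have k1 := key c .self
  by_cases a2 : 2 * a = 1
  · refine ⟨a2, ?_⟩
    have l : ∀ {β : F}, (β - 1) * (a * β ^ 2 + (1 - 2 * a) * β + a) = 0 ∨ (β = -1 ∧ 2 * a = 1) →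
        β ^ 4 = 1 := by
      rintro β (k | ⟨rfl, -⟩)
      · linear_combination 2 * (β + 1) * k - (β ^ 2 - 1) * (β - 1) ^ 2 * a2
      · ring
    have l0 := l k0
    have l1 := l k1
    exact mul_left_cancel₀ (sub_ne_zero.2 c2) (by linear_combination l1 - c ^ 4 * l0)
  have k2 := key _ (.pow 2)
  have k3 := key _ (.pow 3)
  refine (a0 (four_roots (x := 1 * ρ) (y := c * ρ) (z := c ^ 2 * ρ) (u := c ^ 3 * ρ)
    (p := 1 - 3 * a) (q := 3 * a - 1) (w := -a) (by grind) (by grind) (by grind) (by grind)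
    (by grind) (by grind) ?_)).elim
  rintro _ (rfl | rfl | rfl | rfl)
  · linear_combination k0.resolve_right (·.2 |> a2)
  · linear_combination k1.resolve_right (·.2 |> a2)
  · linear_combination k2.resolve_right (·.2 |> a2)
  · linear_combination k3.resolve_right (·.2 |> a2)

end

theorem three (H : Hy P c) {e ε : Fin 3 → Fin 5 → F} (h : Frame P c e ε) :
    ∃ e' ε' : Fin 4 → Fin 5 → F, Frame P c e' ε' := by
  obtain ⟨s, h1, i, h2⟩ := h.not_inv H.rs (by omega) (by omega)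
  rcases step H h le_rfl s with a | a | a | ⟨a, a0, ha⟩
  · exact a
  · exact (h2 (a i)).elim
  · exact (h1 (a.sum h)).elim
  obtain ⟨a2, c2⟩ := all H h le_rfl a0 ha
  have c0 := mul_inv_cancel₀ H.c0
  obtain ⟨k, k1, k2⟩ := h.diag (i := 0) (j := 2) (by decide) 1
  obtain ⟨k', k3, k4⟩ := h.diag (i := 1) (j := 2) (by decide) 1
  have x0 := ha 0
  have x1 := ha 1
  have x2 := ha 2
  have t := s.two
  have e1 : (cj k' (cj k s)).v = (k' : GL (Fin 5) F).val *ᵥ ((k : GL (Fin 5) F).val *ᵥ s.v) := rfl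
  have e2 := k4 (cj k s)
  rw [k1, k3] at e1
  rw [k2] at e2
  generalize cj k' (cj k s) = s' at e1 e2
  refine h.ext (s := mv s' s) (i := 2) ?_ (fun l hl => ?_) (by omega)
  · simp [mv, g, e1, e2, h.bi, t]
    grind
  · fin_cases l
    · simp [mv, g, e1, e2, h.bi, t]
      grind
    · simp [mv, g, e1, e2, h.bi, t]
      grind
    · exact absurd rfl hl

theorem four (H : Hy P c) {e ε : Fin 4 → Fin 5 → F} (h : Frame P c e ε) :
    ∃ e' ε' : Fin 5 → Fin 5 → F, Frame P c e' ε' := by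
  obtain ⟨s, h1, i, h2⟩ := h.not_inv H.rs (by omega) (by omega)
  rcases step H h (by omega) s with a | a | a | ⟨a, a0, ha⟩
  · exact a
  · exact (h2 (a i)).elim
  · exact (h1 (a.sum h)).elim
  obtain ⟨a2, c2⟩ := all H h (by omega) a0 ha
  have e0 := (h.four (χ := s.φ - ∑ i, (s.φ ⬝ᵥ e i) • ε i) (sub_ne_zero.2 h1)
    (fun i => by simp [h.dot_sum]) fun i => by simp [h.sum_dot]).1 (by
      simp only [dotProduct_sub, sub_dotProduct, s.two, h.dot_sum, sum_dotProduct, smul_dotProduct]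
      simp only [dotProduct_sum, dotProduct_smul, smul_eq_mul, ha, mul_comm (s.φ ⬝ᵥ e _), sub_self]
      simp
      linear_combination -2 * a2)
  obtain ⟨k, k1, k2⟩ := h.diag (i := 0) (j := 1) (by decide) 2
  obtain ⟨k', k3, k4⟩ := h.diag (i := 2) (j := 3) (by decide) 2
  have e1 : (cj k' (cj k s)).v = (k' : GL (Fin 5) F).val *ᵥ ((k : GL (Fin 5) F).val *ᵥ s.v) := rfl
  have e2 := k4 (cj k s)
  rw [k1, k3] at e1
  rw [k2] at e2
  generalize cj k' (cj k s) = s' at e1 e2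
  simp [h.bi, c2] at e1 e2
  rw [Fin.sum_univ_four] at e0 h1
  have e3 : s'.φ = (-1 : F) • s.φ := by rw [e2]; linear_combination (norm := module) (2 : F) • e0
  obtain ⟨y, -, p, q⟩ := same_of_par' H.rs.two H.rs.nt e3
  have y1 : y = -1 := by
    rw [← _root_.inv_inj, inv_neg_one]; exact smul_left_injective F (s.φ_ne H.rs.two) (q.symm.trans e3)
  rw [y1, e1] at p
  exact (h1 (smul_right_injective _ H.rs.two (by
    linear_combination (norm := module) p : (2 : F) • _ = (2 : F) • _))).elim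

theorem five (H : Hy P c) {e ε : Fin 5 → Fin 5 → F} (h : Frame P c e ε) : False := by
  refine not_mn H.rs h (fun a => H.c2 (by simp [a])) fun s => ?_
  rcases step H h (by omega) s with ⟨_, _, a⟩ | a | a | ⟨a, a0, ha⟩
  · exact (not_six a).elim
  · exact (not_zero H.rs h a).elim
  · exact a
  have := sum_five h s
  simp [ha] at this
  have := (all H h (by omega) a0 ha).1
  grind

end RM

theorem not_m1 (H : RS P) {x : F} (h0 : x ≠ 0) (h1 : x ≠ 1)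
    (hH : ∀ a b t : Rl P, NS a b t → lam a b = x → (lam a t = 1 ∧ lam b t = 1) ∨ Pl a b t) :
    ¬ M1 P x := by
  rintro ⟨a, b, t, hn, hd, rfl, e1, e2⟩
  have e3 : cyc a b t + cyc a t b = lam a b := by
    rcases hH a b (mv t a) hn.rot.rot.mv.rot rfl with k | k
    · have := lam_mv t a b
      rw [lam_comm, k.2] at this
      simp only [lam, cyc] at *
      grind
    · exact (hd (by rw [← k.gdet, gdet_rot (mv t a), gdet_mv, gdet_rot])).elim
  obtain ⟨c, e, ε, h, c1, hc⟩ := frame_of_triple hn e1 e2 e3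
  have c0 := mul_inv_cancel₀ h.ne
  have H' : RM.Hy P c := ⟨H, h.ne, by grind, by grind, hc ▸ hH⟩
  obtain ⟨_, _, h4⟩ := RM.three H' h
  obtain ⟨_, _, h5⟩ := RM.four H' h4
  exact RM.five H' h5

end Cfsg.Agent.Cl.D5
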