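/-
Negatives of reflections in dimension five: the values `0, 1` give the roots of `W(K₅)`.
-/
import Mathlib
import Cfsg.Agent.Cl.D5RM

set_option autoImplicit false
set_option linter.unusedSectionVars false

namespace Cfsg.Agent.Cl.D5

open Matrix Cfsg.Geo Cfsg.Agent.Cl.Max Cfsg.Agent.Cl.Mx Rl RF RM
open scoped MatrixGroups

variable {F : Type*} [Field F] [Finite F] {P : Subgroup (GL (Fin 5) F)} {s : Rl P}
  {c : F} {r : ℕ} {e ε : Fin r → Fin 5 → F}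

namespace RK

theorem of3 {e ε : Fin 3 → Fin 5 → F} (c0 : c ≠ 0)
    (bi : ∀ i j, ε i ⬝ᵥ e j = if i = j then 1 else 0) (p01 : Tf P (e 0) (ε 0) (e 1) (ε 1) 1)
    (p02 : Tf P (e 0) (ε 0) (e 2) (ε 2) 1) (q01 : Tf P (e 0) (ε 0) (e 1) (ε 1) c) :
    Frame P c e ε := by
  have one : ∀ i, ε i ⬝ᵥ e i = 1 := fun i => by simp [bi]
  have zero : ∀ {i j}, i ≠ j → ε i ⬝ᵥ e j = 0 := fun h => by simp [bi, h]
  have tr : ∀ {i j k : Fin 3} {b b' : F}, i ≠ j → j ≠ k → i ≠ k → Tf P (e i) (ε i) (e j) (ε j) b →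
      Tf P (e j) (ε j) (e k) (ε k) b' → Tf P (e i) (ε i) (e k) (ε k) (b * b') :=
    fun ij jk ik p q => p.trans q (zero ij.symm) (zero ik.symm) (one _) (zero jk.symm) (zero ij)
      (zero ik) (zero jk)
  have p10 := p01.symm one_ne_zero
  have p20 := p02.symm one_ne_zero
  rw [inv_one] at p10 p20
  have p12 := tr (by decide) (by decide) (by decide) p10 p02
  have p21 := tr (by decide) (by decide) (by decide) p20 p01
  rw [mul_one] at p12 p21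
  have q02 := tr (by decide) (by decide) (by decide) q01 p12
  have q21 := tr (by decide) (by decide) (by decide) p20 q01
  rw [mul_one] at q02
  rw [one_mul] at q21
  have q20 := tr (by decide) (by decide) (by decide) q21 p10
  have q12 := tr (by decide) (by decide) (by decide) p10 q02
  rw [mul_one] at q20
  rw [one_mul] at q12
  have q10 := tr (by decide) (by decide) (by decide) q12 p20
  rw [mul_one] at q10
  have p : ∀ i j, i ≠ j → Tf P (e i) (ε i) (e j) (ε j) 1 := fun i j h => by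
    fin_cases i <;> fin_cases j <;> first | exact absurd rfl h | assumption
  have q : ∀ i j, i ≠ j → Tf P (e i) (ε i) (e j) (ε j) c := fun i j h => by
    fin_cases i <;> fin_cases j <;> first | exact absurd rfl h | assumption
  refine ⟨c0, bi, fun i j h n => ?_⟩
  change Tf P _ _ _ _ _
  induction n generalizing i j with
  | zero => simpa using p i j h
  | succ n ih =>
    obtain ⟨k, k1, k2⟩ := third le_rfl i j
    rw [pow_succ]
    exact tr k1.symm k2 h (ih _ _ k1.symm) (q _ _ k2)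

/-- The standing hypotheses. -/
structure Hy (P : Subgroup (GL (Fin 5) F)) (c : F) : Prop where
  rs : RS P
  three : (3 : F) ≠ 0
  cc : c ^ 2 + c + 1 = 0
  hv : ∀ a b : Rl P, Same a b ∨ lam a b = 0 ∨ lam a b = 1

/-- Members of the frame. -/
def Ms (c : F) (e ε : Fin r → Fin 5 → F) (s : Rl P) : Prop :=
  ∃ (i j : Fin r) (n : ℕ) (y : F), i ≠ j ∧ y ≠ 0 ∧ s.v = y • (e i - c ^ n • e j) ∧
    s.φ = y⁻¹ • (ε i - (c ^ n)⁻¹ • ε j)

theorem Ms.mn (h : Frame P c e ε) (m : Ms c e ε s) : Mn e ε s := by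
  obtain ⟨i, j, n, y, hij, hy, h1, h2⟩ := m
  have := pow_ne_zero n h.ne
  exact ⟨i, j, y, -(y * c ^ n), y⁻¹, -(y⁻¹ * (c ^ n)⁻¹), hij, by rw [h1]; module,
    by rw [h2]; module, .inr ⟨by field_simp, by field_simp⟩⟩

theorem Hy.c1 (H : Hy P c) : c ≠ 1 := fun a => H.three (by
  have := H.cc; rw [a] at this; linear_combination this)

theorem Hy.cube (H : Hy P c) (n : ℕ) : (c ^ n) ^ 3 = 1 := by
  rw [← pow_mul, mul_comm, pow_mul, show c ^ 3 = 1 by linear_combination (c - 1) * H.cc, one_pow]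

theorem Hy.inv (H : Hy P c) (n : ℕ) : (c ^ n)⁻¹ = (c ^ n) ^ 2 :=
  inv_eq_of_mul_eq_one_right (by linear_combination H.cube n)

section

variable (H : Hy P c) (h : Frame P c e ε)
include H h

theorem link (m : ¬ Ms c e ε s) {i j : Fin r} (hij : i ≠ j) :
    (ε i ⬝ᵥ s.v * s.φ ⬝ᵥ e i = 0 ∧ ε j ⬝ᵥ s.v * s.φ ⬝ᵥ e j = 0) ∨
      (ε i ⬝ᵥ s.v * s.φ ⬝ᵥ e i = 1 ∧ ε j ⬝ᵥ s.v = 0 ∧ s.φ ⬝ᵥ e j = 0) ∨
      (ε j ⬝ᵥ s.v * s.φ ⬝ᵥ e j = 1 ∧ ε i ⬝ᵥ s.v = 0 ∧ s.φ ⬝ᵥ e i = 0) ∨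
      (3 * (ε i ⬝ᵥ s.v * s.φ ⬝ᵥ e i) = 1 ∧ 3 * (ε j ⬝ᵥ s.v * s.φ ⬝ᵥ e j) = 1 ∧
        ∃ n : ℕ, ε j ⬝ᵥ s.v = c ^ n * ε i ⬝ᵥ s.v) := by
  have cc := H.cc
  have t2 := H.rs.two
  have t3 := H.three
  have c0 := mul_inv_cancel₀ h.ne
  have key : ∀ n : ℕ, ((ε i ⬝ᵥ s.v - (c ^ n) ^ 2 * ε j ⬝ᵥ s.v) * (s.φ ⬝ᵥ e i - c ^ n * s.φ ⬝ᵥ e j) = 0 ∧
        ε i ⬝ᵥ s.v * s.φ ⬝ᵥ e i = ε j ⬝ᵥ s.v * s.φ ⬝ᵥ e j) ∨
      (ε i ⬝ᵥ s.v - (c ^ n) ^ 2 * ε j ⬝ᵥ s.v) * (s.φ ⬝ᵥ e i - c ^ n * s.φ ⬝ᵥ e j) = 1 := fun n => by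
    obtain ⟨u, u1, u2, u3⟩ := tg h hij (Pw.pow n)
    obtain ⟨w, w1, w2, w3⟩ := tg h hij ((Pw.pow n).mul .self)
    have b0 := mul_inv_cancel₀ (pow_ne_zero n h.ne)
    have e1 : g u w = 1 + c := by
      simp only [(u3 w).1, w1, dotProduct_sub, dotProduct_smul, h.one, h.orth hij,
        h.orth hij.symm, smul_eq_mul]
      grind
    have e2 : g w u = 1 + c⁻¹ := by
      simp only [(w3 u).1, u1, dotProduct_sub, dotProduct_smul, h.one, h.orth hij,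
        h.orth hij.symm, smul_eq_mul, mul_inv]
      grind
    rw [← H.inv, ← (u3 s).1, ← (u3 s).2]
    rcases H.hv u s with ⟨y, hy, k1, k2⟩ | k | k
    · exact (m ⟨i, j, n, y, hij, hy, u1 ▸ k1, u2 ▸ k2⟩).elim
    · refine .inl ⟨k, by_contra fun a => NS.lam_ne t2 H.rs.nt (a := u) (b := s) (c := w)
        (NS.swap (NS.rot (NS.rot ?_))).rot k⟩
      simp only [NS, cyc, e1, e2, u3 s, w3 s, mul_inv]
      grind
    · exact .inr k
  have k0 := key 0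
  have k1 := key 1
  have k2 := key 2
  have ex : ∀ {x y : F}, y = x ∨ y = c * x ∨ y = c ^ 2 * x → ∃ n : ℕ, y = c ^ n * x := by
    rintro x y (a | a | a)
    exacts [⟨0, by simpa using a⟩, ⟨1, by simpa using a⟩, ⟨2, a⟩]
  simp only [pow_zero, pow_one] at k0 k1
  generalize ε i ⬝ᵥ s.v = x, ε j ⬝ᵥ s.v = y, s.φ ⬝ᵥ e i = x', s.φ ⬝ᵥ e j = y' at *
  clear key c0 m
  rcases k0 with ⟨k0, a⟩ | k0 <;> rcases k1 with ⟨k1, a⟩ | k1 <;> rcases k2 with ⟨k2, a⟩ | k2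
  · grind
  · grind
  · grind
  · exact .inr (.inr (.inr ⟨by grind, by grind, ex (by grind)⟩))
  · grind
  · exact .inr (.inr (.inr ⟨by grind, by grind, ex (by grind)⟩))
  · clear * - cc t2 t3 k0 k1 k2 a ex
    have s3 : 3 * (x * x') = 1 := mul_left_cancel₀ t2 (by
      linear_combination k0 + k1 + k2 + 3 * a + (x * y' + (c ^ 2 - c + 1) * y * x' -
        (c - 1) * (c ^ 3 + 2) * y * y') * cc)
    have s4 : 3 * (x * y') = c := mul_left_cancel₀ t3 (by grind)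
    exact .inr (.inr (.inr ⟨s3, by grind, ex (by grind)⟩))
  · have a2 : x * y' = 0 := by grind
    have a3 : y * x' = 0 := by grind
    grind

theorem step (hr : 3 ≤ r) (s : Rl P) :
    (∃ e' ε' : Fin (r + 1) → Fin 5 → F, Frame P c e' ε') ∨
      (∀ i, ε i ⬝ᵥ s.v = 0 ∧ s.φ ⬝ᵥ e i = 0) ∨ Ms c e ε s ∨
      ((∀ i, 3 * (ε i ⬝ᵥ s.v * s.φ ⬝ᵥ e i) = 1) ∧
        ∀ i j, ∃ n : ℕ, ε j ⬝ᵥ s.v = c ^ n * ε i ⬝ᵥ s.v) := by
  have t2 := H.rs.two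
  by_cases m : Ms c e ε s
  · exact .inr (.inr (.inl m))
  by_cases h1 : ∃ i, ε i ⬝ᵥ s.v * s.φ ⬝ᵥ e i = 1
  · obtain ⟨i, h1⟩ := h1
    refine .inl (h.ext h1 (fun l hl => ?_) (by omega))
    have := link H h m hl
    grind
  push Not at h1
  by_cases h0 : ∀ i, ε i ⬝ᵥ s.v * s.φ ⬝ᵥ e i = 0
  · exact .inr (.inl (h.zero H.rs H.c1 hr h0))
  push Not at h0
  obtain ⟨k, h0⟩ := h0
  have a : ∀ i, 3 * (ε i ⬝ᵥ s.v * s.φ ⬝ᵥ e i) = 1 := fun i => by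
    obtain ⟨l, hl, -⟩ := third hr k k
    have := link H h m hl
    have := h1 l
    have := h1 i
    have := h1 k
    by_cases hi : i = k
    · grind
    · have := link H h m hi
      grind
  refine .inr (.inr (.inr ⟨a, fun i j => ?_⟩))
  by_cases hij : i = j
  · exact ⟨0, by simp [hij]⟩
  have := a i
  have := h1 i
  have := h1 j
  rcases link H h m hij with k | k | k | k
  · grind
  · grind
  · grind
  · exact k.2.2

/-- Rescaling the frame so that all coordinates of `s` agree. -/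
theorem level {i₀ : Fin r} (h1 : ∀ i, 3 * (ε i ⬝ᵥ s.v * s.φ ⬝ᵥ e i) = 1)
    (h2 : ∀ j, ∃ n : ℕ, ε j ⬝ᵥ s.v = c ^ n * ε i₀ ⬝ᵥ s.v) : ∃ (e' ε' : Fin r → Fin 5 → F)
      (s' : Rl P), Frame P c e' ε' ∧ ∀ i, ε' i ⬝ᵥ s'.v = 1 ∧ 3 * s'.φ ⬝ᵥ e' i = 1 := by
  choose n hn using h2
  have x0 : ε i₀ ⬝ᵥ s.v ≠ 0 := fun a => by simpa [a] using h1 i₀
  refine ⟨_, _, sm _ (inv_ne_zero x0) s, h.scale n, fun i => ?_⟩
  have := h1 i
  have := hn i
  have := mul_inv_cancel₀ x0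
  have := mul_inv_cancel₀ (pow_ne_zero (n i) h.ne)
  simp only [sm, dotProduct_smul, smul_dotProduct, smul_eq_mul, inv_inv]
  grind

theorem cjd {i j : Fin r} (hij : i ≠ j) (n : ℕ) (s : Rl P) : ∃ s' : Rl P,
    s'.v = s.v + ((c ^ n - 1) * ε i ⬝ᵥ s.v) • e i + (((c ^ n) ^ 2 - 1) * ε j ⬝ᵥ s.v) • e j ∧
    s'.φ = s.φ + (((c ^ n) ^ 2 - 1) * s.φ ⬝ᵥ e i) • ε i + ((c ^ n - 1) * s.φ ⬝ᵥ e j) • ε j := by
  obtain ⟨k, k1, k2⟩ := h.diag hij n
  rw [← H.inv]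
  exact ⟨cj k s, k1 _, k2 _⟩

end

theorem three (H : Hy P c) {e ε : Fin 3 → Fin 5 → F} (h : Frame P c e ε) :
    ∃ e' ε' : Fin 4 → Fin 5 → F, Frame P c e' ε' := by
  obtain ⟨s, h1, i, h2⟩ := h.not_inv H.rs (by omega) (by omega)
  rcases step H h le_rfl s with a | a | a | ⟨a, a'⟩
  · exact a
  · exact (h2 (a i).2).elim
  · exact (h1 ((a.mn h).sum h)).elim
  obtain ⟨e, ε, s, h, k⟩ := level H h a (a' 0)
  have cc := H.cc
  have t3 := mul_inv_cancel₀ H.three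
  have i1 : c⁻¹ = c ^ 2 := by simpa using H.inv 1
  have i2 := H.inv 2
  have n1 : 1 - c ≠ 0 := sub_ne_zero.2 H.c1.symm
  have n2 : 1 - c ^ 2 ≠ 0 := by grind
  have i3 : (1 - c)⁻¹ = 3⁻¹ * (1 - c ^ 2) := inv_eq_of_mul_eq_one_right (by grind)
  have i4 : (1 - c ^ 2)⁻¹ = 3⁻¹ * (1 - c) := inv_eq_of_mul_eq_one_right (by grind)
  obtain ⟨u, u1, u2⟩ := h.ex 1 2 (by decide) 2
  obtain ⟨w, w1, w2⟩ := h.ex 1 2 (by decide) 1
  obtain ⟨z, z1, z2⟩ := h.ex 0 1 (by decide) 2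
  have h' := of3 (P := P) (e := ![e 0 + e 1 + e 2, e 0 + c • e 1 + c ^ 2 • e 2,
    e 0 + c ^ 2 • e 1 + c • e 2]) (ε := ![(3 : F)⁻¹ • (ε 0 + ε 1 + ε 2),
    (3 : F)⁻¹ • (ε 0 + c ^ 2 • ε 1 + c • ε 2), (3 : F)⁻¹ • (ε 0 + c • ε 1 + c ^ 2 • ε 2)]) h.ne
    (fun i j => by fin_cases i <;> fin_cases j <;> simp [h.bi, -mul_eq_zero] <;> grind)
    ⟨sm _ n1 u, by ext l; simp [sm, u1]; grind, by ext l; simp [sm, u2, i2, i3]; grind⟩
    ⟨sm _ n2 w, by ext l; simp [sm, w1]; grind, by ext l; simp [sm, w2, i1, i4]; grind⟩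
    ⟨sm _ n1 z, by ext l; simp [sm, z1]; grind, by ext l; simp [sm, z2, i1, i2, i3]; grind⟩
  have k0 := k 0
  have k1 := k 1
  have k2 := k 2
  refine h'.ext (s := s) (i := 0) ?_ (fun l hl => ?_) (by omega)
  · simp; grind
  · fin_cases l
    · exact absurd rfl hl
    · simp [-mul_eq_zero]; grind
    · simp [-mul_eq_zero]; grind

theorem five (H : Hy P c) {e ε : Fin 5 → Fin 5 → F} (h : Frame P c e ε) : False := by
  refine not_mn H.rs h H.c1 fun s => ?_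
  rcases step H h (by omega) s with ⟨_, _, a⟩ | a | a | ⟨a, -⟩
  · exact (not_six a).elim
  · exact (not_zero H.rs h fun i => (a i).2).elim
  · exact a.mn h
  have := sum_five h s
  rw [Fin.sum_univ_five] at this
  have : (1 : F) = 0 := by linear_combination a 0 + a 1 + a 2 + a 3 + a 4 - 3 * this
  simp at this

theorem root (H : Hy P c) {e ε : Fin 4 → Fin 5 → F} (h : Frame P c e ε)
    (k : ∀ i, ε i ⬝ᵥ s.v = 1 ∧ 3 * s.φ ⬝ᵥ e i = 1) {f f' : Fin 5 → F}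
    (h1 : s.v = e 0 + e 1 + e 2 + e 3 + f) (h2 : s.φ = (3 : F)⁻¹ • (ε 0 + ε 1 + ε 2 + ε 3) + f')
    (l m n : ℕ) : ∃ u : Rl P,
      u.v = c ^ l • e 0 + c ^ m • e 1 + c ^ n • e 2 + c ^ (2 * (l + m + n)) • e 3 + f ∧
      u.φ = (c ^ (2 * l) / 3) • ε 0 + (c ^ (2 * m) / 3) • ε 1 + (c ^ (2 * n) / 3) • ε 2 +
        (c ^ (l + m + n) / 3) • ε 3 + f' := by
  obtain ⟨u, u1, u2⟩ := cjd H h (i := 0) (j := 3) (by decide) l s
  obtain ⟨w, w1, w2⟩ := cjd H h (i := 1) (j := 3) (by decide) m u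
  obtain ⟨z, z1, z2⟩ := cjd H h (i := 2) (j := 3) (by decide) n w
  have k' : ∀ i, s.φ ⬝ᵥ e i = 3⁻¹ := fun i =>
    (inv_eq_of_mul_eq_one_right (k i).2).symm
  refine ⟨z, ?_, ?_⟩
  · simp [z1, w1, u1, h.bi, k]
    rw [h1]; module
  · simp [z2, w2, u2, h.bi, k']
    rw [h2]; module

theorem last (H : Hy P c) {e ε : Fin 4 → Fin 5 → F} (h : Frame P c e ε) {f f' : Fin 5 → F}
    (f1 : ∀ i, ε i ⬝ᵥ f = 0) (f2 : ∀ i, f' ⬝ᵥ e i = 0) (f3 : f' ⬝ᵥ f = 2 / 3) {α A B C : F}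
    (c0 : α ^ 3 = 1) (c1 : A ^ 3 = 1) (c2 : B ^ 3 = 1) (c3 : C ^ 3 = 1) {w z u : Rl P}
    (w1 : w.v = α • e 0 + (α * A) • e 1 + (α * B) • e 2 + (α * C) • e 3 + f)
    (w2 : w.φ = (α ^ 2 / 3) • ε 0 + ((α * A) ^ 2 / 3) • ε 1 + ((α * B) ^ 2 / 3) • ε 2 +
      ((α * C) ^ 2 / 3) • ε 3 + f')
    (z1 : z.v = α • e 0 + (α * A) • e 1 + (α * B * c) • e 2 + (α * C * c ^ 2) • e 3 + f)
    (z2 : z.φ = (α ^ 2 / 3) • ε 0 + ((α * A) ^ 2 / 3) • ε 1 + ((α * B) ^ 2 * c ^ 2 / 3) • ε 2 +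
      ((α * C) ^ 2 * c / 3) • ε 3 + f') {x κ y0 y1 y2 y3 κ' : F}
    (p : u.v = x • e 0 + (A * x) • e 1 + (B * x) • e 2 + (C * x) • e 3 + κ • f)
    (q : u.φ = y0 • ε 0 + y1 • ε 1 + y2 • ε 2 + y3 • ε 3 + κ' • f') (a0 : 3 * (x * y0) = 1)
    (a1 : 3 * (A * x * y1) = 1) (a2 : 3 * (B * x * y2) = 1) (a3 : 3 * (C * x * y3) = 1) :
    Same w u := by
  have cc := H.cc
  have t2 := H.rs.two
  have t3 := H.three
  have t3' := mul_inv_cancel₀ t3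
  have x0 : x ≠ 0 := fun a => by simp [a] at a0
  have two := u.two
  simp only [div_eq_mul_inv] at w2 z2 f3
  generalize (3 : F)⁻¹ = T at w2 z2 f3 t3'
  have g1 : 3 * g w u = 4 * α ^ 2 * x + 2 * κ := by
    simp [g, w2, p, h.bi, f1, f2, f3]; grind
  have g2 : 3 * x * g u w = 4 * α + 2 * κ' * x := by
    simp [g, w1, q, h.bi, f1, f2, f3]; grind
  have g3 : 3 * g z u = α ^ 2 * x + 2 * κ := by
    simp [g, z2, p, h.bi, f1, f2, f3]
    linear_combination 3 * T * x * α ^ 2 * (c1 + c ^ 2 * c2 + c * c3 + cc) +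
      (α ^ 2 * x + 2 * κ) * t3'
  have g4 : 3 * x * g u z = α + 2 * κ' * x := by
    simp [g, z1, q, h.bi, f1, f2, f3]; grind
  simp [p, q, h.bi, f1, f2, f3] at two
  have k1 : κ * κ' = 1 := mul_left_cancel₀ t2 (by grind)
  have k2 : lam w u = 4 * lam z u := mul_left_cancel₀ (mul_ne_zero (mul_ne_zero t3 t3) x0) (by
    simp only [lam]
    linear_combination 3 * x * g u w * g1 + (4 * α ^ 2 * x + 2 * κ) * g2 -
      12 * x * g u z * g3 - 4 * (α ^ 2 * x + 2 * κ) * g4 + 12 * x * c0 - 12 * x * k1)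
  rcases H.hv w u with k | k | k
  · exact k
  · have k3 : g w u = 0 := (mul_eq_zero.1 k).elim id (zero t2 H.rs.nt)
    rw [zero t2 H.rs.nt k3] at g2
    rw [k3] at g1
    refine (mul_ne_zero (mul_ne_zero (mul_ne_zero t2 t2) t3) x0 ?_).elim
    linear_combination -(4 * α) * g1 + 2 * κ * g2 - 16 * x * c0 + 4 * x * k1
  rcases H.hv z u with ⟨y, -, k3, -⟩ | k3 | k3
  · have b0 := congrArg (ε 0 ⬝ᵥ ·) k3
    have b2 := congrArg (ε 2 ⬝ᵥ ·) k3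
    simp [p, z1, h.bi, f1, -mul_eq_mul_left_iff, -mul_eq_mul_right_iff] at b0 b2
    have := H.c1
    grind
  · simp [k, k3] at k2
  · exact (t3 (by linear_combination k - k2 - 4 * k3)).elim

theorem main (H : Hy P c) {e ε : Fin 4 → Fin 5 → F} (h : Frame P c e ε) :
    ∃ Q : GL (Fin 5) F, KMod P c Q := by
  have st : ∀ {e ε : Fin 4 → Fin 5 → F} (h : Frame P c e ε) (s : Rl P), _ := fun h s =>
    (step H h (by omega) s).resolve_left fun ⟨_, _, a⟩ => five H a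
  obtain ⟨s, h1, i, h2⟩ := h.not_inv H.rs (by omega) (by omega)
  rcases st h s with a | a | ⟨a, a'⟩
  · exact (h2 (a i).2).elim
  · exact (h1 ((a.mn h).sum h)).elim
  clear h1 h2
  obtain ⟨e, ε, s, h, k⟩ := level H h a (a' 0)
  have cc := H.cc
  have t2 := H.rs.two
  have t3 := mul_inv_cancel₀ H.three
  have t2' := mul_inv_cancel₀ t2
  have k' : ∀ i, s.φ ⬝ᵥ e i = 3⁻¹ := fun i => (inv_eq_of_mul_eq_one_right (k i).2).symm
  obtain ⟨f, h1⟩ : ∃ f, s.v = e 0 + e 1 + e 2 + e 3 + f := ⟨_, (add_sub_cancel _ _).symm⟩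
  obtain ⟨f', h2⟩ : ∃ f', s.φ = (3 : F)⁻¹ • (ε 0 + ε 1 + ε 2 + ε 3) + f' :=
    ⟨_, (add_sub_cancel _ _).symm⟩
  have f1 : ∀ i, ε i ⬝ᵥ f = 0 := fun i => by
    have := (k i).1
    rw [h1] at this
    fin_cases i <;> simpa [h.bi] using this
  have f2 : ∀ i, f' ⬝ᵥ e i = 0 := fun i => by
    have := k' i
    rw [h2] at this
    fin_cases i <;> simpa [h.bi] using this
  have f3 : f' ⬝ᵥ f = 2 / 3 := by
    have := s.two
    simp [h1, h2, h.bi, f1, f2] at this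
    grind
  let E : Fin 5 → Fin 5 → F := ![e 0, e 1, e 2, e 3, f]
  let D : Fin 5 → Fin 5 → F := ![ε 0, ε 1, ε 2, ε 3, (3 / 2 : F) • f']
  have bi : ∀ i j, D i ⬝ᵥ E j = if i = j then 1 else 0 := fun i j => by
    fin_cases i <;> fin_cases j <;> simp [D, E, h.bi, f1, f2, f3]
    grind
  have q1 : Matrix.of D * (Matrix.of E)ᵀ = 1 := by
    ext i j; rw [Matrix.one_apply, ← bi]; rfl
  let Q : GL (Fin 5) F := ⟨(Matrix.of E)ᵀ, Matrix.of D, mul_eq_one_comm.1 q1, q1⟩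
  have q2 : ∀ x, (Q : Matrix (Fin 5) (Fin 5) F) *ᵥ x = ∑ i, x i • E i := fun x => by
    ext l; simp [Q, mulVec, dotProduct, mul_comm]
  have q3 : ∀ x, x ᵥ* ((Q⁻¹ : GL (Fin 5) F) : Matrix (Fin 5) (Fin 5) F) = ∑ i, x i • D i :=
    fun x => by
      change x ᵥ* Matrix.of D = _
      ext l; simp [vecMul, dotProduct]
  have e1 : ∀ i : Fin 4, E i.castSucc = e i := fun i => by fin_cases i <;> rfl
  have e2 : ∀ i : Fin 4, D i.castSucc = ε i := fun i => by fin_cases i <;> rfl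
  have r1 : ∀ (i j : Fin 5) (x : F) (E : Fin 5 → Fin 5 → F),
      ∑ l, (Pi.single i 1 - Pi.single j x : Fin 5 → F) l • E l = E i - x • E j := fun i j x E => by
    simp [sub_smul, Pi.single_apply, ite_smul]
  have r2 : ∀ l m n : ℕ, ∃ u : Rl P, _ ∧
      u.v = Q.val *ᵥ ![c ^ l, c ^ m, c ^ n, c ^ (2 * (l + m + n)), 1] ∧
      u.φ = ![c ^ (2 * l) / 3, c ^ (2 * m) / 3, c ^ (2 * n) / 3, c ^ (l + m + n) / 3, 2 / 3] ᵥ*
        (Q⁻¹).val := fun l m n => (root H h k h1 h2 l m n).imp fun u hu => ⟨hu, by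
      rw [hu.1, q2, Fin.sum_univ_five]; simp [E], by
      rw [hu.2, q3, Fin.sum_univ_five]
      simp [D, smul_smul, show (2 / 3 * (3 / 2) : F) = 1 by grind]⟩
  refine ⟨Q, fun u => ?_, ?_⟩
  rotate_left
  · rintro _ _ (⟨i, j, n, hij, hi, hj, rfl, rfl⟩ | ⟨l, m, n, rfl, rfl⟩)
    · obtain ⟨i, rfl⟩ := Fin.exists_castSucc_eq.2 hi
      obtain ⟨j, rfl⟩ := Fin.exists_castSucc_eq.2 hj
      rw [q2, q3, r1, r1, e1, e1, e2, e2, mul_comm, pow_mul, ← H.inv]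
      exact h.ex i j (fun a => hij (by rw [a])) n
    · exact (r2 l m n).imp fun _ a => a.2
  rcases st h u with a | ⟨i, j, n, y, hij, hy, a, a'⟩ | ⟨a, a'⟩
  · have p := (bi5 bi u.v).1
    have q := (bi5 bi u.φ).2
    simp [Fin.sum_univ_five, D, E, a] at p q
    have := u.two
    have l := (H.hv u s).imp_left Same.lam_four
    generalize 3 / 2 * f' ⬝ᵥ u.v = y, u.φ ⬝ᵥ f = y' at p q
    simp [lam, g, p, q, h1, h2, f1, f2, f3, -mul_eq_zero] at this l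
    grind
  · refine ⟨_, _, y, hy, .inl ⟨i.castSucc, j.castSucc, n, by simpa, (Fin.castSucc_lt_last i).ne,
      (Fin.castSucc_lt_last j).ne, rfl, rfl⟩, ?_⟩
    rw [q2, q3, r1, r1, e1, e1, e2, e2, mul_comm, pow_mul, ← H.inv]
    exact ⟨a, a'⟩
  obtain ⟨n1, b1⟩ := a' 0 1
  obtain ⟨n2, b2⟩ := a' 0 2
  obtain ⟨n3, b3⟩ := a' 0 3
  obtain ⟨w, ⟨w1, w2⟩, w3⟩ := r2 (2 * (n1 + n2 + n3)) (2 * (n1 + n2 + n3) + n1)
    (2 * (n1 + n2 + n3) + n2)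
  obtain ⟨z, ⟨z1, z2⟩, -⟩ := r2 (2 * (n1 + n2 + n3)) (2 * (n1 + n2 + n3) + n1)
    (2 * (n1 + n2 + n3) + n2 + 1)
  suffices k : Same w u by
    obtain ⟨y, hy, p, q⟩ := k
    exact ⟨_, _, y, hy, .inr ⟨_, _, _, rfl, rfl⟩, w3.1 ▸ p, w3.2 ▸ q⟩
  have p := (bi5 bi u.v).1
  have q := (bi5 bi u.φ).2
  simp only [Fin.sum_univ_five, D, E, Matrix.cons_val, b1, b2, b3, smul_smul] at p q
  have a0 := a 0
  have a1 := a 1
  have a2 := a 2
  have a3 := a 3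
  rw [b1] at a1
  rw [b2] at a2
  rw [b3] at a3
  have c1 := H.cube n1
  have c2 := H.cube n2
  have c3 := H.cube n3
  refine last H h f1 f2 f3 (α := c ^ (2 * (n1 + n2 + n3))) (H.cube _) c1 c2 c3 (w1.trans ?_)
    (w2.trans ?_) (z1.trans ?_) (z2.trans ?_) p q a0 a1 a2 a3 <;> clear * - c1 c2 c3 cc <;>
    simp only [pow_add, two_mul, pow_one] <;>
    generalize c ^ n1 = A, c ^ n2 = B, c ^ n3 = C at * <;> match_scalars <;> grind

end RK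

variable {a b t : Rl P}

theorem exists_kmod (H : RS P) (h3 : (3 : F) ≠ 0)
    (hv : ∀ a b : Rl P, Same a b ∨ lam a b = 0 ∨ lam a b = 1) (h : NS a b t) :
    ∃ (ω : F) (Q : GL (Fin 5) F), ω ^ 2 + ω + 1 = 0 ∧ KMod P ω Q := by
  have k : ∀ {a b t : Rl P}, NS a b t → lam a b = 1 := fun h =>
    ((hv _ _).resolve_left h.not_same).resolve_left (h.lam_ne H.two H.nt)
  have e1 := k h
  have e2 := k h.rot
  have e3 : lam a t = 1 := lam_comm t a ▸ k h.rot.rot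
  have e4 : cyc a b t + cyc a t b = lam a b := by
    have p := lam_mv a b t
    have q := (hv (mv a b) t).imp_left Same.lam_four
    have := cyc_mul a b t
    rw [e1, e2, e3] at *
    unfold NS at h
    grind
  obtain ⟨c, e, ε, h, -, hc⟩ := frame_of_triple h e3 e2 e4
  have c0 := mul_inv_cancel₀ h.ne
  have H' : RK.Hy P c := ⟨H, h3, by grind, hv⟩
  obtain ⟨_, _, h4⟩ := RK.three H' h
  exact ⟨c, (RK.main H' h4).imp fun _ a => ⟨H'.cc, a⟩⟩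

end Cfsg.Agent.Cl.D5
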