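/-
The group generated by the negatives of the reflections of `W(K₅)` is `U₄(2)`.
-/
import Mathlib
import Cfsg.Agent.Cl.D5RDefs
import Cfsg.Agent.S5389

set_option autoImplicit false

namespace Cfsg.Agent.Cl.D5

open Matrix Cfsg.Geo Cfsg.Agent.Cl.Max Cfsg.Agent.Cl.Mx Rl Cfsg.Agent.Spor
open scoped MatrixGroups

namespace K5

/-- The Eisenstein integers. -/
abbrev E : Type := QuadraticAlgebra ℤ (-1) (-1)

/-- The cube root of unity. -/
def w : E := ⟨0, 1⟩

section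

variable {R : Type*} [CommRing R]

/-- Roots of the first kind. -/
def x1 (ω : R) (i j : Fin 5) (n : ℕ) : Fin 5 → R := Pi.single i 1 - Pi.single j (ω ^ n)

/-- Roots of the second kind. -/
def x2 (ω : R) (a b c : ℕ) : Fin 5 → R := ![ω ^ a, ω ^ b, ω ^ c, ω ^ (2 * (a + b + c)), 1]

/-- Pairs of coordinates. -/
def pr (k : ℕ) : Fin 5 × Fin 5 := [(0, 1), (0, 2), (0, 3), (1, 2), (1, 3), (2, 3)].getD (k / 3) (0, 1)

/-- The 45 roots. -/
def rx (ω : R) (k : ℕ) : Fin 5 → R :=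
  if k < 18 then x1 ω (pr k).1 (pr k).2 (k % 3) else x2 ω (k % 3) (k / 3 % 3) (k / 9 % 3)

/-- Three times the coroots. -/
def re (ω : R) (k : ℕ) : Fin 5 → R :=
  if k < 18 then (3 : R) • x1 ω (pr k).1 (pr k).2 (2 * (k % 3)) else
    ![ω ^ (2 * (k % 3)), ω ^ (2 * (k / 3 % 3)), ω ^ (2 * (k / 9 % 3)),
      ω ^ (k % 3 + k / 3 % 3 + k / 9 % 3), 2]

end

/-- `y` is a multiple of the root `k`. -/
abbrev Par (y : Fin 5 → E) (k : ℕ) : Prop :=
  ∀ i, y i = y (if k < 18 then (pr k).1 else 4) * rx w k i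

/-- Five of the roots. -/
def gn (i : ℕ) : ℕ := [0, 1, 15, 21].getD i 25

/-- Their action on all roots. -/
def tb (i j : ℕ) : ℕ := getP 6 63 0x33e3a5c7662e4a9016029e9e86c864700c515342462ace4d695f25a606844b12057b2b25f1118a58639a40e93dd70b09434721564032741e39849b2aa597185a206814ec6615df9dd9526a2aa0a159936e3ad8a567947244113cb28938d30510320718204096ba24aa79aca5c89f6e179d8e04d959261551a5d140f1881c314434c38a24b0010aca66ae896a9e48e07627dc85e6da5d46564d85524503c81c61440ce34c2ca241080 (45 * min i 4 + j)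

/-- The generators of the presentation. -/
def wd (n : ℕ) : List ℕ := [[0, 1, 2, 3], [3, 2, 1, 0], [4]].getD n []

/-- The action of a word in the generators. -/
def act (u : List ℕ) (j : ℕ) : ℕ := (u.flatMap wd).foldr tb j

/-- A walk through all roots. -/
def walk : List ℕ := [1, 2, 0, 0, 0, 0, 2, 0, 0, 2, 0, 2, 0, 0, 2, 1, 1, 1, 1, 2, 0, 2, 0, 0, 2, 0,
  0, 0, 0, 2, 0, 0, 2, 1, 1, 1, 1, 2, 1, 1, 2, 0, 0, 0, 0, 2, 0]

theorem tb_ok : ∀ i < 5, ∀ j < 45, tb i j < 45 ∧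
    Par ((3 : E) • rx w j - (re w (gn i) ⬝ᵥ rx w j) • rx w (gn i)) (tb i j) := by decide +kernel

theorem x1_ok : ∀ i j : Fin 5, i ≠ j → i ≠ 4 → j ≠ 4 → ∀ n < 3, ∃ k < 45, Par (x1 w i j n) k := by
  decide +kernel

theorem x2_ok : ∀ a < 3, ∀ b < 3, ∀ c < 3, ∃ k < 45, Par (x2 w a b c) k := by decide +kernel

theorem rels_ok : MX.w42_rels.all (fun r => allLt 45 fun j => act r j == j) = true := by
  decide +kernel

theorem walk_ok : ∀ k < 45, ∃ n < 48, act (walk.drop n) 25 = k := by decide +kernel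

theorem pr_ok : ∀ k < 18, (pr k).1 ≠ (pr k).2 ∧ (pr k).1 ≠ 4 ∧ (pr k).2 ≠ 4 := by decide +kernel

variable {F : Type*} [Field F]

theorem ev_x1 (ev : E →+* F) (i j : Fin 5) (n : ℕ) : ev ∘ x1 w i j n = x1 (ev w) i j n := by
  funext l; simp [x1, Pi.single_apply, apply_ite ev]

theorem ev_x2 (ev : E →+* F) (a b c : ℕ) : ev ∘ x2 w a b c = x2 (ev w) a b c := by
  funext l; fin_cases l <;> simp [x2]

theorem ev_rx (ev : E →+* F) (k : ℕ) : ev ∘ rx w k = rx (ev w) k := by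
  unfold rx; split
  exacts [ev_x1 .., ev_x2 ..]

theorem ev_re (ev : E →+* F) (k : ℕ) : ev ∘ re w k = re (ev w) k := by
  unfold re; split
  · rw [← ev_x1]; funext l; simp [map_ofNat]
  · funext l; fin_cases l <;> simp [map_ofNat]

theorem kroot (h3 : (3 : F) ≠ 0) (ω : F) (k : ℕ) : Kroot ω (rx ω k) ((3 : F)⁻¹ • re ω k) := by
  unfold rx re; split
  · next h =>
    exact .inl ⟨_, _, k % 3, (pr_ok k h).1, (pr_ok k h).2.1, (pr_ok k h).2.2, rfl, by
      rw [smul_smul, inv_mul_cancel₀ h3, one_smul]; rfl⟩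
  · exact .inr ⟨_, _, _, rfl, by funext l; fin_cases l <;> simp [div_eq_inv_mul]⟩

theorem exists_par (ev : E →+* F) (hω : ev w ^ 3 = 1) {x ξ : Fin 5 → F} (h : Kroot (ev w) x ξ) :
    ∃ y, x = ev ∘ y ∧ ∃ k < 45, Par y k := by
  have e := fun n => pow_eq_pow_mod n hω
  rcases h with ⟨i, j, n, h1, h2, h3, rfl, -⟩ | ⟨a, b, c, rfl, -⟩
  · exact ⟨_, by rw [ev_x1, x1, ← e], x1_ok i j h1 h2 h3 _ (Nat.mod_lt n three_pos)⟩
  · refine ⟨_, ?_, x2_ok _ (Nat.mod_lt a three_pos) _ (Nat.mod_lt b three_pos) _ (Nat.mod_lt c three_pos)⟩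
    rw [ev_x2, x2, ← e, ← e, ← e, e (2 * (a + b + c)), e (2 * (a % 3 + b % 3 + c % 3)),
      show 2 * (a % 3 + b % 3 + c % 3) % 3 = 2 * (a + b + c) % 3 by omega]

theorem wd_lt (n : ℕ) : ∀ i ∈ wd n, i < 5 := by
  rcases n with _ | _ | _ | n <;> simp [wd]

section Grp

variable {G : Type*} [Group G] {f : ℕ → G}
  (hf : ∀ i < 5, ∀ j < 45, f (gn i) * f j * (f (gn i))⁻¹ = f (tb i j))

include hf

theorem conj_foldr (u : List ℕ) (hu : ∀ i ∈ u, i < 5) {j : ℕ} (hj : j < 45) : u.foldr tb j < 45 ∧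
    evalW (f ∘ gn) u * f j * (evalW (f ∘ gn) u)⁻¹ = f (u.foldr tb j) := by
  induction u with
  | nil => simpa using hj
  | cons i u ih =>
    obtain ⟨h1, h2⟩ := ih fun x hx => hu x (by simp [hx])
    have hi := hu i (by simp)
    refine ⟨(tb_ok i hi _ h1).1, ?_⟩
    rw [List.foldr_cons, ← hf i hi _ h1, ← h2, evalW_cons]
    simp [mul_assoc]

theorem conj_act (u : List ℕ) {j : ℕ} (hj : j < 45) :
    evalW (fun n => evalW (f ∘ gn) (wd n)) u * f j * (evalW (fun n => evalW (f ∘ gn) (wd n)) u)⁻¹ =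
      f (act u j) := by
  have e : evalW (fun n => evalW (f ∘ gn) (wd n)) u = evalW (f ∘ gn) (u.flatMap wd) := by
    induction u with
    | nil => rfl
    | cons i u ih => simp [ih]
  rw [e]
  refine (conj_foldr hf _ (fun i hi => ?_) hj).2
  obtain ⟨n, -, hn⟩ := List.mem_flatMap.1 hi
  exact wd_lt n i hn

/-- A map to a group that kills the elements commuting with all `f j`. -/
theorem exists_hom {H : Type*} [Group H] [Finite H] (π : G →* H)
    (hπ : ∀ g, (∀ j < 45, g * f j * g⁻¹ = f j) → π g = 1) :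
    ∃ φ : PSU 4 GF4 2 →* H, ∀ k < 45, π (f k) ∈ φ.range := by
  obtain ⟨H', _, ⟨e⟩⟩ : ∃ (H' : Type) (_ : Group H'), Nonempty (H' ≃* H) :=
    ⟨_, (equivShrink.{0} H).symm.group, ⟨(equivShrink.{0} H).symm.mulEquiv⟩⟩
  let π' : G →* H' := e.symm.toMonoidHom.comp π
  let h : ℕ → G := fun n => evalW (f ∘ gn) (wd n)
  obtain ⟨φ, hφ⟩ := S5389.presT_U42.2 _ (fun n => π' (h n)) fun i => by
    rw [← map_evalW]
    refine (congrArg e.symm (hπ _ fun j hj => ?_)).trans (map_one _)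
    rw [conj_act hf _ hj, beq_iff_eq.1 ((allLt_iff _ _).1 (LT.all_get rels_ok i) j hj)]
  have h1 : ∀ n, π' (h n) ∈ φ.range := fun n => by
    by_cases hn : n < 3
    · exact hφ ▸ mem_genLt (fun n => π' (h n)) hn
    · obtain ⟨n, rfl⟩ : ∃ m, n = m + 3 := ⟨n - 3, by omega⟩
      simp [h, wd]
  refine ⟨e.toMonoidHom.comp φ, fun k hk => ?_⟩
  obtain ⟨n, -, rfl⟩ := walk_ok k hk
  have h2 : π' (evalW h (walk.drop n)) ∈ φ.range := by
    rw [map_evalW]; exact evalW_mem fun x _ => h1 x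
  have h3 : π' (f 25) ∈ φ.range := by simpa [h, wd, gn] using h1 2
  obtain ⟨x, hx⟩ : π' (f (act (walk.drop n) 25)) ∈ φ.range := by
    rw [← conj_act hf _ (by norm_num), map_mul, map_mul, map_inv]
    exact mul_mem (mul_mem h2 h3) (inv_mem h2)
  exact ⟨x, by simp [hx, π']⟩

end Grp

end K5

open K5

variable {F : Type*} [Field F] [Finite F] {P : Subgroup (GL (Fin 5) F)} {a b c t : Rl P}
  {Δ : Set (Rl P)} {e : Fin 3 → Rl P}

theorem isoU42_of_kmod (H : RS P) (h3 : (3 : F) ≠ 0) {ω : F} (hω : ω ^ 2 + ω + 1 = 0)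
    {Q : GL (Fin 5) F} (h : KMod P ω Q) : IsoU42 (P ⧸ (scalars (Fin 5) F).subgroupOf P) := by
  obtain ⟨ev, rfl⟩ : ∃ ev : E →+* F, ev w = ω :=
    ⟨(QuadraticAlgebra.lift ⟨ω, by simp; linear_combination hω⟩ : E →ₐ[ℤ] F), by simp [w]⟩
  choose s hv hφ using fun k => h.2 _ _ (kroot h3 (ev w) k)
  have par : ∀ (t : Rl P) (c : F) (y : Fin 5 → E) (k : ℕ), Par y k →
      t.v = c • (Q : Matrix (Fin 5) (Fin 5) F) *ᵥ (ev ∘ y) → (s k).el = t.el := fun t c y k hy e => by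
    refine (same_of_par H.two H.nt (x := c * ev (y (if k < 18 then (pr k).1 else 4))) ?_).el_eq
    rw [e, hv, mul_smul, ← mulVec_smul, ← mulVec_smul, ← mulVec_smul, ← ev_rx]
    congr 2
    funext i
    simp only [Function.comp, Pi.smul_apply, smul_eq_mul, ← map_mul, ← hy i]
  have hf : ∀ i < 5, ∀ j < 45, (s (gn i)).el * (s j).el * (s (gn i)).el⁻¹ = (s (tb i j)).el :=
    fun i hi j hj => by
      rw [el_inv, ← el_mv]
      refine (par _ (3 : F)⁻¹ _ _ (tb_ok i hi j hj).2 ?_).symm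
      have e : ev ∘ ((3 : E) • rx w j - (re w (gn i) ⬝ᵥ rx w j) • rx w (gn i)) =
          (3 : F) • rx (ev w) j - (re (ev w) (gn i) ⬝ᵥ rx (ev w) j) • rx (ev w) (gn i) := by
        rw [← ev_rx, ← ev_rx, ← ev_re, ← RingHom.map_dotProduct]
        funext l; simp [map_ofNat]
      simp only [mv, g, hv, hφ, e, mulVec_sub, mulVec_smul]
      rw [← dotProduct_mulVec, inv_mulVec_mulVec, smul_dotProduct, smul_sub, smul_smul, smul_smul,
        inv_mul_cancel₀ h3, one_smul, smul_eq_mul]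
  have all : ∀ {M : Subgroup (GL (Fin 5) F)}, (∀ k < 45, ((s k).el : GL (Fin 5) F) ∈ M) → P ≤ M :=
    fun hM => le_of_fam (T := Set.univ) H.two H.qs (fun _ _ _ => trivial) (a := s 0) trivial
      fun t _ => by
        obtain ⟨x, ξ, c, -, hx, e, -⟩ := h.1 t
        obtain ⟨y, rfl, k, hk, hy⟩ := exists_par ev (by linear_combination (ev w - 1) * hω) hx
        exact par t c y k hy e ▸ hM k hk
  obtain ⟨φ, hφ'⟩ := exists_hom (f := fun k => (s k).el) hf
    (QuotientGroup.mk' ((scalars (Fin 5) F).subgroupOf P)) fun x hx =>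
      (QuotientGroup.eq_one_iff _).2 (H.qs.spans.mem_scalars fun y hy =>
        (Subgroup.mem_centralizer_singleton_iff.1 (all (M := Subgroup.centralizer {(x : GL (Fin 5) F)})
          (fun k hk => Subgroup.mem_centralizer_singleton_iff.2
            (congrArg Subtype.val (mul_inv_eq_iff_eq_mul.1 (hx k hk))).symm) hy)).symm)
  have := (uField_uConj (F := GF4) (q := 2) card_GF4).isSimpleGroup_PSU (n := 4) (by norm_num)
    (by norm_num)
  refine ⟨GF4, inferInstance, inferInstance, card_GF4, ⟨(MulEquiv.ofBijective φ ⟨?_, fun y => ?_⟩).symm⟩⟩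
  · refine (MonoidHom.ker_eq_bot_iff φ).1 ((MonoidHom.normal_ker φ).eq_bot_or_eq_top.resolve_right
      fun e => el_notMem_scalars H.two H.qs.two_le (s 0) ?_)
    obtain ⟨x, hx⟩ := hφ' 0 (by norm_num)
    exact (QuotientGroup.eq_one_iff (s 0).el).1 (hx.symm.trans (MonoidHom.mem_ker.1 (e ▸ Subgroup.mem_top x)))
  · obtain ⟨y, rfl⟩ := QuotientGroup.mk_surjective y
    obtain ⟨z, hz, e⟩ := all (M := (φ.range.comap (QuotientGroup.mk' _)).map P.subtype)
      (fun k hk => ⟨_, hφ' k hk, rfl⟩) y.2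
    exact Subtype.ext e ▸ hz

end Cfsg.Agent.Cl.D5
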