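/-
Cycles of an invariant family of transvections.
-/
import Mathlib
import Cfsg.Agent.Cl.D5Base

set_option autoImplicit false
set_option linter.unusedSectionVars false

namespace Cfsg.Agent.Cl.D5

open Matrix Cfsg.Geo Cfsg.Agent.Cl.Max Cfsg.Agent.Cl.Mx
open scoped MatrixGroups

variable {F : Type*} [Field F] [Finite F] {ι : Type} [Fintype ι] [DecidableEq ι]
  {P : Subgroup (GL ι F)} {k : Subfield F} {T : (ι → F) → (ι → F) → Prop}

namespace TAx

theorem perm_ind {α A : Type*} [AddCommGroup A] (f : List α → A) (K : AddSubgroup A) (n : ℕ)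
    (rot : ∀ L M, f (L ++ M) = f (M ++ L))
    (swap : ∀ a b L, L.length + 2 = n → f (a :: b :: L) - f (b :: a :: L) ∈ K)
    {L L' : List α} (h : L.Perm L') (hn : L.length = n) : f L - f L' ∈ K := by
  have key : ∀ M : List α, (M ++ L).length = n → f (M ++ L) - f (M ++ L') ∈ K := by
    clear hn
    induction h with
    | nil => intro M _; simp
    | cons x _ ih => intro M hM; simpa using ih (M ++ [x]) (by simpa using hM)
    | swap x y l =>
      intro M hM
      rw [rot M, rot M]
      exact swap y x (l ++ M) (by simp at hM ⊢; omega)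
    | trans h1 _ ih1 ih2 =>
      intro M hM
      have := K.add_mem (ih1 M hM) (ih2 M (by
        rw [List.length_append] at hM ⊢
        rw [← h1.length_eq, hM]))
      rwa [sub_add_sub_cancel] at this
  exact key [] hn

/-- The members of the family. -/
abbrev El (T : (ι → F) → (ι → F) → Prop) := {p : (ι → F) × (ι → F) // T p.1 p.2}

/-- The nilpotent part of a transvection. -/
def N (a : El T) : Matrix ι ι F := vecMulVec a.1.1 a.1.2

/-- The Gram matrix. -/
def g (a b : El T) : F := a.1.2 ⬝ᵥ b.1.1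

/-- Products of nilpotent parts. -/
def pr (L : List (El T)) : Matrix ι ι F := (L.map N).prod

/-- Cycles. -/
def cy (L : List (El T)) : F := (pr L).trace

theorem pr_nil : pr ([] : List (El T)) = 1 := rfl

theorem pr_cons (a : El T) (L : List (El T)) : pr (a :: L) = N a * pr L := by simp [pr]

theorem pr_append (L M : List (El T)) : pr (L ++ M) = pr L * pr M := by simp [pr]

theorem cy_rot (L M : List (El T)) : cy (L ++ M) = cy (M ++ L) := by
  rw [cy, cy, pr_append, pr_append, trace_mul_comm]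

theorem N_mul (a b : El T) : N a * N b = g a b • vecMulVec a.1.1 b.1.2 := by
  rw [N, N, vecMulVec_mul_vecMulVec, vecMulVec_smul, g]

theorem N_tri (a b c : El T) : g a c • (N a * N b * N c) = (g a b * g b c) • (N a * N c) := by
  rw [N_mul, N_mul, smul_mul_assoc, N, vecMulVec_mul_vecMulVec, vecMulVec_smul, smul_smul, smul_smul,
    smul_smul]
  congr 1
  simp only [g]
  ring

theorem cy_nil : cy ([] : List (El T)) = (Fintype.card ι : F) := by simp [cy, pr_nil]

theorem cy_one (hT : Fam P T) (a : El T) : cy [a] = 0 := by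
  rw [cy, pr_cons, pr_nil, mul_one, N, trace_vecMulVec, dotProduct_comm]
  exact (hT.mt _ _ a.2).1

theorem cy_two (a b : El T) : cy [a, b] = g a b * g b a := by
  rw [cy, pr_cons, pr_cons, pr_nil, mul_one, N_mul, trace_smul, trace_vecMulVec, dotProduct_comm]
  rfl

theorem cy_zero {a b : El T} (h : g a b = 0) (L : List (El T)) : cy (a :: b :: L) = 0 := by
  rw [cy, pr_cons, pr_cons, ← mul_assoc, N_mul, h]
  simp

theorem cy_tri (a b c : El T) (L : List (El T)) :
    cy (a :: b :: c :: L) * (g a c * g c a) = g a b * g b c * g c a * cy (a :: c :: L) := by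
  have := congrArg (fun X => (X * pr L).trace) (N_tri a b c)
  simp only [smul_mul_assoc, trace_smul, smul_eq_mul, mul_assoc] at this
  simp only [cy, pr_cons]
  linear_combination g c a * this

/-- One member moved by another. -/
def mv (hT : Fam P T) (a b : El T) : El T :=
  ⟨(a.1.1 + g b a • b.1.1, a.1.2 - g a b • b.1.2), hT.move a.2 (hT.mt _ _ b.2)⟩

theorem N_mv (hT : Fam P T) (a b : El T) :
    N (mv hT a b) = N a + N b * N a - N a * N b - (g a b * g b a) • N b := by
  rw [N_mul, N_mul]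
  ext i j
  simp only [N, mv, vecMulVec_apply, Matrix.sub_apply, Matrix.add_apply, Matrix.smul_apply,
    Pi.add_apply, Pi.sub_apply, Pi.smul_apply, smul_eq_mul]
  ring

theorem cy_mv (hT : Fam P T) (a b : El T) (L : List (El T)) : cy (mv hT a b :: L) =
    cy (a :: L) + cy (b :: a :: L) - cy (a :: b :: L) - g a b * g b a * cy (b :: L) := by
  simp only [cy, pr_cons, N_mv, sub_mul, add_mul, smul_mul_assoc, trace_sub, trace_add, trace_smul,
    smul_eq_mul, mul_assoc]

theorem cy_rev1 (a : El T) (L : List (El T)) : cy (a :: L).reverse = cy (a :: L.reverse) := by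
  rw [List.reverse_cons, cy_rot]; rfl

theorem cy_rev2 (a b : El T) (L : List (El T)) :
    cy (a :: b :: L).reverse = cy (b :: a :: L.reverse) := by
  rw [List.reverse_cons, List.reverse_cons, List.append_assoc, cy_rot]; rfl

theorem cy_rev3 (a b c : El T) (L : List (El T)) :
    cy (a :: b :: c :: L).reverse = cy (c :: b :: a :: L.reverse) := by
  rw [List.reverse_cons, List.reverse_cons, List.reverse_cons, List.append_assoc, List.append_assoc,
    cy_rot]; rfl

/-- Induction over the group generated by the family. -/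
theorem ind (hP : QS P) (hT : Fam P T) (hne : ∃ v φ, T v φ) (Q : Matrix ι ι F → Matrix ι ι F → Prop)
    (h1 : Q 1 1) (hp : ∀ (a : El T) X Y, Q X Y → Q (X * (1 + N a)) ((1 - N a) * Y))
    (hm : ∀ (a : El T) X Y, Q X Y → Q (X * (1 - N a)) ((1 + N a) * Y)) {x : GL ι F} (hx : x ∈ P) :
    Q x (x⁻¹ : GL ι F) := by
  obtain ⟨v, φ, h⟩ := hne
  let M : Subgroup (GL ι F) :=
    { carrier := {y | (∀ X Y, Q X Y → Q (X * y) ((y⁻¹ : GL ι F) * Y)) ∧
        ∀ X Y, Q X Y → Q (X * (y⁻¹ : GL ι F)) (y * Y)}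
      one_mem' := ⟨fun X Y h => by simpa using h, fun X Y h => by simpa using h⟩
      mul_mem' := fun {a b} ha hb => ⟨fun X Y h => by
        simpa [mul_assoc] using hb.1 _ _ (ha.1 X Y h), fun X Y h => by
        simpa [mul_assoc] using ha.2 _ _ (hb.2 X Y h)⟩
      inv_mem' := fun {a} ha => ⟨ha.2, by simpa using ha.1⟩ }
  have hM : P ≤ M := hT.le hP h fun w ψ hw y e => by
    have e1 : (y : Matrix ι ι F) = 1 + N ⟨(w, ψ), hw⟩ := ext_of_mulVec_single fun i => by
      rw [e, add_mulVec, one_mulVec, N, vecMulVec_mulVec]; simp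
    have e2 : ((y⁻¹ : GL ι F) : Matrix ι ι F) = 1 - N ⟨(w, ψ), hw⟩ := ext_of_mulVec_single fun i => by
      rw [MT.inv_mulVec (hT.mt _ _ hw).1 e, sub_mulVec, one_mulVec, N, vecMulVec_mulVec]; simp
    refine ⟨fun X Y h => ?_, fun X Y h => ?_⟩
    · rw [e2, e1]; exact hp _ _ _ h
    · rw [e2, e1]; exact hm _ _ _ h
  simpa using (hM hx).1 1 1 h1

theorem cy_mem (hT : Fam P T) {K : Subfield F} (h2 : ∀ a b : El T, g a b * g b a ∈ K)
    (h3 : ∀ a b c : El T, g a b * g b c * g c a ∈ K) (L : List (El T)) : cy L ∈ K := by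
  induction hn : L.length using Nat.strong_induction_on generalizing L with
  | _ n ih =>
  have hperm : ∀ L', L.Perm L' → cy L - cy L' ∈ K := fun _ h =>
    perm_ind cy K.toAddSubgroup n cy_rot (fun a b M hM => by
      have e := cy_mv hT a b M
      have := K.sub_mem (K.sub_mem (ih _ (by simp; omega) (a :: M) rfl)
        (ih _ (by simp; omega) (mv hT a b :: M) rfl))
        (K.mul_mem (h2 a b) (ih _ (by simp; omega) (b :: M) rfl))
      change _ ∈ K
      convert this using 1
      linear_combination e) h hn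
  match L, hn, hperm with
  | [], _, _ => rw [cy_nil]; exact natCast_mem K _
  | [a], _, _ => rw [cy_one hT]; exact K.zero_mem
  | [a, b], _, _ => rw [cy_two]; exact h2 a b
  | a :: b :: c :: M, hn, hperm =>
    by_cases e1 : g a c = 0
    · simpa [cy_zero e1] using hperm _ ((List.Perm.swap c b M).cons a)
    by_cases e2 : g c a = 0
    · simpa [cy_zero e2] using
        hperm _ (((List.Perm.swap c b M).cons a).trans (List.Perm.swap c a (b :: M)))
    rw [eq_div_of_mul_eq (mul_ne_zero e1 e2) (cy_tri a b c M)]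
    exact K.div_mem (K.mul_mem (h3 a b c) (ih _ (by simp at hn ⊢; omega) (a :: c :: M) rfl)) (h2 a c)

theorem cy_coh (hT : Fam P T) {σ : F →+* F} (h : Coh σ T) (L : List (El T)) :
    σ (cy L) = (-1) ^ L.length * cy L.reverse := by
  have h2 : ∀ a b : El T, σ (g a b * g b a) = g a b * g b a := fun a b => h.two a.2 b.2
  have h3 : ∀ a b c : El T, σ (g a b * g b c * g c a) = -(g a c * g c b * g b a) :=
    fun a b c => h.three a.2 b.2 c.2
  induction hn : L.length using Nat.strong_induction_on generalizing L with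
  | _ n ih =>
  have hperm : ∀ L', L.Perm L' → (σ (cy L) - (-1) ^ L.length * cy L.reverse) -
      (σ (cy L') - (-1) ^ L'.length * cy L'.reverse) ∈ (⊥ : AddSubgroup F) := fun _ h =>
    perm_ind (fun L => σ (cy L) - (-1) ^ L.length * cy L.reverse) ⊥ n
      (fun L M => by
        simp only [List.reverse_append, List.length_append]
        rw [cy_rot L, cy_rot M.reverse, add_comm])
      (fun a b M hM => by
        have e := congrArg σ (cy_mv hT a b M)
        have e' := cy_mv hT a b M.reverse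
        have i1 := ih _ (by simp; omega) (a :: M) rfl
        have i2 := ih _ (by simp; omega) (b :: M) rfl
        have i3 := ih _ (by simp; omega) (mv hT a b :: M) rfl
        rw [map_sub, map_sub, map_add, map_mul, h2, i1, i2, i3, cy_rev1, cy_rev1, cy_rev1, e'] at e
        rw [AddSubgroup.mem_bot, cy_rev2, cy_rev2]
        simp only [List.length_cons, pow_succ] at e ⊢
        linear_combination e) h hn
  subst hn
  match L, ih, hperm with
  | [], _, _ => simp [cy_nil]
  | [a], _, _ => simp [cy_one hT]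
  | [a, b], _, _ =>
    rw [cy_rev2, List.reverse_nil, cy_two, cy_two, h2]
    simp [mul_comm]
  | a :: b :: c :: M, ih, hperm =>
    by_cases e1 : g a c = 0
    · have e2 : g c a = 0 := h.zero a.2 c.2 e1
      have := hperm _ ((List.Perm.swap c b M).cons a)
      rw [AddSubgroup.mem_bot, cy_zero e1, cy_rev2 a c, cy_zero e2, map_zero, mul_zero, sub_zero,
        sub_zero, sub_eq_zero] at this
      exact this
    have e2 : g c a ≠ 0 := fun e => e1 (h.zero c.2 a.2 e)
    have i1 := ih _ (by simp) (a :: c :: M) rfl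
    have e := congrArg σ (cy_tri a b c M)
    have e' := cy_tri c b a M.reverse
    rw [map_mul, map_mul σ _ (cy _), h2, h3, i1, cy_rev2] at e
    rw [cy_rev3]
    refine mul_right_cancel₀ (mul_ne_zero e1 e2) ?_
    simp only [List.length_cons, pow_succ] at e ⊢
    linear_combination e + (-1) ^ M.length * e'

end TAx

theorem tr_of_coh (hP : QS P) (hT : Fam P T) (hne : ∃ v φ, T v φ) {σ : F →+* F}
    (h : Coh σ T) (g : P) : σ (tr g) = tr g⁻¹ := by
  have key : ∀ (ε : F), σ ε = ε → ∀ (a : TAx.El T) (X Y : Matrix ι ι F),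
      (∀ L : List (TAx.El T), σ (X * TAx.pr L).trace =
        (-1) ^ L.length * (TAx.pr L.reverse * Y).trace) →
      ∀ L : List (TAx.El T), σ (X * (1 + ε • TAx.N a) * TAx.pr L).trace =
        (-1) ^ L.length * (TAx.pr L.reverse * ((1 - ε • TAx.N a) * Y)).trace := by
    intro ε hε a X Y H L
    have h1 := H L
    have h2 := H (a :: L)
    rw [List.reverse_cons, TAx.pr_append, TAx.pr_cons, TAx.pr_cons, TAx.pr_nil, mul_one,
      List.length_cons, pow_succ] at h2
    simp only [mul_add, add_mul, sub_mul, mul_sub, mul_one, one_mul, mul_smul_comm, smul_mul_assoc,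
      trace_add, trace_sub, trace_smul, smul_eq_mul, map_add, map_mul, hε, mul_assoc] at h1 h2 ⊢
    rw [h1, h2]
    ring
  have := TAx.ind hP hT hne (fun X Y => ∀ L : List (TAx.El T), σ (X * TAx.pr L).trace =
      (-1) ^ L.length * (TAx.pr L.reverse * Y).trace)
    (fun L => by rw [one_mul, mul_one]; exact TAx.cy_coh hT h L)
    (fun a X Y H => by simpa using key 1 (map_one σ) a X Y H)
    (fun a X Y H => by simpa [sub_eq_add_neg] using key (-1) (by simp) a X Y H) g.2 []
  rw [List.reverse_nil, TAx.pr_nil, mul_one, one_mul, List.length_nil, pow_zero, one_mul] at this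
  exact this

theorem TF.cyc_sub (H : TF P k T) {v₁ φ₁ v₂ φ₂ v₃ φ₃ : ι → F} (h₁ : T v₁ φ₁) (h₂ : T v₂ φ₂)
    (h₃ : T v₃ φ₃) : cyc3 v₁ φ₁ v₃ φ₃ v₂ φ₂ - cyc3 v₁ φ₁ v₂ φ₂ v₃ φ₃ ∈ k := by
  have := k.add_mem (k.sub_mem (H.two (H.fam.move h₁ (H.fam.mt _ _ h₂)) h₃) (H.two h₁ h₃))
    (k.mul_mem (H.two h₁ h₂) (H.two h₂ h₃))
  convert this using 1
  simp only [cyc3, sub_dotProduct, smul_dotProduct, dotProduct_add, dotProduct_smul, smul_eq_mul]
  ring

theorem TF.cyc_mul (H : TF P k T) {v₁ φ₁ v₂ φ₂ v₃ φ₃ : ι → F} (h₁ : T v₁ φ₁) (h₂ : T v₂ φ₂)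
    (h₃ : T v₃ φ₃) : cyc3 v₁ φ₁ v₃ φ₃ v₂ φ₂ * cyc3 v₁ φ₁ v₂ φ₂ v₃ φ₃ ∈ k := by
  have := k.mul_mem (k.mul_mem (H.two h₁ h₂) (H.two h₂ h₃)) (H.two h₁ h₃)
  convert this using 1
  simp only [cyc3]
  ring

theorem TF.eq_top (H : TF P k T) (ht : TrGen P) {K : Subfield F} (hk : k ≤ K)
    (h : ∀ {v₁ φ₁ v₂ φ₂ v₃ φ₃}, T v₁ φ₁ → T v₂ φ₂ → T v₃ φ₃ → cyc3 v₁ φ₁ v₂ φ₂ v₃ φ₃ ∈ K) :
    K = ⊤ := by
  refine ht K fun x hx => ?_
  have := TAx.ind H.qs H.fam H.ex (fun X _ => ∀ L : List (TAx.El T), (X * TAx.pr L).trace ∈ K)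
    (fun L => by
      rw [one_mul]
      exact TAx.cy_mem H.fam (fun a b => hk (H.two a.2 b.2)) (fun a b c => h a.2 b.2 c.2) L)
    (fun a X _ H L => by
      rw [mul_add, add_mul, mul_one, trace_add, mul_assoc, ← TAx.pr_cons]
      exact K.add_mem (H _) (H _))
    (fun a X _ H L => by
      rw [mul_sub, sub_mul, mul_one, trace_sub, mul_assoc, ← TAx.pr_cons]
      exact K.sub_mem (H _) (H _)) hx []
  simpa [TAx.pr_nil] using this

end Cfsg.Agent.Cl.D5
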