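/-
Groups generated by full transvection subgroups: the special linear group, or a coherent family.
-/
import Mathlib
import Cfsg.Agent.Cl.D5Base
import Cfsg.Agent.Cl.MaxSLCore

set_option autoImplicit false

namespace Cfsg.Agent.Cl.D5

open Matrix Cfsg.Geo Cfsg.Agent.Cl.Max Cfsg.Agent.Cl.Mx
open scoped MatrixGroups

variable {F : Type*} [Field F] {ι : Type} [Fintype ι] [DecidableEq ι]
  {P : Subgroup (GL ι F)} {k : Subfield F} {T : (ι → F) → (ι → F) → Prop}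

namespace TB

/-- The axes of full transvection groups with centre `v`. -/
def ax (P : Subgroup (GL ι F)) (v : ι → F) : Submodule F (ι → F) where
  carrier := {φ | ∀ c : F, MT P v (c • φ)}
  zero_mem' c := by rw [smul_zero]; exact MT.zero P v
  add_mem' ha hb c := by rw [smul_add]; exact (ha c).add (hb c)
  smul_mem' a φ h c := by rw [smul_smul]; exact h _

variable {v w φ ψ : ι → F}

theorem mt (h : φ ∈ ax P v) : MT P v φ := by simpa using h 1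

theorem of_T (H : TF P ⊤ T) (h : T v φ) : φ ∈ ax P v := fun c => (H.tk h).2.2 c trivial

theorem move (h : φ ∈ ax P v) (h' : MT P w ψ) :
    φ - (φ ⬝ᵥ w) • ψ ∈ ax P (v + (ψ ⬝ᵥ v) • w) := fun c => by
  have := (h c).move h'
  rwa [smul_dotProduct, smul_assoc, ← smul_sub] at this

theorem comm (h : φ ∈ ax P v) (h' : MT P w ψ) (h0 : ψ ⬝ᵥ v = 0) (h1 : φ ⬝ᵥ w ≠ 0) : ψ ∈ ax P v :=
  fun c => by
    have := (h (c / φ ⬝ᵥ w)).comm h' h0
    rwa [smul_dotProduct, smul_eq_mul, div_mul_cancel₀ _ h1] at this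

theorem add_left (h : φ ∈ ax P v) (h' : φ ∈ ax P w) (a : F) : φ ∈ ax P (v + a • w) := fun c =>
  (h c).add_left ((MT.smul_iff a).2 (by rw [smul_smul]; exact h' _))

/-- A centre with two independent axes carries all transvections. -/
theorem all_axes (H : TF P ⊤ T) {x φ φ' : ι → F} (hx : x ≠ 0) (ht : φ ∈ ax P x) (ht' : φ' ∈ ax P x)
    (hφ : φ ≠ 0) (hind : ∀ c : F, φ' ≠ c • φ) (χ : ι → F) (hχ : χ ⬝ᵥ x = 0) : MT P x χ := by
  obtain ⟨v₀, φ₀, h₀⟩ := H.ex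
  obtain ⟨y, ψ, hy, h2, h1⟩ := H.fam.exists_pair H.qs h₀ hφ hx
  replace hy := of_T H hy
  obtain ⟨χ₀, hχ₀, h0, hχy⟩ : ∃ χ₀ ∈ ax P x, χ₀ ≠ 0 ∧ χ₀ ⬝ᵥ y = 0 :=
    ⟨φ' - (φ' ⬝ᵥ y / φ ⬝ᵥ y) • φ, sub_mem ht' ((ax P x).smul_mem _ ht), sub_ne_zero.2 (hind _), by
      simp [h2]⟩
  let Ψ : Submodule F (ι → F) := ax P x ⊔ F ∙ ψ
  have hψΨ : ψ ∈ Ψ := Submodule.mem_sup_right (Submodule.mem_span_singleton_self ψ)
  have step : ∀ u w ω, ax P u ≤ Ψ → MT P w ω → ω ∈ Ψ → ax P (u + (ω ⬝ᵥ u) • w) ≤ Ψ :=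
    fun u w ω hu hw hω χ hχ => by
      have := move hχ hw.neg
      simp only [neg_dotProduct, dotProduct_add, dotProduct_smul, hw.1, smul_zero, add_zero, neg_smul,
        add_neg_cancel_right, neg_zero] at this
      simpa using Ψ.add_mem (hu this) (Ψ.smul_mem (-(χ ⬝ᵥ w)) hω)
  have hxΨ : ax P x ≤ Ψ := le_sup_left
  have hyΨ : ax P y ≤ Ψ := by
    have s1 := step x y _ hxΨ (hy (ψ ⬝ᵥ x)⁻¹) (Ψ.smul_mem _ hψΨ)
    have s2 := step _ x _ s1 (ht (-(φ ⬝ᵥ y)⁻¹)) (Ψ.smul_mem _ (hxΨ ht))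
    simpa [h1, h2, (mt ht).1] using s2
  have claim : ∀ z ω, MT P z ω → χ₀ ⬝ᵥ z ≠ 0 → ω ∈ Ψ := fun z ω hz e' => by
    have s1 := step y x _ hyΨ (ht (-(ω ⬝ᵥ y / ω ⬝ᵥ x) * (φ ⬝ᵥ y)⁻¹)) (Ψ.smul_mem _ (hxΨ ht))
    by_cases hω : ω ⬝ᵥ x = 0
    · exact hxΨ (comm hχ₀ hz hω e')
    rw [smul_dotProduct, smul_eq_mul, mul_assoc, inv_mul_cancel₀ h2, mul_one] at s1
    exact s1 (comm (add_left (comm hy (mt hχ₀) hχy h1) hχ₀ _) hz (by simp [hω]) e')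
  have top : Ψ = ⊤ := by
    by_contra hc
    obtain ⟨f, hf, hle⟩ := Ψ.exists_le_ker_of_lt_top (lt_top_iff_ne_top.2 hc)
    obtain ⟨u, rfl⟩ := (dotProductEquiv F ι).surjective f
    obtain ⟨z, ω, hz, e1, e2⟩ := H.fam.exists_pair H.qs h₀ h0 (u := u) fun e => hf (by simp [e])
    exact e2 (by rw [dotProduct_comm]; exact hle (claim z ω (H.fam.mt _ _ hz) e1))
  obtain ⟨a, ha, b, hb, rfl⟩ := Submodule.mem_sup.1 (show χ ∈ Ψ by rw [top]; trivial)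
  obtain ⟨c, rfl⟩ := Submodule.mem_span_singleton.1 hb
  have : c = 0 := by simpa [(mt ha).1, h1] using hχ
  simpa [this] using mt ha

theorem eq_sl (hP : QS P) {x : ι → F} (hx : x ≠ 0) (h : ∀ χ, χ ⬝ᵥ x = 0 → MT P x χ) :
    P = specialLinear ι F := by
  have h1 : x ∈ MSL.cen (P.map (MSL.toE (LinearEquiv.refl F (ι → F)))) := fun χ hχ => by
    obtain ⟨ψ, rfl⟩ := (dotProductEquiv F ι).surjective χ
    obtain ⟨h0, g, hg, e⟩ := h ψ hχ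
    exact ⟨h0, _, ⟨g, hg, rfl⟩, e⟩
  refine le_antisymm (qs_le_sl hP) (MSL.specialLinear_le_of_cen (LinearEquiv.refl F _) ?_)
  refine (hP.irr _ fun g hg z hz => ?_).resolve_left fun e => hx ?_
  · exact (MSL.has_of_mem (Subgroup.mem_map_of_mem _ hg)).mem_cen hz
  · rwa [e] at h1

end TB

variable [Finite F]

theorem TF.sl_or_coh (H : TF P ⊤ T) : P = specialLinear ι F ∨ Coh (RingHom.id F) T := by
  refine or_iff_not_imp_left.2 fun hn => ?_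
  have zero : ∀ {v φ w ψ}, T v φ → T w ψ → φ ⬝ᵥ w = 0 → ψ ⬝ᵥ v = 0 := fun {v φ w ψ} h h' e => by
    by_contra e'
    refine hn (TB.eq_sl H.qs (H.fam.ne _ _ h').1 (TB.all_axes H (H.fam.ne _ _ h').1 (TB.of_T H h')
      (TB.comm (TB.of_T H h') (H.fam.mt _ _ h) e e') (H.fam.ne _ _ h').2 fun c hc => ?_))
    have h0 := (H.fam.mt _ _ h).1
    rw [hc, smul_dotProduct, smul_eq_mul, mul_eq_zero, or_iff_left e'] at h0
    exact (H.fam.ne _ _ h).2 (by rw [hc, h0, zero_smul])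
  refine ⟨zero, fun _ _ => rfl, fun {v₁ φ₁ v₂ φ₂ v₃ φ₃} t₁ t₂ t₃ => ?_⟩
  rw [RingHom.id_apply, cyc3, cyc3]
  by_cases e1 : φ₂ ⬝ᵥ v₁ = 0
  · simp [e1, zero t₂ t₁ e1]
  by_cases e2 : φ₃ ⬝ᵥ v₂ = 0
  · simp [e2, zero t₃ t₂ e2]
  have := zero t₃ (H.fam.move t₁ (TB.of_T H t₂ (-(φ₃ ⬝ᵥ v₁) / (φ₂ ⬝ᵥ v₁ * φ₃ ⬝ᵥ v₂)))) (by
    simp only [dotProduct_add, dotProduct_smul, smul_dotProduct, smul_eq_mul]
    field_simp
    ring)
  simp only [sub_dotProduct, smul_dotProduct, smul_eq_mul] at this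
  field_simp at this
  linear_combination this

end Cfsg.Agent.Cl.D5
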