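/-
A family of transvection groups over a subfield `k` with a `3`-cycle outside `k` preserves a
hermitian form.
-/
import Mathlib
import Cfsg.Agent.Cl.D5TA
import Cfsg.Agent.Cl.D3TVB

set_option autoImplicit false
set_option linter.unusedSectionVars false

namespace Cfsg.Agent.Cl.D5

open Matrix Cfsg.Geo Cfsg.Agent.Cl.Max Cfsg.Agent.Cl.Mx
open scoped MatrixGroups

variable {F : Type*} [Field F] [Finite F] {ι : Type} [Fintype ι] [DecidableEq ι]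
  {P : Subgroup (GL ι F)} {k : Subfield F} {T : (ι → F) → (ι → F) → Prop}

namespace TC

variable {v₁ φ₁ v₂ φ₂ v₃ φ₃ w ψ v φ : ι → F} {τ : F →+* F}

theorem core_alg {g12 g21 g13 g31 g23 g32 K12 K21 K13 K31 K23 K32 : F}
    (h12 : g12 ≠ 0) (h21 : g21 ≠ 0) (h13 : g13 ≠ 0) (h31 : g31 ≠ 0) (h23 : g23 ≠ 0)
    (h32 : g32 ≠ 0) (hs : g12 * g23 * g31 + g13 * g32 * g21 ≠ 0)
    (e12 : g12 * K12 = g21 * K21) (e13 : g13 * K13 = g31 * K31) (e23 : g23 * K23 = g32 * K32)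
    (m3 : (g12 * g23 - g13) * K13 + (g31 + g21 * g32) * K31 + g21 * (g12 * g23 - g13) * K23 -
      (g31 + g21 * g32) * g12 * K32 = 0)
    (m2 : (g13 * g32 - g12) * K12 + (g21 + g31 * g23) * K21 + g31 * (g13 * g32 - g12) * K32 -
      (g21 + g31 * g23) * g13 * K23 = 0)
    (hd : K12 * K23 * K31 + K13 * K32 * K21 = 0) :
    K12 = 0 ∧ K21 = 0 ∧ K13 = 0 ∧ K31 = 0 := by
  have ex : ∀ {a b A B : F}, a ≠ 0 → b ≠ 0 → a * A = b * B → ∃ l, A = l * b ∧ B = l * a :=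
    fun {a b A B} ha hb e => ⟨A / b, by field_simp, by field_simp; linear_combination -e⟩
  obtain ⟨l, rfl, rfl⟩ := ex h12 h21 e12
  obtain ⟨m, rfl, rfl⟩ := ex h13 h31 e13
  obtain ⟨n, rfl, rfl⟩ := ex h23 h32 e23
  obtain rfl : m = n := mul_right_cancel₀ hs (by linear_combination m3)
  obtain rfl : l = m := mul_right_cancel₀ hs (by linear_combination m2)
  obtain rfl : l = 0 := pow_eq_zero_iff (n := 3) (by omega) |>.1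
    ((mul_eq_zero.1 (by linear_combination hd)).resolve_right hs)
  simp

theorem det_alg {a1 a2 a3 b1 b2 b3 A1 A2 A3 B1 B2 B3 : F} (d1 : A1 * B1 = a1 * b1)
    (d2 : A2 * B2 = a2 * b2) (d3 : A3 * B3 = a3 * b3) :
    (a1 * b2 - A2 * B1) * (a2 * b3 - A3 * B2) * (a3 * b1 - A1 * B3) +
      (a1 * b3 - A3 * B1) * (a3 * b2 - A2 * B3) * (a2 * b1 - A1 * B2) = 0 := by
  linear_combination ((a2 * b2 - A2 * B2) * (a3 * b3 - A3 * B3) -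
    (a2 * b3 - A3 * B2) * (a3 * b2 - A2 * B3)) * d1 -
    (a1 * b3 - A3 * B1) * (a3 * b1 - A1 * B3) * d2 - (a1 * b2 - A2 * B1) * (a2 * b1 - A1 * B2) * d3

/-- A normalized good triple. -/
structure Nm (τ : F →+* F) (T : (ι → F) → (ι → F) → Prop) (v₁ φ₁ v₂ φ₂ v₃ φ₃ : ι → F) : Prop where
  t₁ : T v₁ φ₁
  t₂ : T v₂ φ₂
  t₃ : T v₃ φ₃
  e12 : τ (φ₁ ⬝ᵥ v₂) = -(φ₂ ⬝ᵥ v₁)
  e21 : τ (φ₂ ⬝ᵥ v₁) = -(φ₁ ⬝ᵥ v₂)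
  e13 : τ (φ₁ ⬝ᵥ v₃) = -(φ₃ ⬝ᵥ v₁)
  e31 : τ (φ₃ ⬝ᵥ v₁) = -(φ₁ ⬝ᵥ v₃)
  e23 : τ (φ₂ ⬝ᵥ v₃) = -(φ₃ ⬝ᵥ v₂)
  e32 : τ (φ₃ ⬝ᵥ v₂) = -(φ₂ ⬝ᵥ v₃)
  ne : cyc3 v₁ φ₁ v₂ φ₂ v₃ φ₃ + cyc3 v₁ φ₁ v₃ φ₃ v₂ φ₂ ≠ 0

theorem Nm.ne0 (h : Nm τ T v₁ φ₁ v₂ φ₂ v₃ φ₃) : φ₁ ⬝ᵥ v₂ ≠ 0 ∧ φ₂ ⬝ᵥ v₁ ≠ 0 ∧ φ₁ ⬝ᵥ v₃ ≠ 0 ∧
    φ₃ ⬝ᵥ v₁ ≠ 0 ∧ φ₂ ⬝ᵥ v₃ ≠ 0 ∧ φ₃ ⬝ᵥ v₂ ≠ 0 := by
  have z : ∀ {a b : F}, τ a = -b → a = 0 → b = 0 := fun e e' => by simpa [e'] using e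
  refine ⟨fun e => ?_, fun e => ?_, fun e => ?_, fun e => ?_, fun e => ?_, fun e => ?_⟩ <;>
    refine h.ne ?_
  · simp [cyc3, e, z h.e12 e]
  · simp [cyc3, e, z h.e21 e]
  · simp [cyc3, e, z h.e13 e]
  · simp [cyc3, e, z h.e31 e]
  · simp [cyc3, e, z h.e23 e]
  · simp [cyc3, e, z h.e32 e]

theorem Nm.core (h : Nm τ T v₁ φ₁ v₂ φ₂ v₃ φ₃) (hT : Fam P T)
    (hw : ∀ x χ, T x χ → τ (ψ ⬝ᵥ x * χ ⬝ᵥ w) = ψ ⬝ᵥ x * χ ⬝ᵥ w) :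
    ψ ⬝ᵥ v₁ * φ₂ ⬝ᵥ w = τ (ψ ⬝ᵥ v₂) * τ (φ₁ ⬝ᵥ w) ∧ ψ ⬝ᵥ v₂ * φ₁ ⬝ᵥ w = τ (ψ ⬝ᵥ v₁) * τ (φ₂ ⬝ᵥ w) ∧
    ψ ⬝ᵥ v₁ * φ₃ ⬝ᵥ w = τ (ψ ⬝ᵥ v₃) * τ (φ₁ ⬝ᵥ w) ∧
    ψ ⬝ᵥ v₃ * φ₁ ⬝ᵥ w = τ (ψ ⬝ᵥ v₁) * τ (φ₃ ⬝ᵥ w) := by
  obtain ⟨n12, n21, n13, n31, n23, n32⟩ := h.ne0
  have m₁ := hT.mt _ _ h.t₁
  have m₂ := hT.mt _ _ h.t₂
  have m₃ := hT.mt _ _ h.t₃
  have d1 := hw _ _ h.t₁
  have d2 := hw _ _ h.t₂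
  have d3 := hw _ _ h.t₃
  have p12 := hw _ _ (hT.move h.t₁ m₂)
  have p13 := hw _ _ (hT.move h.t₁ m₃)
  have p23 := hw _ _ (hT.move h.t₂ m₃)
  have q3 := hw _ _ (hT.move (hT.move h.t₁ m₂) m₃)
  have q2 := hw _ _ (hT.move (hT.move h.t₁ m₃) m₂)
  simp only [dotProduct_add, dotProduct_smul, sub_dotProduct, smul_dotProduct, smul_eq_mul, map_mul,
    map_add, map_sub, h.e12, h.e21, h.e13, h.e31, h.e23, h.e32] at d1 d2 d3 p12 p13 p23 q2 q3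
  simp only [← sub_eq_zero (a := ψ ⬝ᵥ _ * _)]
  refine core_alg n12 n21 n13 n31 n23 n32 h.ne
    (K23 := ψ ⬝ᵥ v₂ * φ₃ ⬝ᵥ w - τ (ψ ⬝ᵥ v₃) * τ (φ₂ ⬝ᵥ w))
    (K32 := ψ ⬝ᵥ v₃ * φ₂ ⬝ᵥ w - τ (ψ ⬝ᵥ v₂) * τ (φ₃ ⬝ᵥ w)) ?_ ?_ ?_ ?_ ?_ ?_
  · linear_combination p12 - d1 + φ₁ ⬝ᵥ v₂ * φ₂ ⬝ᵥ v₁ * d2
  · linear_combination p13 - d1 + φ₁ ⬝ᵥ v₃ * φ₃ ⬝ᵥ v₁ * d3
  · linear_combination p23 - d2 + φ₂ ⬝ᵥ v₃ * φ₃ ⬝ᵥ v₂ * d3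
  · linear_combination p12 - q3 + (φ₃ ⬝ᵥ v₁ + φ₂ ⬝ᵥ v₁ * φ₃ ⬝ᵥ v₂) *
      (φ₁ ⬝ᵥ v₂ * φ₂ ⬝ᵥ v₃ - φ₁ ⬝ᵥ v₃) * d3
  · linear_combination p13 - q2 + (φ₂ ⬝ᵥ v₁ + φ₃ ⬝ᵥ v₁ * φ₂ ⬝ᵥ v₃) *
      (φ₁ ⬝ᵥ v₃ * φ₃ ⬝ᵥ v₂ - φ₁ ⬝ᵥ v₂) * d2
  · exact det_alg d1 d2 d3

theorem comm' (h : MT P v φ) (h' : MT P w ψ) (h0 : φ ⬝ᵥ w = 0) : MT P ((ψ ⬝ᵥ v) • w) φ := by
  have h2 := h.move h'
  rw [h0, zero_smul, sub_zero] at h2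
  have h3 : MT P ((-1 : F) • v) φ := (MT.smul_iff _).2 (by simpa using h.neg)
  simpa using h2.add_left h3

/-- A root group is not bigger than `k`. -/
theorem mem_of_max (H : TF P k T) (hv : v ≠ 0) (hφ : φ ≠ 0) {b a : F} (hb : b ≠ 0)
    (h1 : ∀ c ∈ k, MT P v ((c * b) • φ)) (h2 : MT P v ((a * b) • φ)) : a ∈ k := by
  have h3 := H.max v φ hv hφ
  rw [← ncard_eq_of_mul (A := {c | c * b ∈ tvA P v φ}) (B := tvA P v φ) hb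
    fun _ => Iff.rfl] at h3
  exact (Set.eq_of_subset_of_ncard_le (s := (k : Set F)) (t := {c | c * b ∈ tvA P v φ}) h1
    h3).ge h2

variable (H : TF P k T) (hτ : ∀ a, τ a = a ↔ a ∈ k)
include H hτ

theorem root (h₁ : T v₁ φ₁) (h₂ : T v₂ φ₂) (h₃ : T v₃ φ₃) (h : cyc3 v₁ φ₁ v₂ φ₂ v₃ φ₃ ∉ k) :
    τ (cyc3 v₁ φ₁ v₂ φ₂ v₃ φ₃) = -cyc3 v₁ φ₁ v₃ φ₃ v₂ φ₂ ∧
      τ (cyc3 v₁ φ₁ v₃ φ₃ v₂ φ₂) = -cyc3 v₁ φ₁ v₂ φ₂ v₃ φ₃ :=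
  (D3.frob_root hτ (H.cyc_sub h₁ h₂ h₃) (H.cyc_mul h₁ h₂ h₃)).resolve_left fun e => h ((hτ _).1 e)

theorem exists_nm (hσ : UInvol τ) (h₁ : T v₁ φ₁) (h₂ : T v₂ φ₂) (h₃ : T v₃ φ₃)
    (h : cyc3 v₁ φ₁ v₂ φ₂ v₃ φ₃ ∉ k) : ∃ c d : F, c ≠ 0 ∧ d ≠ 0 ∧
      Nm τ T v₁ φ₁ (c • v₂) (c⁻¹ • φ₂) (d • v₃) (d⁻¹ • φ₃) := by
  obtain ⟨r1, r2⟩ := root H hτ h₁ h₂ h₃ h
  have a0 : cyc3 v₁ φ₁ v₂ φ₂ v₃ φ₃ ≠ 0 := fun e => h (e ▸ k.zero_mem)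
  have b0 : cyc3 v₁ φ₁ v₃ φ₃ v₂ φ₂ ≠ 0 := fun e => a0 (by simpa [e] using r2)
  have s0 : cyc3 v₁ φ₁ v₂ φ₂ v₃ φ₃ + cyc3 v₁ φ₁ v₃ φ₃ v₂ φ₂ ≠ 0 := fun e =>
    h ((hτ _).1 (by linear_combination r1 - e))
  have t12 := (hτ _).2 (H.two h₁ h₂)
  have t13 := (hτ _).2 (H.two h₁ h₃)
  simp only [cyc3, ne_eq, mul_eq_zero, not_or, map_mul] at a0 b0 r1 r2 t12 t13
  have ex : ∀ {a b : F}, a ≠ 0 → b ≠ 0 → τ a * τ b = a * b → ∃ c, c ≠ 0 ∧ c * τ c * τ a = -b :=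
    fun {a b} ha hb e => by
    have ha' := (map_ne_zero τ).2 ha
    obtain ⟨c, hc⟩ := hσ.exists_norm_eq (a := -b / τ a) (by
      rw [map_div₀, map_neg, hσ.invol]
      field_simp
      linear_combination -e)
    refine ⟨c, fun e => ?_, by rw [hc]; field_simp⟩
    rw [e, zero_mul, eq_comm, div_eq_zero_iff, neg_eq_zero] at hc
    exact hc.elim hb ha'
  obtain ⟨c, c0, hc⟩ := ex a0.1.1 b0.2 t12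
  obtain ⟨d, d0, hd⟩ := ex b0.1.1 a0.2 t13
  have inv : ∀ {a b : F}, τ a = -b → τ b = -a := fun {a b} e => by
    rw [← hσ.invol a, e, map_neg, neg_neg]
  have c1 := (map_ne_zero τ).2 c0
  have d1 := (map_ne_zero τ).2 d0
  have e12 : τ (φ₁ ⬝ᵥ c • v₂) = -((c⁻¹ • φ₂) ⬝ᵥ v₁) := by
    simp only [dotProduct_smul, smul_dotProduct, smul_eq_mul, map_mul]
    field_simp
    linear_combination hc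
  have e13 : τ (φ₁ ⬝ᵥ d • v₃) = -((d⁻¹ • φ₃) ⬝ᵥ v₁) := by
    simp only [dotProduct_smul, smul_dotProduct, smul_eq_mul, map_mul]
    field_simp
    linear_combination hd
  have e23 : τ ((c⁻¹ • φ₂) ⬝ᵥ d • v₃) = -((d⁻¹ • φ₃) ⬝ᵥ c • v₂) := by
    simp only [dotProduct_smul, smul_dotProduct, smul_eq_mul, map_mul, map_inv₀]
    have hd' := congrArg τ hd
    simp only [map_mul, map_neg, hσ.invol] at hd'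
    have g1 := (map_ne_zero τ).2 a0.1.1
    have g2 := b0.1.1
    field_simp
    refine mul_left_cancel₀ (mul_ne_zero g1 g2) ?_
    linear_combination τ (φ₁ ⬝ᵥ v₂) * τ (φ₂ ⬝ᵥ v₃) * hd' + φ₁ ⬝ᵥ v₃ * φ₃ ⬝ᵥ v₂ * hc - r1
  refine ⟨c, d, c0, d0, h₁, H.smul h₂ c0 (inv_ne_zero c0) (by simp [c0]),
    H.smul h₃ d0 (inv_ne_zero d0) (by simp [d0]), e12, inv e12, e13, inv e13, e23, inv e23, ?_⟩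
  convert s0 using 1
  simp only [cyc3, dotProduct_smul, smul_dotProduct, smul_eq_mul]
  field_simp

/-- Part A. -/
theorem partA (hσ : UInvol τ) (h₁ : T v₁ φ₁) (h₂ : T v₂ φ₂) (h₃ : T v₃ φ₃)
    (h : cyc3 v₁ φ₁ v₂ φ₂ v₃ φ₃ ∉ k) (h₄ : T w ψ) :
    (φ₁ ⬝ᵥ w = 0 ↔ ψ ⬝ᵥ v₁ = 0) ∧ τ (cyc3 w ψ v₁ φ₁ v₂ φ₂) = -cyc3 w ψ v₂ φ₂ v₁ φ₁ := by
  obtain ⟨c, d, c0, d0, n⟩ := exists_nm H hτ hσ h₁ h₂ h₃ h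
  obtain ⟨k1, k2, k3, k4⟩ := n.core (ψ := ψ) (w := w) H.fam fun x χ hx => (hτ _).2 (H.two h₄ hx)
  have e12 := n.e12
  simp only [dotProduct_smul, smul_dotProduct, smul_eq_mul, map_mul, map_inv₀] at k1 k2 k3 k4 e12
  have c1 := (map_ne_zero τ).2 c0
  have d1 := (map_ne_zero τ).2 d0
  have m₁ := H.fam.mt _ _ h₁
  have m₂ := H.fam.mt _ _ h₂
  have m₃ := H.fam.mt _ _ h₃
  refine ⟨⟨fun e => by_contra fun ha => h ?_, fun e => by_contra fun hb => ?_⟩, ?_⟩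
  · have ha' := (map_ne_zero τ).2 ha
    have b2 : φ₂ ⬝ᵥ w = 0 := by simpa [e, ha', c1] using k2
    have b3 : φ₃ ⬝ᵥ w = 0 := by simpa [e, ha', d1] using k4
    refine mem_of_max H (H.fam.ne _ _ h₄).1 (H.fam.ne _ _ h₁).2 ha (fun a ha => ?_) ?_
    · simpa using ((H.tk h₄).2.2 a ha).comm m₁ e
    · convert ((((H.fam.mt _ _ h₄).comm m₁ e).comm m₂ b2).comm m₃ b3).comm m₁ e using 2
      simp only [cyc3, smul_dotProduct, smul_eq_mul]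
      ring
  · have hb' := (map_ne_zero τ).2 hb
    have a2 : ψ ⬝ᵥ v₂ = 0 := by simpa [e, hb', c1] using k1
    have a3 : ψ ⬝ᵥ v₃ = 0 := by simpa [e, hb', d1] using k3
    refine h ((hτ _).1 ?_)
    have : cyc3 v₁ φ₁ v₃ φ₃ v₂ φ₂ ∈ k := by
      refine mem_of_max H (H.fam.ne _ _ h₁).1 (H.fam.ne _ _ h₄).2 hb (fun a ha => ?_) ?_
      · simpa using ((H.tk h₁).2.2 a ha).comm (H.fam.mt _ _ h₄) e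
      · rw [← MT.smul_iff]
        convert comm' (comm' (comm' (comm' (H.fam.mt _ _ h₄) m₁ e) m₂ a2) m₃ a3) m₁ e using 2
        simp only [cyc3, dotProduct_smul, smul_eq_mul]
        ring
    exact (hτ _).2 (by simpa using k.sub_mem this (H.cyc_sub h₁ h₂ h₃))
  · simp only [cyc3, map_mul]
    field_simp at k2 e12
    linear_combination -τ (φ₁ ⬝ᵥ v₂) * k2 + ψ ⬝ᵥ v₂ * φ₁ ⬝ᵥ w * e12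

/-- Part B. -/
theorem partB (hσ : UInvol τ) (h₁ : T v₁ φ₁) (h₂ : T v₂ φ₂) (h₃ : T v₃ φ₃)
    (h : cyc3 v₁ φ₁ v₂ φ₂ v₃ φ₃ ∉ k) (h₄ : T w ψ) (h0 : φ₁ ⬝ᵥ w ≠ 0) :
    ∃ x χ, T x χ ∧ cyc3 v₁ φ₁ w ψ x χ ∉ k := by
  by_contra hn
  push Not at hn
  obtain ⟨c, d, c0, d0, n⟩ := exists_nm H hτ hσ h₁ h₂ h₃ h
  obtain ⟨k1, -⟩ := n.core (ψ := (φ₁ ⬝ᵥ w) • ψ) (w := v₁) H.fam fun x χ hx => (hτ _).2 (by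
    simpa using hn x χ hx)
  rw [(H.fam.mt _ _ h₁).1, map_zero, mul_zero, smul_dotProduct, smul_eq_mul] at k1
  exact mul_ne_zero (mul_ne_zero h0 (mt (partA H hτ hσ h₁ h₂ h₃ h h₄).1.2 h0)) n.ne0.2.1 k1

/-- The members of good triples. -/
def Gd (k : Subfield F) (T : (ι → F) → (ι → F) → Prop) (v φ : ι → F) : Prop :=
  T v φ ∧ ∃ v₂ φ₂ v₃ φ₃, T v₂ φ₂ ∧ T v₃ φ₃ ∧ cyc3 v φ v₂ φ₂ v₃ φ₃ ∉ k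

omit hτ in
theorem fam_gd : Fam P (Gd k T) where
  mt _ _ h := H.fam.mt _ _ h.1
  ne _ _ h := H.fam.ne _ _ h.1
  conj := by
    rintro v φ ⟨h₁, v₂, φ₂, v₃, φ₃, h₂, h₃, h⟩ g hg
    refine ⟨H.fam.conj _ _ h₁ g hg, _, _, _, _, H.fam.conj _ _ h₂ g hg, H.fam.conj _ _ h₃ g hg, ?_⟩
    simpa only [cyc3, ← dotProduct_mulVec, inv_mulVec_mulVec] using h

theorem coh_gd (hσ : UInvol τ) : Coh τ (Gd k T) where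
  zero := fun ⟨h₁, _, _, _, _, h₂, h₃, h⟩ h₄ => (partA H hτ hσ h₁ h₂ h₃ h h₄.1).1.1
  two h h' := (hτ _).2 (H.two h.1 h'.1)
  three := by
    rintro v₁ φ₁ w ψ x χ ⟨h₁, v₂, φ₂, v₃, φ₃, h₂, h₃, h⟩ h₄ h₅
    by_cases h0 : φ₁ ⬝ᵥ w = 0
    · simp [cyc3, h0, (partA H hτ hσ h₁ h₂ h₃ h h₄.1).1.1 h0]
    obtain ⟨y, η, h₆, h'⟩ := partB H hτ hσ h₁ h₂ h₃ h h₄.1 h0
    convert (partA H hτ hσ h₁ h₄.1 h₆ h' h₅.1).2 using 2 <;> simp only [cyc3] <;> ring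

end TC

open TC in
theorem TF.uni (H : TF P k T) (ht : TrGen P) {v₁ φ₁ v₂ φ₂ v₃ φ₃ : ι → F} (h₁ : T v₁ φ₁)
    (h₂ : T v₂ φ₂) (h₃ : T v₃ φ₃) (h : cyc3 v₁ φ₁ v₂ φ₂ v₃ φ₃ ∉ k) :
    ∃ (σ : F →+* F) (f : (ι → F) → (ι → F) → F),
      UField σ (Nat.card k) ∧ uFix σ = k ∧ HForm σ 1 f ∧ P ≤ isoG f := by
  obtain ⟨τ, hτ⟩ := D3.exists_frob_fix k
  have hK := H.eq_top ht (K := uFix (τ.comp τ))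
    (fun a ha => show τ (τ a) = a by rw [(hτ a).2 ha, (hτ a).2 ha]) fun h₁ h₂ h₃ =>
      (D3.frob_root hτ (H.cyc_sub h₁ h₂ h₃) (H.cyc_mul h₁ h₂ h₃)).elim
        (fun e => (congrArg τ e).trans e) fun e =>
        (congrArg τ e.1).trans (by rw [map_neg, e.2, neg_neg]; rfl)
  have hσ : UInvol τ :=
    ⟨fun a => show a ∈ uFix (τ.comp τ) by rw [hK]; trivial, _, mt (hτ _).1 h⟩
  obtain ⟨q, hq⟩ := hσ.exists_uField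
  have e : uFix τ = k := Subfield.ext hτ
  have : Nonempty ι := Fintype.card_pos_iff.1 (by have := H.qs.two_le; omega)
  obtain ⟨ε, f, hf, hle, hε⟩ := exists_form_of_trace H.qs.spans hσ.invol fun g hg =>
    tr_of_coh H.qs (fam_gd H) ⟨v₁, φ₁, h₁, _, _, _, _, h₂, h₃, h⟩ (coh_gd H hτ hσ) ⟨g, hg⟩
  obtain rfl := hε ⟨_, mt (hτ _).1 h⟩
  exact ⟨τ, f, by rwa [← e, hq.card_uFix], e, hf, hle⟩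

end Cfsg.Agent.Cl.D5
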