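/-
Root groups generating the special unitary group.
-/
import Mathlib
import Cfsg.Agent.Cl.D5Base
import Cfsg.Agent.Cl.MaxSUSub
import Cfsg.Agent.Cl.MaxAschU
import Cfsg.Agent.Cl.MxU

set_option autoImplicit false
set_option linter.unusedSectionVars false

namespace Cfsg.Agent.Cl.D5

open Matrix Cfsg.Geo Cfsg.Agent.Cl.Max Cfsg.Agent.Cl.Mx
open scoped MatrixGroups

namespace TD

theorem core {F : Type*} [Field F] {σ : F →+* F} {V : Type*} [AddCommGroup V] [Module F V]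
    [FiniteDimensional F V] {B : V →ₗ[F] V →ₛₗ[σ] F} {q : ℕ} {M : Subgroup (V ≃ₗ[F] V)}
    (hB : IsHerm B) (hq : UField σ q) (hq2 : q ≠ 2) (hM : M ≤ UG B)
    (hirr : ∀ U : Submodule F V, (∀ g ∈ M, USmall B g → ∀ x ∈ U, g x ∈ U) → U = ⊥ ∨ U = ⊤)
    {z w r : V} (h : UHypPair B z w) (hz : UTv B M z) (hw : UTv B M w) (hr0 : B r r = 0)
    (hr : UTv B M r) (hne : B r w * B z r + B r z * B w r ≠ 0) : USG B ≤ M := by
  obtain ⟨θ, hθ0, hθ⟩ := hq.invol.exists_trace_zero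
  have hW := hB.disjoint_span_pair h.left h.right h.pair
  have hn := hB.finrank_span_pair h.left h.right h.pair
  set W := Submodule.span F {z, w}
  have m1 : z ∈ W := Submodule.subset_span (by simp)
  have m2 : w ∈ W := Submodule.subset_span (by simp)
  have hS : USub B M W := by
    refine hB.uSub_of_uEich hq hM hW m1 h.left hz (fun u hu h0 => ?_) m2 h.right hθ0
      (hw _ (by rw [hθ, add_neg_cancel])) (by rw [h.pair]; exact one_ne_zero)
    obtain ⟨s, t, rfl⟩ := Submodule.mem_span_pair.1 hu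
    have : t = 0 := by simpa [h.left, h.pair'] using h0
    rw [this, zero_smul, add_zero]
    exact hB.smul_self_mem_uYadd h.left s
  set w' := r - B r w • z - B r z • w with hw'
  have d1 : B w' z = 0 := by simp [hw', h.left, h.pair']
  have d2 : B w' w = 0 := by simp [hw', h.right, h.pair]
  have d3 : B w' w' ≠ 0 := by
    have : B w' w' = B w' r := by
      conv_lhs => rw [hw', map_sub, map_sub, map_smulₛₗ, map_smulₛₗ, ← hw', d1, d2]
      simp
    rw [this, hw']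
    simp only [map_sub, map_smul, LinearMap.sub_apply, LinearMap.smul_apply, smul_eq_mul, hr0]
    intro e
    exact hne (by linear_combination -e)
  have d4 : B r w • z + B r z • w + w' = r := by rw [hw']; module
  have hp : w' ∈ uPerp B W := mem_uPerp_span_pair.2 ⟨hB.eq_zero_symm d1, hB.eq_zero_symm d2⟩
  have h3 := hB.uSub_sup_singleton hq hM hW hn.ge (fun h => hq2 h.2) hS
    (W.add_mem (W.smul_mem (B r w) m1) (W.smul_mem (B r z) m2)) hp d3 (by rw [d4, hr0])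
    (by rw [d4]; exact hr)
  have hle : (F ∙ w') ≤ uPerp B W := (Submodule.span_singleton_le_iff_mem _ _).2 hp
  have h0 : w' ≠ 0 := fun e => d3 (by rw [e]; simp)
  refine hB.USG_le_of_USub hq hM hirr (hB.disjoint_sup hW ?_ hle) ?_ h3
  · rw [Submodule.disjoint_def]
    intro x hx hx'
    obtain ⟨c, rfl⟩ := Submodule.mem_span_singleton.1 hx
    have := hx' w' (Submodule.mem_span_singleton_self w')
    rw [map_smulₛₗ, smul_eq_mul, mul_eq_zero, _root_.map_eq_zero] at this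
    rw [this.resolve_right d3, zero_smul]
  · rw [hB.finrank_sup_of_perp hW hle, hn, finrank_span_singleton h0]

variable {F : Type*} [Field F] {ι : Type} [Fintype ι] [DecidableEq ι] {P : Subgroup (GL ι F)}
  {σ : F →+* F} {f : (ι → F) → (ι → F) → F}

/-- A transvection preserving a hermitian form. -/
theorem form_of_mt (hσ : UInvol σ) (hf : HForm σ 1 f) (hle : P ≤ isoG f) {v φ : ι → F} (hv : v ≠ 0)
    (hφ : φ ≠ 0) (h : MT P v φ) :
    f v v = 0 ∧ ∃ c : F, c ≠ 0 ∧ c + σ c = 0 ∧ ∀ x, φ ⬝ᵥ x = c * f x v := by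
  have hB := hf.isHerm hσ
  obtain ⟨h0, g, hg, e⟩ := h
  have key : ∀ x y, φ ⬝ᵥ x * hf.toB v y + σ (φ ⬝ᵥ y) * hf.toB x v +
      φ ⬝ᵥ x * σ (φ ⬝ᵥ y) * hf.toB v v = 0 := fun x y => by
    have : hf.toB _ _ = hf.toB x y := mem_isoG.1 (hle hg) x y
    rw [e, e] at this
    simp only [map_add, map_smul, map_smulₛₗ, LinearMap.add_apply, LinearMap.smul_apply,
      smul_eq_mul] at this
    linear_combination this
  obtain ⟨x₀, hx₀⟩ := exists_dot_ne_zero hφ
  have h1 : hf.toB v v = 0 := by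
    have := key x₀ v
    rw [h0, map_zero, zero_mul, mul_zero, zero_mul, add_zero, add_zero] at this
    exact (mul_eq_zero.1 this).resolve_left hx₀
  obtain ⟨y, hy⟩ := hB.exists_ne_zero hv
  have h2 : ∀ x, φ ⬝ᵥ x = -σ (φ ⬝ᵥ y) / hf.toB v y * hf.toB x v := fun x => by
    have := key x y
    rw [h1, mul_zero, add_zero] at this
    field_simp
    linear_combination this
  generalize -σ (φ ⬝ᵥ y) / hf.toB v y = c at h2
  refine ⟨h1, c, fun e => hx₀ (by rw [h2, e, zero_mul]), ?_, h2⟩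
  have := key y y
  rw [h1, mul_zero, add_zero, h2, map_mul, hB.symm] at this
  exact mul_right_cancel₀ (mul_ne_zero hy fun e => hy (hB.eq_zero_symm e))
    (by linear_combination this)

end TD

variable {F : Type*} [Field F] [Finite F] {ι : Type} [Fintype ι] [DecidableEq ι]
  {P : Subgroup (GL ι F)} {k : Subfield F} {T : (ι → F) → (ι → F) → Prop}

theorem su_of_triple (hP : QS P) {σ : F →+* F} {q : ℕ} (hq : UField σ q) (h3 : 3 ≤ q)
    {f : (ι → F) → (ι → F) → F} (hf : HForm σ 1 f) (hle : P ≤ isoG f)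
    {v₁ φ₁ v₂ φ₂ v₃ φ₃ : ι → F} (h₁ : TK P (uFix σ) v₁ φ₁) (h₂ : TK P (uFix σ) v₂ φ₂)
    (h₃ : TK P (uFix σ) v₃ φ₃) (h : cyc3 v₁ φ₁ v₂ φ₂ v₃ φ₃ ∉ uFix σ) : P = suG f := by
  have hB := hf.isHerm hq.invol
  let M := P.map (glEquiv ι F).toMonoidHom
  have hM : M ≤ UG hf.toB := by
    rintro _ ⟨g, hg, rfl⟩
    exact hle hg
  have hT : ∀ {v φ}, TK P (uFix σ) v φ → hf.toB v v = 0 ∧ UTv hf.toB M v ∧
      ∃ c : F, c ≠ 0 ∧ c + σ c = 0 ∧ ∀ x, φ ⬝ᵥ x = c * hf.toB x v := by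
    intro v φ hv
    obtain ⟨h0, c, hc0, hc, e⟩ := TD.form_of_mt hq.invol hf hle hv.1 hv.2.1 ((fam_TK _).mt _ _ hv)
    refine ⟨h0, fun d hd => ?_, c, hc0, hc, e⟩
    obtain ⟨-, g, hg, e'⟩ := hv.2.2 (d / c) (by
      rw [mem_uFix, map_div₀, eq_neg_of_add_eq_zero_right hc, eq_neg_of_add_eq_zero_right hd,
        neg_div_neg_eq])
    refine ⟨g, hg, LinearEquiv.ext fun a => ?_⟩
    rw [uRefl_apply_of_isotropic h0]
    refine (e' a).trans ?_
    rw [smul_dotProduct, smul_eq_mul, e, ← mul_assoc, div_mul_cancel₀ _ hc0]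
    rfl
  obtain ⟨a1, b1, c1, -, d1, e1⟩ := hT h₁
  obtain ⟨a2, b2, c2, -, d2, e2⟩ := hT h₂
  obtain ⟨a3, b3, c3, -, d3, e3⟩ := hT h₃
  have hne : hf.toB v₂ v₁ * hf.toB v₃ v₂ * hf.toB v₁ v₃ +
      hf.toB v₁ v₂ * hf.toB v₂ v₃ * hf.toB v₃ v₁ ≠ 0 := fun e => h (by
    rw [mem_uFix, cyc3, e1, e2, e3]
    simp only [map_mul, hB.symm, eq_neg_of_add_eq_zero_right d1, eq_neg_of_add_eq_zero_right d2,
      eq_neg_of_add_eq_zero_right d3]
    linear_combination -(c1 * c2 * c3) * e)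
  have h12 : hf.toB v₁ v₂ ≠ 0 := fun e => hne (by rw [e, hB.eq_zero_symm e]; ring)
  have h21 : hf.toB v₂ v₁ ≠ 0 := fun e => h12 (hB.eq_zero_symm e)
  have key := TD.core hB hq (by omega) hM (fun U hU => ?_) (hB.uHypPair_smul a1 a2 h12) b1
    (b2.smul hB _) a3 b3 (fun e => hne (by
      simp only [map_smul, map_smulₛₗ, LinearMap.smul_apply, smul_eq_mul, map_inv₀, hB.symm] at e
      field_simp at e
      linear_combination e))
  · refine le_antisymm (fun g hg => mem_suG.2 ⟨hle hg, (mem_specialLinear_iff g).1 (qs_le_sl hP hg)⟩)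
      fun g hg => ?_
    obtain ⟨g', hg', e'⟩ := key (x := glEquiv ι F g) ⟨hg.1, (glEquiv_mem_slAut g).2 (mem_suG.1 hg).2⟩
    rwa [← (glEquiv ι F).injective e']
  · refine (fam_TK _).bot_or_top hP h₁ U fun v φ hv x hx => ?_
    obtain ⟨-, -, c, -, -, e⟩ := hT hv
    obtain ⟨-, g, hg, e'⟩ := (fam_TK _).mt _ _ hv
    have := hU (glEquiv ι F g) ⟨g, hg, rfl⟩ ⟨v, v, fun y hy _ => by
      rw [glEquiv_apply, e', e, hy, mul_zero, zero_smul, add_zero]⟩ x hx
    rw [glEquiv_apply, e'] at this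
    simpa using U.sub_mem this hx

end Cfsg.Agent.Cl.D5
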