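import Mathlib
import Cfsg.Agent.Spor.Comp.Basic

/-! Vectors of `F₄ ^ 5` as numbers below `1024`: orbits under unitary transvections. -/

set_option autoImplicit false
set_option Elab.async false

namespace Cfsg.Agent.Cl.D5.TE

open Cfsg.Agent.Spor

/-- Multiplication table of the field with four elements. -/
def mu (a b : ℕ) : ℕ := (2625168384 >>> (2 * (4 * (a % 4) + b % 4))) % 4

/-- The table of `a * b ^ 2`. -/
def mc (a b : ℕ) : ℕ := (1826141184 >>> (2 * (4 * (a % 4) + b % 4))) % 4

/-- The standard hermitian form. -/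
def fm (x y : ℕ) : ℕ :=
  mc x y ^^^ mc (x / 4) (y / 4) ^^^ mc (x / 16) (y / 16) ^^^ mc (x / 64) (y / 64) ^^^
    mc (x / 256) (y / 256)

/-- Scalar multiples. -/
def sm (c x : ℕ) : ℕ :=
  mu c x + 4 * mu c (x / 4) + 16 * mu c (x / 16) + 64 * mu c (x / 64) + 256 * mu c (x / 256)

/-- The transvection with centre `y`, applied to `x`. -/
noncomputable def mv (x y : ℕ) : ℕ := force (fm x y) fun c => x ^^^ sm c y

/-- Insert the non-zero multiples of `x`. -/
def ins (m x : ℕ) : ℕ := m ||| 2 ^ x ||| 2 ^ sm 2 x ||| 2 ^ sm 3 x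

noncomputable def mask (S : List ℕ) : ℕ := List.rec 0 (fun x _ m => ins m x) S

/-- The isotropic points. -/
def pts : List ℕ := [5, 6, 7, 17, 18, 19, 20, 24, 28, 65, 66, 67, 68, 72, 76, 80, 85, 86, 87, 89,
  90, 91, 93, 94, 95, 96, 101, 102, 103, 105, 106, 107, 109, 110, 111, 112, 117, 118, 119, 121, 122,
  123, 125, 126, 127, 257, 258, 259, 260, 264, 268, 272, 277, 278, 279, 281, 282, 283, 285, 286,
  287, 288, 293, 294, 295, 297, 298, 299, 301, 302, 303, 304, 309, 310, 311, 313, 314, 315, 317,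
  318, 319, 320, 325, 326, 327, 329, 330, 331, 333, 334, 335, 337, 338, 339, 340, 344, 348, 353,
  354, 355, 356, 360, 364, 369, 370, 371, 372, 376, 380, 384, 389, 390, 391, 393, 394, 395, 397,
  398, 399, 401, 402, 403, 404, 408, 412, 417, 418, 419, 420, 424, 428, 433, 434, 435, 436, 440,
  444, 448, 453, 454, 455, 457, 458, 459, 461, 462, 463, 465, 466, 467, 468, 472, 476, 481, 482,
  483, 484, 488, 492, 497, 498, 499, 500, 504, 508]

/-- One pass through the list `L`. -/
noncomputable def rnd (G L : List ℕ) : ℕ → ℕ :=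
  List.rec (fun m => m) (fun x _ ih m =>
    force (bif !m.testBit x && G.any fun g => m.testBit (mv x g) then ins m x else m) ih) L

noncomputable def grow (G L S : List ℕ) (k : ℕ) : ℕ :=
  Nat.rec (mask S) (fun _ m => force m (rnd G L)) k

theorem grow_succ (G L S : List ℕ) (k : ℕ) : grow G L S (k + 1) = rnd G L (grow G L S k) :=
  force_eq _ _

theorem rnd_cons (G L : List ℕ) (x m : ℕ) : rnd G (x :: L) m =
    rnd G L (bif !m.testBit x && G.any fun g => m.testBit (mv x g) then ins m x else m) :=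
  force_eq _ _

noncomputable def finB (G : List ℕ) : Bool := force (grow G pts G 5) fun m => pts.all m.testBit

noncomputable def nodB (G : List ℕ) (a b : ℕ) (R : List ℕ) : Bool :=
  (fm a 256 == 1 || fm a a == 1) && (fm b 256 == 1 || fm b b == 1) &&
    force (grow G pts R 5) fun m => pts.all fun x => fm x a == 0 || fm x b == 0 || m.testBit x

noncomputable def frmB (G fr R : List ℕ) (x y₁ y₂ v : ℕ) : Bool :=
  G.contains x && G.contains y₁ && G.contains y₂ && fr.contains 256 &&
  (fr.all fun e => (mask [e]).testBit (mv (mv e (mv y₁ y₂)) x)) &&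
  mv (mv 256 (mv y₁ y₂)) x == 256 && fm (mv (mv v (mv y₁ y₂)) x) v == 2 && fm v v == 1 &&
  force (grow G pts R 5) fun m => force (mask fr) fun k =>
    pts.all fun x => m.testBit x || fr.all fun e => k.testBit (mv e x)

theorem cover_chk : (force (mask pts) fun m => allLt 32 fun i => allLt 32 fun j =>
    fm (32 * i + j) (32 * i + j) != 0 || 32 * i + j == 0 || m.testBit (32 * i + j)) = true := by
  decide +kernel

theorem nod_chk : nodB [5, 11, 24] 64 1 [65, 85, 86, 87, 325, 389, 453] = true ∧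
    nodB [65, 5, 11, 24] 256 256 [257, 277] = true ∧
    nodB [85, 5, 11, 24] 256 256 [257, 277] = true ∧
    nodB [86, 5, 11, 24] 256 256 [257, 278] = true ∧
    nodB [87, 5, 11, 24] 256 256 [257, 279] = true ∧
    nodB [325, 5, 11, 24] 320 320 [65] = true ∧
    nodB [389, 5, 11, 24] 384 384 [65] = true ∧
    nodB [453, 5, 11, 24] 448 448 [65] = true := by
  decide +kernel

theorem frm_chk : frmB [257, 65, 5, 11, 24] [1, 4, 16, 64, 256] [85] 5 5 11 1 = true ∧
    frmB [277, 85, 5, 11, 24] [21, 27, 30, 64, 256] [65] 11 11 24 21 = true ∧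
    frmB [278, 86, 5, 11, 24] [22, 25, 31, 64, 256] [65] 24 5 11 22 = true ∧
    frmB [279, 87, 5, 11, 24] [23, 26, 29, 64, 256] [65] 5 5 24 23 = true := by
  decide +kernel

theorem fin_chk : finB [85, 257, 65, 5, 11, 24] = true ∧ finB [277, 65, 5, 11, 24] = true ∧
    finB [257, 85, 5, 11, 24] = true ∧ finB [65, 277, 85, 5, 11, 24] = true ∧
    finB [257, 86, 5, 11, 24] = true ∧ finB [65, 278, 86, 5, 11, 24] = true ∧
    finB [257, 87, 5, 11, 24] = true ∧ finB [65, 279, 87, 5, 11, 24] = true ∧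
    finB [65, 325, 5, 11, 24] = true ∧ finB [65, 389, 5, 11, 24] = true ∧
    finB [65, 453, 5, 11, 24] = true := by
  decide +kernel

theorem fm_chk : fm 256 256 = 1 ∧ fm 5 5 = 0 ∧ fm 11 11 = 0 ∧ fm 24 24 = 0 ∧ fm 5 11 = 1 ∧
    fm 11 24 = 1 ∧ fm 24 5 = 2 := by
  decide +kernel

end Cfsg.Agent.Cl.D5.TE
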