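import Mathlib
import Cfsg.Agent.Cl.D5Base
import Cfsg.Agent.Cl.D5TEa

/-! Irreducible subgroups of `SU₅(2)` generated by transvections. -/

set_option autoImplicit false
set_option linter.unusedSectionVars false

namespace Cfsg.Agent.Cl.D5

open Matrix Cfsg.Geo Cfsg.Agent.Cl.Max Cfsg.Agent.Cl.Mx
open scoped MatrixGroups

variable {F : Type*} [Field F] [Fintype F] {P : Subgroup (GL (Fin 5) F)}

namespace TE

open Cfsg.Agent.Spor

attribute [local irreducible] pts

theorem force_eq' {α : Type} (n : ℕ) (k : ℕ → α) : force n k = k n := by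
  cases n <;> exact force_eq _ _

/-- The field element with a given code. -/
def val (w : F) (n : ℕ) : F := (if n.testBit 0 then 1 else 0) + if n.testBit 1 then w else 0

/-- The vector with a given code. -/
def vec (w : F) (E : Fin 5 → Fin 5 → F) (n : ℕ) : Fin 5 → F :=
  val w n • E 0 + val w (n / 4) • E 1 + val w (n / 16) • E 2 + val w (n / 64) • E 3 +
    val w (n / 256) • E 4

theorem val_mod (w : F) (n : ℕ) : val w (n % 4) = val w n := by
  simp only [val, show 4 = 2 ^ 2 from rfl, Nat.testBit_mod_two_pow]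
  simp

theorem val_congr (w : F) {m n : ℕ} (h : m % 4 = n % 4) : val w m = val w n := by
  rw [← val_mod, h, val_mod]

theorem val0 (w : F) : val w 0 = 0 := by simp [val]
theorem val1 (w : F) : val w 1 = 1 := by
  simp [val, show Nat.testBit 1 1 = false from rfl]
theorem val2 (w : F) : val w 2 = w := by
  simp [val, show Nat.testBit 2 1 = true from rfl, show Nat.testBit 2 0 = false from rfl]
theorem val3 (w : F) : val w 3 = 1 + w := by
  simp [val, show Nat.testBit 3 1 = true from rfl, show Nat.testBit 3 0 = true from rfl]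

/-- The transvection with centre `z` lies in `P`. -/
def Om (P : Subgroup (GL (Fin 5) F)) (f : (Fin 5 → F) → (Fin 5 → F) → F) (z : Fin 5 → F) : Prop :=
  f z z = 0 ∧ ∃ g ∈ P, ∀ x, (g : Matrix (Fin 5) (Fin 5) F) *ᵥ x = x + f x z • z

/-- An orthonormal basis. -/
structure Fr (σ : F →+* F) (f : (Fin 5 → F) → (Fin 5 → F) → F) (w : F) (E : Fin 5 → Fin 5 → F) :
    Prop where
  hq : UField σ 2
  hf : HForm σ 1 f
  hw : w * w = w + 1
  orth : ∀ i j, f (E i) (E j) = if i = j then 1 else 0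
  span : ∀ z, ∃ c : Fin 5 → F, z = ∑ i, c i • E i

variable {σ : F →+* F} {f : (Fin 5 → F) → (Fin 5 → F) → F} {w : F} {E : Fin 5 → Fin 5 → F}

theorem pow_four (hq : UField σ 2) (a : F) : a ^ 4 = a := by
  have := hq.invol.invol a
  rwa [hq.pow, hq.pow, ← pow_mul] at this

theorem val_xor (h2 : (2 : F) = 0) (a b : ℕ) : val w (a ^^^ b) = val w a + val w b := by
  simp only [val, Nat.testBit_xor]
  cases a.testBit 0 <;> cases a.testBit 1 <;> cases b.testBit 0 <;> cases b.testBit 1 <;>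
    simp <;> grind

theorem vec_xor (h2 : (2 : F) = 0) (a b : ℕ) : vec w E (a ^^^ b) = vec w E a + vec w E b := by
  have e : ∀ k : ℕ, (a ^^^ b) / 2 ^ k = a / 2 ^ k ^^^ b / 2 ^ k := fun k => Nat.xor_div_two_pow
  have e1 := e 2
  have e2 := e 4
  have e3 := e 6
  have e4 := e 8
  norm_num at e1 e2 e3 e4
  simp only [vec, e1, e2, e3, e4, val_xor h2]
  module

namespace Fr

variable (h : Fr σ f w E)
include h

theorem two : (2 : F) = 0 := two_eq_zero_of_two h.hq

theorem w0 : w ≠ 0 := fun e => by simpa [e] using h.hw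

theorem w1 : 1 + w ≠ 0 := fun e => h.w0 (mul_self_eq_zero.1 (by rw [h.hw, add_comm, e]))

theorem val_mu (a b : ℕ) : val w (mu a b) = val w a * val w b := by
  have h2 := h.two
  have hw := h.hw
  rw [← val_mod w a, ← val_mod w b, mu]
  have ha : a % 4 < 4 := Nat.mod_lt _ (by norm_num)
  have hb : b % 4 < 4 := Nat.mod_lt _ (by norm_num)
  generalize a % 4 = a at ha ⊢
  generalize b % 4 = b at hb ⊢
  interval_cases a <;> interval_cases b <;>
    simp only [Nat.reduceMul, Nat.reduceAdd, Nat.reduceShiftRight, Nat.reduceMod] <;>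
    simp only [val0, val1, val2, val3] <;> grind

theorem val_mc (a b : ℕ) : val w (mc a b) = val w a * σ (val w b) := by
  have h2 := h.two
  have hw := h.hw
  rw [← val_mod w a, ← val_mod w b, mc, h.hq.pow]
  have ha : a % 4 < 4 := Nat.mod_lt _ (by norm_num)
  have hb : b % 4 < 4 := Nat.mod_lt _ (by norm_num)
  generalize a % 4 = a at ha ⊢
  generalize b % 4 = b at hb ⊢
  interval_cases a <;> interval_cases b <;>
    simp only [Nat.reduceMul, Nat.reduceAdd, Nat.reduceShiftRight, Nat.reduceMod] <;>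
    simp only [val0, val1, val2, val3] <;> grind

theorem f_vec (a b : ℕ) : f (vec w E a) (vec w E b) = val w (fm a b) := by
  simp only [vec, fm, val_xor h.two, h.val_mc, h.hf.add_left, h.hf.add_right, h.hf.smul_left,
    h.hf.smul_right, h.orth]
  simp [mul_comm]

theorem vec_sm (c x : ℕ) : vec w E (sm c x) = val w c • vec w E x := by
  have l : ∀ y, mu c y < 4 := fun y => Nat.mod_lt _ (by norm_num)
  have l0 := l x
  have l1 := l (x / 4)
  have l2 := l (x / 16)
  have l3 := l (x / 64)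
  have l4 := l (x / 256)
  rw [vec, val_congr w (show sm c x % 4 = mu c x % 4 by unfold sm; omega),
    val_congr w (show sm c x / 4 % 4 = mu c (x / 4) % 4 by unfold sm; omega),
    val_congr w (show sm c x / 16 % 4 = mu c (x / 16) % 4 by unfold sm; omega),
    val_congr w (show sm c x / 64 % 4 = mu c (x / 64) % 4 by unfold sm; omega),
    val_congr w (show sm c x / 256 % 4 = mu c (x / 256) % 4 by unfold sm; omega)]
  simp only [h.val_mu, vec]
  module

theorem vec_mv (x y : ℕ) :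
    vec w E (mv x y) = vec w E x + f (vec w E x) (vec w E y) • vec w E y := by
  rw [mv, force_eq, vec_xor h.two, h.vec_sm, h.f_vec]

theorem exists_val (a : F) : ∃ k < 4, val w k = a := by
  have h2 := h.two
  have hw := h.hw
  have h4 := pow_four h.hq a
  have : a * ((a - 1) * ((a - w) * (a - (1 + w)))) = 0 := by grind
  simp only [mul_eq_zero, sub_eq_zero] at this
  rcases this with e | e | e | e
  exacts [⟨0, by norm_num, by rw [val0, e]⟩, ⟨1, by norm_num, by rw [val1, e]⟩,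
    ⟨2, by norm_num, by rw [val2, e]⟩, ⟨3, by norm_num, by rw [val3, e]⟩]

theorem exists_vec (z : Fin 5 → F) : ∃ n < 1024, vec w E n = z := by
  obtain ⟨c, rfl⟩ := h.span z
  choose k hk e using fun i => h.exists_val (c i)
  have l0 := hk 0
  have l1 := hk 1
  have l2 := hk 2
  have l3 := hk 3
  have l4 := hk 4
  refine ⟨k 0 + 4 * k 1 + 16 * k 2 + 64 * k 3 + 256 * k 4, by omega, ?_⟩
  generalize hn : k 0 + 4 * k 1 + 16 * k 2 + 64 * k 3 + 256 * k 4 = n
  rw [vec, val_congr w (m := n) (n := k 0) (by omega), val_congr w (m := n / 4) (n := k 1) (by omega),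
    val_congr w (m := n / 16) (n := k 2) (by omega), val_congr w (m := n / 64) (n := k 3) (by omega),
    val_congr w (m := n / 256) (n := k 4) (by omega)]
  simp only [e, Fin.sum_univ_five]

theorem ne_zero {a s : ℕ} (e : fm a s = 1) : vec w E a ≠ 0 := fun h0 => by
  have := h.f_vec a s
  rw [h0, h.hf.zero_left, e, val1] at this
  exact zero_ne_one this

theorem good_ins {Q : (Fin 5 → F) → Prop} (hs : ∀ z (c : F), c ≠ 0 → Q z → Q (c • z)) {m x : ℕ}
    (hm : ∀ n, m.testBit n = true → Q (vec w E n)) (hx : Q (vec w E x)) :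
    ∀ n, (ins m x).testBit n = true → Q (vec w E n) := fun n hn => by
  simp only [ins, Nat.testBit_or, Nat.testBit_two_pow, Bool.or_eq_true, decide_eq_true_eq] at hn
  rcases hn with ((hn | rfl) | rfl) | rfl
  · exact hm n hn
  · exact hx
  · rw [h.vec_sm, val2]; exact hs _ _ h.w0 hx
  · rw [h.vec_sm, val3]; exact hs _ _ h.w1 hx

theorem good_mask {Q : (Fin 5 → F) → Prop} (hs : ∀ z (c : F), c ≠ 0 → Q z → Q (c • z)) {S : List ℕ}
    (hS : ∀ x ∈ S, Q (vec w E x)) : ∀ n, (mask S).testBit n = true → Q (vec w E n) := by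
  induction S with
  | nil => intro n hn; simp [mask] at hn
  | cons x S ih =>
    exact h.good_ins hs (ih fun y hy => hS y (List.mem_cons_of_mem _ hy)) (hS x List.mem_cons_self)

theorem good_grow {Q : (Fin 5 → F) → Prop} (hs : ∀ z (c : F), c ≠ 0 → Q z → Q (c • z))
    (hm : ∀ z y, Om P f y → Q (z + f z y • y) → Q z) {G S : List ℕ}
    (hG : ∀ x ∈ G, Om P f (vec w E x)) (hS : ∀ x ∈ S, Q (vec w E x)) (L : List ℕ) (k : ℕ) :
    ∀ n, (grow G L S k).testBit n = true → Q (vec w E n) := by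
  have h1 : ∀ (L : List ℕ) (m : ℕ), (∀ n, m.testBit n = true → Q (vec w E n)) →
      ∀ n, (rnd G L m).testBit n = true → Q (vec w E n) := fun L => by
    induction L with
    | nil => exact fun m h => h
    | cons x L ih =>
      intro m h0
      rw [rnd_cons]
      refine ih _ ?_
      cases e : !m.testBit x && G.any fun g => m.testBit (mv x g)
      · exact h0
      · simp only [Bool.and_eq_true, List.any_eq_true] at e
        obtain ⟨-, g, hg, e⟩ := e
        exact h.good_ins hs h0 (hm _ _ (hG g hg) (h.vec_mv x g ▸ h0 _ e))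
  induction k with
  | zero => exact h.good_mask hs hS
  | succ k ih => rw [grow_succ]; exact h1 L _ ih

theorem cover {z : Fin 5 → F} (h0 : z ≠ 0) (hz : f z z = 0) :
    ∃ x ∈ pts, ∃ c : F, c ≠ 0 ∧ z = c • vec w E x := by
  obtain ⟨n, hn, rfl⟩ := h.exists_vec z
  have h1 := cover_chk
  rw [force_eq, allLt_iff] at h1
  have h3 := (allLt_iff _ _).1 (h1 (n / 32) (by omega)) (n % 32) (by omega)
  rw [Nat.div_add_mod] at h3
  simp only [Bool.or_eq_true, bne_iff_ne, beq_iff_eq] at h3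
  rcases h3 with (e | rfl) | e
  · exfalso
    rw [h.f_vec] at hz
    have l : ∀ a b, mc a b < 2 ^ 2 := fun a b => Nat.mod_lt _ (by norm_num)
    have h4 : fm n n < 2 ^ 2 := Nat.xor_lt_two_pow (Nat.xor_lt_two_pow (Nat.xor_lt_two_pow
      (Nat.xor_lt_two_pow (l _ _) (l _ _)) (l _ _)) (l _ _)) (l _ _)
    generalize fm n n = k at hz e h4
    interval_cases k
    exacts [e rfl, one_ne_zero (val1 w ▸ hz), h.w0 (val2 w ▸ hz), h.w1 (val3 w ▸ hz)]
  · exact absurd (by simp [vec, val0]) h0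
  · refine h.good_mask (Q := fun z => ∃ x ∈ pts, ∃ c : F, c ≠ 0 ∧ z = c • vec w E x) ?_
      (fun x hx => ⟨x, hx, 1, one_ne_zero, (one_smul _ _).symm⟩) n e
    rintro _ c hc ⟨x, hx, d, hd, rfl⟩
    exact ⟨x, hx, c * d, mul_ne_zero hc hd, smul_smul _ _ _⟩

end Fr

theorem Om.smul (hq : UField σ 2) (hf : HForm σ 1 f) {z : Fin 5 → F} (hz : Om P f z) (c : F) :
    Om P f (c • z) := by
  refine ⟨by rw [hf.smul_left, hf.smul_right, hz.1, mul_zero, mul_zero], ?_⟩
  by_cases hc : c = 0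
  · exact ⟨1, P.one_mem, fun x => by simp [hc]⟩
  · obtain ⟨g, hg, e⟩ := hz.2
    refine ⟨g, hg, fun x => ?_⟩
    rw [e, hf.smul_right, smul_smul, mul_right_comm, mul_comm (σ c), norm_eq_one_of_two hq hc,
      one_mul]

theorem Om.map (hle : P ≤ isoG f) {z : Fin 5 → F} (hz : Om P f z) {g : GL (Fin 5) F} (hg : g ∈ P) :
    Om P f ((g : Matrix (Fin 5) (Fin 5) F) *ᵥ z) := by
  obtain ⟨h0, k, hk, e⟩ := hz
  refine ⟨by rw [mem_isoG.1 (hle hg), h0], g * k * g⁻¹, mul_mem (mul_mem hg hk) (inv_mem hg),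
    fun x => ?_⟩
  rw [mul_mulVec, mul_mulVec, e, mulVec_add, mulVec_smul, mulVec_inv_mulVec,
    ← mem_isoG.1 (hle hg), mulVec_inv_mulVec]

theorem Om.mv (hle : P ≤ isoG f) {z y : Fin 5 → F} (hz : Om P f z) (hy : Om P f y) :
    Om P f (z + f z y • y) := by
  obtain ⟨-, g, hg, e⟩ := hy
  exact e z ▸ hz.map hle hg

theorem Om.mv' (hle : P ≤ isoG f) (z y : Fin 5 → F) (hy : Om P f y) (hz : Om P f (z + f z y • y)) :
    Om P f z := by
  obtain ⟨-, g, hg, e⟩ := hy
  have := hz.map hle (inv_mem hg)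
  rwa [← e, inv_mulVec_mulVec] at this

theorem of_ta (hq : UField σ 2) (hf : HForm σ 1 f) (hle : P ≤ isoG f) {v φ : Fin 5 → F}
    (h : TA P v φ) : Om P f v ∧ ∀ x, φ ⬝ᵥ x = f x v := by
  obtain ⟨hv, hφ, h0, g, hg, e⟩ := h
  have h2 := two_eq_zero_of_two hq
  have key : ∀ x y, φ ⬝ᵥ x * f v y + σ (φ ⬝ᵥ y) * f x v + φ ⬝ᵥ x * σ (φ ⬝ᵥ y) * f v v = 0 :=
    fun x y => by
      have := mem_isoG.1 (hle hg) x y
      simp only [e, hf.add_left, hf.add_right, hf.smul_left, hf.smul_right] at this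
      linear_combination this
  obtain ⟨y, hy⟩ := exists_dot_ne_zero hφ
  have h1 : f v v = 0 := by
    have := key y v
    simpa [h0, hy] using this
  have hy' : σ (φ ⬝ᵥ y) ≠ 0 := (_root_.map_ne_zero σ).2 hy
  have h3 : f v y ≠ 0 := fun h3 => hv (hf.nondeg v fun x => by simpa [h3, h1, hy'] using key x y)
  have h4 : φ ⬝ᵥ y = f y v := by
    have k := key y y
    have a1 := norm_eq_one_of_two hq hy
    have a2 := norm_eq_one_of_two hq h3
    rw [h1, hf.herm y v, one_mul] at k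
    rw [hf.herm y v, one_mul]
    simp only [hq.pow] at k a1 a2 ⊢
    generalize φ ⬝ᵥ y = a at *
    generalize f v y = b at *
    have a3 : a * b * (a * b - 1) = 0 := by grind
    have a4 : a * b = 1 := sub_eq_zero.1 ((mul_eq_zero.1 a3).resolve_left (mul_ne_zero hy h3))
    grind
  have h5 : ∀ x, φ ⬝ᵥ x = f x v := fun x => by
    have k := key x y
    rw [h4, hf.herm y v, one_mul, hf.invol, h1] at k
    refine mul_left_cancel₀ h3 ?_
    linear_combination k - f v y * f x v * h2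
  exact ⟨⟨h1, g, hg, fun x => by rw [e, h5]⟩, h5⟩

theorem exists_om (hP : QS P) (hq : UField σ 2) (hf : HForm σ 1 f) (hle : P ≤ isoG f)
    {v φ a b : Fin 5 → F} (h : TA P v φ) (ha : a ≠ 0) (hb : b ≠ 0) :
    ∃ z, Om P f z ∧ f z a ≠ 0 ∧ f z b ≠ 0 := by
  have e : ∀ x, (gramMatrix f *ᵥ (σ ∘ a)) ⬝ᵥ x = f x a := fun x => by
    rw [hf.eq_gram, dotProduct_comm]
  obtain ⟨z, ψ, h1, h2, h3⟩ := fam_TA.exists_pair hP h (χ := gramMatrix f *ᵥ (σ ∘ a))
    (fun h0 => ha (hf.nondeg a fun x => by rw [← e, h0, zero_dotProduct])) hb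
  obtain ⟨h4, h5⟩ := of_ta hq hf hle h1
  exact ⟨z, h4, e z ▸ h2, fun h0 => h3 (by rw [h5, hf.eq_zero_symm h0])⟩

/-- All unitary transvections lie in `P`. -/
def All (P : Subgroup (GL (Fin 5) F)) (f : (Fin 5 → F) → (Fin 5 → F) → F) : Prop :=
  ∀ z, f z z = 0 → Om P f z

namespace Fr

variable (h : Fr σ f w E) (hle : P ≤ isoG f) {G R : List ℕ} (hG : ∀ x ∈ G, Om P f (vec w E x))
include h hle hG

theorem fin (e : finB G = true) : All P f := fun z hz => by
  by_cases h0 : z = 0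
  · exact ⟨hz, 1, P.one_mem, fun x => by simp [h0]⟩
  obtain ⟨x, hx, c, -, rfl⟩ := h.cover h0 hz
  rw [finB, force_eq, List.all_eq_true] at e
  exact (h.good_grow (fun z c _ hz => hz.smul h.hq h.hf c) (Om.mv' hle) hG hG _ _ x (e x hx)).smul
    h.hq h.hf c

theorem back (hR : ∀ r ∈ R, (∀ x ∈ r :: G, Om P f (vec w E x)) → All P f) {x : ℕ}
    (e : (grow G pts R 5).testBit x = true) (hx : Om P f (vec w E x)) : All P f :=
  h.good_grow (Q := fun z => Om P f z → All P f)
    (fun z c hc hz h1 => hz (by simpa [hc] using h1.smul h.hq h.hf c⁻¹))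
    (fun z y hy hz h1 => hz (h1.mv hle hy)) hG
    (fun r hr h1 => hR r hr (List.forall_mem_cons.2 ⟨h1, hG⟩)) _ _ x e hx

theorem nod (hP : QS P) {v φ : Fin 5 → F} (hv : TA P v φ) {a b : ℕ} (e : nodB G a b R = true)
    (hR : ∀ r ∈ R, (∀ x ∈ r :: G, Om P f (vec w E x)) → All P f) : All P f := by
  simp only [nodB, force_eq', Bool.and_eq_true, Bool.or_eq_true, beq_iff_eq, List.all_eq_true] at e
  obtain ⟨⟨ha, hb⟩, e⟩ := e
  obtain ⟨z, h1, h2, h3⟩ := exists_om hP h.hq h.hf hle hv (ha.elim h.ne_zero h.ne_zero)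
    (hb.elim h.ne_zero h.ne_zero)
  obtain ⟨x, hx, c, hc, rfl⟩ := h.cover (fun h0 => h2 (by rw [h0, h.hf.zero_left])) h1.1
  rw [h.hf.smul_left, h.f_vec] at h2 h3
  rcases e x hx with (e | e) | e
  · simp [e, val0] at h2
  · simp [e, val0] at h3
  · exact h.back hle hG hR e (by simpa [hc] using h1.smul h.hq h.hf c⁻¹)

theorem frm (hP : QS P) {v φ : Fin 5 → F} (hv : TA P v φ) {fr : List ℕ} {x y₁ y₂ u : ℕ}
    (e : frmB G fr R x y₁ y₂ u = true)
    (hR : ∀ r ∈ R, (∀ x ∈ r :: G, Om P f (vec w E x)) → All P f) : All P f := by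
  by_contra hn
  simp only [frmB, force_eq', Bool.and_eq_true, Bool.or_eq_true, beq_iff_eq, List.all_eq_true,
    List.contains_iff_mem] at e
  obtain ⟨⟨⟨⟨⟨⟨⟨⟨m1, m2⟩, m3⟩, m4⟩, e1⟩, e2⟩, e3⟩, e4⟩, e⟩ := e
  have ln : ∀ S : List ℕ, ∀ n, (mask S).testBit n = true → ∃ s ∈ S, ∃ c : F, vec w E n = c • vec w E s :=
    fun S => h.good_mask (Q := fun z => ∃ s ∈ S, ∃ c : F, z = c • vec w E s)
      (by rintro _ c - ⟨x, hx, d, rfl⟩; exact ⟨x, hx, c * d, smul_smul _ _ _⟩)
      fun x hx => ⟨x, hx, 1, (one_smul _ _).symm⟩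
  let M : Submonoid (GL (Fin 5) F) :=
    { carrier := {g | ∀ s ∈ fr, ∃ t ∈ fr, ∃ c : F,
        (g : Matrix (Fin 5) (Fin 5) F) *ᵥ vec w E s = c • vec w E t}
      one_mem' := fun s hs => ⟨s, hs, 1, by simp⟩
      mul_mem' := fun ha hb s hs => by
        obtain ⟨t, ht, c, e1⟩ := hb s hs
        obtain ⟨r, hr, d, e2⟩ := ha t ht
        exact ⟨r, hr, c * d, by rw [mul_mulVec, e1, mulVec_smul, e2, smul_smul]⟩ }
  let M' : Subgroup (GL (Fin 5) F) :=
    { M with
      inv_mem' := fun {g} hg => (Submonoid.powers_le (P := M)).2 hg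
        (mem_powers_iff_mem_zpowers.2 (inv_mem (Subgroup.mem_zpowers g))) }
  have hM : P ≤ M' := fam_TA.le hP hv fun z ψ hz g hg s hs => by
    obtain ⟨h1, h2⟩ := of_ta h.hq h.hf hle hz
    obtain ⟨y, hy, c, hc, rfl⟩ := h.cover hz.1 h1.1
    refine ln fr _ ((e y hy).resolve_left (fun e => hn (h.back hle hG hR e
      (by simpa [hc] using h1.smul h.hq h.hf c⁻¹))) s hs) |>.imp fun t ht => ⟨ht.1, ht.2.imp fun d hd => ?_⟩
    rw [← hd, h.vec_mv, hg, h2, h.hf.smul_right, smul_smul, mul_right_comm, mul_comm (σ c),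
      norm_eq_one_of_two h.hq hc, one_mul]
  let D : {s // s ∈ fr} → Submodule F (Fin 5 → F) := fun s => F ∙ vec w E s
  have hB : NormsG P (fixAll D) := fun g hg b hb => mem_fixAll.2 fun s z hz => by
    obtain ⟨c, rfl⟩ := Submodule.mem_span_singleton.1 hz
    obtain ⟨t, ht, d, e1⟩ := hM (inv_mem hg) s s.2
    obtain ⟨r, e2⟩ := Submodule.mem_span_singleton.1
      (mem_fixAll.1 hb ⟨t, ht⟩ _ (Submodule.mem_span_singleton_self _))
    rw [mul_mulVec, mul_mulVec, mulVec_smul, mulVec_smul, mulVec_smul, e1, mulVec_smul, ← e2,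
      smul_comm d, ← e1, mulVec_smul, mulVec_inv_mulVec]
    exact Submodule.smul_mem _ _ (Submodule.smul_mem _ _ (Submodule.mem_span_singleton_self _))
  obtain ⟨-, g, hg, a1⟩ := hG x m1
  obtain ⟨-, k, hk, a2⟩ := (hG y₁ m2).mv hle (hG y₂ m3)
  have a3 : ∀ s, ((g * k : GL (Fin 5) F) : Matrix (Fin 5) (Fin 5) F) *ᵥ vec w E s =
      vec w E (mv (mv s (mv y₁ y₂)) x) := fun s => by
    rw [mul_mulVec, a2, a1, h.vec_mv, h.vec_mv, h.vec_mv]
  have h0 : vec w E 256 ≠ 0 := h.ne_zero fm_chk.1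
  have h1 := hP.le_of_norm hB (a := g * k) (mem_fixAll.2 fun s z hz => by
      obtain ⟨c, rfl⟩ := Submodule.mem_span_singleton.1 hz
      obtain ⟨t, ht, d, e5⟩ := ln [s] _ (e1 s s.2)
      rw [mulVec_smul, a3, e5, List.mem_singleton.1 ht]
      exact Submodule.smul_mem _ _ (Submodule.smul_mem _ _ (Submodule.mem_span_singleton_self _)))
    (fun y hy => mul_mem (mul_mem (mul_mem hg hk) hy) (inv_mem (mul_mem hg hk)))
    (notMem_scalars_of_fix (v := vec w E u) h0 (by rw [a3, e2]) fun e5 => by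
      have := h.f_vec (mv (mv u (mv y₁ y₂)) x) u
      rw [← a3, e5, h.f_vec, e3, e4, val1, val2] at this
      have hw := h.hw
      rw [← this] at hw
      simp at hw)
  refine hP.not_le_stab (W := D ⟨256, m4⟩) (by simpa [D] using h0) (fun e5 => ?_) fun y hy =>
    mem_subspaceStabilizer_of_maps (mem_fixAll.1 (h1 hy) _)
  have := finrank_span_singleton (K := F) h0
  rw [show (F ∙ vec w E 256) = ⊤ from e5] at this
  simp at this

end Fr

theorem li (hf : HForm σ 1 f) (hq : UField σ 2) (hw : w * w = w + 1) {a b c : Fin 5 → F}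
    (h1 : f a a = 0) (h2 : f b b = 0) (h3 : f c c = 0) (h4 : f a b = 1) (h5 : f b c = 1)
    (h6 : f c a = w) : LinearIndependent F ![a, b, c] ∧ ∀ i j, f (![a, b, c] i) (![a, b, c] j) =
      !![0, 1, σ w; 1, 0, 1; w, 1, 0] i j := by
  have h7 : f b a = 1 := by rw [hf.herm, h4, map_one, one_mul]
  have h8 : f c b = 1 := by rw [hf.herm, h5, map_one, one_mul]
  have h9 : f a c = σ w := by rw [hf.herm, h6, one_mul]
  refine ⟨Fintype.linearIndependent_iff.2 fun g hg => ?_, fun i j => by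
    fin_cases i <;> fin_cases j <;> simp [*]⟩
  have e1 := congrArg (f · a) hg
  have e2 := congrArg (f · b) hg
  have e3 := congrArg (f · c) hg
  have two := two_eq_zero_of_two hq
  simp only [Fin.sum_univ_three, hf.add_left, hf.smul_left, hf.zero_left, cons_val_zero,
    cons_val_one, cons_val, h1, h2, h3, h4, h5, h6, h7, h8, h9, hq.pow] at e1 e2 e3
  have g0 : g 0 = 0 := by grind
  have g1 : g 1 = 0 := by grind
  have g2 : g 2 = 0 := by grind
  intro i
  fin_cases i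
  exacts [g0, g1, g2]

theorem exists_fr (hf : HForm σ 1 f) (hq : UField σ 2) (hw : w * w = w + 1) {a b c : Fin 5 → F}
    (h1 : f a a = 0) (h2 : f b b = 0) (h3 : f c c = 0) (h4 : f a b = 1) (h5 : f b c = 1)
    (h6 : f c a = w) : ∃ E, Fr σ f w E ∧ vec w E 5 = a ∧ vec w E 11 = b ∧ vec w E 24 = c := by
  have hB := hf.isHerm hq.invol
  obtain ⟨B, hb⟩ := hB.exists_orthonormal_basis (n := 5) (by simp)
  have h : Fr σ f w B := ⟨hq, hf, hw, hb, fun z => ⟨_, (B.sum_repr z).symm⟩⟩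
  obtain ⟨-, k1, k2, k3, k4, k5, k6⟩ := fm_chk
  obtain ⟨l1, l2⟩ := li hf hq hw h1 h2 h3 h4 h5 h6
  obtain ⟨l3, l4⟩ := li hf hq hw (a := vec w B 5) (b := vec w B 11) (c := vec w B 24)
    (by rw [h.f_vec, k1, val0]) (by rw [h.f_vec, k2, val0]) (by rw [h.f_vec, k3, val0])
    (by rw [h.f_vec, k4, val1]) (by rw [h.f_vec, k5, val1]) (by rw [h.f_vec, k6, val2])
  obtain ⟨g, hg, e⟩ := hB.witt_family l3 l1 fun i j => (l2 i j).trans (l4 i j).symm
  have hv : ∀ n, vec w (fun i => g (B i)) n = g (vec w B n) := fun n => by simp [vec]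
  refine ⟨fun i => g (B i), ⟨hq, hf, hw, fun i j => (UG_map hg _ _).trans (hb i j), fun z => ?_⟩,
    (hv 5).trans (e 0), (hv 11).trans (e 1), (hv 24).trans (e 2)⟩
  obtain ⟨c, hc⟩ := h.span (g.symm z)
  exact ⟨c, by rw [← g.apply_symm_apply z, hc]; simp⟩

end TE

open TE in
theorem su_two (hP : QS P) {σ : F →+* F} (hq : UField σ 2)
    {f : (Fin 5 → F) → (Fin 5 → F) → F} (hf : HForm σ 1 f) (hle : P ≤ isoG f)
    {v₁ φ₁ v₂ φ₂ v₃ φ₃ : Fin 5 → F} (h₁ : TA P v₁ φ₁) (h₂ : TA P v₂ φ₂)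
    (h₃ : TA P v₃ φ₃) (h : cyc3 v₁ φ₁ v₂ φ₂ v₃ φ₃ ∉ uFix σ) : P = suG f := by
  obtain ⟨a1, b1⟩ := of_ta hq hf hle h₁
  obtain ⟨a2, b2⟩ := of_ta hq hf hle h₂
  obtain ⟨a3, b3⟩ := of_ta hq hf hle h₃
  rw [cyc3, b1, b2, b3] at h
  have two := two_eq_zero_of_two hq
  have n1 : f v₂ v₁ ≠ 0 := fun e => h (by rw [e, zero_mul, zero_mul]; exact zero_mem _)
  have n2 : f v₃ v₂ ≠ 0 := fun e => h (by rw [e, mul_zero, zero_mul]; exact zero_mem _)
  set w := f v₂ v₁ * f v₃ v₂ * f v₁ v₃ with hw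
  have h0 : w ^ 2 ≠ w := fun e => h (show σ w = w by rw [hq.pow, e])
  have h4 := pow_four hq w
  have hw' : w * w = w + 1 := by
    have : (w ^ 2 - w) * (w * w - (w + 1)) = 0 := by grind
    exact sub_eq_zero.1 ((mul_eq_zero.1 this).resolve_left (sub_ne_zero.2 h0))
  have c1 := a3.smul hq hf (σ (f v₃ v₂))
  have c3 := a1.smul hq hf (f v₂ v₁)
  obtain ⟨E, hE, e1, e2, e3⟩ := exists_fr hf hq hw' c1.1 a2.1 c3.1
    (by rw [hf.smul_left, mul_comm, norm_eq_one_of_two hq n2])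
    (by rw [hf.smul_right, mul_comm, norm_eq_one_of_two hq n1])
    (by rw [hf.smul_left, hf.smul_right, hf.invol, ← mul_assoc])
  have hG : ∀ x ∈ [5, 11, 24], Om P f (vec w E x) := by simp [e1, e2, e3, c1, a2, c3]
  have hA : All P f := by
    obtain ⟨d0, d1, d2, d3, d4, d5, d6, d7⟩ := nod_chk
    obtain ⟨r1, r2, r3, r4⟩ := frm_chk
    obtain ⟨f1, f2, f3, f4, f5, f6, f7, f8, f9, f10, f11⟩ := fin_chk
    have c : ∀ {p : ℕ → Prop} {a : ℕ} {l : List ℕ}, p a → (∀ x ∈ l, p x) → ∀ x ∈ a :: l, p x :=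
      fun h h' => List.forall_mem_cons.2 ⟨h, h'⟩
    have o : ∀ {p : ℕ → Prop} {a : ℕ}, p a → ∀ x ∈ [a], p x := fun h => c h (List.forall_mem_nil _)
    exact hE.nod hle hG hP h₁ d0 (c (fun k => hE.nod hle k hP h₁ d1 (c
        (fun k => hE.frm hle k hP h₁ r1 (o fun k => hE.fin hle k f1)) (o fun k => hE.fin hle k f2)))
      (c (fun k => hE.nod hle k hP h₁ d2 (c (fun k => hE.fin hle k f3)
        (o fun k => hE.frm hle k hP h₁ r2 (o fun k => hE.fin hle k f4))))
      (c (fun k => hE.nod hle k hP h₁ d3 (c (fun k => hE.fin hle k f5)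
        (o fun k => hE.frm hle k hP h₁ r3 (o fun k => hE.fin hle k f6))))
      (c (fun k => hE.nod hle k hP h₁ d4 (c (fun k => hE.fin hle k f7)
        (o fun k => hE.frm hle k hP h₁ r4 (o fun k => hE.fin hle k f8))))
      (c (fun k => hE.nod hle k hP h₁ d5 (o fun k => hE.fin hle k f9))
      (c (fun k => hE.nod hle k hP h₁ d6 (o fun k => hE.fin hle k f10))
      (o fun k => hE.nod hle k hP h₁ d7 (o fun k => hE.fin hle k f11))))))))
  refine le_antisymm (fun g hg => mem_suG.2 ⟨hle hg, (mem_specialLinear_iff _).1 (qs_le_sl hP hg)⟩)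
    fun g hg => ?_
  have hU : USG hf.toB ≤ P.map (glEquiv (Fin 5) F).toMonoidHom := by
    rw [← (hf.isHerm hq.invol).closure_uTransvs hq (by simp), Subgroup.closure_le]
    rintro _ ⟨z, c, hz, hc, rfl⟩
    obtain ⟨-, k, hk, e⟩ := (hA z hz).smul hq hf c
    refine ⟨k, hk, LinearEquiv.ext fun x => ?_⟩
    rw [uRefl_apply_of_isotropic hz]
    refine (e x).trans ?_
    rw [hf.smul_right, smul_smul, hf.toB_apply]
    rw [hq.pow] at hc ⊢
    congr 2
    grind
  obtain ⟨g', hg', e'⟩ := hU (x := glEquiv (Fin 5) F g)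
    ⟨hg.1, (glEquiv_mem_slAut g).2 (mem_suG.1 hg).2⟩
  rwa [← (glEquiv (Fin 5) F).injective e']

end Cfsg.Agent.Cl.D5
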