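/-
Characteristic `3`, root groups of order `3`: all two-cycles lie in the prime field.
-/
import Mathlib
import Cfsg.Agent.Cl.D5Base
import Cfsg.Agent.Chev.TimGen

set_option autoImplicit false
set_option linter.unusedSectionVars false

namespace Cfsg.Agent.Cl.D5

open Matrix Cfsg.Geo Cfsg.Agent.Cl.Max Cfsg.Agent.Cl.Mx
open scoped MatrixGroups

variable {F : Type*} [Field F] [Finite F] {ι : Type} [Fintype ι] [DecidableEq ι]
  {P : Subgroup (GL ι F)} {k : Subfield F} {T : (ι → F) → (ι → F) → Prop}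

namespace TF3

/-- The five possible values of a two-cycle. -/
def InS (l x : F) : Prop := x = 0 ∨ x = 1 ∨ x = -1 ∨ x = l ∨ x = -l

theorem fin_check [CharP F 3] {l A D M : F} (hl : l ^ 2 = -1)
    (h0 : InS l A) (h1 : InS l D) (h2 : InS l (A + M - l * D)) (h3 : InS l (A - M - l * D))
    (h4 : InS l (-l * A - M + D)) (h5 : InS l (-l * A + (1 + l) * M - l * D)) :
    M ^ 2 + l * A * D = 0 := by
  have k : ∀ x, InS l x → x ^ 5 = x := by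
    rintro x (rfl | rfl | rfl | rfl | rfl) <;> grind
  have h3 := k _ h3
  have h4 := k _ h4
  have h5 := k _ h5
  rcases h0 with rfl | rfl | rfl | rfl | rfl <;> rcases h1 with rfl | rfl | rfl | h1 | h1 <;>
    rcases h2 with h2 | h2 | h2 | h2 | h2 <;> grind

variable [CharP F 3] {v w φ ψ v₁ v₂ φ₁ φ₂ r η a a' β β' u : ι → F} {l : F}

theorem root4 (hr : ¬ Root P 4) (hv : v ≠ 0) (hφ : φ ≠ 0) (h : MT P v φ) {c : F}
    (h' : MT P v (c • φ)) (hc : c ∉ (⊥ : Subfield F)) : False := by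
  classical
  have h0 : c ≠ 0 := fun e => hc (e ▸ zero_mem _)
  have h1 : c ≠ 1 := fun e => hc (e ▸ one_mem _)
  have h2 : c ≠ -1 := fun e => hc (e ▸ neg_mem (one_mem _))
  have h3 : (1 : F) ≠ -1 := by grind
  refine hr ⟨v, φ, hv, hφ, {c, 0, 1, -1}, ?_, fun x hx => ?_⟩
  · rw [Finset.card_insert_of_notMem (by simp [h0, h1, h2]),
      Finset.card_insert_of_notMem (by simp), Finset.card_pair h3]
  · simp only [Finset.mem_insert, Finset.mem_singleton] at hx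
    rcases hx with rfl | rfl | rfl | rfl
    · exact h'
    · simpa using MT.zero P v
    · simpa using h
    · simpa using h.neg

theorem sq_eq_aux (hr : ¬ Root P 4) (h : MT P v φ) (h' : MT P w ψ) (h1 : ψ ⬝ᵥ v = 1)
    (hn : φ ⬝ᵥ w ∉ (⊥ : Subfield F)) : (φ ⬝ᵥ w) ^ 2 = -1 := by
  by_contra h2
  have h3 : φ ⬝ᵥ w ≠ 0 := fun e => hn (e ▸ zero_mem _)
  have h4 : ψ ⬝ᵥ v ≠ 0 := by rw [h1]; exact one_ne_zero
  let L := (planeL (fixK P φ ψ) v w).comap (SpecialLinearGroup.toGL (n := Fin 2) (R := F))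
  have up : ∀ x, GT.slUp x ∈ L ↔ x ∈ D3.upS (planeL (fixK P φ ψ) v w) := fun x =>
    ⟨fun hx => ⟨_, hx, rfl⟩, fun ⟨g, hg, e⟩ => by
      rwa [show g = SpecialLinearGroup.toGL (GT.slUp x) from Units.ext e] at hg⟩
  have lo : GT.slLo 1 ∈ L := by
    obtain ⟨g, hg, e⟩ := (mem_loS_plane (P := P) (a := 1) h.1 h'.1 h3 h4).2 (by simpa [tvA] using h')
    rw [h1, one_mul] at e
    rwa [show g = SpecialLinearGroup.toGL (GT.slLo 1) from Units.ext e] at hg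
  have k1 := (Chev.Tim.dickson_inv (by grind) lo h3 h2 ((up _).2 (by
    simpa using (mem_upS_plane (P := P) (a := 1) h.1 h'.1 h3 h4).2 (by simpa [tvA] using h)))).1
  rw [up, ← inv_mul_cancel₀ h3, mem_upS_plane h.1 h'.1 h3 h4] at k1
  exact root4 hr (fun e => h4 (by simp [e])) (fun e => h3 (by simp [e])) h k1
    fun e => hn (inv_mem_iff.1 e)

theorem sq_eq (hr : ¬ Root P 4) (h : MT P v φ) (h' : MT P w ψ)
    (hn : φ ⬝ᵥ w * ψ ⬝ᵥ v ∉ (⊥ : Subfield F)) : (φ ⬝ᵥ w * ψ ⬝ᵥ v) ^ 2 = -1 := by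
  have h4 : ψ ⬝ᵥ v ≠ 0 := fun e => hn (by rw [e, mul_zero]; exact zero_mem _)
  have h'' : MT P ((ψ ⬝ᵥ v) • w) ((ψ ⬝ᵥ v)⁻¹ • ψ) := by
    rwa [MT.smul_iff, smul_smul, mul_inv_cancel₀ h4, one_smul]
  have e : φ ⬝ᵥ (ψ ⬝ᵥ v) • w = φ ⬝ᵥ w * ψ ⬝ᵥ v := by rw [dotProduct_smul, smul_eq_mul, mul_comm]
  rw [← e] at hn ⊢
  exact sq_eq_aux hr h h'' (by rw [smul_dotProduct, smul_eq_mul, inv_mul_cancel₀ h4]) hn

theorem inS (hr : ¬ Root P 4) (hl : l ^ 2 = -1) (h : MT P v φ) (h' : MT P w ψ) :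
    InS l (φ ⬝ᵥ w * ψ ⬝ᵥ v) := by
  have : Fact (Nat.Prime 3) := ⟨Nat.prime_three⟩
  by_cases hn : φ ⬝ᵥ w * ψ ⬝ᵥ v ∈ (⊥ : Subfield F)
  · rw [Subfield.mem_bot_iff_pow_eq_self F 3] at hn
    unfold InS
    grind
  · have := sq_eq hr h h' hn
    unfold InS
    grind

/-- A normalised pair generating `SL₂(5)`. -/
structure Pr (P : Subgroup (GL ι F)) (v₁ φ₁ v₂ φ₂ : ι → F) (l : F) : Prop where
  hr : ¬ Root P 4
  m1 : MT P v₁ φ₁
  m2 : MT P v₂ φ₂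
  g12 : φ₁ ⬝ᵥ v₂ = 1
  g21 : φ₂ ⬝ᵥ v₁ = l
  sq : l ^ 2 = -1
  nb : l ∉ (⊥ : Subfield F)

/-- Elements acting on the plane only. -/
def PL (P : Subgroup (GL ι F)) (v₁ φ₁ v₂ φ₂ : ι → F) (a b c d : F) : Prop :=
  ∃ g ∈ P, ∀ y, (g : Matrix ι ι F) *ᵥ y =
    y + (a * φ₁ ⬝ᵥ y + b * φ₂ ⬝ᵥ y) • v₁ + (c * φ₁ ⬝ᵥ y + d * φ₂ ⬝ᵥ y) • v₂

/-- Elements of a Heisenberg group. -/
def HH (P : Subgroup (GL ι F)) (r η a β : ι → F) : Prop :=
  η ⬝ᵥ a = 0 ∧ β ⬝ᵥ r = 0 ∧ ∃ g ∈ P, ∀ y, (g : Matrix ι ι F) *ᵥ y =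
    y + (η ⬝ᵥ y) • a + (β ⬝ᵥ y) • r

theorem HH.mul (h0 : η ⬝ᵥ r = 0) (h : HH P r η a β) (h' : HH P r η a' β') :
    HH P r η (a + a') (β + β' + (β ⬝ᵥ a') • η) := by
  obtain ⟨h1, h2, g, hg, e⟩ := h
  obtain ⟨h1', h2', g', hg', e'⟩ := h'
  refine ⟨by simp [h1, h1'], by simp [h2, h2', h0], g * g', P.mul_mem hg hg', fun y => ?_⟩
  rw [mul_mulVec, e', e]
  simp only [dotProduct_add, dotProduct_smul, add_dotProduct, smul_dotProduct, h0, h1', h2,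
    smul_eq_mul]
  module

theorem HH.inv (h0 : η ⬝ᵥ r = 0) (h : HH P r η a β) :
    HH P r η (-a) (-β + (β ⬝ᵥ a) • η) := by
  obtain ⟨h1, h2, g, hg, e⟩ := h
  refine ⟨by simp [h1], by simp [h2, h0], g⁻¹, P.inv_mem hg, fun y => mulVec_injective g ?_⟩
  simp only [mulVec_inv_mulVec]
  rw [e]
  simp only [dotProduct_add, dotProduct_smul, add_dotProduct, smul_dotProduct, h0, h1, h2,
    smul_eq_mul, dotProduct_neg, neg_dotProduct]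
  module

theorem HH.move (h0 : η ⬝ᵥ r = 0) (h : HH P r η a β) (h' : MT P v φ) (h3 : φ ⬝ᵥ r = 0)
    (h4 : η ⬝ᵥ v = 0) : HH P r η (a + (φ ⬝ᵥ a) • v) (β - (β ⬝ᵥ v) • φ) := by
  obtain ⟨h1, h2, g, hg, e⟩ := h
  obtain ⟨h5, s, hs, e'⟩ := h'
  refine ⟨by simp [h1, h4], by simp [h2, h3], s * g * s⁻¹,
    P.mul_mem (P.mul_mem hs hg) (P.inv_mem hs), fun y => ?_⟩
  rw [mul_mulVec, mul_mulVec, MT.inv_mulVec h5 e', e, e']
  simp only [dotProduct_add, dotProduct_smul, dotProduct_sub, sub_dotProduct, smul_dotProduct,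
    h3, h4, h5, smul_eq_mul]
  module

theorem HH.mt (h : HH P r η 0 β) : MT P r β :=
  let ⟨_, h2, g, hg, e⟩ := h
  ⟨h2, g, hg, fun y => by rw [e, smul_zero, add_zero]⟩

/-- Elements of the Heisenberg group modulo its centre. -/
def HM (P : Subgroup (GL ι F)) (r η a β : ι → F) : Prop := ∃ c : F, HH P r η a (β + c • η)

theorem HM.der (h0 : η ⬝ᵥ r = 0) (h : HM P r η a β) (h' : MT P v φ) (h3 : φ ⬝ᵥ r = 0)
    (h4 : η ⬝ᵥ v = 0) : HM P r η ((φ ⬝ᵥ a) • v) ((-(β ⬝ᵥ v)) • φ) := by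
  obtain ⟨c, h⟩ := h
  have h5 := (h.move h0 h' h3 h4).mul h0 (h.inv h0)
  refine ⟨(β ⬝ᵥ v) * φ ⬝ᵥ a, ?_⟩
  convert h5 using 1
  · module
  · simp only [dotProduct_neg, sub_dotProduct, add_dotProduct, smul_dotProduct, h4, h.1,
      smul_eq_mul]
    module

theorem HM.comm (h0 : η ⬝ᵥ r = 0) (h : HM P r η a β) (h' : HM P r η a' β') :
    MT P r ((β ⬝ᵥ a' - β' ⬝ᵥ a) • η) := by
  obtain ⟨c, h⟩ := h
  obtain ⟨c', h'⟩ := h'
  have h5 := (h.mul h0 h').mul h0 ((h'.mul h0 h).inv h0)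
  refine HH.mt (η := η) ?_
  convert h5 using 1
  · module
  · simp only [dotProduct_neg, dotProduct_add, add_dotProduct, smul_dotProduct, h.1, h'.1,
      smul_eq_mul]
    module

namespace Pr

variable (H : Pr P v₁ φ₁ v₂ φ₂ l)
include H

theorem ne : l ≠ 0 := fun e => H.nb (e ▸ zero_mem _)

theorem φ₁_ne : φ₁ ≠ 0 := fun e => by simpa [e] using H.g12

theorem disc (h : MT P u η) : φ₁ ⬝ᵥ u * η ⬝ᵥ v₂ = l * (φ₂ ⬝ᵥ u * η ⬝ᵥ v₁) := by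
  have k := fun {x χ : ι → F} (hx : MT P x χ) => inS H.hr H.sq hx h
  have h0 := k H.m1
  have h1 := k H.m2
  have h2 := k (H.m1.move H.m2)
  have h3 := k (H.m1.move H.m2.neg)
  have h4 := k (H.m2.move H.m1)
  have h5 := k ((H.m1.move H.m2).move H.m1)
  simp only [dotProduct_add, dotProduct_smul, sub_dotProduct, smul_dotProduct, neg_dotProduct,
    H.g12, H.g21, H.m1.1, H.m2.1, smul_eq_mul] at h2 h3 h4 h5
  have hl := H.sq
  have := fin_check (M := l * (φ₁ ⬝ᵥ u * η ⬝ᵥ v₂) - φ₂ ⬝ᵥ u * η ⬝ᵥ v₁) hl h0 h1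
    (by convert h2 using 1; grind) (by convert h3 using 1; grind) (by convert h4 using 1; grind)
    (by convert h5 using 1; grind)
  have e : (l * (φ₁ ⬝ᵥ u * η ⬝ᵥ v₂) + φ₂ ⬝ᵥ u * η ⬝ᵥ v₁) ^ 2 = 0 := by grind
  have e' := pow_eq_zero_iff (two_ne_zero) |>.1 e
  grind

theorem pl_mul {a b c d a' b' c' d' a'' b'' c'' d'' : F} (h : PL P v₁ φ₁ v₂ φ₂ a b c d)
    (h' : PL P v₁ φ₁ v₂ φ₂ a' b' c' d') (e1 : a'' = a' + a * (1 + c') + b * l * a')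
    (e2 : b'' = b' + a * d' + b * (1 + l * b')) (e3 : c'' = c' + c * (1 + c') + d * l * a')
    (e4 : d'' = d' + c * d' + d * (1 + l * b')) : PL P v₁ φ₁ v₂ φ₂ a'' b'' c'' d'' := by
  obtain ⟨g, hg, e⟩ := h
  obtain ⟨g', hg', e'⟩ := h'
  refine ⟨g * g', P.mul_mem hg hg', fun y => ?_⟩
  rw [mul_mulVec, e', e, e1, e2, e3, e4]
  simp only [dotProduct_add, dotProduct_smul, H.g12, H.g21, H.m1.1, H.m2.1, smul_eq_mul]
  module

/-- The central involution of `SL₂(5)`. -/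
theorem pl_z : PL P v₁ φ₁ v₂ φ₂ 0 (-l) 1 0 := by
  have hl := H.sq
  have h1 : PL P v₁ φ₁ v₂ φ₂ 1 0 0 0 :=
    let ⟨_, g, hg, e⟩ := H.m1
    ⟨g, hg, fun y => by simp [e]⟩
  have h2 : PL P v₁ φ₁ v₂ φ₂ 0 0 0 1 :=
    let ⟨_, g, hg, e⟩ := H.m2
    ⟨g, hg, fun y => by simp [e]⟩
  have g1 : PL P v₁ φ₁ v₂ φ₂ 1 1 0 1 := H.pl_mul h1 h2 (by ring) (by ring) (by ring) (by ring)
  have g2 := H.pl_mul g1 g1 rfl rfl rfl rfl
  have g4 := H.pl_mul g2 g2 rfl rfl rfl rfl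
  exact H.pl_mul g4 g1 (by grind) (by grind) (by grind) (by grind)

theorem root₁ (hr : r ≠ 0) (h1 : φ₁ ⬝ᵥ r = 0) (h2 : φ₂ ⬝ᵥ r = 0) (h : MT P r β)
    (h3 : β ⬝ᵥ v₁ ≠ 0) : False := by
  have k1 := h.comm H.m1 h1
  have k2 := (k1.comm H.m2 h2).comm H.m1 h1
  refine root4 H.hr hr (smul_ne_zero h3 H.φ₁_ne) k1 (c := l) ?_ H.nb
  convert k2 using 1
  simp only [smul_dotProduct, H.g12, H.g21, smul_eq_mul]
  module

theorem root (hr : r ≠ 0) (h1 : φ₁ ⬝ᵥ r = 0) (h2 : φ₂ ⬝ᵥ r = 0) (h : MT P r β)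
    (h3 : β ⬝ᵥ v₁ ≠ 0 ∨ β ⬝ᵥ v₂ ≠ 0) : False := by
  rcases h3 with h3 | h3
  · exact H.root₁ hr h1 h2 h h3
  · exact H.root₁ hr h1 h2 (h.comm H.m2 h2) (by
      rw [smul_dotProduct, H.g21]; exact mul_ne_zero h3 H.ne)

theorem heis₁ (hr : r ≠ 0) (h1 : φ₁ ⬝ᵥ r = 0) (h2 : φ₂ ⬝ᵥ r = 0) (h0 : η ⬝ᵥ r = 0)
    (e1 : η ⬝ᵥ v₁ = 0) (e2 : η ⬝ᵥ v₂ = 0) (h : HM P r η a β) (h3 : β ⬝ᵥ v₁ ≠ 0) : False := by
  by_cases hη : η = 0
  · obtain ⟨c, -, k2, g, hg, e⟩ := h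
    exact H.root₁ hr h1 h2 ⟨k2, g, hg, fun y => by simp [e, hη]⟩ (by simpa [hη] using h3)
  have d1 := h.der h0 H.m1 h1 e1
  by_cases hx : φ₁ ⬝ᵥ a = 0
  · obtain ⟨c, d1⟩ := d1
    rw [hx, zero_smul] at d1
    exact H.root hr h1 h2 d1.mt (Or.inr (by simpa [H.g12, e2] using h3))
  have d2 := d1.der h0 H.m2 h2 e2
  have d3 := d2.der h0 H.m1 h1 e1
  have k1 := d1.comm h0 d2
  have k2 := d3.comm h0 d2
  simp only [dotProduct_smul, smul_dotProduct, H.g12, H.g21, smul_eq_mul] at k1 k2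
  have hl := H.sq
  refine root4 H.hr hr (smul_ne_zero (mul_ne_zero hx h3) hη) (c := l) ?_ ?_ H.nb
  · convert k2.neg using 1
    match_scalars
    grind
  · convert k1 using 1
    match_scalars
    grind

theorem inv_plane (h : MT P u η) :
    u = (-(l * φ₂ ⬝ᵥ u)) • v₁ + (φ₁ ⬝ᵥ u) • v₂ ∨ (η ⬝ᵥ v₁ = 0 ∧ η ⬝ᵥ v₂ = 0) := by
  by_contra hh
  rw [not_or, not_and_or] at hh
  obtain ⟨hr, h3⟩ := hh
  have hl := H.sq
  have hd := H.disc h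
  obtain ⟨z, hz, ez⟩ := H.pl_z
  obtain ⟨h0, s, hs, es⟩ := h
  set r := u - ((-(l * φ₂ ⬝ᵥ u)) • v₁ + (φ₁ ⬝ᵥ u) • v₂) with er
  set η' := η - ((η ⬝ᵥ v₂) • φ₁ - (l * η ⬝ᵥ v₁) • φ₂) with eη
  have hr' : r ≠ 0 := sub_ne_zero.2 hr
  have h1 : φ₁ ⬝ᵥ r = 0 := by
    simp only [er, dotProduct_sub, dotProduct_add, dotProduct_smul, H.g12, H.m1.1, smul_eq_mul]
    ring
  have h2 : φ₂ ⬝ᵥ r = 0 := by
    simp only [er, dotProduct_sub, dotProduct_add, dotProduct_smul, H.g21, H.m2.1, smul_eq_mul]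
    grind
  have e1 : η' ⬝ᵥ v₁ = 0 := by
    simp only [eη, sub_dotProduct, smul_dotProduct, H.g21, H.m1.1, smul_eq_mul]
    grind
  have e2 : η' ⬝ᵥ v₂ = 0 := by
    simp only [eη, sub_dotProduct, smul_dotProduct, H.g12, H.m2.1, smul_eq_mul]
    ring
  have h4 : η' ⬝ᵥ r = 0 := by
    simp only [eη, sub_dotProduct, smul_dotProduct, h1, h2, smul_eq_mul]
    simp only [er, dotProduct_sub, dotProduct_add, dotProduct_smul, h0, smul_eq_mul]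
    grind
  have hE : HM P r η' ((l * φ₂ ⬝ᵥ u) • v₁ - (φ₁ ⬝ᵥ u) • v₂)
      ((l * η ⬝ᵥ v₁) • φ₂ - (η ⬝ᵥ v₂) • φ₁) := by
    refine ⟨0, by simp [e1, e2], by simp [h1, h2], s * (z * s⁻¹ * z),
      P.mul_mem hs (P.mul_mem (P.mul_mem hz (P.inv_mem hs)) hz), fun y => ?_⟩
    rw [mul_mulVec, mul_mulVec, mul_mulVec, ez y, MT.inv_mulVec h0 es, ez, es]
    simp only [er, eη, dotProduct_sub, dotProduct_add, dotProduct_smul, sub_dotProduct,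
      add_dotProduct, smul_dotProduct, H.g12, H.g21, H.m1.1, H.m2.1, h0, smul_eq_mul]
    match_scalars <;> grind
  by_cases h5 : η ⬝ᵥ v₁ = 0
  · refine H.heis₁ hr' h1 h2 h4 e1 e2 (hE.der h4 H.m2 h2 e2) ?_
    simp only [sub_dotProduct, smul_dotProduct, H.g12, H.g21, H.m2.1, smul_eq_mul]
    have := h3.resolve_left (not_not.2 h5)
    have := H.ne
    grind
  · refine H.heis₁ hr' h1 h2 h4 e1 e2 hE ?_
    simp only [sub_dotProduct, smul_dotProduct, H.g21, H.m1.1, smul_eq_mul]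
    grind

theorem false (hn : 3 ≤ Fintype.card ι) (hP : QS P) : False := by
  have hv : v₁ ≠ 0 := fun e => H.ne (by rw [← H.g21, e, dotProduct_zero])
  have m1 : v₁ ∈ Submodule.span F {v₁, v₂} := Submodule.subset_span (by simp)
  have m2 : v₂ ∈ Submodule.span F {v₁, v₂} := Submodule.subset_span (by simp)
  rcases fam_TA.bot_or_top hP ⟨hv, H.φ₁_ne, H.m1⟩ (Submodule.span F {v₁, v₂})
    (fun u η h x hx => by
      rcases H.inv_plane h.2.2 with e | ⟨e1, e2⟩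
      · refine Submodule.smul_mem _ _ ?_
        rw [e]
        exact add_mem (Submodule.smul_mem _ _ m1) (Submodule.smul_mem _ _ m2)
      · obtain ⟨c, d, rfl⟩ := Submodule.mem_span_pair.1 hx
        simp [e1, e2]) with e | e
  · exact hv ((Submodule.mem_bot F).1 (e ▸ m1))
  · classical
    have h1 := finrank_span_le_card (R := F) ({v₁, v₂} : Set (ι → F))
    rw [e, finrank_top, Module.finrank_fintype_fun_eq_card] at h1
    have h2 : ({v₁, v₂} : Set (ι → F)).toFinset.card ≤ 2 := by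
      rw [Set.toFinset_insert, Set.toFinset_singleton]
      exact Finset.card_le_two
    omega

end Pr

end TF3

theorem two_cyc_three (h3 : (3 : F) = 0) (hn : 3 ≤ Fintype.card ι) (hP : QS P) (hr : ¬ Root P 4)
    {v φ w ψ : ι → F} (h : MT P v φ) (h' : MT P w ψ) : φ ⬝ᵥ w * ψ ⬝ᵥ v ∈ (⊥ : Subfield F) := by
  have : CharP F 3 := (CharP.charP_iff_prime_eq_zero Nat.prime_three).2 (by exact_mod_cast h3)
  by_contra hb
  have h4 : φ ⬝ᵥ w ≠ 0 := fun e => hb (by rw [e, zero_mul]; exact zero_mem _)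
  exact TF3.Pr.false (v₁ := v) (φ₁ := φ) (v₂ := (φ ⬝ᵥ w)⁻¹ • w) (φ₂ := (φ ⬝ᵥ w) • ψ)
    ⟨hr, h, by rwa [MT.smul_iff, smul_smul, inv_mul_cancel₀ h4, one_smul],
      by rw [dotProduct_smul, smul_eq_mul, inv_mul_cancel₀ h4], by rw [smul_dotProduct, smul_eq_mul],
      TF3.sq_eq hr h h' hb, hb⟩ hn hP

end Cfsg.Agent.Cl.D5
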