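/-
Characteristic two: a centre of transvections with two axes.
-/
import Mathlib
import Cfsg.Agent.Cl.D5Base

set_option autoImplicit false
set_option linter.unusedSectionVars false

namespace Cfsg.Agent.Cl.D5

open Matrix Cfsg.Geo Cfsg.Agent.Cl.Max Cfsg.Agent.Cl.Mx
open Cfsg.Agent.Cl.D3 (upS loS)
open scoped MatrixGroups

namespace TG

open Module

section Planes

variable {F V : Type*} [Field F] [AddCommGroup V] [Module F V] [FiniteDimensional F V]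

theorem two_le {H : Submodule F V} {a b : V} (ha : a ∈ H) (hb : b ∈ H) (h0 : a ≠ 0)
    (h : b ∉ F ∙ a) : 2 ≤ finrank F H := by
  have := Submodule.finrank_lt_finrank_of_lt (s := F ∙ a) (t := H)
    (lt_of_le_of_ne ((Submodule.span_singleton_le_iff_mem _ _).2 ha) fun e => h (e ▸ hb))
  rwa [finrank_span_singleton h0] at this

theorem le_of_two {H S : Submodule F V} (h2 : finrank F H ≤ 2) {a b : V} (ha : a ∈ H) (hb : b ∈ H)
    (h0 : a ≠ 0) (h : b ∉ F ∙ a) (ha' : a ∈ S) (hb' : b ∈ S) : H ≤ S :=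
  inf_eq_left.1 (Submodule.eq_of_le_of_finrank_le inf_le_left
    (h2.trans (two_le (H := H ⊓ S) ⟨ha, ha'⟩ ⟨hb, hb'⟩ h0 h)))

/-- Planes meeting pairwise have a common line or lie in a solid. -/
theorem planes {α : Type*} {O : α → Prop} {H : α → Submodule F V}
    (h2 : ∀ x, O x → finrank F (H x) ≤ 2)
    (meet : ∀ x y, O x → O y → ∃ c, c ≠ 0 ∧ c ∈ H x ∧ c ∈ H y) {x₀ : α} (h₀ : O x₀) :
    (∃ c, c ≠ 0 ∧ ∀ x, O x → c ∈ H x) ∨
      ∃ S : Submodule F V, finrank F S ≤ 3 ∧ ∀ x, O x → H x ≤ S := by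
  by_cases h : ∀ x, O x → H x₀ ≤ H x
  · obtain ⟨c, hc, h1, -⟩ := meet x₀ x₀ h₀ h₀
    exact Or.inl ⟨c, hc, fun x hx => h x hx h1⟩
  push Not at h
  obtain ⟨x₁, h₁, hne⟩ := h
  obtain ⟨c, hc, c0, c1⟩ := meet x₀ x₁ h₀ h₁
  by_cases h : ∀ x, O x → c ∈ H x
  · exact Or.inl ⟨c, hc, h⟩
  push Not at h
  obtain ⟨x₂, h₂, c2⟩ := h
  have key : ∀ x, O x → c ∉ H x → H x ≤ H x₀ ⊔ H x₁ := fun x hx hcx => by
    obtain ⟨a, ha, a0, a1⟩ := meet x x₀ hx h₀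
    obtain ⟨b, hb, b0, b1⟩ := meet x x₁ hx h₁
    refine le_of_two (h2 x hx) a0 b0 ha (fun e => hne ?_) (Submodule.mem_sup_left a1)
      (Submodule.mem_sup_right b1)
    refine le_of_two (h2 x₀ h₀) ((Submodule.span_singleton_le_iff_mem _ _).2 a1 e) c0 hb
      (fun e' => hcx ((Submodule.span_singleton_le_iff_mem _ _).2 b0 e')) b1 c1
  refine Or.inr ⟨H x₀ ⊔ H x₁, ?_, fun x hx => ?_⟩
  · have e1 := Submodule.finrank_sup_add_finrank_inf_eq (H x₀) (H x₁)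
    have e2 := Submodule.finrank_mono
      ((Submodule.span_singleton_le_iff_mem c (H x₀ ⊓ H x₁)).2 ⟨c0, c1⟩)
    rw [finrank_span_singleton hc] at e2
    have := h2 x₀ h₀
    have := h2 x₁ h₁
    omega
  · by_cases hcx : c ∈ H x
    · obtain ⟨d, hd, d0, d1⟩ := meet x x₂ hx h₂
      exact le_of_two (h2 x hx) d0 hcx hd
        (fun e => c2 ((Submodule.span_singleton_le_iff_mem _ _).2 d1 e)) (key x₂ h₂ c2 d1)
        (Submodule.mem_sup_left c0)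
    · exact key x hx hcx

end Planes

variable {F : Type*} [Field F] [Finite F] {ι : Type} [Fintype ι] [DecidableEq ι]
  {P : Subgroup (GL ι F)} {v w φ ψ : ι → F}

theorem root (hr : ¬ Root P 3) (hv : v ≠ 0) (hφ : φ ≠ 0) (h : MT P v φ) {c : F}
    (h' : MT P v (c • φ)) : c = 0 ∨ c = 1 := by
  classical
  by_contra hc
  push Not at hc
  refine hr ⟨v, φ, hv, hφ, {0, 1, c}, ?_, fun a ha => ?_⟩
  · rw [Finset.card_eq_three.2 ⟨0, 1, c, zero_ne_one, hc.1.symm, hc.2.symm, rfl⟩]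
  · simp only [Finset.mem_insert, Finset.mem_singleton] at ha
    rcases ha with rfl | rfl | rfl
    · simpa using MT.zero P v
    · simpa using h
    · exact h'

/-- A centre with two axes. -/
def Two (P : Subgroup (GL ι F)) (v : ι → F) : Prop :=
  v ≠ 0 ∧ ∃ φ φ', φ ≠ 0 ∧ φ' ≠ 0 ∧ φ ≠ φ' ∧ MT P v φ ∧ MT P v φ'

/-- The span of the axes. -/
def H (P : Subgroup (GL ι F)) (v : ι → F) : Submodule F (ι → F) := Submodule.span F {φ | MT P v φ}

/-- No axis of `v` contains `w`. -/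
def K0 (P : Subgroup (GL ι F)) (v w : ι → F) : Prop := ∀ χ, MT P v χ → χ ⬝ᵥ w = 0 → χ = 0

theorem mem_H (h : MT P v φ) : φ ∈ H P v := Submodule.subset_span h

theorem H_le {S : Submodule F (ι → F)} (h : ∀ φ, MT P v φ → φ ∈ S) : H P v ≤ S :=
  Submodule.span_le.2 h

theorem H_smul_le {b : F} (hb : b ≠ 0) : H P (b • w) ≤ H P w := H_le fun φ h => by
  simpa [smul_smul, hb] using (H P w).smul_mem b⁻¹ (mem_H ((MT.smul_iff b).1 h))

theorem dot_of_mem_H {u : ι → F} (h : ∀ φ, MT P v φ → φ ⬝ᵥ u = 0) (hφ : φ ∈ H P v) : φ ⬝ᵥ u = 0 := by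
  have : H P v ≤ kerS (· = u) := H_le fun χ hχ _ e => by rw [e, dotProduct_comm, h χ hχ]
  rw [dotProduct_comm]
  exact this hφ u rfl

theorem H_conj {g : GL ι F} (hg : g ∈ P) :
    H P ((g : Matrix ι ι F) *ᵥ v) ≤ (H P v).comap (vecMulLinear (g : Matrix ι ι F)) :=
  H_le fun φ h => mem_H (by simpa using h.conj (P.inv_mem hg))

theorem Two.conj (h : Two P v) {g : GL ι F} (hg : g ∈ P) : Two P ((g : Matrix ι ι F) *ᵥ v) := by
  obtain ⟨hv, φ, φ', h1, h2, h3, h4, h5⟩ := h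
  refine ⟨mulVec_gl_ne_zero hv g, _, _, vecMul_gl_ne_zero h1 _, vecMul_gl_ne_zero h2 _,
    fun e => ?_, h4.conj hg, h5.conj hg⟩
  exact vecMul_gl_ne_zero (sub_ne_zero.2 h3) g⁻¹ (by rw [sub_vecMul, e, sub_self])

theorem Two.smul (h : Two P v) {c : F} (hc : c ≠ 0) : Two P (c • v) := by
  obtain ⟨hv, φ, φ', h1, h2, h3, h4, h5⟩ := h
  refine ⟨smul_ne_zero hc hv, c⁻¹ • φ, c⁻¹ • φ', smul_ne_zero (inv_ne_zero hc) h1,
    smul_ne_zero (inv_ne_zero hc) h2, fun e => h3 (smul_right_injective _ (inv_ne_zero hc) e), ?_, ?_⟩ <;>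
  simpa [MT.smul_iff, smul_smul, hc]

theorem Two.two_le (h : Two P v) (hr : ¬ Root P 3) : 2 ≤ finrank F (H P v) := by
  obtain ⟨hv, φ, φ', h1, h2, h3, h4, h5⟩ := h
  refine TG.two_le (mem_H h4) (mem_H h5) h1 fun e => ?_
  obtain ⟨c, rfl⟩ := Submodule.mem_span_singleton.1 e
  rcases root hr hv h1 h4 h5 with rfl | rfl
  · exact h2 (zero_smul _ _)
  · exact h3 (one_smul _ _).symm

theorem finrank_conj {g : GL ι F} (hg : g ∈ P) :
    finrank F (H P ((g : Matrix ι ι F) *ᵥ v)) ≤ finrank F (H P v) := by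
  refine le_trans (Submodule.finrank_mono fun φ h => ?_)
    (Submodule.finrank_map_le (vecMulLinear ((g⁻¹ : GL ι F) : Matrix ι ι F)) (H P v))
  exact ⟨_, H_conj hg h, by simp⟩

theorem core (h2 : (2 : F) = 0) (hr : ¬ Root P 3) (hv : v ≠ 0) {k : Subfield F} {a₀ : F}
    (ha : a₀ ∈ k) (ha0 : a₀ ≠ 0) (ha1 : a₀ ≠ 1) (hK : K0 P v w)
    (hI : ∀ a, a ∈ k ↔ ∃ φ, MT P v φ ∧ φ ⬝ᵥ w = a) (hJ : ∀ a ∈ k, ∃ ψ, MT P w ψ ∧ ψ ⬝ᵥ v = a) :
    finrank F (H P v) ≤ 2 ∧ ∃ c, c ≠ 0 ∧ c ∈ H P v ∧ c ∈ H P w := by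
  choose! f f1 f2 using fun a => (hI a).1
  choose! g g1 g2 using hJ
  have uniq : ∀ {χ a}, MT P v χ → χ ⬝ᵥ w = a → f a = χ := fun {χ a} h e => by
    have hk := (hI a).2 ⟨χ, h, e⟩
    exact sub_eq_zero.1 (hK _ ((f1 a hk).sub h) (by rw [sub_dotProduct, f2 a hk, e, sub_self]))
  have key : ∀ a ∈ k, a ≠ 0 → ∀ b ∈ k,
      f (a ^ 2 * b) = a • (g b - b • f a + (b * a) • g a⁻¹) := fun a ha h0 b hb => by
    have hi := k.inv_mem ha
    have m := ((g1 b hb).move (f1 a ha)).move (g1 _ hi)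
    simp only [dotProduct_add, dotProduct_smul, sub_dotProduct, smul_dotProduct, smul_eq_mul, f2 a ha,
      g2 b hb, g2 _ hi, (g1 b hb).1, (g1 _ hi).1, mul_inv_cancel₀ h0, zero_add, zero_sub, neg_smul,
      sub_neg_eq_add, one_smul] at m
    rw [show w + a • v + w = a • v by linear_combination (norm := module) h2 • w, MT.smul_iff] at m
    refine uniq m ?_
    simp only [add_dotProduct, sub_dotProduct, smul_dotProduct, smul_eq_mul, f2 a ha, (g1 b hb).1,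
      (g1 _ hi).1]
    linear_combination (-a ^ 2 * b) * h2
  have e1 : ∀ b ∈ k, g b = f b + b • f 1 - b • g 1 := fun b hb => by
    have := key 1 k.one_mem one_ne_zero b hb
    simp only [one_pow, one_mul, mul_one, one_smul, inv_one] at this
    linear_combination (norm := module) -this
  have e2 : ∀ a ∈ k, a ≠ 0 → ∀ b ∈ k,
      f (a ^ 2 * b) = a • f b - (a * b) • f a + (a ^ 2 * b) • f a⁻¹ := fun a ha h0 b hb => by
    rw [key a ha h0 b hb, e1 b hb, e1 _ (k.inv_mem ha)]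
    linear_combination (norm := module) (mul_inv_cancel₀ h0) • (a * b) • (f 1 - g 1) +
      h2 • (a * b) • (f 1 - g 1)
  have e3 : ∀ a ∈ k, a ≠ 0 → ∀ b ∈ k,
      f (a ^ 2 * b) = a • f b + b • f (a ^ 2) - (a * b) • f 1 := fun a ha h0 b hb => by
    have := e2 a ha h0 1 k.one_mem
    rw [mul_one, mul_one] at this
    rw [e2 a ha h0 b hb, this]
    module
  have hs := k.pow_mem ha 2
  constructor
  · refine le_trans (Submodule.finrank_mono (H_le (S := Submodule.span F {f (a₀ ^ 2), f 1})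
      fun φ h => ?_)) (finrank_span_pair_le _ _)
    have hk := (hI _).2 ⟨φ, h, rfl⟩
    rw [← uniq h rfl]
    obtain ⟨⟨b, hb⟩, e⟩ := Finite.surjective_of_injective (f := fun x : k => x ^ 2)
      (fun x y e => Subtype.ext (sub_eq_zero.1 (pow_eq_zero_iff two_ne_zero |>.1 (by
        have : (x : F) ^ 2 = y ^ 2 := congrArg Subtype.val e
        linear_combination this + ((y : F) ^ 2 - x * y) * h2)))) ⟨_, hk⟩
    rw [← show b ^ 2 = φ ⬝ᵥ w from congrArg Subtype.val e]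
    by_cases hb0 : b = 0
    · rw [uniq (a := b ^ 2) (MT.zero P v) (by simp [hb0])]
      exact Submodule.zero_mem _
    have e4 := e3 a₀ ha ha0 _ (k.pow_mem hb 2)
    rw [mul_comm, e3 b hb hb0 _ hs] at e4
    have h3 : a₀ - a₀ ^ 2 ≠ 0 := fun e => mul_ne_zero ha0 (sub_ne_zero.2 ha1) (by
      linear_combination -e)
    refine Submodule.mem_span_pair.2 ⟨(b - b ^ 2) / (a₀ - a₀ ^ 2),
      (a₀ * b ^ 2 - b * a₀ ^ 2) / (a₀ - a₀ ^ 2), smul_right_injective _ h3 ?_⟩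
    simp only [smul_add, smul_smul, mul_div_cancel₀ _ h3]
    linear_combination (norm := module) e4
  · refine ⟨f (a₀ ^ 2) + a₀ ^ 2 • f 1, fun e => ?_, (H P v).add_mem (mem_H (f1 _ hs))
      ((H P v).smul_mem _ (mem_H (f1 _ k.one_mem))), ?_⟩
    · have h1 : f 1 ≠ 0 := fun e => by simpa [e] using f2 1 k.one_mem
      have h3 := f1 _ hs
      rw [show f (a₀ ^ 2) = a₀ ^ 2 • f 1 by
        linear_combination (norm := module) e - h2 • a₀ ^ 2 • f 1] at h3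
      rcases root hr hv h1 (f1 _ k.one_mem) h3 with e | e
      · exact pow_ne_zero 2 ha0 e
      · exact pow_ne_zero 2 (sub_ne_zero.2 ha1) (by linear_combination e + (1 - a₀) * h2)
    · rw [← eq_sub_iff_add_eq.1 (e1 _ hs)]
      exact (H P w).add_mem (mem_H (g1 _ hs)) ((H P w).smul_mem _ (mem_H (g1 _ k.one_mem)))

/-- The elements of `P` moving every vector by an element of the span of `v` and `w`. -/
def NP (P : Subgroup (GL ι F)) (v w : ι → F) : Subgroup (GL ι F) where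
  carrier := {g | g ∈ P ∧ ∃ α β : ι → F, ∀ x,
    (g : Matrix ι ι F) *ᵥ x = x + (α ⬝ᵥ x) • v + (β ⬝ᵥ x) • w}
  one_mem' := ⟨P.one_mem, 0, 0, by simp⟩
  mul_mem' := by
    rintro g h ⟨hg, α, β, e⟩ ⟨hh, α', β', e'⟩
    refine ⟨P.mul_mem hg hh, α' + α ᵥ* (h : Matrix ι ι F), β' + β ᵥ* (h : Matrix ι ι F), fun x => ?_⟩
    rw [mul_mulVec, e, add_dotProduct, add_dotProduct, ← dotProduct_mulVec, ← dotProduct_mulVec]
    linear_combination (norm := module) e' x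
  inv_mem' := by
    rintro g ⟨hg, α, β, e⟩
    refine ⟨P.inv_mem hg, -(α ᵥ* ((g⁻¹ : GL ι F) : Matrix ι ι F)),
      -(β ᵥ* ((g⁻¹ : GL ι F) : Matrix ι ι F)), fun x => ?_⟩
    have := e (((g⁻¹ : GL ι F) : Matrix ι ι F) *ᵥ x)
    rw [mulVec_inv_mulVec] at this
    rw [neg_dotProduct, neg_dotProduct, ← dotProduct_mulVec, ← dotProduct_mulVec]
    linear_combination (norm := module) -this

theorem exists_axis (h2 : (2 : F) = 0) (hi : ∀ s t : F, s • v + t • w = 0 → s = 0 ∧ t = 0)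
    (hK : K0 P v w) {g : GL ι F} (hg : g ∈ P) {α β : ι → F}
    (e : ∀ x, (g : Matrix ι ι F) *ᵥ x = x + (α ⬝ᵥ x) • v + (β ⬝ᵥ x) • w) {a : F}
    (e1 : (g : Matrix ι ι F) *ᵥ v = v) (e2 : (g : Matrix ι ι F) *ᵥ w = a • v + w) :
    ∃ φ, MT P v φ ∧ φ ⬝ᵥ w = a := by
  by_cases ha : a = 0
  · exact ⟨0, MT.zero P v, by simp [ha]⟩
  obtain ⟨a1, a2⟩ := hi (α ⬝ᵥ v) (β ⬝ᵥ v) (by linear_combination (norm := module) e1 - e v)
  obtain ⟨a3, a4⟩ := hi (α ⬝ᵥ w - a) (β ⬝ᵥ w) (by linear_combination (norm := module) e2 - e w)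
  have h1 : MT P v (a • β) := ⟨by simp [a2], g * g, P.mul_mem hg hg, fun x => by
    rw [mul_mulVec, e x, mulVec_add, mulVec_add, mulVec_smul, mulVec_smul, e1, e2, e x,
      smul_dotProduct, smul_eq_mul]
    linear_combination (norm := module) h2 • ((α ⬝ᵥ x) • v + (β ⬝ᵥ x) • w)⟩
  have h3 := (smul_eq_zero.1 (hK _ h1 (by simp [a4]))).resolve_left ha
  exact ⟨α, ⟨a1, g, hg, fun x => by simpa [h3] using e x⟩, sub_eq_zero.1 a3⟩

theorem case3 (h2 : (2 : F) = 0) (hr : ¬ Root P 3) (hv : Two P v) (h : MT P v φ) (h' : MT P w ψ)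
    (h3 : φ ⬝ᵥ w ≠ 0) (h4 : ψ ⬝ᵥ v ≠ 0) (hK : K0 P v w) (hK' : K0 P w v) :
    finrank F (H P v) ≤ 2 ∧ ∃ c, c ≠ 0 ∧ c ∈ H P v ∧ c ∈ H P w := by
  have hi : ∀ s t : F, s • v + t • w = 0 → s = 0 ∧ t = 0 := fun s t e => by
    have e1 := congrArg (φ ⬝ᵥ ·) e
    have e2 := congrArg (ψ ⬝ᵥ ·) e
    simp only [dotProduct_add, dotProduct_smul, h.1, h'.1, smul_eq_mul, mul_zero, zero_add, add_zero,
      dotProduct_zero, mul_eq_zero] at e1 e2
    exact ⟨e2.resolve_right h4, e1.resolve_right h3⟩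
  have hU : ∀ a, a ∈ upS (planeL (NP P v w) v w) ↔ ∃ φ, MT P v φ ∧ φ ⬝ᵥ w = a := fun a => by
    constructor
    · rintro ⟨M, ⟨g, ⟨hg, α, β, e⟩, e1, e2⟩, hM⟩
      rw [hM] at e1 e2
      exact exists_axis h2 hi hK hg e (by simpa using e1) (by simpa using e2)
    · rintro ⟨χ, ⟨h0, g, hg, e⟩, rfl⟩
      refine ⟨GeneralLinearGroup.mkOfDetNeZero !![1, χ ⬝ᵥ w; 0, 1] (by simp),
        ⟨g, ⟨hg, χ, 0, fun x => by simp [e]⟩, ?_, ?_⟩, rfl⟩
      · simp [e, h0, GeneralLinearGroup.mkOfDetNeZero]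
      · simp [e, GeneralLinearGroup.mkOfDetNeZero, add_comm]
  have hL : ∀ a, a ∈ loS (planeL (NP P v w) v w) ↔ ∃ ψ, MT P w ψ ∧ ψ ⬝ᵥ v = a := fun a => by
    constructor
    · rintro ⟨M, ⟨g, ⟨hg, α, β, e⟩, e1, e2⟩, hM⟩
      rw [hM] at e1 e2
      exact exists_axis h2 (fun s t e => (hi t s (by rw [add_comm, e])).symm) hK' hg (α := β) (β := α)
        (fun x => by rw [e, add_right_comm]) (by simpa using e2) (by simpa [add_comm] using e1)
    · rintro ⟨χ, ⟨h0, g, hg, e⟩, rfl⟩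
      refine ⟨GeneralLinearGroup.mkOfDetNeZero !![1, 0; χ ⬝ᵥ v, 1] (by simp),
        ⟨g, ⟨hg, 0, χ, fun x => by simp [e]⟩, ?_, ?_⟩, rfl⟩
      · simp [e, GeneralLinearGroup.mkOfDetNeZero]
      · simp [e, h0, GeneralLinearGroup.mkOfDetNeZero]
  obtain ⟨hv0, χ, χ', c1, c2, c3, c4, c5⟩ := hv
  have d1 : χ ⬝ᵥ w ≠ 0 := fun e => c1 (hK _ c4 e)
  have d2 : χ' ⬝ᵥ w ≠ 0 := fun e => c2 (hK _ c5 e)
  have d3 : χ ⬝ᵥ w ≠ χ' ⬝ᵥ w := fun e =>
    c3 (sub_eq_zero.1 (hK _ (c4.sub c5) (by rw [sub_dotProduct, e, sub_self])))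
  obtain ⟨k, k1, k2⟩ := D3.dl (L := planeL (NP P v w) v w) (Or.inl ((Set.three_lt_ncard).2
    ⟨0, (hU _).2 ⟨0, MT.zero P v, by simp⟩, _, (hU _).2 ⟨χ, c4, rfl⟩, _, (hU _).2 ⟨χ', c5, rfl⟩,
      χ ⬝ᵥ w - χ' ⬝ᵥ w, (hU _).2 ⟨_, c4.sub c5, sub_dotProduct _ _ _⟩, d1.symm, d2.symm,
      (sub_ne_zero.2 d3).symm, d3, fun e => d2 (by linear_combination e),
      fun e => d1 (by linear_combination -e + χ' ⬝ᵥ w * h2)⟩)) ((hL _).2 ⟨ψ, h', rfl⟩) h4
  generalize ψ ⬝ᵥ v = b at h4 k1 k2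
  have := core (w := b • w) h2 hr hv0 (k := k) (a₀ := χ ⬝ᵥ w * b / (χ' ⬝ᵥ w * b))
    (k.div_mem ((k1 _).1 ((hU _).2 ⟨χ, c4, rfl⟩)) ((k1 _).1 ((hU _).2 ⟨χ', c5, rfl⟩)))
    (div_ne_zero (mul_ne_zero d1 h4) (mul_ne_zero d2 h4))
    (fun e => d3 (mul_right_cancel₀ h4 (eq_of_div_eq_one e)))
    (fun χ h e => hK χ h (by simpa [h4] using e)) (fun a => ⟨fun ha => ?_, ?_⟩) fun a ha => ?_
  · exact ⟨this.1, this.2.imp fun c hc => ⟨hc.1, hc.2.1, H_smul_le h4 hc.2.2⟩⟩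
  · obtain ⟨ρ, r1, r2⟩ := (hU _).1 ((k1 (a / b)).2 (by rwa [div_mul_cancel₀ _ h4]))
    exact ⟨ρ, r1, by rw [dotProduct_smul, r2, smul_eq_mul, mul_div_cancel₀ _ h4]⟩
  · rintro ⟨ρ, r1, rfl⟩
    rw [dotProduct_smul, smul_eq_mul, mul_comm]
    exact (k1 _).1 ((hU _).2 ⟨ρ, r1, rfl⟩)
  · obtain ⟨ρ, r1, r2⟩ := (hL _).1 ((k2 (a * b)).2 (by rwa [mul_inv_cancel_right₀ h4]))
    refine ⟨b⁻¹ • ρ, by simpa [MT.smul_iff, smul_smul, h4] using r1, ?_⟩
    rw [smul_dotProduct, r2, smul_eq_mul, mul_comm, mul_inv_cancel_right₀ h4]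

theorem meetK (h' : MT P w ψ) (h4 : ψ ⬝ᵥ v ≠ 0) (hK : ¬ K0 P v w) :
    ∃ c, c ≠ 0 ∧ c ∈ H P v ∧ c ∈ H P w := by
  unfold K0 at hK
  push Not at hK
  obtain ⟨χ, c1, c2, c3⟩ := hK
  exact ⟨_, smul_ne_zero h4 c3, (H P v).smul_mem _ (mem_H c1), mem_H (h'.comm c1 c2)⟩

theorem Two.not_K0 (hv : Two P v) (h : ∀ φ, MT P v φ → φ ⬝ᵥ w = 0) : ¬ K0 P v w := fun hK =>
  let ⟨_, χ, _, c1, _, _, c4, _⟩ := hv
  c1 (hK χ c4 (h χ c4))

theorem meet (h2 : (2 : F) = 0) (hn' : Fintype.card ι ≤ 5) (hr : ¬ Root P 3) (hv : Two P v)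
    (hw : Two P w) : ∃ c, c ≠ 0 ∧ c ∈ H P v ∧ c ∈ H P w := by
  by_cases hA : ∀ ψ, MT P w ψ → ψ ⬝ᵥ v = 0 <;> by_cases hB : ∀ φ, MT P v φ → φ ⬝ᵥ w = 0
  · by_cases hp : ∀ χ : ι → F, χ ⬝ᵥ v = 0 → χ ⬝ᵥ w = 0
    · obtain ⟨i, hi⟩ := Function.ne_iff.1 hv.1
      have e : w = (w i / v i) • v := funext fun j => by
        have := hp (Pi.single j (v i) - Pi.single i (v j)) (by simp [mul_comm])
        simp only [sub_dotProduct, single_dotProduct] at this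
        rw [Pi.smul_apply, smul_eq_mul, div_mul_eq_mul_div, eq_div_iff hi]
        linear_combination this
      obtain ⟨hw0, χ, -, c1, -, -, c4, -⟩ := hw
      refine ⟨χ, c1, H_smul_le (b := w i / v i) (fun e' => hw0 (by rw [e, e', zero_smul])) ?_, mem_H c4⟩
      rw [← e]
      exact mem_H c4
    push Not at hp
    obtain ⟨χ, c1, c2⟩ := hp
    by_contra hn
    push Not at hn
    have e0 : H P v ⊓ H P w = ⊥ := (Submodule.eq_bot_iff _).2 fun c hc => by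
      by_contra h0
      exact hn c h0 hc.1 hc.2
    have e1 := Submodule.finrank_sup_add_finrank_inf_eq (H P v) (H P w)
    rw [e0, finrank_bot] at e1
    have e2 : H P v ⊔ H P w < kerS (· = v) := by
      refine lt_of_le_of_lt (b := kerS (· = v) ⊓ kerS (· = w)) (sup_le (H_le fun φ h => ⟨?_, ?_⟩)
        (H_le fun φ h => ⟨?_, ?_⟩)) (lt_of_le_of_ne inf_le_left fun e => c2 ?_)
      · rintro _ rfl; rw [dotProduct_comm, h.1]
      · rintro _ rfl; rw [dotProduct_comm, hB φ h]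
      · rintro _ rfl; rw [dotProduct_comm, hA φ h]
      · rintro _ rfl; rw [dotProduct_comm, h.1]
      · rw [dotProduct_comm]
        exact inf_eq_left.1 e (show χ ∈ kerS (· = v) by
          rintro _ rfl; rw [dotProduct_comm, c1]) w rfl
    have e3 := Submodule.finrank_lt_finrank_of_lt e2
    have e4 := Submodule.finrank_lt (kerS_ne_top (S := (· = v)) rfl hv.1)
    rw [finrank_fintype_fun_eq_card] at e4
    have := hv.two_le hr
    have := hw.two_le hr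
    omega
  · push Not at hB
    obtain ⟨φ, h, h3⟩ := hB
    exact (meetK h h3 (hw.not_K0 hA)).imp fun c hc => ⟨hc.1, hc.2.2, hc.2.1⟩
  · push Not at hA
    obtain ⟨ψ, h', h4⟩ := hA
    exact meetK h' h4 (hv.not_K0 hB)
  · push Not at hA hB
    obtain ⟨φ, h, h3⟩ := hB
    obtain ⟨ψ, h', h4⟩ := hA
    by_cases hK : K0 P v w
    · by_cases hK' : K0 P w v
      · exact (case3 h2 hr hv h h' h3 h4 hK hK').2
      · exact (meetK h h3 hK').imp fun c hc => ⟨hc.1, hc.2.2, hc.2.1⟩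
    · exact meetK h' h4 hK

theorem not_le (h2 : (2 : F) = 0) (hn : 4 ≤ Fintype.card ι) (hn' : Fintype.card ι ≤ 5) (hP : QS P)
    (hr : ¬ Root P 3) (hv : Two P v) : ¬ finrank F (H P v) ≤ 2 := fun hf => by
  let O : (ι → F) → Prop := fun x => Two P x ∧ finrank F (H P x) ≤ 2
  have hO : ∀ g ∈ P, ∀ x, O x → O ((g : Matrix ι ι F) *ᵥ x) := fun g hg x hx =>
    ⟨hx.1.conj hg, (finrank_conj hg).trans hx.2⟩
  rcases planes (O := O) (H := H P) (fun _ hx => hx.2) (fun _ _ hx hy => meet h2 hn' hr hx.1 hy.1)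
    ⟨hv, hf⟩ with ⟨c, hc, h⟩ | ⟨S, hS, h⟩
  · refine (hP.irr (kerS fun χ => ∀ x, O x → χ ∈ H P x) fun g hg u hu χ hχ => ?_).elim
      (fun e => hv.1 ?_) (kerS_ne_top h hc)
    · rw [dotProduct_mulVec]
      exact hu _ fun x hx => H_conj hg (hχ _ (hO g hg x hx))
    · rw [← Submodule.mem_bot F, ← e]
      exact fun χ hχ => dot_of_mem_H (fun _ h => h.1) (hχ v ⟨hv, hf⟩)
  · obtain ⟨-, χ, -, c1, -, -, c4, -⟩ := id hv
    obtain ⟨l, hl, hl'⟩ := S.exists_le_ker_of_lt_top (lt_top_iff_ne_top.2 fun e => by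
      rw [e, finrank_top, finrank_fintype_fun_eq_card] at hS
      omega)
    obtain ⟨u, rfl⟩ := (dotProductEquiv F ι).surjective l
    refine (hP.irr (kerS fun χ => ∃ x, O x ∧ χ ∈ H P x) ?_).elim
      (fun e => hl ?_) (kerS_ne_top ⟨v, ⟨hv, hf⟩, mem_H c4⟩ c1)
    · rintro g hg u hu χ ⟨x, hx, hχ⟩
      rw [dotProduct_mulVec]
      exact hu _ ⟨_, hO _ (P.inv_mem hg) x hx, H_conj hg (by rwa [mulVec_inv_mulVec])⟩
    · rw [map_eq_zero_iff _ (dotProductEquiv F ι).injective, ← Submodule.mem_bot F, ← e]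
      rintro χ ⟨x, hx, hχ⟩
      rw [dotProduct_comm]
      exact hl' (h x hx hχ)

end TG

variable {F : Type*} [Field F] [Finite F] {ι : Type} [Fintype ι] [DecidableEq ι]
  {P : Subgroup (GL ι F)} {k : Subfield F} {T : (ι → F) → (ι → F) → Prop}

theorem tf_of_two_axes (h2 : (2 : F) = 0) (hn : 4 ≤ Fintype.card ι) (hn' : Fintype.card ι ≤ 5)
    (hP : QS P) (hr : ¬ Root P 3) {v φ φ' : ι → F} (h : TA P v φ) (h' : TA P v φ') (hne : φ ≠ φ') :
    ∃ T, TF P ⊥ T := by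
  have key : ∀ {v φ w ψ : ι → F}, TA P v φ → MT P w ψ → ψ ⬝ᵥ v ≠ 0 → ¬ TG.K0 P v w →
      φ ⬝ᵥ w * ψ ⬝ᵥ v ∈ (⊥ : Subfield F) := by
    intro v φ w ψ h h' h4 hK
    unfold TG.K0 at hK
    push Not at hK
    obtain ⟨χ, c1, c2, c3⟩ := hK
    have := h.2.2.comm (h'.comm c1 c2) (by simp [c1.1])
    rw [smul_smul] at this
    rcases TG.root hr h.1 c3 c1 this with e | e <;> rw [e]
    exacts [zero_mem _, one_mem _]
  refine ⟨fun v φ => TA P v φ ∧ TG.Two P v, hP, ⟨fun _ _ h => h.1.2.2, fun _ _ h => ⟨h.1.1, h.1.2.1⟩,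
    fun v φ h g hg => ⟨fam_TA.conj v φ h.1 g hg, h.2.conj hg⟩⟩,
    ⟨v, φ, h, h.1, φ, φ', h.2.1, h'.2.1, hne, h.2.2, h'.2.2⟩, fun {v φ} h c d hc hd hk => ?_,
    fun {v φ w ψ} h h' => ?_, fun v φ hv hφ => ?_⟩
  · refine ⟨⟨smul_ne_zero hc h.1.1, smul_ne_zero hd h.1.2.1, ?_⟩, h.2.smul hc⟩
    have : Fact (Nat.Prime 2) := ⟨Nat.prime_two⟩
    have : CharP F 2 := CharTwo.of_one_ne_zero_of_two_eq_zero one_ne_zero h2
    have h1 := (Subfield.mem_bot_iff_pow_eq_self F 2).1 hk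
    rw [pow_two, mul_right_eq_self₀] at h1
    rw [MT.smul_iff, smul_smul, h1.resolve_right (mul_ne_zero hc hd), one_smul]
    exact h.1.2.2
  · by_cases h3 : φ ⬝ᵥ w = 0
    · rw [h3, zero_mul]; exact zero_mem _
    by_cases h4 : ψ ⬝ᵥ v = 0
    · rw [h4, mul_zero]; exact zero_mem _
    by_cases hK : TG.K0 P v w
    · by_cases hK' : TG.K0 P w v
      · exact absurd (TG.case3 h2 hr h.2 h.1.2.2 h'.1.2.2 h3 h4 hK hK').1
          (TG.not_le h2 hn hn' hP hr h.2)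
      · rw [mul_comm]; exact key h'.1 h.1.2.2 h3 hK'
    · exact key h.1 h'.1.2.2 h4 hK
  · refine le_trans ?_ (Finite.one_lt_card (α := (⊥ : Subfield F)))
    by_contra h3
    exact hr ((root_of_ncard hv hφ).mono (by omega))

end Cfsg.Agent.Cl.D5
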