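/-
Characteristic two, unique centres and axes: frames of transvections.
-/
import Mathlib
import Cfsg.Agent.Cl.D5TA
import Cfsg.Agent.Cl.D5TI

set_option autoImplicit false

namespace Cfsg.Agent.Cl.D5.TH

open Matrix Cfsg.Geo Cfsg.Agent.Cl.Max Cfsg.Agent.Cl.Mx
open scoped MatrixGroups

variable {F : Type*} [Field F] {ι : Type} [Fintype ι] [DecidableEq ι] {P : Subgroup (GL ι F)}

/-- The standing hypothesis. -/
structure Hy (P : Subgroup (GL ι F)) : Prop where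
  two : (2 : F) = 0
  ax : ∀ v φ φ', TA P v φ → TA P v φ' → φ = φ'
  ce : ∀ v v' φ, TA P v φ → TA P v' φ → v = v'

theorem scale {v φ : ι → F} (h : TA P v φ) {c : F} (hc : c ≠ 0) : TA P (c • v) (c⁻¹ • φ) :=
  ⟨smul_ne_zero hc h.1, smul_ne_zero (inv_ne_zero hc) h.2.1, by
    rw [MT.smul_iff, smul_smul, mul_inv_cancel₀ hc, one_smul]; exact h.2.2⟩

theorem move {v φ w ψ : ι → F} (h : TA P v φ) (h' : TA P w ψ) :
    TA P (v + (ψ ⬝ᵥ v) • w) (φ - (φ ⬝ᵥ w) • ψ) := fam_TA.move h h'.2.2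

/-- The members of non-symmetric triples. -/
def NS (P : Subgroup (GL ι F)) (v φ : ι → F) : Prop :=
  TA P v φ ∧ ∃ v₂ φ₂ v₃ φ₃, TA P v₂ φ₂ ∧ TA P v₃ φ₃ ∧
    cyc3 v φ v₂ φ₂ v₃ φ₃ ≠ cyc3 v φ v₃ φ₃ v₂ φ₂

theorem dot_conj (g : GL ι F) (φ v : ι → F) :
    (φ ᵥ* ((g⁻¹ : GL ι F) : Matrix ι ι F)) ⬝ᵥ ((g : Matrix ι ι F) *ᵥ v) = φ ⬝ᵥ v := by
  rw [← dotProduct_mulVec, inv_mulVec_mulVec]

theorem fam_NS : Fam P (NS P) where
  mt _ _ h := h.1.2.2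
  ne _ _ h := ⟨h.1.1, h.1.2.1⟩
  conj := by
    rintro v φ ⟨h, v₂, φ₂, v₃, φ₃, h₂, h₃, e⟩ g hg
    refine ⟨fam_TA.conj _ _ h g hg, _, _, _, _, fam_TA.conj _ _ h₂ g hg, fam_TA.conj _ _ h₃ g hg, ?_⟩
    simpa only [cyc3, dot_conj] using e

namespace Hy

variable (H : Hy P)
include H

theorem zero {v φ w ψ : ι → F} (h : TA P v φ) (h' : TA P w ψ) (h0 : ψ ⬝ᵥ v = 0) : φ ⬝ᵥ w = 0 :=
  TI.zero_rule H.ax h h' h0

theorem ext_ns {v φ w ψ : ι → F} (h : NS P v φ) (h' : TA P w ψ) (h0 : φ ⬝ᵥ w ≠ 0) :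
    ∃ x χ, TA P x χ ∧ cyc3 v φ w ψ x χ ≠ cyc3 v φ x χ w ψ := by
  obtain ⟨h₁, v₂, φ₂, v₃, φ₃, h₂, h₃, e⟩ := h
  by_contra hn
  push Not at hn
  have a0 : ψ ⬝ᵥ v ≠ 0 := fun a => h0 (H.zero h₁ h' a)
  have a1 : φ ⬝ᵥ v₂ ≠ 0 := fun a => e (by simp [cyc3, a, H.zero h₂ h₁ a])
  have a2 : φ ⬝ᵥ v₃ ≠ 0 := fun a => e (by simp [cyc3, a, H.zero h₃ h₁ a])
  have a3 : φ₂ ⬝ᵥ v₃ ≠ 0 := fun a => e (by simp [cyc3, a, H.zero h₃ h₂ a])
  have k2 := hn _ _ h₂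
  have k3 := hn _ _ h₃
  have k4 := hn _ _ (move h₂ h₃)
  have k5 := hn _ _ (move (move h₁ h₂) h₃)
  have h2 := H.two
  simp only [cyc3, dotProduct_add, dotProduct_smul, sub_dotProduct, smul_dotProduct, smul_eq_mul,
    h₁.2.2.1] at k2 k3 k4 k5 e
  generalize φ ⬝ᵥ w = g14, ψ ⬝ᵥ v = g41, φ ⬝ᵥ v₂ = g12, φ ⬝ᵥ v₃ = g13, φ₂ ⬝ᵥ v₃ = g23,
    φ₂ ⬝ᵥ v = g21, φ₃ ⬝ᵥ v = g31, φ₃ ⬝ᵥ v₂ = g32, ψ ⬝ᵥ v₂ = g42, ψ ⬝ᵥ v₃ = g43,
    φ₂ ⬝ᵥ w = g24, φ₃ ⬝ᵥ w = g34 at *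
  grind

end Hy

/-- A transvection of monomial type. -/
def Tf (P : Subgroup (GL ι F)) (p π q κ : ι → F) (b : F) : Prop := TA P (p + b • q) (π + b⁻¹ • κ)

theorem Tf.symm {p π q κ : ι → F} {b : F} (h : Tf P p π q κ b) (hb : b ≠ 0) : Tf P q κ p π b⁻¹ := by
  have := scale h (inv_ne_zero hb)
  rwa [inv_inv, smul_add, smul_add, smul_smul, smul_smul, inv_mul_cancel₀ hb, mul_inv_cancel₀ hb,
    one_smul, one_smul, add_comm, add_comm (b • π), ← inv_inv b, inv_inv b⁻¹] at this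

theorem Hy.trans (H : Hy P) {p π q κ s σ : ι → F} {b b' : F} (h : Tf P p π q κ b)
    (h' : Tf P q κ s σ b') (a1 : κ ⬝ᵥ p = 0) (a2 : σ ⬝ᵥ p = 0) (a3 : κ ⬝ᵥ q = 1) (a4 : σ ⬝ᵥ q = 0)
    (a5 : π ⬝ᵥ q = 0) (a6 : π ⬝ᵥ s = 0) (a7 : κ ⬝ᵥ s = 0) : Tf P p π s σ (b * b') := by
  have := move h h'
  have h2 := H.two
  simp only [dotProduct_add, dotProduct_smul, add_dotProduct, smul_dotProduct, smul_eq_mul,
    a1, a2, a3, a4, a5, a6, a7, mul_zero, add_zero, zero_add, mul_one] at this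
  unfold Tf
  convert this using 1
  · linear_combination (norm := module) (-b * h2) • q
  · rw [mul_inv]
    linear_combination (norm := module) (b⁻¹ * b'⁻¹ * h2) • σ

/-- A frame. -/
structure Fr (P : Subgroup (GL ι F)) (A : Subgroup Fˣ) {r : ℕ} (e ε : Fin r → ι → F) : Prop where
  one : ∀ i, ε i ⬝ᵥ e i = 1
  zero : ∀ {i j}, i ≠ j → ε i ⬝ᵥ e j = 0
  tv : ∀ {i j}, i ≠ j → ∀ b ∈ A, Tf P (e i) (ε i) (e j) (ε j) b

/-- The distinguished parameter. -/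
structure Gd (A : Subgroup Fˣ) (c : Fˣ) : Prop where
  mem : c ∈ A
  l0 : (c : F) + (c : F)⁻¹ ≠ 0
  l1 : (c : F) + (c : F)⁻¹ ≠ 1

theorem third {r : ℕ} (hr : 3 ≤ r) (i j : Fin r) : ∃ k, k ≠ i ∧ k ≠ j := by
  by_contra h
  push Not at h
  have : (Finset.univ : Finset (Fin r)) ⊆ {i, j} := fun k _ => by
    by_cases e : k = i
    · simp [e]
    · simp [h k e]
  have := (Finset.card_le_card this).trans Finset.card_le_two
  simp at this
  omega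

variable {A : Subgroup Fˣ} {c : Fˣ}

theorem Gd.avoid (hc : Gd A c) (h2 : (2 : F) = 0) {a u w : F} (ha : a ≠ 0) (hu : u ≠ 0) :
    ∃ b ∈ A, (b : F) * u ≠ 1 ∧ a * (b * u + ((b : F) * u)⁻¹) ≠ 1 ∧ (b : F) * u * w ≠ 1 := by
  by_contra hn
  push Not at hn
  have l0 := hc.l0
  have l1 := hc.l1
  have c0 := c.ne_zero
  have c1 : (c : F) ≠ 1 := by grind
  have c2 : (c : F) ^ 2 ≠ 1 := by grind
  have c3 : (c : F) ^ 3 ≠ 1 := by grind
  have c4 : (c : F) ^ 4 ≠ 1 := fun e => c1 (by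
    have h1 : ((c : F) - 1) ^ 4 = 0 := by grind
    exact sub_eq_zero.1 (pow_eq_zero_iff (by norm_num) |>.1 h1))
  open Polynomial in
  have := eq_zero_of_natDegree_lt_card_of_eval_eq_zero
    ((C u * X - 1) * (C (a * u ^ 2) * X ^ 2 - C u * X + C a) * (C (u * w) * X - 1))
    (f := fun n : Fin 5 => (c : F) ^ (n : ℕ)) (fun m n e => ?_) (fun n => ?_) ?_
  · have := congrArg (Polynomial.eval 0) this
    simp [ha] at this
  · have key : ∀ m n : ℕ, m < n → n < 5 → (c : F) ^ m ≠ (c : F) ^ n := fun m n h1 h5 e => by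
      obtain ⟨k, rfl⟩ := Nat.exists_eq_add_of_lt h1
      rw [add_assoc, pow_add, left_eq_mul₀ (pow_ne_zero _ c0)] at e
      have : k < 4 := by omega
      interval_cases k
      exacts [c1 (by simpa using e), c2 e, c3 e, c4 e]
    rcases lt_trichotomy (m : ℕ) n with h | h | h
    exacts [(key _ _ h n.2 e).elim, Fin.ext h, (key _ _ h m.2 e.symm).elim]
  · have := hn _ (A.pow_mem hc.mem n)
    have h0 : (c : F) ^ (n : ℕ) ≠ 0 := pow_ne_zero _ c0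
    simp only [Units.val_pow_eq_pow_val] at this
    simp only [Polynomial.eval_mul, Polynomial.eval_sub, Polynomial.eval_add, Polynomial.eval_C,
      Polynomial.eval_X, Polynomial.eval_one, Polynomial.eval_pow]
    generalize (c : F) ^ (n : ℕ) = b at *
    simp only [mul_eq_zero]
    by_cases k1 : b * u = 1
    · exact .inl (.inl (by linear_combination k1))
    by_cases k2 : a * (b * u + (b * u)⁻¹) = 1
    · field_simp at k2
      exact .inl (.inr (by linear_combination k2))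
    · exact .inr (by linear_combination this k1 k2)
  · rw [Fintype.card_fin, Nat.lt_succ_iff]
    compute_degree

variable {r : ℕ} {e ε : Fin r → ι → F} {v φ : ι → F}

section

variable [Finite F] (H : Hy P) (hc : Gd A c) (h : Fr P A e ε)
include H hc h

theorem link (ht : TA P v φ) {i j : Fin r} (hij : i ≠ j) :
    ε i ⬝ᵥ v * φ ⬝ᵥ e i = ε j ⬝ᵥ v * φ ⬝ᵥ e j ∨
      (ε i ⬝ᵥ v * φ ⬝ᵥ e i = 1 ∧ ε j ⬝ᵥ v = 0 ∧ φ ⬝ᵥ e j = 0) ∨
      (ε j ⬝ᵥ v * φ ⬝ᵥ e j = 1 ∧ ε i ⬝ᵥ v = 0 ∧ φ ⬝ᵥ e i = 0) := by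
  have k := core_three H.two H.ax H.ce (h.tv hij 1 A.one_mem) (h.tv hij c hc.mem) ht
  have h2 := H.two
  have l0 := hc.l0
  have l1 := hc.l1
  have c0 := mul_inv_cancel₀ c.ne_zero
  simp only [cyc3, dotProduct_add, dotProduct_smul, add_dotProduct, smul_dotProduct, smul_eq_mul,
    h.one, h.zero hij, h.zero hij.symm, Units.val_one, inv_one, mul_zero, add_zero, zero_add,
    mul_one, one_mul] at k
  generalize ε i ⬝ᵥ v = x, ε j ⬝ᵥ v = y, φ ⬝ᵥ e i = x', φ ⬝ᵥ e j = y', (c : F)⁻¹ = d at *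
  generalize (c : F) = c at *
  by_cases a : x * x' = y * y'
  · exact .inl a
  obtain ⟨k1, k2, k3⟩ := k (by grind) (by grind)
  have a1 : x * x' + y * y' = 1 := by grind
  have a2 : x * y' = 0 := by grind
  have a3 : y * x' = 0 := by grind
  grind

omit [Finite F] in
theorem all_zero (hr : 3 ≤ r) (ht : TA P v φ) (ha : ∀ i, ε i ⬝ᵥ v * φ ⬝ᵥ e i = 0) (i : Fin r) :
    φ ⬝ᵥ e i = 0 := by
  have l0 := hc.l0
  have c0 := mul_inv_cancel₀ c.ne_zero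
  have h2 := H.two
  have k1 : ∀ {i j}, i ≠ j → φ ⬝ᵥ e i = 0 → φ ⬝ᵥ e j = 0 → ε i ⬝ᵥ v = 0 := fun {i j} hij a b => by
    have p := H.zero (h.tv hij 1 A.one_mem) ht (by simp [a, b])
    have q := H.zero (h.tv hij c hc.mem) ht (by simp [a, b])
    simp only [add_dotProduct, smul_dotProduct, smul_eq_mul, Units.val_one, inv_one] at p q
    grind
  have k2 : ∀ {i j}, i ≠ j → ε i ⬝ᵥ v = 0 → ε j ⬝ᵥ v = 0 → φ ⬝ᵥ e i = 0 := fun {i j} hij a b => by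
    have p := H.zero ht (h.tv hij 1 A.one_mem) (by simp [a, b])
    have q := H.zero ht (h.tv hij c hc.mem) (by simp [a, b])
    simp only [dotProduct_add, dotProduct_smul, smul_eq_mul, Units.val_one] at p q
    grind
  obtain ⟨j, hj, -⟩ := third hr i i
  obtain ⟨k, hk, hk'⟩ := third hr i j
  by_contra hn
  have a1 : ε i ⬝ᵥ v = 0 := (mul_eq_zero.1 (ha i)).resolve_right hn
  have a2 : ε j ⬝ᵥ v ≠ 0 := fun a => hn (k2 hj.symm a1 a)
  have a3 : ε k ⬝ᵥ v ≠ 0 := fun a => hn (k2 hk.symm a1 a)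
  exact a2 (k1 hk'.symm ((mul_eq_zero.1 (ha j)).resolve_left a2)
    ((mul_eq_zero.1 (ha k)).resolve_left a3))

theorem not_all (hr : 3 ≤ r) (ht : TA P v φ) {a : F} (ha : ∀ i, ε i ⬝ᵥ v * φ ⬝ᵥ e i = a) :
    a = 0 := by
  by_contra a0
  obtain ⟨i, -, -⟩ := third hr ⟨0, by omega⟩ ⟨0, by omega⟩
  obtain ⟨j, hj, -⟩ := third hr i i
  obtain ⟨k, hk, hk'⟩ := third hr i j
  have h2 := H.two
  have x1 := ha i
  have x2 := ha j
  have x3 := ha k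
  have n1 : ε i ⬝ᵥ v ≠ 0 := fun e => a0 (by rw [← x1, e, zero_mul])
  have n2 : ε j ⬝ᵥ v ≠ 0 := fun e => a0 (by rw [← x2, e, zero_mul])
  have n3 : ε k ⬝ᵥ v ≠ 0 := fun e => a0 (by rw [← x3, e, zero_mul])
  obtain ⟨b', hb', p1, p2, -⟩ := hc.avoid h2 (w := 0) a0 (div_ne_zero n2 n3)
  obtain ⟨b, hb, q1, q2, q3⟩ := hc.avoid h2 (w := b' * (ε j ⬝ᵥ v / ε k ⬝ᵥ v)) a0 (div_ne_zero n1 n2)
  have key := core_three H.two H.ax H.ce (h.tv hj.symm b hb) ht (h.tv hk'.symm b' hb')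
  have b0 := b.ne_zero
  have b0' := b'.ne_zero
  simp only [cyc3, dotProduct_add, dotProduct_smul, add_dotProduct, smul_dotProduct, smul_eq_mul,
    h.one, h.zero hj, h.zero hj.symm, h.zero hk, h.zero hk.symm, h.zero hk', h.zero hk'.symm,
    mul_zero, add_zero, zero_add, mul_one] at key
  have y1 : φ ⬝ᵥ e i = a / ε i ⬝ᵥ v := by field_simp; linear_combination x1
  have y2 : φ ⬝ᵥ e j = a / ε j ⬝ᵥ v := by field_simp; linear_combination x2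
  have y3 : φ ⬝ᵥ e k = a / ε k ⬝ᵥ v := by field_simp; linear_combination x3
  rw [y1, y2, y3] at key
  generalize ε i ⬝ᵥ v = x, ε j ⬝ᵥ v = y, ε k ⬝ᵥ v = z, (b : F) = b, (b' : F) = b' at *
  refine p2 ?_
  have := (key (fun e => ?_) fun e => q2 ?_).2.1
  · rw [← this]; field_simp; grind
  · field_simp at e
    have : (b * x - y) * (b' * y - z) * (b * x * b' - z) = 0 := by
      linear_combination e - (b * x * z + y * y * b') * (b * x * b' - z) * h2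
    simp only [mul_eq_zero, sub_eq_zero] at this
    rcases this with (k | k) | k
    · exact q1 (by field_simp; linear_combination k)
    · exact p1 (by field_simp; linear_combination k)
    · exact q3 (by field_simp; linear_combination k)
  · rw [← e]; field_simp; grind

end

end Cfsg.Agent.Cl.D5.TH
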