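/-
Characteristic two, unique centres and axes, dimension five: the two-cycles lie in the prime field.
-/
import Mathlib
import Cfsg.Agent.Cl.D5TA
import Cfsg.Agent.Cl.D5TI
import Cfsg.Agent.Cl.D5THa

set_option autoImplicit false

namespace Cfsg.Agent.Cl.D5

open Matrix Cfsg.Geo Cfsg.Agent.Cl.Max Cfsg.Agent.Cl.Mx
open scoped MatrixGroups

namespace TH

variable {F : Type*} [Field F] {ι : Type} [Fintype ι] [DecidableEq ι] {P : Subgroup (GL ι F)}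
  {A : Subgroup Fˣ} {c : Fˣ}

theorem diag (H : Hy P) {p π q κ : ι → F} {b : F} (hb : b ≠ 0) (h1 : Tf P p π q κ 1)
    (h2 : Tf P p π q κ b) (a1 : π ⬝ᵥ p = 1) (a2 : π ⬝ᵥ q = 0) (a3 : κ ⬝ᵥ p = 0) (a4 : κ ⬝ᵥ q = 1) :
    ∃ g ∈ P, ∀ x, (g : Matrix ι ι F) *ᵥ x =
      x + ((1 + b) * π ⬝ᵥ x) • p + ((1 + b⁻¹) * κ ⬝ᵥ x) • q := by
  obtain ⟨-, g, hg, e⟩ := h1.2.2
  obtain ⟨-, k, hk, e'⟩ := h2.2.2
  refine ⟨g * k, P.mul_mem hg hk, fun x => ?_⟩
  have h2 := H.two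
  have hb' := mul_inv_cancel₀ hb
  rw [mul_mulVec, e', e]
  simp only [dotProduct_add, dotProduct_smul, add_dotProduct, smul_dotProduct, smul_eq_mul,
    a1, a2, a3, a4, inv_one]
  ext k
  simp only [Pi.add_apply, Pi.smul_apply, smul_eq_mul]
  grind

theorem inside (H : Hy P) (hc : Gd A c) {p π q κ z ζ : ι → F} {s : F} (hs : s ≠ 0)
    (h1 : ∀ b ∈ A, Tf P p π q κ b) (h2 : ∀ b ∈ A, Tf P p π (s • (q + z)) (s⁻¹ • (κ + ζ)) b)
    (a1 : π ⬝ᵥ p = 1) (a2 : π ⬝ᵥ q = 0) (a3 : κ ⬝ᵥ p = 0) (a4 : κ ⬝ᵥ q = 1)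
    (a5 : π ⬝ᵥ z = 0) (a6 : κ ⬝ᵥ z = 0) (a7 : ζ ⬝ᵥ p = 0) (a8 : ζ ⬝ᵥ q = 0) (a9 : ζ ⬝ᵥ z = 0) :
    z = 0 ∧ ζ = 0 := by
  have t2 := H.two
  have hs' := mul_inv_cancel₀ hs
  have key : ∀ b ∈ A, ∃ g ∈ P, ∀ x, (g : Matrix ι ι F) *ᵥ x =
      x + ((1 + b) * κ ⬝ᵥ x) • z + ((1 + (b : F)⁻¹) * ζ ⬝ᵥ x) • (q + z) := fun b hb => by
    obtain ⟨g, hg, e⟩ := diag H b.ne_zero (h2 1 A.one_mem) (h2 b hb) a1 (by simp [a2, a5])
      (by simp [a3, a7]) (by simp [a4, a6, a8, a9, hs])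
    obtain ⟨k, hk, e'⟩ := diag H b⁻¹.ne_zero (h1 1 A.one_mem) (h1 _ (A.inv_mem hb)) a1 a2 a3 a4
    refine ⟨g * k, P.mul_mem hg hk, fun x => ?_⟩
    have hb' := mul_inv_cancel₀ b.ne_zero
    rw [mul_mulVec, e', e]
    simp only [dotProduct_add, dotProduct_smul, add_dotProduct, smul_dotProduct, smul_eq_mul,
      a1, a2, a3, a4, a7, a8, Units.val_inv_eq_inv_val, inv_inv]
    ext k
    simp only [Pi.add_apply, Pi.smul_apply, smul_eq_mul]
    grind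
  have l0 := hc.l0
  have l1 := hc.l1
  have c0 := mul_inv_cancel₀ c.ne_zero
  have hq : q ≠ 0 := fun e => by simp [e] at a4
  have hκ : κ ≠ 0 := fun e => by simp [e] at a4
  have fin : ∀ {y χ : ι → F} (m : Fˣ → F), y ≠ 0 → χ ≠ 0 → (∀ b ∈ A, MT P y (m b • χ)) →
      m c ≠ 0 → m (c * c) = m c * m c → m c = 1 := fun m hy hχ h n1 n2 =>
    mul_left_cancel₀ n1 (by
      rw [← n2, mul_one]
      exact smul_left_injective F hχ (H.ax _ _ _ ⟨hy, smul_ne_zero (n2 ▸ mul_ne_zero n1 n1) hχ,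
        h _ (A.mul_mem hc.mem hc.mem)⟩ ⟨hy, smul_ne_zero n1 hχ, h c hc.mem⟩))
  by_cases hz : z = 0 <;> by_cases hζ : ζ = 0
  · exact ⟨hz, hζ⟩
  · have := fin (fun b => 1 + (b : F)⁻¹) hq hζ fun b hb => by
      obtain ⟨g, hg, e⟩ := key b hb
      exact ⟨by simp [a8], g, hg, fun x => by simp [e, hz]⟩
    simp only [Units.val_mul, mul_inv] at this
    have := this (by grind) (by grind)
    grind
  · have := fin (fun b => 1 + (b : F)) hz hκ fun b hb => by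
      obtain ⟨g, hg, e⟩ := key b hb
      exact ⟨by simp [a6], g, hg, fun x => by simp [e, hζ]⟩
    simp only [Units.val_mul] at this
    have := this (by grind) (by grind)
    grind
  · have := fin (fun b => b + (b : F)⁻¹) hz hζ fun b hb => by
      obtain ⟨g, hg, e⟩ := key b hb
      refine ⟨by simp [a9], g * g, P.mul_mem hg hg, fun x => ?_⟩
      have hb' := mul_inv_cancel₀ b.ne_zero
      rw [mul_mulVec, e, e]
      simp only [dotProduct_add, dotProduct_smul, smul_dotProduct, smul_eq_mul, a4, a6, a8, a9]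
      ext k
      simp only [Pi.add_apply, Pi.smul_apply, smul_eq_mul]
      grind
    simp only [Units.val_mul, mul_inv] at this
    have := this (by grind) (by grind)
    grind

variable {r : ℕ} {e ε : Fin r → ι → F} {v φ : ι → F}

theorem Fr.cons (h : Fr P A e ε) {f f' : ι → F} (h1 : f' ⬝ᵥ f = 1) (h2 : ∀ j, ε j ⬝ᵥ f = 0)
    (h3 : ∀ j, f' ⬝ᵥ e j = 0) (h4 : ∀ j, ∀ b ∈ A, Tf P (e j) (ε j) f f' b) :
    Fr P A (Fin.cons f e : Fin (r + 1) → ι → F) (Fin.cons f' ε) where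
  one i := by cases i using Fin.cases <;> simp [h1, h.one]
  zero {i j} hij := by
    cases i using Fin.cases <;> cases j using Fin.cases
    · exact absurd rfl hij
    · simp [h3]
    · simp [h2]
    · simpa using h.zero fun e => hij (by rw [e])
  tv {i j} hij b hb := by
    cases i using Fin.cases <;> cases j using Fin.cases
    · exact absurd rfl hij
    · simpa using (h4 _ _ (A.inv_mem hb)).symm b⁻¹.ne_zero
    · simpa using h4 _ _ hb
    · simpa using h.tv (fun e => hij (by rw [e])) b hb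

theorem step [Finite F] (H : Hy P) (hc : Gd A c) (h : Fr P A e ε) (hr : 3 ≤ r) (ht : TA P v φ) :
    (∃ e' ε' : Fin (r + 1) → ι → F, Fr P A e' ε') ∨ (∀ i, φ ⬝ᵥ e i = 0) ∨
      ∃ i j, i ≠ j ∧ ∃ x s : F, x ≠ 0 ∧ s ≠ 0 ∧ v = x • (e i + s • e j) ∧
        φ = x⁻¹ • (ε i + s⁻¹ • ε j) := by
  have t2 := H.two
  by_cases h0 : ∀ i j, ε i ⬝ᵥ v * φ ⬝ᵥ e i = ε j ⬝ᵥ v * φ ⬝ᵥ e j
  · have := not_all H hc h hr ht fun i => h0 i ⟨0, by omega⟩
    exact .inr (.inl (all_zero H hc h hr ht fun i => (h0 i _).trans this))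
  obtain ⟨i, k, hi, k1, k2⟩ : ∃ i k, ε i ⬝ᵥ v * φ ⬝ᵥ e i = 1 ∧ ε k ⬝ᵥ v = 0 ∧ φ ⬝ᵥ e k = 0 := by
    push Not at h0
    obtain ⟨i, j, h0⟩ := h0
    rcases link H hc h ht (i := i) (j := j) (fun e => h0 (by rw [e])) with a | a | a
    exacts [absurd a h0, ⟨_, _, a⟩, ⟨_, _, a⟩]
  have hx : ε i ⬝ᵥ v ≠ 0 := left_ne_zero_of_mul_eq_one hi
  have hik : k ≠ i := fun e => hx (e ▸ k1)
  set x := ε i ⬝ᵥ v with hxd
  have hx' := mul_inv_cancel₀ hx
  set f := x⁻¹ • v - e i with hf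
  set f' := x • φ - ε i with hf'
  have t0 : Tf P (e i) (ε i) f f' 1 := by
    have := scale ht (inv_ne_zero hx)
    rw [inv_inv] at this
    simpa [Tf, hf, hf'] using this
  have b1 : ε i ⬝ᵥ f = 0 := by simp [hf, ← hxd, h.one, hx]
  have b2 : f' ⬝ᵥ e i = 0 := by simp [hf', h.one, hi]
  have b3 : f' ⬝ᵥ f = 1 := by
    simp only [hf, hf', dotProduct_sub, sub_dotProduct, dotProduct_smul, smul_dotProduct,
      smul_eq_mul, ht.2.2.1, h.one, ← hxd]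
    grind
  have b4 : ∀ j, j ≠ i → ε j ⬝ᵥ f = x⁻¹ * ε j ⬝ᵥ v := fun j hj => by simp [hf, h.zero hj]
  have b5 : ∀ j, j ≠ i → f' ⬝ᵥ e j = x * φ ⬝ᵥ e j := fun j hj => by simp [hf', h.zero hj.symm]
  have t1 : ∀ j, j ≠ i → ε j ⬝ᵥ v = 0 → φ ⬝ᵥ e j = 0 → ∀ b ∈ A, Tf P (e j) (ε j) f f' b :=
    fun j hj a1 a2 b hb => by
      simpa using H.trans (h.tv hj b hb) t0 (h.zero hj.symm) (by simp [b5 j hj, a2]) (h.one i) b2
        (h.zero hj) (by simp [b4 j hj, a1]) b1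
  have t3 : ∀ b ∈ A, Tf P (e i) (ε i) f f' b := fun b hb => by
    simpa using H.trans (h.tv hik.symm b hb) (t1 k hik k1 k2 1 A.one_mem) (h.zero hik) b2 (h.one k)
      (by simp [b5 k hik, k2]) (h.zero hik.symm) b1 (by simp [b4 k hik, k1])
  by_cases hj : ∃ j, j ≠ i ∧ ε j ⬝ᵥ v * φ ⬝ᵥ e j = 1
  · obtain ⟨j, hj, a⟩ := hj
    have hy : ε j ⬝ᵥ v ≠ 0 := left_ne_zero_of_mul_eq_one a
    have hs : x⁻¹ * ε j ⬝ᵥ v ≠ 0 := mul_ne_zero (inv_ne_zero hx) hy
    have b6 := b4 j hj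
    have b7 := b5 j hj
    have b8 : x⁻¹ * ε j ⬝ᵥ v * (x * φ ⬝ᵥ e j) = 1 := by grind
    set s := x⁻¹ * ε j ⬝ᵥ v
    have hs' := mul_inv_cancel₀ hs
    obtain ⟨z1, z2⟩ := inside H hc (z := s⁻¹ • f - e j) (ζ := s • f' - ε j) hs (h.tv hj.symm)
      (fun b hb => by simpa [smul_smul, hs] using t3 b hb) (h.one i) (h.zero hj.symm) (h.zero hj)
      (h.one j) (by simp [b1, h.zero hj.symm]) (by simp [b6, h.one, hs])
      (by simp [b2, h.zero hj]) (by simp [b7, h.one, b8]) (by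
        simp only [dotProduct_sub, sub_dotProduct, dotProduct_smul, smul_dotProduct, smul_eq_mul,
          b3, b6, b7, h.one]
        grind)
    refine .inr (.inr ⟨i, j, hj.symm, x, s, hx, hs, ?_, ?_⟩)
    · rw [← sub_eq_zero.1 z1, smul_smul, hs', one_smul, hf, add_sub_cancel, smul_smul, hx', one_smul]
    · rw [← sub_eq_zero.1 z2, smul_smul, inv_mul_cancel₀ hs, one_smul, hf', add_sub_cancel,
        smul_smul, inv_mul_cancel₀ hx, one_smul]
  push Not at hj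
  have a : ∀ j, j ≠ i → ε j ⬝ᵥ v = 0 ∧ φ ⬝ᵥ e j = 0 := fun j hji => by
    rcases link H hc h ht hji.symm with a | a | a
    exacts [absurd (a.symm.trans hi) (hj j hji), a.2, absurd a.1 (hj j hji)]
  refine .inl ⟨_, _, h.cons b3 (fun j => ?_) (fun j => ?_) fun j => ?_⟩ <;> by_cases e : j = i
  · rw [e, b1]
  · simp [b4 j e, a j e]
  · rw [e, b2]
  · simp [b5 j e, a j e]
  · rw [e]; exact t3
  · exact t1 j e (a j e).1 (a j e).2

theorem start [Finite F] (H : Hy P) {v₁ φ₁ v₂ φ₂ v₃ φ₃ : ι → F} (h₁ : TA P v₁ φ₁) (h₂ : TA P v₂ φ₂)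
    (h₃ : TA P v₃ φ₃) (hne : cyc3 v₁ φ₁ v₂ φ₂ v₃ φ₃ ≠ cyc3 v₁ φ₁ v₃ φ₃ v₂ φ₂)
    (h0 : φ₁ ⬝ᵥ v₂ * φ₂ ⬝ᵥ v₁ ≠ 0) (h1 : φ₁ ⬝ᵥ v₂ * φ₂ ⬝ᵥ v₁ ≠ 1) :
    ∃ (A : Subgroup Fˣ) (c : Fˣ) (e ε : Fin 3 → ι → F), Gd A c ∧ Fr P A e ε := by
  obtain ⟨k1, k2, k3⟩ := core_three H.two H.ax H.ce h₁ h₂ h₃ hne h1
  have t2 := H.two
  have z1 := h₁.2.2.1
  have z2 := h₂.2.2.1
  have z3 := h₃.2.2.1
  wlog n : φ₁ ⬝ᵥ v₃ = 1 ∧ φ₃ ⬝ᵥ v₁ = 1 ∧ φ₂ ⬝ᵥ v₃ = 1 ∧ φ₃ ⬝ᵥ v₂ = 1 generalizing v₁ φ₁ v₂ φ₂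
  · have a1 := left_ne_zero_of_mul_eq_one k1
    have a2 := left_ne_zero_of_mul_eq_one k2
    have b1 := mul_inv_cancel₀ a1
    have b2 := mul_inv_cancel₀ a2
    refine this (scale h₁ a1) (scale h₂ a2) ?_ ?_ ?_ ?_ ?_ ?_ (by simp [z1]) (by simp [z2]) ?_ <;>
      simp only [cyc3, dotProduct_smul, smul_dotProduct, smul_eq_mul] at * <;> grind
  obtain ⟨n1, n2, n3, n4⟩ := n
  simp only [cyc3, n1, n2, n3, n4, mul_one, one_mul] at k3
  obtain ⟨a, ha⟩ : ∃ a, φ₁ ⬝ᵥ v₂ = a := ⟨_, rfl⟩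
  obtain ⟨a', ha'⟩ : ∃ a, φ₂ ⬝ᵥ v₁ = a := ⟨_, rfl⟩
  rw [ha, ha'] at k3 h0 h1
  have a0 := mul_inv_cancel₀ (left_ne_zero_of_mul h0)
  have a0' := mul_inv_cancel₀ (right_ne_zero_of_mul h0)
  have hc : (1 + a) * (1 + a') = 1 := by grind
  let c : Fˣ := Units.mkOfMulEqOne _ _ hc
  have c1 : (c : F) = 1 + a := rfl
  have c2 : (c : F)⁻¹ = 1 + a' := inv_eq_of_mul_eq_one_right hc
  let e : Fin 3 → ι → F := ![v₁ + a⁻¹ • (v₁ + v₂), a⁻¹ • (v₁ + v₂), v₃ + (v₁ + a⁻¹ • (v₁ + v₂))]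
  let ε : Fin 3 → ι → F := ![φ₁ + a'⁻¹ • (φ₁ + φ₂), a'⁻¹ • (φ₁ + φ₂), φ₃ + (φ₁ + a'⁻¹ • (φ₁ + φ₂))]
  have bi : ∀ i j, ε i ⬝ᵥ e j = if i = j then 1 else 0 := fun i j => by
    fin_cases i <;> fin_cases j <;>
      simp [e, ε, z1, z2, z3, n1, n2, n3, n4, ha, ha'] <;> grind
  have one : ∀ i, ε i ⬝ᵥ e i = 1 := fun i => by simp [bi]
  have zero : ∀ {i j}, i ≠ j → ε i ⬝ᵥ e j = 0 := fun h => by simp [bi, h]
  have tr : ∀ {i j k : Fin 3} {b b' : F}, i ≠ j → j ≠ k → i ≠ k → Tf P (e i) (ε i) (e j) (ε j) b →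
      Tf P (e j) (ε j) (e k) (ε k) b' → Tf P (e i) (ε i) (e k) (ε k) (b * b') :=
    fun ij jk ik p q => H.trans p q (zero ij.symm) (zero ik.symm) (one _) (zero jk.symm) (zero ij)
      (zero ik) (zero jk)
  have p01 : Tf P (e 0) (ε 0) (e 1) (ε 1) 1 := by
    unfold Tf
    convert h₁ using 1 <;> ext k <;> simp [e, ε] <;> grind
  have p02 : Tf P (e 0) (ε 0) (e 2) (ε 2) 1 := by
    unfold Tf
    convert h₃ using 1 <;> ext k <;> simp [e, ε] <;> grind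
  have q01 : Tf P (e 0) (ε 0) (e 1) (ε 1) c := by
    unfold Tf
    rw [c2, c1]
    convert h₂ using 1 <;> ext k <;> simp [e, ε] <;> grind
  have p10 := p01.symm one_ne_zero
  have p20 := p02.symm one_ne_zero
  rw [inv_one] at p10 p20
  have p12 := tr (by decide) (by decide) (by decide) p10 p02
  have p21 := tr (by decide) (by decide) (by decide) p20 p01
  rw [mul_one] at p12 p21
  have q02 := tr (by decide) (by decide) (by decide) q01 p12
  have q21 := tr (by decide) (by decide) (by decide) p20 q01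
  rw [mul_one] at q02
  rw [one_mul] at q21
  have q20 := tr (by decide) (by decide) (by decide) q21 p10
  have q12 := tr (by decide) (by decide) (by decide) p10 q02
  rw [mul_one] at q20
  rw [one_mul] at q12
  have q10 := tr (by decide) (by decide) (by decide) q12 p20
  rw [mul_one] at q10
  let A : Subgroup Fˣ :=
    { carrier := {b | ∀ i j, i ≠ j → Tf P (e i) (ε i) (e j) (ε j) b}
      one_mem' := fun i j h => by
        fin_cases i <;> fin_cases j <;> first | exact absurd rfl h | assumption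
      mul_mem' := fun p q i j h => by
        obtain ⟨k, k1, k2⟩ := third le_rfl i j
        exact tr k1.symm k2 h (p _ _ k1.symm) (q _ _ k2)
      inv_mem' := fun {b} p i j h => by
        simpa using (p j i h.symm).symm b.ne_zero }
  refine ⟨A, c, e, ε, ⟨fun i j h => ?_, ?_, ?_⟩, one, zero, fun h b hb => hb _ _ h⟩
  · fin_cases i <;> fin_cases j <;> first | exact absurd rfl h | assumption
  · rw [c2, c1]; grind
  · rw [c2, c1]; grind

theorem Fr.li (h : Fr P A e ε) : LinearIndependent F e := by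
  rw [Fintype.linearIndependent_iff]
  intro g hg i
  have := congrArg (ε i ⬝ᵥ ·) hg
  simp only [dotProduct_sum, dotProduct_smul, dotProduct_zero, smul_eq_mul] at this
  rwa [Finset.sum_eq_single i (fun j _ hj => by rw [h.zero hj.symm, mul_zero]) (by simp), h.one,
    mul_one] at this

theorem grow [Finite F] (hP : QS P) (H : Hy P) (hc : Gd A c) (h : Fr P A e ε) (hr : 3 ≤ r)
    (hr' : r < Fintype.card ι) : ∃ e' ε' : Fin (r + 1) → ι → F, Fr P A e' ε' := by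
  by_contra hn
  obtain ⟨i, -, -⟩ := third hr ⟨0, by omega⟩ ⟨0, by omega⟩
  obtain ⟨j, hj, -⟩ := third hr i i
  refine (fam_TA.bot_or_top hP (h.tv hj 1 A.one_mem) (Submodule.span F (Set.range e))
    fun v φ ht x hx => ?_).elim (fun a => ?_) fun a => ?_
  rotate_left
  · exact h.li.ne_zero i ((Submodule.span_eq_bot.1 a) _ ⟨i, rfl⟩)
  · have := finrank_span_eq_card h.li
    rw [a, finrank_top] at this
    simp at this
    omega
  · rcases (step H hc h hr ht).resolve_left hn with a | ⟨i, j, -, y, s, -, -, rfl, -⟩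
    · have : Submodule.span F (Set.range e) ≤ kerS (· = φ) :=
        Submodule.span_le.2 (by rintro _ ⟨i, rfl⟩ _ rfl; exact a i)
      rw [this hx φ rfl, zero_smul]
      exact zero_mem _
    · exact Submodule.smul_mem _ _ (Submodule.smul_mem _ _ (add_mem (Submodule.subset_span ⟨i, rfl⟩)
        (Submodule.smul_mem _ _ (Submodule.subset_span ⟨j, rfl⟩))))

theorem full [Finite F] (hP : QS P) (H : Hy P) (hc : Gd A c) (h : Fr P A e ε) (hr : 3 ≤ r)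
    (hr' : r = Fintype.card ι) : False := by
  have : Nonempty (Fin r) := ⟨⟨0, by omega⟩⟩
  have sp : Submodule.span F (Set.range e) = ⊤ :=
    h.li.span_eq_top_of_card_eq_finrank (by simp [hr'])
  have hD : IsMDecomposition 1 fun i => Submodule.span F {e i} :=
    ⟨by omega, one_pos, fun i => finrank_span_singleton (h.li.ne_zero i), h.li.iSupIndep_span_singleton,
      by rw [← sp, Submodule.span_range_eq_iSup]⟩
  obtain ⟨i, -, -⟩ := third hr ⟨0, by omega⟩ ⟨0, by omega⟩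
  obtain ⟨j, hj, -⟩ := third hr i i
  obtain ⟨k, hk, hk'⟩ := third hr i j
  have t2 := H.two
  obtain ⟨g, hg, eg⟩ := diag H c.ne_zero (h.tv hj.symm 1 A.one_mem) (h.tv hj.symm c hc.mem) (h.one i)
    (h.zero hj.symm) (h.zero hj) (h.one j)
  refine hP.not_le_decomp hD (a := g) (mem_fixAll.2 fun l x hx => ?_)
    (fun x hx => P.mul_mem (P.mul_mem hg hx) (P.inv_mem hg)) ?_
    (fam_TA.le hP (h.tv hj 1 A.one_mem) fun v φ ht g eg => ?_)
  · obtain ⟨y, rfl⟩ := Submodule.mem_span_singleton.1 hx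
    rw [eg]
    refine add_mem (add_mem hx ?_) ?_
    · by_cases a : i = l
      · exact a ▸ Submodule.smul_mem _ _ (Submodule.mem_span_singleton_self _)
      · simp [h.zero a]
    · by_cases a : j = l
      · exact a ▸ Submodule.smul_mem _ _ (Submodule.mem_span_singleton_self _)
      · simp [h.zero a]
  · refine notMem_scalars_of_fix (u := e k) (v := e i) (h.li.ne_zero k)
      (by simp [eg, h.zero hk.symm, h.zero hk'.symm]) fun a => hc.l0 ?_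
    have := congrArg (ε i ⬝ᵥ ·) a
    simp [eg, h.zero hj, h.one] at this
    have c0 := mul_inv_cancel₀ c.ne_zero
    grind
  rcases step H hc h hr ht with ⟨e', ε', h'⟩ | a | ⟨i, j, hij, y, s, hy, hs, rfl, rfl⟩
  · have := h'.li.fintype_card_le_finrank
    simp at this
    omega
  · refine (ht.2.1 (dotProduct_eq_zero _ fun x => ?_)).elim
    have : Submodule.span F (Set.range e) ≤ kerS (· = φ) :=
      Submodule.span_le.2 (by rintro _ ⟨i, rfl⟩ _ rfl; exact a i)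
    exact this (sp ▸ Submodule.mem_top) φ rfl
  · refine ⟨Equiv.swap i j, fun l => ?_⟩
    have hy' := mul_inv_cancel₀ hy
    have hs' := mul_inv_cancel₀ hs
    beta_reduce
    rw [Submodule.map_span, Set.image_singleton, toLin'_apply, eg]
    by_cases a : l = i
    · rw [a, Equiv.swap_apply_left, ← Submodule.span_singleton_smul_eq hs.isUnit (e j)]
      congr 2
      ext k
      simp [h.one, h.zero hij.symm]
      grind
    by_cases b : l = j
    · rw [b, Equiv.swap_apply_right, ← Submodule.span_singleton_smul_eq (inv_ne_zero hs).isUnit (e i)]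
      congr 2
      ext k
      simp [h.one, h.zero hij]
      grind
    · rw [Equiv.swap_apply_of_ne_of_ne a b]
      simp [h.zero (Ne.symm a), h.zero (Ne.symm b)]

end TH

variable {F : Type*} [Field F] [Fintype F] {P : Subgroup (GL (Fin 5) F)}

open TH in
theorem two_cyc_two (h2 : (2 : F) = 0) (hP : QS P)
    (h1 : ∀ v φ φ', TA P v φ → TA P v φ' → φ = φ') (h1' : ∀ v v' φ, TA P v φ → TA P v' φ → v = v')
    {v φ w ψ : Fin 5 → F} (h : TA P v φ) (h' : TA P w ψ) :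
    φ ⬝ᵥ w * ψ ⬝ᵥ v ∈ (⊥ : Subfield F) := by
  have H : Hy P := ⟨h2, h1, h1'⟩
  by_contra hn
  have l0 : φ ⬝ᵥ w * ψ ⬝ᵥ v ≠ 0 := fun e => hn (e ▸ zero_mem _)
  have l1 : φ ⬝ᵥ w * ψ ⬝ᵥ v ≠ 1 := fun e => hn (e ▸ one_mem _)
  obtain ⟨v₁, φ₁, k₁⟩ : ∃ v φ, NS P v φ := by
    by_contra h0
    push Not at h0
    refine (orth_of_real hP (tr_of_coh hP fam_TA ⟨v, φ, h⟩ (σ := RingHom.id F)
      ⟨fun a b e => H.zero b a e, fun _ _ => rfl, fun a b c => ?_⟩)).1 h2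
    by_contra e
    refine h0 _ _ ⟨a, _, _, _, _, b, c, fun e' => e ?_⟩
    rw [RingHom.id_apply, e', eq_neg_iff_add_eq_zero, ← two_mul, h2, zero_mul]
  obtain ⟨x, χ, k₂, -, a⟩ := fam_NS.exists_pair hP k₁ h.2.1 h.1
  obtain ⟨y, η, k₃, b⟩ := H.ext_ns k₂ h a
  obtain ⟨z, ζ, k₄, c⟩ := H.ext_ns (v := v) (φ := φ) ⟨h, _, _, _, _, k₃, k₂.1, fun e => b (by
    simp only [cyc3] at e ⊢; linear_combination e)⟩ h' (left_ne_zero_of_mul l0)
  obtain ⟨A, d, e, ε, hd, f3⟩ := start H h h' k₄ c l0 l1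
  obtain ⟨_, _, f4⟩ := grow hP H hd f3 le_rfl (by simp)
  obtain ⟨_, _, f5⟩ := grow hP H hd f4 (by norm_num) (by simp)
  exact full hP H hd f5 (by norm_num) (by simp)

end Cfsg.Agent.Cl.D5
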