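/-
Subgroups of `SL₅(F)` containing a transvection.
-/
import Mathlib
import Cfsg.Agent.Cl.D5TA
import Cfsg.Agent.Cl.D5TB
import Cfsg.Agent.Cl.D5TC
import Cfsg.Agent.Cl.D5TD
import Cfsg.Agent.Cl.D5TE
import Cfsg.Agent.Cl.D5TF
import Cfsg.Agent.Cl.D5TG
import Cfsg.Agent.Cl.D5TH

set_option autoImplicit false

namespace Cfsg.Agent.Cl.D5

open Matrix Cfsg.Geo Cfsg.Agent.Cl.Max Cfsg.Agent.Cl.Mx
open scoped MatrixGroups

variable {F : Type*} [Field F] [Fintype F] {P : Subgroup (GL (Fin 5) F)} {k : Subfield F}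
  {T : (Fin 5 → F) → (Fin 5 → F) → Prop}

omit [Fintype F] in
theorem Orth.noTv (h : Orth P) : NoTv P := by
  obtain ⟨h2, f, hf, hle⟩ := h
  rintro v φ ⟨h0, g, hg, e⟩
  by_contra hn
  push Not at hn
  have hs : ∀ x y, f x y = f y x := fun x y => by rw [hf.herm]; simp
  have key : ∀ x y, φ ⬝ᵥ y * f x v + φ ⬝ᵥ x * f y v + φ ⬝ᵥ x * φ ⬝ᵥ y * f v v = 0 := fun x y => by
    have := mem_isoG.1 (hle hg) x y
    rw [e, e, hf.add_left, hf.smul_left, hs x, hs v, hf.add_left, hf.add_left, hf.smul_left,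
      hf.smul_left, hs y x, hs v x] at this
    linear_combination this
  obtain ⟨x, hx⟩ := exists_dot_ne_zero hn.2
  have h1 : f v v = 0 := by have := key x v; grind
  have h3 : f x v = 0 := by have := key x x; grind
  exact hn.1 (hf.nondeg v fun y => by have := key x y; grind)

omit [Fintype F] in
theorem TF.dP (H : TF (dP P) k T) : TF P k fun v φ => T φ v where
  qs := by simpa [dP_dP] using qs_dP H.qs
  fam := ⟨fun v φ h => mt_dP.1 (H.fam.mt _ _ h), fun v φ h => (H.fam.ne _ _ h).symm,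
    fun v φ h g hg => by
      have := H.fam.conj _ _ h (dual g) (mem_dP.2 (by rwa [dual_dual]))
      rwa [← map_inv, coe_dual, coe_dual, inv_inv, mulVec_transpose, vecMul_transpose] at this⟩
  ex := let ⟨v, φ, h⟩ := H.ex; ⟨φ, v, h⟩
  smul h _ _ hc hd hk := H.smul h hd hc (by rwa [mul_comm])
  two h h' := by
    rw [dotProduct_comm, dotProduct_comm _ (_ : Fin 5 → F), mul_comm]
    simpa only [dotProduct_comm, mul_comm] using H.two h h'
  max v φ hv hφ := by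
    convert H.max φ v hφ hv using 2
    ext a
    change MT P v (a • φ) ↔ MT _ φ (a • v)
    rw [← mt_dP, MT.smul_iff]

theorem TF.big (H : TF P k T) (ht : TrGen P) : Big P := by
  by_cases hc : ∀ {v₁ φ₁ v₂ φ₂ v₃ φ₃}, T v₁ φ₁ → T v₂ φ₂ → T v₃ φ₃ → cyc3 v₁ φ₁ v₂ φ₂ v₃ φ₃ ∈ k
  · obtain rfl := H.eq_top ht le_rfl hc
    refine H.sl_or_coh.elim Or.inl fun h => ?_
    obtain ⟨v, φ, h1⟩ := H.ex
    have := (orth_of_real H.qs (tr_of_coh H.qs H.fam H.ex h)).noTv v φ (H.fam.mt _ _ h1)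
    have := H.fam.ne _ _ h1
    tauto
  push Not at hc
  obtain ⟨v₁, φ₁, v₂, φ₂, v₃, φ₃, h₁, h₂, h₃, hc⟩ := hc
  obtain ⟨σ, f, hq, rfl, hf, hle⟩ := H.uni ht h₁ h₂ h₃ hc
  refine Or.inr ⟨σ, _, f, hq, hf, ?_⟩
  by_cases h3 : 3 ≤ Nat.card (uFix σ)
  · exact su_of_triple H.qs hq h3 hf hle (H.tk h₁) (H.tk h₂) (H.tk h₃) hc
  have h2 : Nat.card (uFix σ) = 2 := by
    have := Finite.one_lt_card (α := uFix σ)
    omega
  have ta : ∀ {v φ}, T v φ → TA P v φ := fun h =>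
    ⟨(H.fam.ne _ _ h).1, (H.fam.ne _ _ h).2, H.fam.mt _ _ h⟩
  exact su_two H.qs (h2 ▸ hq) hf hle (ta h₁) (ta h₂) (ta h₃) hc

theorem tf_bot (p : ℕ) [hp : Fact p.Prime] [CharP F p] (hP : QS P) {v φ : Fin 5 → F}
    (h : TA P v φ) (hr : ¬ Root P (p + 1))
    (h2 : ∀ {v φ w ψ}, TA P v φ → TA P w ψ → φ ⬝ᵥ w * ψ ⬝ᵥ v ∈ (⊥ : Subfield F)) :
    TF P ⊥ (TA P) where
  qs := hP
  fam := fam_TA
  ex := ⟨v, φ, h⟩
  smul {v φ} h c d hc hd hk := by
    refine ⟨smul_ne_zero hc h.1, smul_ne_zero hd h.2.1, ?_⟩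
    obtain ⟨n, hn⟩ := (mem_bot_iff_intCast p F).1 hk
    rw [MT.smul_iff, smul_smul, ← hn]
    obtain ⟨m, rfl | rfl⟩ := n.eq_nat_or_neg
    · simpa using h.2.2.nsmul m
    · simpa using (h.2.2.nsmul m).neg
  two := h2
  max v φ hv hφ := by
    rw [Subfield.card_bot F p]
    by_contra h3
    exact hr ((root_of_ncard hv hφ).mono (by omega))

theorem tv (p : ℕ) [hp : Fact p.Prime] [CharP F p] (hP : QS P) (ht : TrGen P) (hn : ¬ NoTv P) :
    Big P := by
  classical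
  by_cases hr : Root P 4
  · obtain ⟨k, -, H⟩ := exists_field hP (.inl hr)
    exact H.big ht
  obtain ⟨v, φ, h⟩ : ∃ v φ, TA P v φ := by
    by_contra h
    exact hn fun v φ h1 => by
      by_contra h2
      push Not at h2
      exact h ⟨v, φ, h2.1, h2.2, h1⟩
  have hp' : p = 2 ∨ p = 3 := by
    by_contra h4
    have h5 : 4 ≤ p := by have := hp.out.two_le; omega
    refine hr ⟨v, φ, h.1, h.2.1, (Finset.range 4).image (Nat.cast : ℕ → F), ?_, fun a ha => ?_⟩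
    · rw [Finset.card_image_of_injOn, Finset.card_range]
      exact (CharP.natCast_injOn_Iio F p).mono fun x hx => by simp at hx ⊢; omega
    · obtain ⟨n, -, rfl⟩ := Finset.mem_image.1 ha
      exact h.2.2.nsmul n
  rcases hp' with rfl | rfl
  swap
  · exact (tf_bot 3 hP h hr fun h h' => two_cyc_three (by exact_mod_cast CharP.cast_eq_zero F 3)
      (by simp) hP hr h.2.2 h'.2.2).big ht
  have h2 : (2 : F) = 0 := by exact_mod_cast CharP.cast_eq_zero F 2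
  have r3 : ∀ {P : Subgroup (GL (Fin 5) F)}, Root P 3 → Root P 4 := by
    rintro P ⟨v, φ, hv, hφ, A, hA, e⟩
    obtain ⟨a, ha, b, hb, hab⟩ := Finset.one_lt_card.1
      (show 1 < (A.erase 0).card by have := A.pred_card_le_card_erase (a := 0); omega)
    rw [Finset.mem_erase] at ha hb
    refine ⟨v, φ, hv, hφ, {0, a, b, a + b}, ?_, fun c hc => ?_⟩
    · rw [Finset.card_insert_of_notMem (by grind), Finset.card_insert_of_notMem (by grind),
        Finset.card_pair (by grind)]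
    · simp only [Finset.mem_insert, Finset.mem_singleton] at hc
      rcases hc with rfl | rfl | rfl | rfl
      · simpa using MT.zero P v
      · exact e _ ha.2
      · exact e _ hb.2
      · rw [add_smul]; exact (e _ ha.2).add (e _ hb.2)
  have hr3 : ¬ Root P 3 := fun h => hr (r3 h)
  by_cases h1 : ∀ v φ φ', TA P v φ → TA P v φ' → φ = φ'
  swap
  · push Not at h1
    obtain ⟨v, φ, φ', a, b, c⟩ := h1
    obtain ⟨T, H⟩ := tf_of_two_axes h2 (by simp) (by simp) hP hr3 a b c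
    exact H.big ht
  by_cases h1' : ∀ v v' φ, TA P v φ → TA P v' φ → v = v'
  · exact (tf_bot 2 hP h hr3 fun h h' => two_cyc_two h2 hP h1 h1' h h').big ht
  push Not at h1'
  obtain ⟨v, v', φ, a, b, c⟩ := h1'
  have hd : ¬ Root (dP P) 3 := by
    rintro ⟨v, φ, hv, hφ, A, hA, e⟩
    exact hr3 ⟨φ, v, hφ, hv, A, hA, fun a ha => mt_dP.1 ((MT.smul_iff a).2 (e a ha))⟩
  obtain ⟨T, H⟩ := tf_of_two_axes h2 (by simp) (by simp) (qs_dP hP) hd
    (v := φ) ⟨a.2.1, a.1, a.2.2.dP⟩ ⟨b.2.1, b.1, b.2.2.dP⟩ c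
  exact H.dP.big ht

end Cfsg.Agent.Cl.D5
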