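/-
Tables of non-containments in dimension five: the framework, frames and monomial groups.
-/
import Mathlib
import Cfsg.Agent.Cl.D3T5

set_option autoImplicit false
set_option linter.unusedSectionVars false
set_option linter.unusedSimpArgs false

namespace Cfsg.Agent.Cl.D5T

open Matrix Cfsg.Geo Cfsg.Agent.Cl.Max Cfsg.Agent.Cl.Mx Equiv

section Group

variable {Γ : Type*} [Group Γ] {H K : Subgroup Γ}

/-- The subgroup generated by the fifth powers and the commutators. -/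
def fif (H : Subgroup Γ) : Subgroup Γ :=
  Subgroup.closure {g | (∃ a ∈ H, g = a ^ 5) ∨ ∃ a ∈ H, ∃ b ∈ H, g = a * b * a⁻¹ * b⁻¹}

theorem fifth_mem {a : Γ} (ha : a ∈ H) : a ^ 5 ∈ fif H :=
  Subgroup.subset_closure (Or.inl ⟨a, ha, rfl⟩)

theorem comm_mem {a b : Γ} (ha : a ∈ H) (hb : b ∈ H) : a * b * a⁻¹ * b⁻¹ ∈ fif H :=
  Subgroup.subset_closure (Or.inr ⟨a, ha, b, hb, rfl⟩)

theorem inv_mem_fif {a : Γ} (ha : a ∈ H) (h : a * a = 1) : a ∈ fif H := by
  simpa [pow_succ, h] using fifth_mem ha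

theorem fif_le_of (h : ∀ a ∈ H, ∃ z : Γ, (∀ g, z * g = g * z) ∧ z * a ∈ K ∧ z ^ 5 ∈ K) :
    fif H ≤ K := by
  refine (Subgroup.closure_le _).2 ?_
  rintro _ (⟨a, ha, rfl⟩ | ⟨a, ha, b, hb, rfl⟩)
  · obtain ⟨z, h1, h2, h3⟩ := h a ha
    have := K.mul_mem (K.inv_mem h3) (K.pow_mem h2 5)
    rwa [Commute.mul_pow (h1 a), inv_mul_cancel_left] at this
  · obtain ⟨z, h1, h2, -⟩ := h a ha
    obtain ⟨u, h3, h4, -⟩ := h b hb
    have := K.mul_mem (K.mul_mem (K.mul_mem h2 h4) (K.inv_mem h2)) (K.inv_mem h4)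
    have e : z * a * (u * b) * (z * a)⁻¹ * (u * b)⁻¹ =
        z * (a * u * (b * a⁻¹)) * z⁻¹ * (b⁻¹ * u⁻¹) := by group
    rw [e, h1, mul_inv_cancel_right, ← h3 a] at this
    have e' : u * a * (b * a⁻¹) * (b⁻¹ * u⁻¹) = u * (a * b * a⁻¹ * b⁻¹) * u⁻¹ := by group
    rwa [e', h3, mul_inv_cancel_right] at this

theorem fif_le (H : Subgroup Γ) : fif H ≤ H :=
  fif_le_of fun a ha => ⟨1, by simp, by simpa using ha, by simp⟩

end Group

variable {F : Type*} [Field F] {H R : Subgroup (GL (Fin 5) F)} {F₀ : Subfield F}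
  {P g h x y t : GL (Fin 5) F} {σ : F →+* F} {f : (Fin 5 → F) → (Fin 5 → F) → F}
  {D : Fin 5 → Submodule F (Fin 5 → F)} {K : Subalgebra F (Matrix (Fin 5) (Fin 5) F)} {l : Fˣ}

local notation "M5" => Matrix (Fin 5) (Fin 5) F
local notation "SL5" => specialLinear (Fin 5) F
local notation "Z5" => scalars (Fin 5) F

theorem sc_comm (c : Fˣ) (g : GL (Fin 5) F) : sc (Fin 5) c * g = g * sc (Fin 5) c :=
  mul_comm_of_mem_scalars (sc_mem c) g

theorem det_of_mem (h : H ≤ SL5) (hg : g ∈ H) : (g : M5).det = 1 :=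
  (mem_specialLinear_iff g).1 (h hg)

theorem sc_mem_sl {c : Fˣ} : sc (Fin 5) c ∈ SL5 ↔ c ^ 5 = 1 := by
  rw [mem_specialLinear_iff, coe_sc, det_smul, det_one, mul_one, Fintype.card_fin,
    ← Units.val_pow_eq_pow_val, Units.val_eq_one]

theorem fifth_of_scalar (hg : g ∈ SL5) (h : g ∈ Z5) : g ^ 5 = 1 := by
  obtain ⟨c, rfl⟩ := (mem_scalars_iff_sc g).1 h
  rw [← map_pow, sc_mem_sl.1 hg, map_one]

theorem conj_scalar (hg : g ∈ Z5) (x : GL (Fin 5) F) : x * g * x⁻¹ ∈ Z5 := by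
  rwa [conj_of_mem_scalars hg]

/-! ### Subfields and forms -/

/-- The invertible matrices with entries in `F₀` with respect to the basis `P`. -/
def ratG [Finite F] (F₀ : Subfield F) (P : GL (Fin 5) F) : Subgroup (GL (Fin 5) F) where
  carrier := {g | Rat F₀ P (g : M5)}
  one_mem' := rat_one
  mul_mem' := fun ha hb => ha.mul hb
  inv_mem' := fun {a} ha => by
    have : a⁻¹ = a ^ (orderOf a - 1) := inv_eq_of_mul_eq_one_left (by
      rw [← pow_succ, Nat.sub_add_cancel (orderOf_pos a), pow_orderOf_eq_one])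
    rw [this]
    exact Mx.Rat.pow ha _

theorem fif_rat [Finite F] (h : H ≤ SL5) (h' : H ≤ subfieldSubgroup F₀ P) (hg : g ∈ fif H) :
    Rat F₀ P (g : M5) := by
  refine fif_le_of (K := ratG F₀ P) (fun a ha => ?_) hg
  obtain ⟨c, hc, h1⟩ := mem_subfieldSubgroup_iff.1 (h' ha)
  have h2 := Rat.det_mem h1
  rw [det_smul, det_of_mem h ha, mul_one, Fintype.card_fin] at h2
  refine ⟨sc _ (Units.mk0 c hc), sc_comm _, ?_, ?_⟩
  · change Rat F₀ P (_ * _)
    rwa [coe_sc, smul_mul_assoc, one_mul]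
  · change Rat F₀ P _
    rw [← map_pow, coe_sc]
    exact rat_one.smul h2

theorem fif_iso (hf : HForm σ 1 f) (h : H ≤ SL5) (h' : H ≤ similarityGroup f) :
    fif H ≤ isoG f := by
  refine fif_le_of fun a ha => ?_
  obtain ⟨c, hc⟩ := mem_similarityGroup.1 (h' ha)
  obtain ⟨u, hu⟩ := hf.exists_ne_zero (v := Pi.single 0 1) (by simp)
  have h1 : σ c = c := by
    have h2 := hf.herm ((a : M5) *ᵥ u) ((a : M5) *ᵥ Pi.single 0 1)
    rw [hc, hc, map_mul, one_mul, ← one_mul (σ (f _ _)), ← hf.herm] at h2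
    exact (mul_right_cancel₀ hu h2).symm
  have h2 : (c : F) ^ 5 = 1 := by
    have h3 := hf.det_adj (a : M5)
    rw [hf.adj_of_sim hc, det_smul, det_of_mem h ha, det_of_mem h (inv_mem ha), h1] at h3
    simpa using h3
  refine ⟨sc _ (c ^ 2), sc_comm _, mem_isoG.2 fun u v => ?_, ?_⟩
  · rw [mul_mulVec, mul_mulVec, sc_mulVec, sc_mulVec, hf.smul_left, hf.smul_right, hc,
      Units.val_pow_eq_pow_val, map_pow, h1]
    linear_combination f u v * h2
  · rw [← map_pow, Units.ext (u := (c ^ 2) ^ 5) (v := 1) (by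
      rw [← pow_mul, mul_comm, pow_mul]; simp [h2]), map_one]
    exact one_mem _

/-! ### Extension fields -/

theorem scalar_of_ker [Fintype F] (hK : IsFieldSubalgebra 5 K) (hg : g ∈ subalgebraNormalizer K)
    {a : F} (h : 3 ≤ Module.finrank F (LinearMap.ker (toLin' ((g : M5) - a • 1)))) : g ∈ Z5 := by
  set E := LinearMap.ker (toLin' ((g : M5) - a • 1)) with hE
  have hm : ∀ v, v ∈ E ↔ (g : M5) *ᵥ v = a • v := fun v => by
    rw [hE, LinearMap.mem_ker, toLin'_apply, sub_mulVec, smul_mulVec, one_mulVec, sub_eq_zero]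
  obtain ⟨v, hv, hv0⟩ := E.exists_mem_ne_zero_of_ne_bot (by
    rintro e; rw [e, finrank_bot] at h; omega)
  refine mem_scalars_of_eq_smul (c := a) (Matrix.ext_iff_mulVec.2 fun w => ?_)
  obtain ⟨k, hk, rfl⟩ := singer_exists hK (by simp) hv0 w
  have h1 := E.finrank_quotient_add_finrank
  rw [Module.finrank_fin_fun] at h1
  obtain ⟨u, hu, hu0⟩ :=
    (LinearMap.ker (E.mkQ ∘ₗ toLin' k ∘ₗ E.subtype)).exists_mem_ne_zero_of_ne_bot
    (LinearMap.ker_ne_bot_of_finrank_lt (by omega))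
  have h2 : k *ᵥ u ∈ E := (Submodule.Quotient.mk_eq_zero E).1 hu
  have h3 : cj g k = k := by
    by_contra h3
    refine IsFieldSubalgebra.mulVec_ne_zero hK (K.sub_mem ((hg k).1 hk) hk) (sub_ne_zero.2 h3)
      (mulVec_ne_zero g (v := u) (by simpa using hu0)) ?_
    rw [sub_mulVec, ← cj_apply, cj_mulVec, (hm _).1 h2, (hm _).1 u.2, mulVec_smul, sub_self]
  rw [← cj_mulVec, h3, (hm _).1 hv, mulVec_smul, smul_mulVec, one_mulVec]

theorem scalar_of_invol [Fintype F] (hK : IsFieldSubalgebra 5 K) (hg : g ∈ subalgebraNormalizer K)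
    (h : g * g = 1) : g ∈ Z5 := by
  have h0 : ((g : M5) - (1 : F) • 1) * ((g : M5) - (-1 : F) • 1) = 0 := by
    have : (g : M5) * g = 1 := by rw [← Units.val_mul, h, Units.val_one]
    rw [neg_smul, one_smul]
    linear_combination (norm := noncomm_ring) this
  have h1 := (toLin' ((g : M5) - (-1 : F) • 1)).finrank_range_add_finrank_ker
  have h2 : LinearMap.range (toLin' ((g : M5) - (-1 : F) • 1)) ≤
      LinearMap.ker (toLin' ((g : M5) - (1 : F) • 1)) := by
    rw [LinearMap.range_le_ker_iff, ← toLin'_mul, h0, map_zero]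
  have h3 := Submodule.finrank_mono h2
  rw [Module.finrank_fin_fun] at h1
  by_cases h4 : 3 ≤ Module.finrank F (LinearMap.ker (toLin' ((g : M5) - (1 : F) • 1)))
  · exact scalar_of_ker hK hg h4
  · exact scalar_of_ker hK hg (a := -1) (by omega)

/-! ### Frames -/

theorem exists_pm (hD : IsMDecomposition 1 D) :
    ∃ π : decompositionStabilizer D →* Perm (Fin 5), ∀ g, π g = 1 ↔ g.1 ∈ fixAll D := by
  choose π hπ using fun g : decompositionStabilizer D => mem_decompositionStabilizer.1 g.2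
  refine ⟨MonoidHom.mk' π fun a b => Equiv.ext fun i => IsMDecomposition.injective hD ?_,
    fun g => ⟨fun hg => mem_fixAll.2 fun i v hv => ?_, fun hg => Equiv.ext fun i => ?_⟩⟩
  · rw [← hπ, Perm.mul_apply, ← hπ, ← hπ, ← Submodule.map_comp, ← toLin'_mul]
    rfl
  · have := hπ g i
    rw [show π g = 1 from hg] at this
    exact this.le ⟨v, hv, rfl⟩
  · refine IsMDecomposition.injective hD (Submodule.eq_of_le_of_finrank_eq ?_
      (by rw [hD.finrank_eq, hD.finrank_eq]))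
    change D (π g i) ≤ D i
    rw [← hπ]
    rintro _ ⟨v, hv, rfl⟩
    exact mem_fixAll.1 hg i v hv

theorem perm_pow (a : Perm (Fin 5)) : a ^ 120 = 1 := by
  have := pow_card_eq_one (x := a)
  rwa [Fintype.card_perm, Fintype.card_fin] at this

theorem pow_fix (hD : IsMDecomposition 1 D) (hg : g ∈ decompositionStabilizer D) :
    g ^ 120 ∈ fixAll D := by
  obtain ⟨π, hπ⟩ := exists_pm hD
  exact (hπ (⟨g, hg⟩ ^ 120)).1 (by rw [map_pow, perm_pow])

theorem scalar_mem_fixAll (hg : g ∈ Z5) : g ∈ fixAll D := mem_fixAll.2 fun i v hv => by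
  obtain ⟨c, -, hc⟩ := exists_smul_of_mem_scalars hg
  rw [hc]; exact (D i).smul_mem _ hv

theorem perm_five : ∀ a : Perm (Fin 5), a ^ 5 = 1 → ∀ b : Perm (Fin 5), b ^ 5 = 1 →
    a * b * a⁻¹ * b = b * (a * b * a⁻¹) → a * b * a⁻¹ * b⁻¹ = 1 := by decide +kernel

theorem comm_fix (hD : IsMDecomposition 1 D) (hx : x ∈ decompositionStabilizer D)
    (hy : y ∈ decompositionStabilizer D) (x5 : x ^ 5 = 1) (y5 : y ^ 5 = 1)
    (h : x * y * x⁻¹ * y * (y * (x * y * x⁻¹))⁻¹ ∈ Z5) : x * y * x⁻¹ * y⁻¹ ∈ fixAll D := by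
  obtain ⟨π, hπ⟩ := exists_pm hD
  lift x to decompositionStabilizer D using hx
  lift y to decompositionStabilizer D using hy
  have h0 := scalar_mem_fixAll (D := D) h
  simp only [← Subgroup.coe_mul, ← Subgroup.coe_inv, ← hπ] at h0 ⊢
  have h2 : π x ^ 5 = 1 := by rw [← map_pow, show x ^ 5 = 1 from Subtype.ext x5, map_one]
  have h3 : π y ^ 5 = 1 := by rw [← map_pow, show y ^ 5 = 1 from Subtype.ext y5, map_one]
  simp only [map_mul, map_inv] at h0 ⊢
  exact perm_five _ h2 _ h3 (mul_inv_eq_one.1 h0)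

theorem exists_line (hD : IsMDecomposition 1 D) (i : Fin 5) :
    ∃ v, v ≠ 0 ∧ D i = F ∙ v ∧ ∀ g ∈ fixAll D, ∃ c : F, (g : M5) *ᵥ v = c • v := by
  obtain ⟨v, hv, h0⟩ := (D i).exists_mem_ne_zero_of_ne_bot (IsMDecomposition.ne_bot hD i)
  have h : D i = F ∙ v := (Submodule.eq_of_le_of_finrank_eq
    ((Submodule.span_singleton_le_iff_mem _ _).2 hv)
    (by rw [finrank_span_singleton h0, hD.finrank_eq])).symm
  refine ⟨v, h0, h, fun g hg => ?_⟩
  obtain ⟨c, hc⟩ := Submodule.mem_span_singleton.1 (h ▸ mem_fixAll.1 hg i v hv)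
  exact ⟨c, hc.symm⟩

theorem fix_comm (hD : IsMDecomposition 1 D) (hg : g ∈ fixAll D) (hh : h ∈ fixAll D) :
    g * h = h * g := by
  have : ∀ i, D i ≤ LinearMap.ker (toLin' ((g : M5) * (h : M5) - (h : M5) * (g : M5))) := fun i => by
    obtain ⟨v, -, e, hv⟩ := exists_line hD i
    obtain ⟨c, hc⟩ := hv g hg
    obtain ⟨d, hd⟩ := hv h hh
    rw [e, Submodule.span_singleton_le_iff_mem, LinearMap.mem_ker, toLin'_apply, sub_mulVec,
      ← mulVec_mulVec, ← mulVec_mulVec, hc, hd, mulVec_smul, mulVec_smul, hc, hd, smul_comm,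
      sub_self]
  have h1 := iSup_le this
  rw [hD.iSup_eq_top, top_le_iff, LinearMap.ker_eq_top, map_eq_zero_iff _ toLin'.injective,
    sub_eq_zero] at h1
  exact Units.ext h1

/-! ### Diagonal matrices and signed permutation matrices -/

/-- Diagonal matrices. -/
def dg : (Fin 5 → Fˣ) →* GL (Fin 5) F := MonoidHom.toHomUnits
  { toFun := fun d => diagonal fun i => (d i : F)
    map_one' := by simp
    map_mul' := fun a b => by simp [diagonal_mul_diagonal] }

theorem coe_dg (d : Fin 5 → Fˣ) : (dg d : M5) = diagonal fun i => (d i : F) := rfl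

variable (F) in
/-- The sign of a permutation in the field. -/
def sg (π : Perm (Fin 5)) : F := ((Perm.sign π : ℤˣ) : ℤ)

theorem sg_mul (π τ : Perm (Fin 5)) : sg F (π * τ) = sg F π * sg F τ := by simp [sg]

theorem sg_sq (π : Perm (Fin 5)) : sg F π * sg F π = 1 := by
  rw [sg, ← Int.cast_mul, ← Units.val_mul, Int.units_mul_self]; simp

theorem sg_ne (π : Perm (Fin 5)) : sg F π ≠ 0 := left_ne_zero_of_mul_eq_one (sg_sq π)

variable (F) in
/-- Signed permutation matrices. -/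
def pm : Perm (Fin 5) →* GL (Fin 5) F := MonoidHom.toHomUnits
  { toFun := fun π => of fun i j => if i = π j then sg F π else 0
    map_one' := by ext i j; simp [sg, one_apply]
    map_mul' := fun a b => by ext i j; simp [mul_apply, sg_mul] }

theorem pm_apply (π : Perm (Fin 5)) (i j : Fin 5) :
    (pm F π : M5) i j = if i = π j then sg F π else 0 := rfl

theorem pm_mem_sl (π : Perm (Fin 5)) : pm F π ∈ SL5 := by
  have : (pm F π : M5) = sg F π • (π⁻¹).permMatrix F := by
    ext i j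
    simp [pm_apply, PEquiv.toMatrix_apply, Equiv.toPEquiv_apply, Equiv.symm_apply_eq]
  rw [mem_specialLinear_iff, this, det_smul, det_permutation, Perm.sign_inv, Fintype.card_fin]
  change _ * sg F π = 1
  have := sg_sq (F := F) π
  grind

theorem pm_ns {π : Perm (Fin 5)} (h : π ≠ 1) : pm F π ∉ Z5 := fun hs => h (Equiv.ext fun i => by
  obtain ⟨c, -, e⟩ := coe_eq_smul_of_mem_scalars hs
  by_contra h1
  replace h1 : π i ≠ i := h1
  have := congrFun₂ e (π i) i
  rw [pm_apply, if_pos rfl, Matrix.smul_apply, one_apply_ne h1, smul_zero] at this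
  exact sg_ne π this)

theorem pm_dg (π : Perm (Fin 5)) (d : Fin 5 → Fˣ) :
    pm F π * dg d * (pm F π)⁻¹ = dg (d ∘ ⇑π⁻¹) :=
  mul_inv_eq_of_eq_mul (Units.ext (by
    ext i j
    simp only [Units.val_mul, coe_dg, mul_diagonal, diagonal_mul, pm_apply]
    split_ifs with h <;> simp [h, mul_comm]))

theorem dg_const (c : Fˣ) : dg (fun _ => c) = sc (Fin 5) c := Units.ext (by
  rw [coe_dg, coe_sc, smul_one_eq_diagonal])

theorem dg_injective : Function.Injective (dg (F := F)) := fun a b e => funext fun i => by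
  have h : (dg a : M5) i i = (dg b : M5) i i := by rw [e]
  exact Units.ext (by simpa [coe_dg] using h)

theorem dg_mem_sl {d : Fin 5 → Fˣ} : dg d ∈ SL5 ↔ ∏ i, d i = 1 := by
  rw [mem_specialLinear_iff, coe_dg, det_diagonal, ← Units.val_eq_one, Units.coe_prod]

theorem dg_comm (a b : Fin 5 → Fˣ) : dg a * dg b = dg b * dg a := by
  rw [← map_mul, mul_comm, map_mul]

/-- The diagonal matrix with `l` at `i` and `l⁻¹` at `j`. -/
def dd (i j : Fin 5) (l : Fˣ) : GL (Fin 5) F := dg (Pi.mulSingle i l * Pi.mulSingle j l⁻¹)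

theorem dd_mem_sl (i j : Fin 5) (l : Fˣ) : dd i j l ∈ SL5 := dg_mem_sl.2 (by
  simp [Finset.prod_mul_distrib])

theorem pm_dd (π : Perm (Fin 5)) (i j : Fin 5) (l : Fˣ) :
    pm F π * dd i j l * (pm F π)⁻¹ = dd (π i) (π j) l := by
  rw [dd, pm_dg, dd]
  congr 1
  ext k
  simp [Pi.mulSingle_apply, Equiv.symm_apply_eq]

theorem dd_mul_inv (i j k : Fin 5) (l : Fˣ) : dd i k l * (dd j k l)⁻¹ = dd i j l := by
  rw [dd, dd, dd, ← map_inv, ← map_mul, Pi.mulSingle_inv, Pi.mulSingle_inv]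
  congr 1
  simp [mul_assoc, mul_left_comm]

variable (F) in
/-- The cyclic shift. -/
abbrev sh : GL (Fin 5) F := pm F (finRotate 5)

theorem sg_sh : sg F (finRotate 5) = 1 := by simp [sg, sign_finRotate]

theorem sh_apply (i j : Fin 5) : (sh F : M5) i j = if i = j + 1 then 1 else 0 := by
  rw [pm_apply, sg_sh, finRotate_apply]

theorem sh_five : sh F ^ 5 = 1 := by
  rw [← map_pow, show finRotate 5 ^ 5 = 1 by decide, map_one]

/-! ### Matrix units -/

theorem all_single {S : M5 → Prop} (hm : ∀ A B, S A → S B → S (A * B)) (hy : S (sh F))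
    {a b : Fin 5} (h : S (single a b 1)) (i j : Fin 5) : S (single i j 1) := by
  have h1 : ∀ a b : Fin 5, S (single a b 1) → S (single (a + 1) b 1) := fun a b h => by
    convert hm _ _ hy h using 1
    ext k m
    simp [mul_apply, sh_apply, single_apply, ite_and, eq_comm]
    split_ifs <;> rfl
  have h2 : ∀ a b : Fin 5, S (single a (b + 1) 1) → S (single a b 1) := fun a b h => by
    convert hm _ _ h hy using 1
    ext k m
    simp [mul_apply, sh_apply, single_apply, ite_and, eq_comm]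
  have h3 : S (single i b 1) := by
    have : i = a ∨ i = a + 1 ∨ i = a + 1 + 1 ∨ i = a + 1 + 1 + 1 ∨ i = a + 1 + 1 + 1 + 1 := by
      clear h h1 h2; revert a i; decide
    rcases this with rfl | rfl | rfl | rfl | rfl
    exacts [h, h1 _ _ h, h1 _ _ (h1 _ _ h), h1 _ _ (h1 _ _ (h1 _ _ h)),
      h1 _ _ (h1 _ _ (h1 _ _ (h1 _ _ h)))]
  have : b = j ∨ b = j + 1 ∨ b = j + 1 + 1 ∨ b = j + 1 + 1 + 1 ∨ b = j + 1 + 1 + 1 + 1 := by
    clear h h1 h2 h3; revert b j; decide
  rcases this with rfl | rfl | rfl | rfl | rfl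
  exacts [h3, h2 _ _ h3, h2 _ _ (h2 _ _ h3), h2 _ _ (h2 _ _ (h2 _ _ h3)),
    h2 _ _ (h2 _ _ (h2 _ _ (h2 _ _ h3)))]

theorem eq_sum_single (A : M5) : A = ∑ i, ∑ j, A i j • single i j (1 : F) := by
  simpa using matrix_eq_sum_single A

/-- The diagonal matrices in `H` separate the first coordinate from the others. -/
def Sep (H : Subgroup (GL (Fin 5) F)) : Prop :=
  ∀ k, k ≠ 0 → ∃ d, dg d ∈ H ∧ d 0 = 1 ∧ d k ≠ 1

theorem Sep.mono (h : Sep H) (hle : H ≤ R) : Sep R := fun k hk =>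
  (h k hk).imp fun _ h => ⟨hle h.1, h.2⟩

theorem Sep.spans (h : Sep H) (hy : sh F ∈ H) : Spans H := fun A => by
  have h0 : single 0 0 1 ∈ spanAlg H := by
    choose! d h1 h2 h3 using h
    have h4 := Subalgebra.prod_mem ((spanAlg H).comap (diagonalAlgHom F))
      (t := Finset.univ.erase 0)
      (f := fun k => (1 - (d k k : F))⁻¹ • ((fun i => (d k i : F)) - (d k k : F) • 1))
      fun k hk => Subalgebra.smul_mem _ (sub_mem ((Subalgebra.mem_comap _ _ _).2
        (coe_mem_spanAlg (h1 k (by simpa using hk)))) (Subalgebra.smul_mem _ (one_mem _) _)) _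
    convert (Subalgebra.mem_comap _ _ _).1 h4 using 1
    rw [diagonalAlgHom_apply, ← diagonal_single]
    congr 1
    ext i
    rw [Finset.prod_apply]
    by_cases hi : i = 0
    · rw [hi, Pi.single_eq_same]
      refine (Finset.prod_eq_one fun k hk => ?_).symm
      have h5 : k ≠ 0 := by simpa using hk
      simp only [Pi.smul_apply, Pi.sub_apply, Pi.one_apply, smul_eq_mul, mul_one, h2 k h5]
      exact inv_mul_cancel₀ (sub_ne_zero.2 fun e => h3 k h5 (Units.ext e.symm))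
    · rw [Pi.single_eq_of_ne hi]
      exact (Finset.prod_eq_zero (i := i) (by simpa using hi) (by simp)).symm
  rw [eq_sum_single A]
  exact sum_mem fun i _ => sum_mem fun j _ => Subalgebra.smul_mem _ (all_single
    (S := (· ∈ spanAlg H)) (fun _ _ => mul_mem) (coe_mem_spanAlg hy) h0 i j) _

theorem rat_one_iff {A : M5} : Rat F₀ 1 A ↔ ∀ i j, A i j ∈ F₀ := by
  simp only [Max.Rat, inv_one, cj_one]

theorem rat_iff_of_single (hy : Rat F₀ P (sh F)) {a b : Fin 5} (h : Rat F₀ P (single a b 1))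
    {A : M5} : Rat F₀ P A ↔ Rat F₀ 1 A := by
  have h1 := all_single (S := Rat F₀ P) (fun _ _ => Max.Rat.mul) hy h
  rw [rat_one_iff]
  refine ⟨fun hA i j => ?_, fun hA i j => ?_⟩
  · simpa [trace_mul_single] using (hA.mul (h1 j i)).trace_mem
  · rw [eq_sum_single A]
    simp only [map_sum, Matrix.sum_apply]
    exact sum_mem fun k _ => sum_mem fun m _ => (h1 k m).smul (hA k m) i j

theorem sub_eq_of_rat (h : ∀ A : M5, Rat F₀ P A ↔ Rat F₀ 1 A) :
    subfieldSubgroup F₀ P = subfieldSubgroup F₀ 1 :=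
  Subgroup.ext fun g => by simp only [mem_subfieldSubgroup_iff, h]

/-! ### The standard frame and the standard forms -/

variable (F) in
/-- The coordinate lines. -/
def stdD (i : Fin 5) : Submodule F (Fin 5 → F) := F ∙ Pi.single i 1

theorem mem_stdD {i : Fin 5} {v : Fin 5 → F} : v ∈ stdD F i ↔ ∀ k, k ≠ i → v k = 0 := by
  rw [stdD, Submodule.mem_span_singleton]
  refine ⟨?_, fun h => ⟨v i, funext fun k => ?_⟩⟩
  · rintro ⟨c, rfl⟩ k hk
    simp [hk]
  · by_cases hk : k = i <;> simp [hk, h]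

theorem isM_stdD : IsMDecomposition 1 (stdD F) where
  two_le := by norm_num
  pos := one_pos
  finrank_eq i := finrank_span_singleton (by simp)
  indep := by
    unfold stdD
    simpa using (Pi.basisFun F (Fin 5)).linearIndependent.iSupIndep_span_singleton
  iSup_eq_top := by
    unfold stdD
    simpa [Submodule.span_range_eq_iSup, stdD] using (Pi.basisFun F (Fin 5)).span_eq

variable (F) in
/-- The monomial matrices. -/
abbrev Mono : Subgroup (GL (Fin 5) F) := decompositionStabilizer (stdD F)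

theorem mem_Mono (h : ∀ i, ∃ j, ∀ k, k ≠ j → (g : M5) k i = 0) : g ∈ Mono F :=
  mem_decompositionStabilizer_of_maps isM_stdD fun i => (h i).imp fun j hj v hv => by
    obtain ⟨c, rfl⟩ := Submodule.mem_span_singleton.1 hv
    exact mem_stdD.2 fun k hk => by simp [mulVec_smul, hj k hk]

theorem notMem_Mono {i j k : Fin 5} (h : j ≠ k) (h1 : (g : M5) j i ≠ 0) (h2 : (g : M5) k i ≠ 0) :
    g ∉ Mono F := fun hg => by
  obtain ⟨π, hπ⟩ := exists_perm_of_mem hg
  have h3 := mem_stdD.1 ((hπ i _).1 (Submodule.mem_span_singleton_self _))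
  simp only [mulVec_single_one, col_apply] at h3
  by_cases hj : j = π i
  · exact h2 (h3 k (hj ▸ h.symm))
  · exact h1 (h3 j hj)

theorem dg_mem_Mono (d : Fin 5 → Fˣ) : dg d ∈ Mono F := mem_Mono fun i => ⟨i, fun k hk => by
  rw [coe_dg, diagonal_apply_ne _ hk]⟩

theorem pm_mem_Mono (π : Perm (Fin 5)) : pm F π ∈ Mono F := mem_Mono fun i => ⟨π i, fun k hk => by
  rw [pm_apply, if_neg hk]⟩

theorem mem_iso_iff (hσ : ∀ a, σ (σ a) = a) :
    g ∈ isoG (dForm σ) ↔ (g : M5)ᵀ * (g : M5).map σ = 1 := by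
  have : gramMatrix (dForm σ : (Fin 5 → F) → (Fin 5 → F) → F) = 1 := by
    ext i j
    simp [gramMatrix, dForm_single_left, Pi.single_apply, one_apply]
  rw [Mx.HForm.mem_isoG_iff_gram (hform_dForm hσ), this, Matrix.mul_one]

theorem dg_iso_iff (hσ : ∀ a, σ (σ a) = a) {d : Fin 5 → Fˣ} :
    dg d ∈ isoG (dForm σ) ↔ ∀ i, d i * σ (d i) = 1 := by
  rw [mem_iso_iff hσ, coe_dg, diagonal_transpose, diagonal_map (map_zero σ), diagonal_mul_diagonal,
    ← diagonal_one, diagonal_eq_diagonal_iff]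

theorem dd_iso (hσ : ∀ a, σ (σ a) = a) (h : l * σ l = 1) (i j : Fin 5) :
    dd i j l ∈ isoG (dForm σ) := by
  have h1 : ∀ i : Fin 5, dg (Pi.mulSingle i l) ∈ isoG (dForm σ) := fun i =>
    (dg_iso_iff hσ).2 fun k => by rw [Pi.mulSingle_apply]; split_ifs <;> simp [h]
  rw [dd, map_mul, Pi.mulSingle_inv, map_inv]
  exact mul_mem (h1 i) (inv_mem (h1 j))

theorem pm_iso (hσ : ∀ a, σ (σ a) = a) (π : Perm (Fin 5)) : pm F π ∈ isoG (dForm σ) := by
  rw [mem_iso_iff hσ]
  ext i j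
  have h1 : σ (sg F π) = sg F π := map_intCast σ _
  simp [mul_apply, pm_apply, one_apply, apply_ite σ, h1, sg_sq, eq_comm]

theorem sim_eq_of_smul {f' : (Fin 5 → F) → (Fin 5 → F) → F} {c : F} (hc : c ≠ 0)
    (h : ∀ u v, f u v = c * f' u v) :
    similarityGroup f = similarityGroup f' ∧ isoG f = isoG f' := by
  refine ⟨Subgroup.ext fun g => ?_, Subgroup.ext fun g => ?_⟩
  · simp only [mem_similarityGroup, h, mul_left_comm _ c, mul_right_inj' hc]
  · simp only [mem_isoG, h, mul_right_inj' hc]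

theorem form_of_iso (hf : HForm σ 1 f) (hd : Sep (isoG f)) (hy : sh F ∈ isoG f) :
    ∃ c, c ≠ 0 ∧ ∀ u v, f u v = c * dForm σ u v := by
  rw [Mx.HForm.mem_isoG_iff_gram hf] at hy
  have h0 := hf.isUnit_det.ne_zero
  have h1 := hf.eq_gram
  have h2 : ∀ k, k ≠ 0 → gramMatrix f 0 k = 0 := fun k hk => by
    obtain ⟨d, a1, a2, a3⟩ := hd k hk
    have a4 := congrFun₂ ((Mx.HForm.mem_isoG_iff_gram hf).1 a1) 0 k
    rw [coe_dg, diagonal_transpose, diagonal_map (map_zero σ), mul_diagonal, diagonal_mul, a2,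
      Units.val_one, one_mul] at a4
    by_contra a5
    exact a3 (Units.ext (σ.injective (((mul_eq_left₀ a5).1 a4).trans (map_one σ).symm)))
  generalize gramMatrix f = A at hy h0 h1 h2
  have h3 : ∀ i j, A (i + 1) (j + 1) = A i j := fun i j => by
    simpa [mul_apply, sh_apply, apply_ite σ] using congrFun₂ hy i j
  have e : A = A 0 0 • 1 := by
    have a1 := h2 1 (by decide)
    have a2 := h2 2 (by decide)
    have a3 := h2 3 (by decide)
    have a4 := h2 4 (by decide)
    simp only [Fin.forall_fin_succ] at h3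
    simp at h3
    ext i j
    fin_cases i <;> fin_cases j <;> simp <;> grind
  have h4 : A 0 0 ≠ 0 := fun e' => h0 (by rw [e, e']; simp)
  refine ⟨_, h4, fun u v => ?_⟩
  rw [h1, e]
  simp [smul_mulVec, dForm, dotProduct, Finset.mul_sum, mul_left_comm]

theorem dg_rat {d : Fin 5 → Fˣ} (h : ∀ i, (d i : F) ∈ F₀) : Rat F₀ 1 (dg d : M5) :=
  rat_one_iff.2 fun j k => by rw [coe_dg, diagonal_apply]; split_ifs <;> simp [h]

theorem dd_rat (h : (l : F) ∈ F₀) (i j : Fin 5) : Rat F₀ 1 (dd i j l : M5) := dg_rat fun k => by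
  simp only [Pi.mul_apply, Pi.mulSingle_apply]
  split_ifs <;> simp [h]

theorem pm_rat (π : Perm (Fin 5)) : Rat F₀ 1 (pm F π : M5) := rat_one_iff.2 fun j k => by
  rw [pm_apply]; split_ifs <;> simp [sg]

/-! ### Groups containing a monomial group -/

/-- `H` contains a monomial group. -/
structure Mon (H : Subgroup (GL (Fin 5) F)) (l : Fˣ) : Prop where
  le : H ≤ specialLinear (Fin 5) F
  ne : l ≠ 1
  d : ∀ i j, dd i j l ∈ H
  p : ∀ π, pm F π ∈ H

theorem exists_third (i j : Fin 5) : ∃ k, k ≠ i ∧ k ≠ j := by revert i j; decide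

namespace Mon

theorem toFif (h : Mon H l) : Mon (fif H) l := by
  refine ⟨(fif_le H).trans h.le, h.ne, fun i j => ?_, fun π => ?_⟩
  · obtain ⟨k, h1, h2⟩ := exists_third i j
    have := comm_mem (h.p (swap i j)) (h.d j k)
    rwa [pm_dd, swap_apply_right, swap_apply_of_ne_of_ne h1 h2, dd_mul_inv] at this
  · induction π using Perm.swap_induction_on with
    | one => simp
    | swap_mul π i j _ ih =>
      rw [map_mul]
      exact mul_mem (inv_mem_fif (h.p _) (by rw [← map_mul, Equiv.swap_mul_self, map_one])) ih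

theorem sep (h : Mon H l) : Sep H := fun k hk => by
  obtain ⟨j, h1, h2⟩ := exists_third k 0
  exact ⟨_, h.d k j, by simp [hk.symm, h2.symm], by simpa [h1.symm] using h.ne⟩

theorem spans (h : Mon H l) : Spans H := h.sep.spans (h.p _)

theorem not_le_field [Fintype F] (h : Mon H l) (hK : IsFieldSubalgebra 5 K) :
    ¬ H ≤ subalgebraNormalizer K := fun hle => pm_ns (π := swap 0 1) (by decide)
  (scalar_of_invol hK (hle (h.p _)) (by rw [← map_mul, Equiv.swap_mul_self, map_one]))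

theorem fix (h : Mon H l) (hD : IsMDecomposition 1 D) (hle : H ≤ decompositionStabilizer D)
    (i j : Fin 5) : dd i j l ∈ fixAll D := by
  obtain ⟨π, hπ⟩ := exists_pm hD
  let φ := π.comp ((pm F).codRestrict _ fun τ => hle (h.p τ))
  have h1 : Function.Injective φ := by
    rw [← MonoidHom.ker_eq_bot_iff]
    by_contra h1
    have h2 := Perm.alternatingGroup_le_of_normal (N := φ.ker) (by simp)
      ((Subgroup.nontrivial_iff_ne_bot _).2 h1)
    have h3 : pm F c[0, 1, 2] * pm F c[0, 1, 3] = pm F c[0, 1, 3] * pm F c[0, 1, 2] := fix_comm hD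
      ((hπ _).1 (h2 (x := c[0, 1, 2]) (Perm.mem_alternatingGroup.2 (by decide))))
      ((hπ _).1 (h2 (x := c[0, 1, 3]) (Perm.mem_alternatingGroup.2 (by decide))))
    refine pm_ns (F := F) (π := c[0, 1, 2] * c[0, 1, 3] * (c[0, 1, 3] * c[0, 1, 2])⁻¹) (by decide) ?_
    rw [map_mul, map_inv, map_mul, map_mul, mul_inv_eq_one.2 h3]
    exact one_mem _
  refine (hπ ⟨_, hle (h.d i j)⟩).1 ?_
  have h2 : ∀ a : Perm (Fin 5), (∀ b, a * (b * a * b⁻¹) = b * a * b⁻¹ * a) → a = 1 := by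
    decide +kernel
  refine h2 _ fun b => ?_
  obtain ⟨b, rfl⟩ := Finite.surjective_of_injective h1 b
  simp only [φ, MonoidHom.comp_apply, ← map_inv π, ← map_mul π]
  refine congrArg π (Subtype.ext ?_)
  change dd i j l * (pm F b * dd i j l * (pm F b)⁻¹) = pm F b * dd i j l * (pm F b)⁻¹ * dd i j l
  rw [pm_dd]
  exact dg_comm _ _

theorem frame (h : Mon H l) (hD : IsMDecomposition 1 D)
    (hle : H ≤ decompositionStabilizer D) : decompositionStabilizer D = Mono F := by
  have key : ∀ k, ∃ i, D k = stdD F i := fun k => by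
    obtain ⟨v, h0, e, hv⟩ := exists_line hD k
    obtain ⟨i, hi⟩ := Function.ne_iff.1 h0
    refine ⟨i, Submodule.eq_of_le_of_finrank_eq
      (e ▸ (Submodule.span_singleton_le_iff_mem _ _).2 (mem_stdD.2 fun j hj => ?_))
      (by rw [hD.finrank_eq, isM_stdD.finrank_eq])⟩
    obtain ⟨m, h1, h2⟩ := exists_third i j
    obtain ⟨a, ha⟩ := hv _ (h.fix hD hle j m)
    have a1 := congrFun ha i
    have a2 := congrFun ha j
    simp [dd, coe_dg, mulVec_diagonal, hj.symm, h1.symm, h2.symm] at a1 a2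
    by_contra a3
    exact h.ne (Units.ext ((a2.resolve_right a3).trans
      (mul_right_cancel₀ hi (a1.symm.trans (one_mul _).symm))))
  choose τ hτ using key
  have hs : Function.Surjective τ := Finite.surjective_of_injective fun a b e =>
    IsMDecomposition.injective hD (by rw [hτ, hτ, e])
  refine le_antisymm (fun g hg => mem_decompositionStabilizer_of_maps isM_stdD fun i => ?_)
    fun g hg => mem_decompositionStabilizer_of_maps hD fun k => ?_
  · obtain ⟨k, rfl⟩ := hs i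
    obtain ⟨π, hπ⟩ := exists_perm_of_mem hg
    exact ⟨τ (π k), fun v hv => hτ _ ▸ (hπ k v).1 (hτ k ▸ hv)⟩
  · obtain ⟨π, hπ⟩ := exists_perm_of_mem hg
    obtain ⟨j, hj⟩ := hs (π (τ k))
    exact ⟨j, fun v hv => by rw [hτ, hj]; exact (hπ _ v).1 (hτ k ▸ hv)⟩

theorem rat [Finite F] (h : Mon H l) (hle : H ≤ subfieldSubgroup F₀ P) :
    (l : F) ∈ F₀ ∧ ∀ A : M5, Rat F₀ P A ↔ Rat F₀ 1 A := by
  have h1 := fun j => Mx.Rat.sub (fif_rat h.le hle (h.toFif.d 0 j)) rat_one
  have h0 : (l : F) - 1 ≠ 0 := sub_ne_zero.2 fun e => h.ne (Units.ext e)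
  have e1 : ((dd 0 1 l : M5) - 1) * ((dd 0 2 l : M5) - 1) = ((l : F) - 1) ^ 2 • single 0 0 1 := by
    ext i j
    rw [dd, dd, coe_dg, coe_dg, ← diagonal_one, diagonal_sub, diagonal_sub, diagonal_mul_diagonal]
    fin_cases i <;> fin_cases j <;> simp [sq]
  have e2 : (((l : F) - 1) ^ 2 • single 0 0 1) * ((dd 0 3 l : M5) - 1) =
      ((l : F) - 1) • ((l : F) - 1) ^ 2 • single 0 0 1 := by
    ext i j
    rw [dd, coe_dg, ← diagonal_one, diagonal_sub, mul_diagonal]
    fin_cases i <;> fin_cases j <;> simp [mul_comm]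
  have h2 := e1 ▸ (h1 1).mul (h1 2)
  have h3 : (l : F) - 1 ∈ F₀ := mem_of_rat_smul (fun e => by
    simpa [h0] using congrFun₂ e 0 0) h2 (e2 ▸ h2.mul (h1 3))
  refine ⟨by simpa using add_mem h3 (one_mem F₀),
    fun A => rat_iff_of_single (fif_rat h.le hle (h.toFif.p _)) (a := 0) (b := 0) ?_⟩
  have := h2.smul (F₀.inv_mem (pow_mem h3 2))
  rwa [inv_smul_smul₀ (pow_ne_zero 2 h0)] at this

end Mon

end Cfsg.Agent.Cl.D5T
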