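/-
Tables of non-containments in dimension five: extraspecial groups and their normalisers.
-/
import Mathlib
import Cfsg.Agent.Cl.D5T1

set_option autoImplicit false
set_option linter.unusedSectionVars false
set_option linter.unusedSimpArgs false

namespace Cfsg.Agent.Cl.D5T

open Matrix Cfsg.Geo Cfsg.Agent.Cl.Max Cfsg.Agent.Cl.Mx Equiv

variable {F : Type*} [Field F] {G H R : Subgroup (GL (Fin 5) F)} {F₀ : Subfield F}
  {P a b g x y t : GL (Fin 5) F} {σ : F →+* F} {f f' : (Fin 5 → F) → (Fin 5 → F) → F}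
  {D : Fin 5 → Submodule F (Fin 5 → F)} {c ω : Fˣ}

local notation "M5" => Matrix (Fin 5) (Fin 5) F
local notation "SL5" => specialLinear (Fin 5) F
local notation "Z5" => scalars (Fin 5) F

/-! ### Conjugation -/

theorem conj_sl (P g : GL (Fin 5) F) : P * g * P⁻¹ ∈ SL5 ↔ g ∈ SL5 :=
  ⟨fun h => by simpa [mul_assoc] using conj_mem_sl P⁻¹ _ h, conj_mem_sl P g⟩

theorem conj_form {c : F} (hc : c ≠ 0)
    (h : ∀ x y, f ((P : M5) *ᵥ x) ((P : M5) *ᵥ y) = c * f' x y)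
    (g : GL (Fin 5) F) : (P * g * P⁻¹ ∈ similarityGroup f ↔ g ∈ similarityGroup f') ∧
      (P * g * P⁻¹ ∈ isoG f ↔ g ∈ isoG f') := by
  have hs : Function.Surjective fun x => (P : M5) *ᵥ x := (toLinE P).surjective
  have key : ∀ d : F, (∀ u v, f (((P * g * P⁻¹ : GL (Fin 5) F) : M5) *ᵥ u)
      (((P * g * P⁻¹ : GL (Fin 5) F) : M5) *ᵥ v) = d * f u v) ↔
      ∀ u v, f' ((g : M5) *ᵥ u) ((g : M5) *ᵥ v) = d * f' u v := fun d => by
    rw [hs.forall₂]
    simp only [← cj_coe, cj_mulVec, h, mul_left_comm _ c, mul_right_inj' hc]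
  exact ⟨exists_congr fun d => key _, by simpa only [one_mul, mem_isoG] using key 1⟩

theorem conj_su {c : F} (hc : c ≠ 0) (h : ∀ x y, f ((P : M5) *ᵥ x) ((P : M5) *ᵥ y) = c * f x y)
    (g : GL (Fin 5) F) : P * g * P⁻¹ ∈ suG f ↔ g ∈ suG f :=
  and_congr (conj_form hc h g).2 (conj_sl P g)

theorem spans_of_comap (h : Spans (H.comap (MulAut.conj P).toMonoidHom)) : Spans H := fun A => by
  rw [← cj_cj_inv P A]
  exact spanAlg_induction (p := fun B => cj P B ∈ spanAlg H)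
    (fun g hg => coe_mem_spanAlg (g := P * g * P⁻¹) hg) (by simp)
    (fun _ _ h1 h2 => by rw [map_add]; exact add_mem h1 h2)
    (fun c _ h1 => by rw [map_smul]; exact Subalgebra.smul_mem _ h1 c) (h _)

/-! ### Weyl pairs -/

/-- The clock matrix. -/
def ck (ω : Fˣ) : GL (Fin 5) F := dg fun i => ω ^ (i : ℕ)

theorem order_five (h1 : ω ≠ 1) (h5 : ω ^ 5 = 1) : orderOf ω = 5 :=
  have := Fact.mk Nat.prime_five
  orderOf_eq_prime h5 h1

theorem ne_pow (h1 : ω ≠ 1) (h5 : ω ^ 5 = 1) {k : ℕ} (h0 : 0 < k) (hk : k < 5) : ω ^ k ≠ 1 :=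
  pow_ne_one_of_lt_orderOf h0.ne' (by rwa [order_five h1 h5])

theorem sep_of_ck (h1 : ω ≠ 1) (h5 : ω ^ 5 = 1) (h : ck ω ∈ H) : Sep H := fun k hk =>
  ⟨_, h, by simp, ne_pow h1 h5 (Nat.pos_of_ne_zero (by simpa using hk)) k.2⟩

/-- A pair of matrices of order five whose commutator is a primitive fifth root of unity. -/
structure Wey (c : Fˣ) (a b : GL (Fin 5) F) : Prop where
  ne : c ≠ 1
  five : c ^ 5 = 1
  a5 : a ^ 5 = 1
  b5 : b ^ 5 = 1
  rel : b * a = sc (Fin 5) c * (a * b)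

/-- The elements normalising a Weyl pair. -/
structure Elts (a b d w : GL (Fin 5) F) : Prop where
  d5 : d ^ 5 = 1
  da : d * a * d⁻¹ = a
  db : d * b * d⁻¹ * b⁻¹ = a
  w2 : w * w = 1
  ns : w ∉ scalars (Fin 5) F
  wa : w * a * w⁻¹ = a⁻¹
  wb : w * b * w⁻¹ = b⁻¹

theorem Elts.conj {d w : GL (Fin 5) F} (h : Elts a b d w) (P : GL (Fin 5) F) :
    Elts (P * a * P⁻¹) (P * b * P⁻¹) (P * d * P⁻¹) (P * w * P⁻¹) where
  d5 := by rw [conj_pow, h.d5, mul_one, mul_inv_cancel]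
  da := .trans (by group) (congrArg (P * · * P⁻¹) h.da)
  db := .trans (by group) (congrArg (P * · * P⁻¹) h.db)
  w2 := by rw [conj_mul, h.w2, mul_one, mul_inv_cancel]
  ns := fun e => h.ns (by simpa [mul_assoc] using conj_scalar e P⁻¹)
  wa := .trans (by group) ((congrArg (P * · * P⁻¹) h.wa).trans conj_inv.symm)
  wb := .trans (by group) ((congrArg (P * · * P⁻¹) h.wb).trans conj_inv.symm)

theorem pw (h5 : ω ^ 5 = 1) {m n : ℕ} (h : m % 5 = n % 5) : ω ^ m = ω ^ n := by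
  rw [pow_eq_pow_mod m h5, pow_eq_pow_mod n h5, h]

/-- The exponents of a Gauss element. -/
def gs : Fin 5 → ℕ := ![0, 1, 3, 1, 0]

theorem elts_std (h5 : ω ^ 5 = 1) :
    Elts (ck ω) (sh F) (dg fun i => ω ^ gs i) (pm F (swap 1 4 * swap 2 3)) := by
  refine ⟨?_, mul_inv_eq_of_eq_mul (dg_comm _ _), ?_, ?_, pm_ns (by decide), ?_, ?_⟩
  · rw [← map_pow, ← map_one dg]
    refine congrArg _ (funext fun i => ?_)
    rw [Pi.pow_apply, ← pow_mul, mul_comm, pow_mul, h5, one_pow, Pi.one_apply]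
  · have e : ∀ u v : GL (Fin 5) F, u * v * u⁻¹ * v⁻¹ = u * (v * u⁻¹ * v⁻¹) := fun u v => by group
    rw [e, ← map_inv, pm_dg, ← map_mul, ck]
    refine congrArg _ (funext fun i => ?_)
    simp only [Pi.mul_apply, Function.comp_apply, Pi.inv_apply]
    rw [mul_inv_eq_iff_eq_mul, ← pow_add]
    exact pw h5 (by revert i; decide)
  · rw [← map_mul, show swap (1 : Fin 5) 4 * swap 2 3 * (swap 1 4 * swap 2 3) = 1 by decide,
      map_one]
  · rw [ck, pm_dg, ← map_inv]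
    refine congrArg _ (funext fun i => ?_)
    simp only [Function.comp_apply, Pi.inv_apply]
    rw [eq_inv_iff_mul_eq_one, ← pow_add, ← pow_zero ω]
    exact pw h5 (by revert i; decide)
  · rw [← map_inv, ← map_mul, ← map_mul, ← map_inv]
    exact congrArg _ (by decide)

namespace Wey

theorem five_ne (h : Wey c a b) : (5 : F) ≠ 0 := fun e => h.ne (Units.ext (by
  have h1 : (c : F) ^ 5 = 1 := by simpa using congrArg Units.val h.five
  have : ((c : F) - 1) ^ 5 = 0 := by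
    linear_combination h1 + ((c : F) - 2 * c ^ 2 + 2 * c ^ 3 - c ^ 4) * e
  exact sub_eq_zero.1 (pow_eq_zero_iff (by norm_num) |>.1 this)))

theorem swap (h : Wey c a b) : Wey c b⁻¹ a :=
  ⟨h.ne, h.five, by rw [inv_pow, h.b5, inv_one], h.a5, by
    have := congrArg (b⁻¹ * · * b⁻¹) h.rel
    simp only [inv_mul_cancel_left, ← mul_assoc, ← sc_comm c b⁻¹] at this
    simpa [mul_assoc] using this⟩

theorem trace_pow (h : Wey c a b) {k : ℕ} (h0 : 0 < k) (h5 : k < 5) :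
    ((a : M5) ^ k).trace = 0 := by
  have h1 : b * a ^ k * b⁻¹ = sc (Fin 5) (c ^ k) * a ^ k := by
    rw [← conj_pow, h.rel, ← mul_assoc, mul_inv_cancel_right, Commute.mul_pow (sc_comm c a),
      map_pow]
  have h2 := trace_cj b ((a ^ k : GL (Fin 5) F) : M5)
  rw [cj_coe, h1, Units.val_mul, coe_sc, smul_mul_assoc, one_mul, trace_smul, smul_eq_mul,
    Units.val_pow_eq_pow_val a] at h2
  by_contra h3
  exact ne_pow h.ne h.five h0 h5 (Units.val_eq_one.1 ((mul_eq_right₀ h3).1 h2))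

theorem model (h : Wey c a b) :
    ∃ P : GL (Fin 5) F, P * ck c⁻¹ * P⁻¹ = a ∧ P * sh F * P⁻¹ = b := by
  have ha5 : (a : M5) ^ 5 = 1 := by rw [← Units.val_pow_eq_pow_val, h.a5, Units.val_one]
  have hb5 : (b : M5) ^ 5 = 1 := by rw [← Units.val_pow_eq_pow_val, h.b5, Units.val_one]
  obtain ⟨v, hv0, hv⟩ : ∃ v, v ≠ 0 ∧ (a : M5) *ᵥ v = v := by
    have h5 : (1 + a ^ 1 + a ^ 2 + a ^ 3 + a ^ 4 : M5) ≠ 0 := fun h0 => by
      have h6 := congrArg trace h0
      simp only [trace_add, trace_one, h.trace_pow (k := 1) (by omega) (by omega),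
        h.trace_pow (k := 2) (by omega) (by omega), h.trace_pow (k := 3) (by omega) (by omega),
        h.trace_pow (k := 4) (by omega) (by omega)] at h6
      exact h.five_ne (by simpa using h6)
    obtain ⟨u, hu⟩ : ∃ u, (1 + a ^ 1 + a ^ 2 + a ^ 3 + a ^ 4 : M5) *ᵥ u ≠ 0 := by
      by_contra! h6
      exact h5 (Matrix.ext_iff_mulVec.2 fun u => by rw [h6, zero_mulVec])
    refine ⟨_, hu, ?_⟩
    rw [mulVec_mulVec]
    congr 1
    linear_combination (norm := noncomm_ring) ha5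
  have h4 : ∀ u, (a : M5) *ᵥ (b : M5) *ᵥ u = (c⁻¹ : Fˣ) • (b : M5) *ᵥ (a : M5) *ᵥ u := fun u => by
    rw [← mul_mulVec b, h.rel, mul_mulVec, sc_mulVec, mul_mulVec, Units.smul_def, smul_smul]
    simp
  have h5 : ∀ k : ℕ, (a : M5) *ᵥ ((b : M5) ^ k *ᵥ v) =
      ((c⁻¹ ^ k : Fˣ) : F) • ((b : M5) ^ k *ᵥ v) := fun k => by
    induction k with
    | zero => simp [hv]
    | succ k ih =>
      rw [pow_succ', ← mulVec_mulVec, h4, ih, mulVec_smul, Units.smul_def, smul_smul, pow_succ',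
        Units.val_mul]
  have h6 : Function.Injective fun i : Fin 5 => ((c⁻¹ ^ (i : ℕ) : Fˣ) : F) := fun i j e =>
    Fin.ext (pow_injOn_Iio_orderOf (x := c⁻¹)
      (by rw [orderOf_inv, order_five h.ne h.five]; exact i.2)
      (by rw [orderOf_inv, order_five h.ne h.five]; exact j.2) (Units.ext e))
  obtain ⟨e, P, hP⟩ := exists_trV_of_li (ι := Fin 5) (κ := Fin 5) rfl
    (fun i => (b : M5) ^ (i : ℕ) *ᵥ v) fun x hx => funext
      (Fintype.linearIndependent_iff.1 (Module.End.eigenvectors_linearIndependent'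
        (toLin' (a : M5)) _ h6 _ fun i => ⟨Module.End.mem_eigenspace_iff.2 (h5 i), by
          rw [← Units.val_pow_eq_pow_val]; exact mulVec_ne_zero _ hv0⟩) x hx)
  have h7 := fun x => (ofLin_mulVec _ x).trans (hP x)
  generalize ofLin (trV e P) = P' at h7
  refine ⟨P', mul_inv_eq_of_eq_mul (gl_ext fun x => ?_), mul_inv_eq_of_eq_mul (gl_ext fun x => ?_)⟩
  · simp only [mul_mulVec, h7, mulVec_sum, mulVec_smul, h5, smul_smul, ck, coe_dg, mulVec_diagonal,
      mul_comm]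
  · have h8 : ∀ i, ((sh F : M5) *ᵥ x) (i + 1) = x i := fun i => by
      simp [mulVec, dotProduct, sh_apply]
    rw [mul_mulVec, mul_mulVec, h7, h7, ← Equiv.sum_comp (Equiv.addRight 1)]
    simp only [Equiv.coe_addRight, h8, mulVec_sum, mulVec_smul, mulVec_mulVec, ← pow_succ']
    simp [Fin.sum_univ_five, hb5]

theorem inv_ne (h : Wey c a b) : c⁻¹ ≠ 1 := inv_ne_one.2 h.ne

theorem inv_five (h : Wey c a b) : c⁻¹ ^ 5 = 1 := by rw [inv_pow, h.five, inv_one]

theorem spans (h : Wey c a b) (ha : a ∈ H) (hb : b ∈ H) : Spans H := by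
  obtain ⟨P, rfl, rfl⟩ := h.model
  exact spans_of_comap (P := P) ((sep_of_ck h.inv_ne h.inv_five ha).spans hb)

theorem mem_sl (h : Wey c a b) : a ∈ SL5 := by
  obtain ⟨P, rfl, -⟩ := h.model
  refine conj_mem_sl _ _ (dg_mem_sl.2 ?_)
  rw [Finset.prod_pow_eq_pow_sum, show ∑ i : Fin 5, (i : ℕ) = 5 * 2 by decide, pow_mul, h.inv_five,
    one_pow]

theorem exists_elts (h : Wey c a b) : ∃ d w, Elts a b d w ∧ d ∈ SL5 ∧ w ∈ SL5 ∧
    ∀ σ f, HForm σ 1 f → a ∈ isoG f → b ∈ isoG f → d ∈ isoG f ∧ w ∈ isoG f := by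
  obtain ⟨P, rfl, rfl⟩ := h.model
  refine ⟨_, _, (elts_std h.inv_five).conj P, conj_mem_sl _ _ (dg_mem_sl.2 ?_),
    conj_mem_sl _ _ (pm_mem_sl _), fun σ f hf ha hb => ?_⟩
  · rw [Finset.prod_pow_eq_pow_sum, show ∑ i : Fin 5, gs i = 5 by decide, h.inv_five]
  · have h1 := fun g => (conj_form (f := f) (P := P) one_ne_zero
      (fun x y => (one_mul _).symm) g).2
    obtain ⟨e, he, h2⟩ := form_of_iso (hf.pull P) (sep_of_ck h.inv_ne h.inv_five ((h1 _).1 ha))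
      ((h1 _).1 hb)
    have h3 := fun g => (conj_form he h2 g).2
    have h4 := (dg_iso_iff hf.invol).1 ((h3 _).1 ha)
    refine ⟨(h3 _).2 ((dg_iso_iff hf.invol).2 fun i => ?_), (h3 _).2 (pm_iso hf.invol _)⟩
    fin_cases i
    exacts [h4 0, h4 1, h4 3, h4 1, h4 0]

theorem not_comm (h : Wey c a b) : b * a ≠ a * b := fun e => h.ne (sc_injective (ι := Fin 5) (by
  rw [h.rel, mul_eq_right] at e
  rw [e, map_one]))

end Wey

/-! ### Extraspecial groups -/

/-- An absolutely irreducible group of exponent five, abelian modulo scalars. -/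
structure Hei (R : Subgroup (GL (Fin 5) F)) : Prop where
  ext : ExtraData R R 5
  five : ∀ x ∈ R, x ^ 5 = 1

theorem hei_of [Finite F] (hR : IsSymplecticTypeGroup 5 R)
    (hA : ActsAbsolutelyIrreducibly (matrixSet R)) : Hei R :=
  ⟨extraData_of_sympl hR (spans_of_acts hA), fun x hx => by
    have := Monoid.pow_exponent_eq_one (⟨x, hx⟩ : R)
    rw [hR.exponent_eq] at this
    exact congrArg Subtype.val this⟩

theorem exists_of_comm (hH : Spans H) (hc : ∀ a ∈ H, ∀ b ∈ H, a * b * a⁻¹ * b⁻¹ ∈ Z5)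
    (hg : ∀ a ∈ H, g * a * g⁻¹ * a⁻¹ ∈ Z5) : ∃ a ∈ H, g * a ∈ Z5 := by
  obtain ⟨a, ha, h0⟩ : ∃ a ∈ H, ((g * a : GL (Fin 5) F) : M5).trace ≠ 0 := by
    by_contra! h
    have h1 : ∀ A ∈ spanAlg H, ((g : M5) * A).trace = 0 := fun A hA =>
      spanAlg_induction (p := fun A => ((g : M5) * A).trace = 0) h (by simp)
        (fun A B hA hB => by rw [mul_add, trace_add, hA, hB, add_zero])
        (fun c A hA => by rw [mul_smul_comm, trace_smul, hA, smul_zero]) hA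
    have := h1 _ (hH (((g⁻¹ : GL (Fin 5) F) : M5) * single 0 0 1))
    rw [← mul_assoc, ← Units.val_mul, mul_inv_cancel] at this
    simp at this
  refine ⟨a, ha, hH.mem_scalars fun b hb => ?_⟩
  have h1 := mul_mem (conj_scalar (hc a ha b hb) g) (hg b hb)
  obtain ⟨c, hc⟩ := (mem_scalars_iff_sc _).1 h1
  have h2 : b⁻¹ * (g * a) * b⁻¹⁻¹ = sc _ c * (g * a) := by
    rw [sc_comm, ← conj_of_mem_scalars (sc_mem c) (b * (g * a))⁻¹, hc]; group
  have h3 := trace_cj b⁻¹ ((g * a : GL (Fin 5) F) : M5)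
  rw [cj_coe, h2, Units.val_mul (sc _ c), coe_sc, smul_mul_assoc, one_mul, trace_smul,
    smul_eq_mul, mul_eq_right₀ h0, Units.val_eq_one] at h3
  rw [h3, map_one, one_mul] at h2
  calc g * a * b = b * (b⁻¹ * (g * a) * b⁻¹⁻¹) := by group
    _ = b * (g * a) := by rw [h2]

theorem eq_sq_cube {Γ : Type*} [Group Γ] {x : Γ} (h : x ^ 5 = 1) : x = (x * x) ^ 3 := by
  rw [← sq, ← pow_mul, pow_succ, h, one_mul]

namespace Hei

theorem exists_ns (hR : Hei R) : ∃ x ∈ R, x ∉ Z5 :=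
  SetLike.not_le_iff_exists.1 (hR.ext.spans.not_le_scalars (by simp))

theorem wey (hR : Hei R) (hx : x ∈ R) (hs : x ∉ Z5) : ∃ y ∈ R, ∃ c, Wey c x y := by
  obtain ⟨y, hy, c, h1, h2, h3⟩ := hR.ext.exists_comm_ne hx hs
  exact ⟨y, hy, c, h1, h2, hR.five x hx, hR.five y hy, h3⟩

theorem le_sl (hR : Hei R) : R ≤ SL5 := fun x hx => by
  by_cases hs : x ∈ Z5
  · obtain ⟨c, rfl⟩ := (mem_scalars_iff_sc _).1 hs
    exact sc_mem_sl.2 (sc_injective (ι := Fin 5) (by rw [map_pow, hR.five _ hx, map_one]))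
  · obtain ⟨y, -, c, h⟩ := hR.wey hx hs
    exact h.mem_sl

theorem inverts [Finite F] (hR : Hei R) (ht : t ∈ subgroupNormalizer R)
    (h : t * t = 1) (h1 : t ∉ Z5) (hx : x ∈ R) : x * (t * x * t⁻¹) ∈ Z5 := by
  have : Fact (Nat.Prime 2) := ⟨Nat.prime_two⟩
  have hz : t ^ 2 ∈ Z5 := by rw [sq, h]; exact one_mem _
  have key : ∀ x ∈ R, x * (t * x * t⁻¹) ∈ R ∧
      t * (x * (t * x * t⁻¹)) = x * (t * x * t⁻¹) * t := fun x hx => by
    have hx' := normsG_subgroupNormalizer R t ht x hx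
    refine ⟨R.mul_mem hx hx', Der.comm_of_scalar hR.ext (by norm_num) hz (R.mul_mem hx hx') ?_⟩
    have := hR.ext.comm _ hx' _ hx
    have e : t * (x * (t * x * t⁻¹)) * t⁻¹ = t * x * t⁻¹ * (t * t * x * (t * t)⁻¹) := by group
    rwa [e, h, one_mul, inv_one, mul_one, _root_.mul_inv_rev x, ← mul_assoc]
  by_contra hs
  obtain ⟨h2, h3⟩ := key x hx
  generalize x * (t * x * t⁻¹) = u at hs h2 h3
  obtain ⟨y, hy, c, hw⟩ := hR.wey h2 hs
  obtain ⟨h4, h5⟩ := key y hy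
  have h6 : t * y * t⁻¹ * u = sc _ c * (u * (t * y * t⁻¹)) := by
    calc t * y * t⁻¹ * u = t * (y * (t⁻¹ * (u * t))) * t⁻¹ := by group
      _ = t * sc _ c * u * y * t⁻¹ := by rw [← h3, inv_mul_cancel_left, hw.rel]; group
      _ = _ := by rw [← sc_comm, mul_assoc (sc _ c), h3]; group
  have h7 : Wey (c * c) u (y * (t * y * t⁻¹)) :=
    ⟨fun e => hw.ne (by rw [eq_sq_cube hw.five, e, one_pow]),
      by rw [mul_pow, hw.five, mul_one], hw.a5, hR.five _ h4, by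
        rw [mul_assoc, h6, ← mul_assoc, ← sc_comm, mul_assoc, ← mul_assoc y, hw.rel, map_mul]
        group⟩
  exact h1 ((h7.spans (H := Subgroup.centralizer {t}) (Subgroup.mem_centralizer_singleton_iff.2
    h3.symm) (Subgroup.mem_centralizer_singleton_iff.2 h5.symm)).mem_scalars fun g hg =>
      (Subgroup.mem_centralizer_singleton_iff.1 hg).symm)

theorem no_klein [Finite F] (hR : Hei R) {s : GL (Fin 5) F}
    (hH : H ≤ subgroupNormalizer R) (hs : s ∈ H) (ht : t ∈ H) (s2 : s * s = 1)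
    (t2 : t * t = 1) (h : s * t * (s * t) = 1) (s1 : s ∉ Z5) (t1 : t ∉ Z5) (h1 : s * t ∉ Z5) :
    False := by
  obtain ⟨x, hx, hn⟩ := hR.exists_ns
  have a1 := hR.inverts (hH hs) s2 s1 hx
  have a2 := conj_scalar (hR.inverts (hH ht) t2 t1 hx) s
  have a3 := hR.inverts (hH (H.mul_mem hs ht)) h h1 hx
  have a4 := mul_mem a1 (conj_scalar (inv_mem (mul_mem a2 (inv_mem a3))) x⁻¹)
  have a5 : x * x ∈ Z5 := by convert a4 using 1; group
  exact hn (eq_sq_cube (hR.five x hx) ▸ pow_mem a5 3)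

theorem sc_mem (hR : Hei R) (hc : c ^ 5 = 1) : sc (Fin 5) c ∈ R := by
  obtain ⟨d, h1, h2, h3⟩ := hR.ext.exists_root (by simp)
  have h4 : IsPrimitiveRoot (d : F) 5 := IsPrimitiveRoot.coe_units_iff.2
    (order_five h1 h2 ▸ IsPrimitiveRoot.orderOf d)
  obtain ⟨i, -, hi⟩ := h4.eq_pow_of_pow_eq_one (ξ := (c : F)) (by simpa using congrArg Units.val hc)
  rw [← Units.ext (u := d ^ i) hi, map_pow]
  exact pow_mem h3 i

theorem mem_of_mul (hR : Hei R) (hg : g ^ 5 = 1) (hx : x ∈ R) (h : g * x ∈ Z5) : g ∈ R := by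
  obtain ⟨c, hc⟩ := (mem_scalars_iff_sc _).1 h
  have e : g = sc _ c * x⁻¹ := by rw [hc, mul_inv_cancel_right]
  rw [e, Commute.mul_pow (sc_comm c _), hR.five _ (inv_mem hx), mul_one, ← map_pow,
    map_eq_one_iff _ sc_injective] at hg
  exact e ▸ mul_mem (hR.sc_mem hg) (inv_mem hx)

theorem le {R' : Subgroup (GL (Fin 5) F)} (hR : Hei R) (hR' : Hei R') (h : Spans (R ⊓ R')) :
    R' ≤ R := fun r hr => by
  obtain ⟨a, ha, h1⟩ := exists_of_comm h (fun a ha b hb => hR.ext.comm a ha.1 b hb.1)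
    fun a ha => hR'.ext.comm r hr a ha.2
  exact hR.mem_of_mul (hR'.five r hr) ha.1 h1

theorem mem_normalizer [Finite F] (hR : Hei R)
    (h : Spans (R ⊓ R.comap (MulAut.conj g).toMonoidHom)) : g ∈ subgroupNormalizer R := by
  refine Subgroup.mem_normalizer_fintype fun r hr => ?_
  obtain ⟨a, ha, h1⟩ := exists_of_comm h (fun a ha b hb => hR.ext.comm a ha.1 b hb.1)
    fun a ha => hR.ext.comm r hr a ha.1
  refine hR.mem_of_mul (by rw [conj_pow, hR.five r hr, mul_one, mul_inv_cancel]) ha.2 ?_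
  convert conj_scalar h1 g using 1
  simp [mul_assoc]

theorem mem_of_inverted [Finite F] (hR : Hei R) (ht : t ∈ subgroupNormalizer R) (h : t * t = 1)
    (h1 : t ∉ Z5) (hx : x ∈ subgroupNormalizer R) (h3 : x ^ 5 = 1) (e : t * x * t⁻¹ = x⁻¹) :
    x ∈ R := by
  obtain ⟨a, ha, h4⟩ := exists_of_comm (g := x * x) hR.ext.spans hR.ext.comm fun r hr => by
    have a1 := hR.inverts ht h h1 (normsG_subgroupNormalizer R x hx r hr)
    have e1 : t * (x * r * x⁻¹) * t⁻¹ = t * x * t⁻¹ * (t * r * t⁻¹) * (t * x * t⁻¹)⁻¹ := by group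
    rw [e1, e] at a1
    convert conj_scalar (mul_mem a1 (inv_mem (conj_scalar (hR.inverts ht h h1 hr) x⁻¹))) x
      using 1
    group
  have h5 := hR.mem_of_mul (by rw [Commute.mul_pow (Commute.refl x), h3, mul_one]) ha h4
  exact eq_sq_cube h3 ▸ pow_mem h5 3

theorem card [Finite F] (hR : Hei R) : 125 ∣ Nat.card R := by
  obtain ⟨d, h1, h2, h3⟩ := hR.ext.exists_root (by simp)
  rw [hR.ext.card_eq, Fintype.card_fin]
  have h4 := Subgroup.orderOf_dvd_natCard (scOf R) (x := d) h3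
  rw [order_five h1 h2] at h4
  exact Nat.mul_dvd_mul_left 25 h4

theorem le_three [Finite F] (hR : Hei R) {r : ℕ} (hr : r.Prime) (h5 : r ≠ 5)
    (hx : x ∈ subgroupNormalizer R) (hz : x ^ r ∈ Z5) (hs : x ∉ Z5) : r ≤ 3 := by
  have := Fact.mk hr
  obtain ⟨C, m, -, h1, h2, -⟩ := Der.exists_fix hR.ext h5 hx hz hs
  obtain ⟨h4, h6, h7⟩ := Der.card_fix hR.ext h1 h2
  rw [Fintype.card_fin] at h4 h6 h7
  obtain ⟨j, h8, e⟩ := (Nat.dvd_prime_pow Nat.prime_five).1 h4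
  rw [e] at h6 h7
  have h9 : r ≤ 24 := by interval_cases j <;> first | omega | exact (Nat.le_of_dvd (by omega) h7).trans (by omega)
  by_contra! h10
  interval_cases j <;> interval_cases r <;> first | omega | norm_num at hr

end Hei

/-- `H` contains an extraspecial group and enough of its normaliser. -/
structure Six (H : Subgroup (GL (Fin 5) F)) (a b : GL (Fin 5) F) : Prop where
  ma : a ∈ H
  mb : b ∈ H
  ex : ∃ d w, Elts a b d w ∧ d ∈ H ∧ w ∈ H

theorem Hei.six [Finite F] (hR : Hei R) (h : Wey c a b) (ha : a ∈ R) (hb : b ∈ R) (hG : R ≤ G)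
    {d w : GL (Fin 5) F} (e : Elts a b d w) (hd : d ∈ G) (hw : w ∈ G) :
    Six (subgroupNormalizer R ⊓ G) a b := by
  have key : ∀ g : GL (Fin 5) F, g * a * g⁻¹ ∈ R → g * b * g⁻¹ ∈ R →
      g ∈ subgroupNormalizer R := fun g h1 h2 => hR.mem_normalizer (h.spans ⟨ha, h1⟩ ⟨hb, h2⟩)
  exact ⟨⟨Subgroup.le_normalizer ha, hG ha⟩, ⟨Subgroup.le_normalizer hb, hG hb⟩, d, w, e,
    ⟨key d (e.da.symm ▸ ha) (eq_mul_of_mul_inv_eq e.db ▸ mul_mem ha hb), hd⟩,
    ⟨key w (e.wa ▸ inv_mem ha) (e.wb ▸ inv_mem hb), hw⟩⟩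

theorem Six.fix (h : Six H a b) (hw : Wey c a b) (hD : IsMDecomposition 1 D)
    (hle : H ≤ decompositionStabilizer D) : a ∈ fixAll D := by
  obtain ⟨d, w, e, h1, -⟩ := h.ex
  refine e.db ▸ comm_fix hD (hle h1) (hle h.mb) e.d5 hw.b5 ?_
  rw [eq_mul_of_mul_inv_eq e.db, ← mul_assoc b, hw.rel]
  convert inv_mem (sc_mem (ι := Fin 5) c) using 1
  group

theorem Mon.not_le_norm [Finite F] {l : Fˣ} (h : Mon H l) (hR : Hei R) :
    ¬ H ≤ subgroupNormalizer R := fun hle => by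
  refine hR.no_klein hle (h.p (swap 0 1 * swap 2 3)) (h.p (swap 0 2 * swap 1 3)) ?_ ?_ ?_
    (pm_ns (by decide)) (pm_ns (by decide)) (by rw [← map_mul]; exact pm_ns (by decide)) <;>
  · simp only [← map_mul]
    exact (congrArg _ (by decide)).trans (map_one _)

end Cfsg.Agent.Cl.D5T
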