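/-
Tables of non-containments in dimension five: Singer cycles.
-/
import Mathlib
import Cfsg.Agent.Cl.D5T2

set_option autoImplicit false
set_option linter.unusedSectionVars false

namespace Cfsg.Agent.Cl.D5T

open Matrix Cfsg.Geo Cfsg.Agent.Cl.Max Cfsg.Agent.Cl.Mx

/-! ### Arithmetic -/

/-- `b` is the part of `N` prime to five, and it is large. -/
structure Big (N b : ℕ) : Prop where
  dvd : b ∣ N
  dvd' : N ∣ 5 * b
  cop : b.Coprime 30
  ne : ¬ b ∣ 11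

theorem exists_big {N : ℕ} (h2 : ¬ 2 ∣ N) (h3 : ¬ 3 ∣ N) (h25 : ¬ 25 ∣ N) (h : ¬ N ∣ 55) :
    ∃ b, Big N b := by
  have key : ∀ b, ¬ 2 ∣ b → ¬ 3 ∣ b → ¬ 5 ∣ b → b.Coprime 30 := fun b a2 a3 a5 =>
    Nat.Coprime.mul_right (Nat.Coprime.mul_right ((Nat.prime_two.coprime_iff_not_dvd.2 a2).symm)
      (Nat.prime_three.coprime_iff_not_dvd.2 a3).symm)
      (Nat.prime_five.coprime_iff_not_dvd.2 a5).symm
  by_cases h5 : 5 ∣ N
  · obtain ⟨b, rfl⟩ := h5
    exact ⟨b, dvd_mul_left _ _, dvd_rfl, key b (by omega) (by omega) (by omega),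
      fun e => h (Nat.mul_dvd_mul_left 5 e)⟩
  · exact ⟨N, dvd_rfl, dvd_mul_left _ _, key N h2 h3 h5, fun e => h (e.trans (by norm_num))⟩

namespace Big

variable {N b : ℕ}

theorem dvd_of (h : Big N b) {k : ℕ} (e : N ∣ 5 * k) : b ∣ k :=
  (h.cop.coprime_dvd_right (by norm_num : 5 ∣ 30)).dvd_of_dvd_mul_left (h.dvd.trans e)

theorem not_dvd (h : Big N b) : ¬ N ∣ 30 ^ 7 * 11 := fun e =>
  h.ne ((h.cop.pow_right 7).dvd_of_dvd_mul_left (h.dvd.trans e))

theorem cast_ne (h : Big N b) {k : ℕ} (hk : k ∣ 30) : ((k : ℕ) : ZMod b) ≠ 0 := fun e =>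
  h.ne (Nat.eq_one_of_dvd_coprimes h.cop dvd_rfl (((ZMod.natCast_eq_zero_iff _ _).1 e).trans hk) ▸
    one_dvd _)

theorem exists_prime (h : Big N b) : ∃ r, r.Prime ∧ 7 ≤ r ∧ r ∣ N := by
  have h1 : b ≠ 1 := fun e => h.ne (e ▸ one_dvd _)
  refine ⟨b.minFac, Nat.minFac_prime h1, ?_, b.minFac_dvd.trans h.dvd⟩
  have h2 := Nat.minFac_prime h1
  have h3 := h.cop.coprime_dvd_left b.minFac_dvd
  generalize b.minFac = r at h2 h3
  by_contra! h4
  interval_cases r <;> simp_all (config := {decide := true})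

end Big

theorem big_sl {q : ℕ} (hq : 2 ≤ q) : ∃ b, Big (q ^ 4 + q ^ 3 + q ^ 2 + q + 1) b := by
  refine exists_big ?_ ?_ ?_ fun e => ?_
  · rw [← ZMod.natCast_eq_zero_iff]; push_cast; generalize (q : ZMod 2) = x; revert x; decide
  · rw [← ZMod.natCast_eq_zero_iff]; push_cast; generalize (q : ZMod 3) = x; revert x; decide
  · rw [← ZMod.natCast_eq_zero_iff]; push_cast; generalize (q : ZMod 25) = x; revert x; decide
  · rcases hq.eq_or_lt with rfl | hq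
    · norm_num at e
    · have := Nat.le_of_dvd (by norm_num) e
      have := Nat.pow_le_pow_left (show 3 ≤ q by omega) 4
      omega

theorem big_su {m : ℕ} (hm : 2 ≤ m) : ∃ b, Big (m ^ 4 + 3 * m ^ 3 + 4 * m ^ 2 + 2 * m + 1) b := by
  refine exists_big ?_ ?_ ?_ fun e => ?_
  · rw [← ZMod.natCast_eq_zero_iff]; push_cast; generalize (m : ZMod 2) = x; revert x; decide
  · rw [← ZMod.natCast_eq_zero_iff]; push_cast; generalize (m : ZMod 3) = x; revert x; decide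
  · rw [← ZMod.natCast_eq_zero_iff]; push_cast; generalize (m : ZMod 25) = x; revert x; decide
  · have := Nat.le_of_dvd (by norm_num) e
    have := Nat.pow_le_pow_left hm 4
    have := Nat.pow_le_pow_left hm 3
    have := Nat.pow_le_pow_left hm 2
    omega

theorem arith_sub_sl {q Q r j : ℕ} (h : q = Q ^ r) (hr : 2 ≤ r) (hQ : 2 ≤ Q)
    (h1 : 1 ≤ j) (h5 : j ≤ 5) : ¬ q ^ 4 + q ^ 3 + q ^ 2 + q + 1 ∣ 5 * (Q ^ j - 1) := fun hd => by
  have a1 := Nat.one_lt_pow (n := j) (a := Q) (by omega) hQ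
  have a2 := Nat.le_of_dvd (by omega) hd
  have a3 := Nat.pow_le_pow_right (n := Q) (by omega) h5
  have a4 := Nat.pow_le_pow_left (h ▸ Nat.pow_le_pow_right (n := Q) (by omega) hr) 4
  have a5 := Nat.mul_le_mul_left (Q ^ 5) (Nat.pow_le_pow_left hQ 3)
  rw [← pow_add] at a5
  rw [← pow_mul] at a4
  norm_num at a4 a5
  omega

theorem arith_sim {q e j : ℕ} (h : e ^ 2 ≤ q) (he : 1 ≤ e) (hq : 3 ≤ q) (h5 : j < 5) :
    ¬ q ^ 4 + q ^ 3 + q ^ 2 + q + 1 ∣ 5 * (q ^ j + e) := fun hd => by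
  rcases Nat.lt_or_ge q 5 with h1 | h1
  · have : e ≤ 2 := by nlinarith
    interval_cases q <;> interval_cases e <;> interval_cases j <;> omega
  have a1 : e ≤ q := by nlinarith
  have a2 : 5 * q ≤ q ^ 2 := by nlinarith
  have a3 : 5 * q ^ 2 ≤ q ^ 3 := by rw [pow_succ' q 2]; exact Nat.mul_le_mul_right _ h1
  have a4 : 5 * q ^ 3 ≤ q ^ 4 := by rw [pow_succ' q 3]; exact Nat.mul_le_mul_right _ h1
  rcases Nat.lt_or_ge j 4 with h2 | h2
  · have := Nat.le_of_dvd (by omega) hd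
    have := Nat.pow_le_pow_right (n := q) (by omega) (show j ≤ 3 by omega)
    omega
  · obtain rfl : j = 4 := by omega
    have := (Nat.dvd_add_right hd).1
      (show _ ∣ 5 * (q ^ 4 + e) + 5 * (q ^ 3 + q ^ 2 + q + 1 - e) from ⟨5, by omega⟩)
    have := Nat.le_of_dvd (by omega) this
    omega

theorem arith_sub_su {m b Q r j : ℕ} (hb : Big (m ^ 4 + 3 * m ^ 3 + 4 * m ^ 2 + 2 * m + 1) b)
    (h : (m + 1) ^ 2 = Q ^ r) (hQ : 2 ≤ Q)
    (hr : r = 2 ∨ (Odd r ∧ 3 ≤ r ∧ ∃ a, Q = a ^ 2 ∧ m + 1 = a ^ r)) (h1 : 1 ≤ j) (h5 : j ≤ 5) :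
    ¬ m ^ 4 + 3 * m ^ 3 + 4 * m ^ 2 + 2 * m + 1 ∣ 5 * (Q ^ j - 1) := fun hd => by
  have a1 : ((Q : ℕ) : ZMod b) ^ j = 1 := by
    have := (ZMod.natCast_eq_zero_iff _ _).2 (hb.dvd_of hd)
    rwa [Nat.cast_pred (by positivity), sub_eq_zero, Nat.cast_pow] at this
  have a2 := (ZMod.natCast_eq_zero_iff _ _).2 hb.dvd
  have a3 : ((m : ZMod b) + 1) ^ (2 * j) = 1 := by
    have := congrArg (fun n : ℕ => (n : ZMod b) ^ j) h
    push_cast at this
    rw [pow_mul, this, ← pow_mul, mul_comm, pow_mul, a1, one_pow]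
  push_cast at a2
  have a4 : ((m : ZMod b) + 1) ^ 5 = -1 := by linear_combination ((m : ZMod b) + 2) * a2
  have a5 : (m : ZMod b) + 1 ≠ -1 := fun e => hb.cast_ne (k := 5) (by norm_num) (by
    rw [eq_sub_of_add_eq e] at a2
    push_cast; linear_combination a2)
  rcases h5.lt_or_eq with h5 | rfl
  · generalize (m : ZMod b) + 1 = x at a3 a4 a5
    refine a5 ?_
    interval_cases j
    · linear_combination a4 - (x ^ 3 + x) * a3
    · linear_combination a4 - x * a3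
    · linear_combination x * a4 - a3
    · linear_combination (1 + (x ^ 3 + x) * (1 - x ^ 5)) * a4 + (x ^ 3 + x) * x ^ 2 * a3
  rcases hr with rfl | ⟨⟨k, hk⟩, h3, a, rfl, ha⟩
  · obtain rfl := Nat.pow_left_injective two_ne_zero h
    exact hb.cast_ne (k := 2) (by norm_num) (by push_cast at a1 ⊢; linear_combination a4 - a1)
  · have a6 : ((a ^ 5 + 1 : ℕ) : ZMod b) = 0 := by
      have := congrArg (fun n : ℕ => (n : ZMod b)) ha
      push_cast at this a1 ⊢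
      rw [this, hk, ← pow_mul, show (2 * k + 1) * 5 = 2 * 5 * k + 5 by ring, pow_add, pow_mul,
        pow_mul, a1, one_pow, one_mul] at a4
      rw [a4, neg_add_cancel]
    have a7 := (Nat.le_of_dvd (by positivity) (hb.dvd'.trans (Nat.mul_dvd_mul_left 5
      ((ZMod.natCast_eq_zero_iff _ _).1 a6))))
    have a8 : 2 ≤ a := by by_contra! e; interval_cases a <;> omega
    have a9 := ha ▸ Nat.pow_le_pow_right (n := a) (by omega) h3
    have b1 := Nat.pow_le_pow_left a9 3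
    have b2 := Nat.mul_le_mul_left (a ^ 5) (Nat.pow_le_pow_left a8 4)
    have b3 := Nat.pow_le_pow_left a8 3
    have b4 := Nat.mul_le_mul_right ((m + 1) ^ 3) (show 7 ≤ m by omega)
    have b5 := Nat.one_le_pow 5 a (by omega)
    rw [← pow_mul] at b1
    rw [← pow_add] at b2
    norm_num at b1 b2
    have b6 : m * (m + 1) ^ 3 = m ^ 4 + 3 * m ^ 3 + 3 * m ^ 2 + m := by ring
    omega

/-! ### Quintic extension fields in the matrix algebra -/

variable {F : Type*} [Field F] [Fintype F] {H R : Subgroup (GL (Fin 5) F)} {F₀ : Subfield F}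
  {P g s : GL (Fin 5) F} {σ : F →+* F} {f : (Fin 5 → F) → (Fin 5 → F) → F}
  {D : Fin 5 → Submodule F (Fin 5 → F)} {K K' : Subalgebra F (Matrix (Fin 5) (Fin 5) F)}
  {x y : Matrix (Fin 5) (Fin 5) F} {N : ℕ}

local notation "M5" => Matrix (Fin 5) (Fin 5) F
local notation "SL5" => specialLinear (Fin 5) F
local notation "Z5" => scalars (Fin 5) F

theorem span_pow (hK : IsFieldSubalgebra 5 K) (hx : x ∈ K) (hs : ∀ c : F, x ≠ c • 1)
    {v : Fin 5 → F} (hv : v ≠ 0) (w : Fin 5 → F) :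
    ∃ a : Fin 5 → F, ∑ i, a i • x ^ (i : ℕ) *ᵥ v = w := by
  have h := (linearIndependent_pow_of_prime hK Nat.prime_five hx hs
    hv).span_eq_top_of_card_eq_finrank' (by simp)
  exact (Submodule.mem_span_range_iff_exists_fun F).1 (h ▸ Submodule.mem_top (x := w))

theorem exists_poly (hK : IsFieldSubalgebra 5 K) (hx : x ∈ K) (hs : ∀ c : F, x ≠ c • 1)
    (h : y * x = x * y) : ∃ a : Fin 5 → F, y = ∑ i, a i • x ^ (i : ℕ) := by
  have hv : (Pi.single 0 1 : Fin 5 → F) ≠ 0 := by simp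
  generalize (Pi.single 0 1 : Fin 5 → F) = v at hv
  obtain ⟨a, e⟩ := span_pow hK hx hs hv (y *ᵥ v)
  refine ⟨a, Matrix.ext_iff_mulVec.2 fun w => ?_⟩
  obtain ⟨a', rfl⟩ := span_pow hK hx hs hv w
  have h1 : ∀ (z : M5), Commute z x → z *ᵥ v = y *ᵥ v → ∀ k : ℕ,
      y *ᵥ x ^ k *ᵥ v = z *ᵥ x ^ k *ᵥ v := fun z hz e k => by
    rw [mulVec_mulVec, (Commute.pow_right h k).eq, mulVec_mulVec, (hz.pow_right k).eq,
      ← mulVec_mulVec, ← mulVec_mulVec, e]
  have h2 := h1 (∑ i, a i • x ^ (i : ℕ)) (Commute.sum_left _ _ _ fun i _ =>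
    ((Commute.refl x).pow_left _).smul_left _) (by
      rw [← e, sum_mulVec]; simp only [smul_mulVec])
  simp only [mulVec_sum, mulVec_smul, h2]

open Polynomial IntermediateField in
theorem pow_of_rat (hK : IsFieldSubalgebra 5 K) (hx : x ∈ K) (h : Rat F₀ P x) :
    ∃ j, 1 ≤ j ∧ j ≤ 5 ∧ x ^ Nat.card F₀ ^ j = x := by
  obtain ⟨A, hA⟩ := rat_iff.1 h
  let _ := (IsFieldSubalgebra.isField hK).toField
  let z : K := ⟨x, hx⟩
  have h1 : aeval z A.charpoly = 0 := by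
    apply Subtype.val_injective
    have e1 := aeval_algHom_apply (K.val.restrictScalars F₀) z A.charpoly
    have e2 := aeval_algHom_apply (((cj P).toAlgHom.restrictScalars F₀).comp
      (Algebra.ofId F₀ F).mapMatrix) A A.charpoly
    rw [aeval_self_charpoly, map_zero] at e2
    exact e1.symm.trans ((congrArg (aeval · A.charpoly) hA).trans e2)
  have hi : IsIntegral F₀ z := .of_finite _ _
  refine ⟨_, minpoly.natDegree_pos hi, (natDegree_le_of_dvd (minpoly.dvd _ _ h1)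
    A.charpoly_monic.ne_zero).trans (by simp), ?_⟩
  have h2 := L2.pow_natCard_pow (AdjoinSimple.gen F₀ z) 1
  rw [pow_one, Module.natCard_eq_pow_finrank (K := F₀), adjoin.finrank hi] at h2
  exact congrArg (fun w : F₀⟮z⟯ => ((w : K) : M5)) h2

theorem adj_pow_eq (hK : IsFieldSubalgebra 5 K) (hf : HForm σ 1 f) (hS : StarC σ f K) {p k : ℕ}
    [Fact p.Prime] [CharP F p] (hσ : ∀ a, σ a = a ^ p ^ k) :
    ∃ j < 5, ∀ x ∈ K, adj σ f (x ^ p ^ k) = x ^ Fintype.card F ^ j :=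
  IsFieldSubalgebra.exists_pow hK (fun x => adj σ f (x ^ p ^ k))
    (fun x hx => hS _ (pow_mem hx _)) (by simp [hf.adj_one])
    (fun x hx y hy => by
      simp only [add_pow_char_pow_of_commute p k (hK.comm x hx y hy), hf.adj_add])
    (fun x hx y hy => by
      simp only [hK.comm x hx y hy, Commute.mul_pow (hK.comm y hy x hx), hf.adj_mul])
    (fun c x hx => by simp only [_root_.smul_pow, hf.adj_smul, ← hσ, hf.invol])

theorem exists_order (hK : IsFieldSubalgebra 5 K) (h : N ∣ Fintype.card F ^ 5 - 1) :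
    ∃ s : GL (Fin 5) F, (s : M5) ∈ K ∧ orderOf s = N := by
  let _ := (IsFieldSubalgebra.isField hK).toField
  obtain ⟨z, hz⟩ := IsCyclic.exists_ofOrder_eq_natCard (α := Kˣ)
  rw [Nat.card_units, card_fieldSubalgebra hK] at hz
  refine ⟨Units.map K.val.toMonoidHom (z ^ (orderOf z / N)), ((z ^ (orderOf z / N) : Kˣ) : K).2, ?_⟩
  rw [orderOf_injective _ (Units.map_injective Subtype.val_injective),
    orderOf_pow_orderOf_div (orderOf_pos z).ne' (hz ▸ h)]

theorem det_eq_one (hK : IsFieldSubalgebra 5 K) (hs : (s : M5) ∈ K)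
    (h : orderOf s ∣ Fintype.card F ^ 4 + Fintype.card F ^ 3 + Fintype.card F ^ 2 +
      Fintype.card F + 1) : s ∈ SL5 := by
  have h1 := singer_det hK (by simp) hs
  obtain ⟨q, hq⟩ := Nat.exists_eq_add_of_lt (Fintype.one_lt_card (α := F))
  rw [Nat.div_eq_of_eq_mul_left (k := Fintype.card F ^ 4 + Fintype.card F ^ 3 + Fintype.card F ^ 2 +
    Fintype.card F + 1) (by omega) (by
    rw [hq, Nat.add_sub_cancel]; exact Nat.sub_eq_of_eq_add (by ring)), ← Units.val_pow_eq_pow_val,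
    orderOf_dvd_iff_pow_eq_one.1 h] at h1
  simpa [mem_specialLinear_iff] using congrFun₂ h1 0 0

theorem mem_normalizer_of_mem (hK : IsFieldSubalgebra 5 K) (hs : (s : M5) ∈ K) :
    s ∈ subalgebraNormalizer K := mem_subalgebraNormalizer_of_maps fun k hk => by
  rwa [(cj_eq_iff s k k).2 (hK.comm _ hs _ hk)]

/-- `H` contains an element of order `N` of the field `K`. -/
structure KD (K : Subalgebra F (Matrix (Fin 5) (Fin 5) F)) (H : Subgroup (GL (Fin 5) F)) (N : ℕ)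
    (s : GL (Fin 5) F) : Prop where
  fld : IsFieldSubalgebra 5 K
  le : H ≤ specialLinear (Fin 5) F
  mem : s ∈ H
  inK : (s : Matrix (Fin 5) (Fin 5) F) ∈ K
  ord : orderOf s = N
  big : ∃ b, Big N b

namespace KD

theorem dvd (h : KD K H N s) {m : ℕ} (hm : s ^ m ∈ Z5) : N ∣ 5 * m := by
  rw [← h.ord, orderOf_dvd_iff_pow_eq_one, mul_comm, pow_mul]
  exact fifth_of_scalar (h.le (pow_mem h.mem m)) hm

theorem not_dvd (h : KD K H N s) : ¬ N ∣ 30 ^ 7 * 11 := h.big.choose_spec.not_dvd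

theorem ns (h : KD K H N s) (c : F) : ((s ^ 5 : GL (Fin 5) F) : M5) ≠ c • 1 := fun e =>
  h.not_dvd ((h.dvd (mem_scalars_of_eq_smul e)).trans (by norm_num))

theorem inK5 (h : KD K H N s) : ((s ^ 5 : GL (Fin 5) F) : M5) ∈ K := pow_mem h.inK 5

theorem irr (h : KD K H N s) : Irr H := fun W hW => or_iff_not_imp_left.2 fun h0 => by
  obtain ⟨v, hv, hv0⟩ := W.exists_mem_ne_zero_of_ne_bot h0
  refine eq_top_iff.2 fun w _ => ?_
  obtain ⟨a, rfl⟩ := span_pow h.fld h.inK5 h.ns hv0 w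
  exact sum_mem fun i _ => W.smul_mem _ (hW _ (pow_mem (pow_mem h.mem 5) i) _ hv)

theorem not_le_frame (h : KD K H N s) (hD : IsMDecomposition 1 D) :
    ¬ H ≤ decompositionStabilizer D := fun hle => by
  obtain ⟨v, h0, -, hv⟩ := exists_line hD 0
  obtain ⟨c, hc⟩ := hv _ (pow_fix hD (hle h.mem))
  refine h.not_dvd ((h.dvd (m := 120) (mem_scalars_of_eq_smul (c := c)
    (sub_eq_zero.1 ?_))).trans (by norm_num))
  by_contra h1
  exact IsFieldSubalgebra.mulVec_ne_zero h.fld (sub_mem (pow_mem h.inK 120)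
    (K.smul_mem (one_mem K) c)) h1 h0 (by rw [sub_mulVec, smul_mulVec, one_mulVec, ← hc]; simp)

theorem field_eq (h : KD K H N s) (hK : IsFieldSubalgebra 5 K')
    (hle : H ≤ subalgebraNormalizer K') : K' = K := by
  obtain ⟨j, -, hj⟩ := IsFieldSubalgebra.exists_pow hK (cj s) (fun x hx => (hle h.mem x).1 hx)
    (map_one _) (fun _ _ _ _ => map_add _ _ _) (fun _ _ _ _ => map_mul _ _ _)
    fun _ _ _ => map_smul _ _ _
  have h0 : ∀ k : ℕ, ∀ x ∈ K', cj (s ^ k) x = x ^ Fintype.card F ^ (k * j) := fun k x hx => by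
    induction k with
    | zero => simp [cj_one]
    | succ k ih => rw [pow_succ', cj_mul, ih, hj _ (pow_mem hx _), ← pow_mul, ← pow_add, add_mul,
        one_mul]
  have h1 : K' ≤ K := fun x hx => by
    have h2 : cj (s ^ 5) x = x := by
      rw [h0 5 x hx]
      exact (IsFieldSubalgebra.pow_iff_dvd hK _).2 (dvd_mul_right _ _) x hx
    obtain ⟨a, rfl⟩ := exists_poly h.fld h.inK5 h.ns ((cj_eq_iff _ _ _).1 h2).symm
    exact sum_mem fun i _ => K.smul_mem (pow_mem h.inK5 _) _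
  exact Subalgebra.toSubmodule_injective (Submodule.eq_of_le_of_finrank_eq h1
    (hK.finrank_eq.trans h.fld.finrank_eq.symm))

theorem sub (h : KD K H N s) (hle : H ≤ subfieldSubgroup F₀ P) :
    ∃ j, 1 ≤ j ∧ j ≤ 5 ∧ N ∣ 5 * (Nat.card F₀ ^ j - 1) := by
  obtain ⟨j, h1, h2, h3⟩ := pow_of_rat h.fld h.inK5 (fif_rat h.le hle (fifth_mem h.mem))
  refine ⟨j, h1, h2, ?_⟩
  have h4 : 1 ≤ Nat.card F₀ ^ j := Nat.one_le_pow _ _ Nat.card_pos
  rw [← h.ord, orderOf_dvd_iff_pow_eq_one, pow_mul, ← mul_left_inj (s ^ 5), ← pow_succ,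
    Nat.sub_add_cancel h4, one_mul]
  exact Units.ext h3

theorem not_le_norm (h : KD K H N s) (hR : Hei R) : ¬ H ≤ subgroupNormalizer R := fun hle => by
  obtain ⟨r, h1, h2, k, h3⟩ := h.big.choose_spec.exists_prime
  have h0 : k ≠ 0 := by rintro rfl; exact (orderOf_pos s).ne' (h.ord.trans h3)
  refine absurd (hR.le_three h1 (by omega) (hle (pow_mem h.mem k)) ?_ fun h4 => ?_) (by omega)
  · rw [← pow_mul, mul_comm, ← h3, ← h.ord, pow_orderOf_eq_one]; exact one_mem _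
  · have := Nat.le_of_dvd (by norm_num) (Nat.dvd_of_mul_dvd_mul_right (Nat.pos_of_ne_zero h0)
      (h3 ▸ h.dvd h4))
    omega

theorem sim (h : KD K H N s) (hf : HForm σ 1 f) {p k : ℕ} [Fact p.Prime] [CharP F p]
    (hσ : ∀ a, σ a = a ^ p ^ k) (hle : H ≤ similarityGroup f) :
    ∃ j < 5, N ∣ 5 * (Fintype.card F ^ j + p ^ k) := by
  have h1 := hf.adj_of_mem_isoG (fif_iso hf h.le hle (fifth_mem h.mem))
  have h2 : (((s ^ 5)⁻¹ : GL (Fin 5) F) : M5) ∈ K := by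
    obtain ⟨y, hy, e⟩ := h.fld.inv _ h.inK5 (by simpa using h.ns 0)
    rwa [Units.inv_eq_of_mul_eq_one_right e]
  obtain ⟨j, hj, e⟩ := adj_pow_eq h.fld hf (fun x hx => by
    obtain ⟨a, rfl⟩ := exists_poly h.fld h.inK5 h.ns (h.fld.comm x hx _ h.inK5)
    simp only [hf.adj_sum, hf.adj_smul, hf.adj_pow, h1]
    exact sum_mem (S := K) fun i _ => K.smul_mem (pow_mem h2 _) _) hσ
  refine ⟨j, hj, ?_⟩
  have h3 := e _ h.inK5
  rw [hf.adj_pow, h1, ← Units.val_pow_eq_pow_val, ← Units.val_pow_eq_pow_val] at h3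
  rw [← h.ord, orderOf_dvd_iff_pow_eq_one, pow_mul, pow_add, ← Units.ext h3, inv_pow,
    inv_mul_cancel]

theorem not_card (h : KD K H N s) : ¬ Nat.card H ∣ 30 ^ 7 * 11 := fun e =>
  h.not_dvd ((h.ord ▸ Subgroup.orderOf_dvd_natCard _ h.mem).trans e)

end KD

theorem exists_kd_sl (hK : IsFieldSubalgebra 5 K) : ∃ s, KD K (subalgebraNormalizer K ⊓ SL5)
    (Fintype.card F ^ 4 + Fintype.card F ^ 3 + Fintype.card F ^ 2 + Fintype.card F + 1) s := by
  obtain ⟨q, hq⟩ := Nat.exists_eq_add_of_lt (Fintype.one_lt_card (α := F))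
  obtain ⟨s, h1, h2⟩ := exists_order hK (N := Fintype.card F ^ 4 + Fintype.card F ^ 3 +
    Fintype.card F ^ 2 + Fintype.card F + 1)
    ⟨1 + q, by rw [hq]; exact Nat.sub_eq_of_eq_add (by ring)⟩
  exact ⟨s, hK, inf_le_right, ⟨mem_normalizer_of_mem hK h1, det_eq_one hK h1 h2.dvd⟩, h1, h2,
    big_sl Fintype.one_lt_card⟩

theorem exists_kd_su {m : ℕ} (hσ : UField σ (m + 1)) (hm : 2 ≤ m) (hf : HForm σ 1 f)
    (hK : IsFieldSubalgebra 5 K) (hS : StarC σ f K) :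
    ∃ s, KD K (subalgebraNormalizer K ⊓ suG f) (m ^ 4 + 3 * m ^ 3 + 4 * m ^ 2 + 2 * m + 1) s := by
  have hc : Fintype.card F = (m + 1) ^ 2 := D3.card_eq_sq hσ
  have hN : m ^ 4 + 3 * m ^ 3 + 4 * m ^ 2 + 2 * m + 1 ∣ (m + 1) ^ 5 + 1 := ⟨m + 2, by ring⟩
  obtain ⟨s, h1, h2⟩ := exists_order hK (N := m ^ 4 + 3 * m ^ 3 + 4 * m ^ 2 + 2 * m + 1)
    (hN.trans ⟨(m + 1) ^ 5 - 1, by
      rw [hc, ← Nat.sq_sub_sq, ← pow_mul, ← pow_mul, one_pow]⟩)
  refine ⟨s, hK, inf_le_right.trans inf_le_right, ⟨mem_normalizer_of_mem hK h1, ?_,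
    det_eq_one hK h1 ⟨(m + 1) ^ 4 + (m + 1) ^ 3 + (m + 1) ^ 2 + (m + 1) + 1, by
      rw [h2, hc]; ring⟩⟩, h1, h2, big_su hm⟩
  obtain ⟨p, k, hp, _, -, hq⟩ := hσ.exists_prime_pow
  have := Fact.mk hp
  obtain ⟨j, hj, e⟩ := adj_pow_eq hK hf hS (p := p) (k := k) (hq ▸ hσ.pow)
  rw [← hq] at e
  have h3 := (IsFieldSubalgebra.pow_iff_dvd hK 5).2 dvd_rfl
  have h4 : ∀ x ∈ K, x ^ Fintype.card F = x ^ (Fintype.card F ^ j * Fintype.card F ^ j) :=
    fun x hx => by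
      have h5 := e _ (hS x hx)
      rw [hf.adj_pow, hf.adj_adj] at h5
      rw [pow_mul, ← e x hx, hf.adj_pow, ← pow_mul, mul_comm, pow_mul, ← h5, ← pow_mul, ← sq, hc]
  have h5 : 5 ∣ j + j + 4 := (IsFieldSubalgebra.pow_iff_dvd hK _).1 fun x hx => by
    rw [pow_add, pow_mul, pow_add, ← h4 x hx, ← pow_mul, ← pow_succ', h3 x hx]
  obtain rfl : j = 3 := by omega
  have h6 := e _ (pow_mem h1 ((m + 1) ^ 9))
  rw [← pow_mul, ← pow_succ, show (m + 1) ^ (9 + 1) = Fintype.card F ^ 5 by rw [hc]; ring,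
    h3 _ h1] at h6
  refine hf.mem_isoG_of_adj ?_
  rw [h6, ← pow_mul, ← pow_succ, ← Units.val_pow_eq_pow_val, orderOf_dvd_iff_pow_eq_one.1,
    Units.val_one]
  rw [h2, hc]
  refine hN.trans ?_
  generalize m + 1 = q
  have := Odd.nat_add_dvd_pow_add_pow (q ^ 5) 1 (n := 3) (by decide)
  rw [← pow_mul] at this
  simpa [← pow_mul, ← pow_add] using this

end Cfsg.Agent.Cl.D5T
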