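/-
Tables of non-containments in dimension five: orders, classical groups over subfields, rows.
-/
import Mathlib
import Cfsg.Agent.Cl.D5T3
import Cfsg.Agent.Cl.LinearTransv

set_option autoImplicit false
set_option linter.unusedSectionVars false
set_option linter.unusedSimpArgs false

namespace Cfsg.Agent.Cl.D5T

open Matrix Cfsg.Geo Cfsg.Agent.Cl.Max Cfsg.Agent.Cl.Mx Equiv

variable {F : Type*} [Field F] [Fintype F] {G H R : Subgroup (GL (Fin 5) F)} {F₀ F₁ : Subfield F}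
  {P g a b : GL (Fin 5) F} {σ : F →+* F} {f : (Fin 5 → F) → (Fin 5 → F) → F} {q r : ℕ}
  {D : Fin 5 → Submodule F (Fin 5 → F)} {K : Subalgebra F (Matrix (Fin 5) (Fin 5) F)} {l c : Fˣ}

local notation "M5" => Matrix (Fin 5) (Fin 5) F
local notation "SL5" => specialLinear (Fin 5) F
local notation "Z5" => scalars (Fin 5) F

/-! ### Orders -/

theorem card_dvd_of_core {M Q : Subgroup (GL (Fin 5) F)} (hQ : IsResidualCore M Q) (hM : M ≤ SL5)
    {S : Type*} [Group S] (e : (Q ⧸ (Z5).subgroupOf Q) ≃* S) :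
    Nat.card M ∣ 5 * Nat.card (MulAut S) := by
  let π := QuotientGroup.mk' (Z5)
  have h1 : ∀ m : M, (π.comp M.subtype) m ∈ Subgroup.normalizer ((Q.map π : Subgroup _) : Set _) :=
    fun m => Subgroup.mem_normalizer_fintype (by
      rintro _ ⟨x, hx, rfl⟩
      exact ⟨_, hQ.normal m m.2 x hx, by simp⟩)
  let φ := (Q.map π).normalizerMonoidHom.comp ((π.comp M.subtype).codRestrict _ h1)
  have h2 : φ.ker ≤ (Z5).subgroupOf M := fun m hm => hQ.centralizer_scalar m m.2 fun x hx => by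
    have h3 : (π.comp M.subtype).codRestrict _ h1 m ∈ (Q.map π).normalizerMonoidHom.ker := hm
    rw [Subgroup.normalizerMonoidHom_ker] at h3
    have h4 : π x * π m = π m * π x := h3 (π x) ⟨x, hx, rfl⟩
    rw [← QuotientGroup.eq_one_iff]
    change π _ = 1
    rw [map_mul, map_mul, map_mul, ← h4, map_inv, map_inv]
    group
  have e1 : (Q ⧸ (Z5).subgroupOf Q) ≃* Q.map π :=
    (QuotientGroup.quotientMulEquivOfEq (by ext x; simp [π, Subgroup.mem_subgroupOf])).trans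
      ((QuotientGroup.quotientKerEquivRange (π.comp Q.subtype)).trans
        (MulEquiv.subgroupCongr (by rw [MonoidHom.range_comp, Subgroup.range_subtype])))
  rw [← φ.ker.card_mul_index, Subgroup.index_ker,
    Nat.card_congr (MulAut.congr (e.symm.trans e1)).toEquiv]
  refine mul_dvd_mul ((Subgroup.card_dvd_of_le h2).trans ?_) (Subgroup.card_subgroup_dvd_card _)
  rw [card_subgroupOf_scalars]
  exact card_dvd_of_pow_eq_one fun c hc => sc_mem_sl.1 (hM hc)

/-- A torus of `SL₅`. -/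
def tor : (Fin 4 → Fˣ) →* GL (Fin 5) F := dg.comp (MonoidHom.mk'
  (fun x => ![x 0, x 1, x 2, x 3, (x 0 * x 1 * x 2 * x 3)⁻¹]) fun x y => by
    ext i
    fin_cases i <;> simp [mul_comm, mul_left_comm, mul_assoc])

theorem tor_apply (x : Fin 4 → Fˣ) :
    tor x = dg ![x 0, x 1, x 2, x 3, (x 0 * x 1 * x 2 * x 3)⁻¹] := rfl

theorem tor_injective : Function.Injective (tor (F := F)) := fun x y e => by
  have h := congrFun (dg_injective e)
  ext i
  fin_cases i
  exacts [congrArg _ (h 0), congrArg _ (h 1), congrArg _ (h 2), congrArg _ (h 3)]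

theorem tor_eq (x : Fin 4 → Fˣ) :
    tor x = dd 0 4 (x 0) * dd 1 4 (x 1) * dd 2 4 (x 2) * dd 3 4 (x 3) := by
  simp only [tor_apply, dd, ← map_mul]
  congr 1
  ext i
  fin_cases i <;> simp [mul_comm, mul_left_comm, mul_assoc]

theorem Mon.d_zpow (h : Mon H l) (i j : Fin 5) {m : Fˣ} (hm : m ∈ Subgroup.zpowers l) :
    dd i j m ∈ H := by
  obtain ⟨k, rfl⟩ := hm
  have : dd i j (l ^ k) = dd i j l ^ k := map_zpow (MonoidHom.mk' (dd i j) fun a b => by
    rw [dd, dd, dd, ← map_mul, mul_inv, Pi.mulSingle_mul, Pi.mulSingle_mul, mul_mul_mul_comm]) l k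
  exact this ▸ zpow_mem (h.d i j) k

theorem Mon.exists_tor (h : Mon H l) : ∃ T ≤ H, Nat.card T = orderOf l ^ 4 ∧
    pm F c[0, 1, 2] ∈ Subgroup.normalizer (T : Set (GL (Fin 5) F)) ∧ pm F c[0, 1, 2] ∉ T := by
  let τ := tor.comp ((Subgroup.zpowers l).subtype.compLeft (Fin 4))
  have h1 : Function.Injective τ := tor_injective.comp fun x y e => funext fun i =>
    Subtype.ext (congrFun e i)
  refine ⟨τ.range, ?_, ?_, Subgroup.mem_normalizer_fintype ?_, ?_⟩
  · rintro _ ⟨x, rfl⟩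
    change tor _ ∈ H
    rw [tor_eq]
    exact mul_mem (mul_mem (mul_mem (h.d_zpow _ _ (x 0).2) (h.d_zpow _ _ (x 1).2))
      (h.d_zpow _ _ (x 2).2)) (h.d_zpow _ _ (x 3).2)
  · rw [← Nat.card_congr (MonoidHom.ofInjective h1).toEquiv, Nat.card_fun, Nat.card_zpowers]
    simp
  · rintro _ ⟨x, rfl⟩
    refine ⟨![x 2, x 0, x 1, x 3], ?_⟩
    change tor _ = _ * tor _ * _
    rw [tor_apply, tor_apply, pm_dg]
    have e : ∀ i, (c[0, 1, 2] : Perm (Fin 5))⁻¹ i = ![2, 0, 1, 3, 4] i := by decide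
    congr 1
    ext i
    rw [Function.comp_apply, e]
    fin_cases i <;> simp [mul_comm, mul_left_comm, mul_assoc]
  · rintro ⟨x, hx⟩
    have h2 : (tor ((Subgroup.zpowers l).subtype.compLeft (Fin 4) x) : M5) 1 0 =
        (pm F c[0, 1, 2] : M5) 1 0 := congrArg (fun g : GL (Fin 5) F => (g : M5) 1 0) hx
    rw [tor_apply, coe_dg, diagonal_apply_ne _ (by decide), pm_apply, if_pos (by decide)] at h2
    exact sg_ne _ h2.symm

theorem Mon.card_dvd (h : Mon H l) : orderOf l ^ 4 ∣ Nat.card H := by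
  obtain ⟨T, h1, h2, -⟩ := h.exists_tor
  exact h2 ▸ Subgroup.card_dvd_of_le h1

theorem Mon.card_three (h : Mon H l) (h3 : orderOf l = 3) : 243 ∣ Nat.card H := by
  obtain ⟨T, h1, h2, h4, h5⟩ := h.exists_tor
  have := Fact.mk Nat.prime_three
  have h6 : pm F c[0, 1, 2] ^ 3 = 1 := by
    rw [← map_pow, show (c[0, 1, 2] : Perm (Fin 5)) ^ 3 = 1 by decide, map_one]
  rw [h3] at h2
  have h7 : IsPGroup 3 (Subgroup.zpowers (pm F c[0, 1, 2])) := IsPGroup.of_card (n := 1) (by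
    rw [Nat.card_zpowers, orderOf_eq_prime h6 fun e => h5 (e ▸ one_mem _), pow_one])
  obtain ⟨k, hk⟩ := IsPGroup.iff_card.1 (h7.to_sup_of_normal_right' (IsPGroup.of_card h2)
    ((Subgroup.zpowers_le).2 h4))
  have h9 := Subgroup.card_dvd_of_le (sup_le ((Subgroup.zpowers_le).2 (h.p c[0, 1, 2])) h1)
  rw [hk] at h9
  refine (pow_dvd_pow 3 (show 5 ≤ k from ?_)).trans h9
  by_contra! h8
  refine h5 ((Subgroup.eq_of_le_of_card_ge le_sup_right ?_).ge
    (Subgroup.mem_sup_left (Subgroup.mem_zpowers _)))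
  rw [hk, h2]
  exact Nat.pow_le_pow_right (by norm_num) (by omega)

/-! ### Classical groups over a subfield -/

/-- `H` contains the isometries of the standard form of determinant one with entries in `F₀`. -/
structure Std (σ : F →+* F) (F₀ : Subfield F) (H : Subgroup (GL (Fin 5) F)) : Prop where
  invol : ∀ a, σ (σ a) = a
  le : H ≤ specialLinear (Fin 5) F
  mem : ∀ g : GL (Fin 5) F, Rat F₀ 1 (g : Matrix (Fin 5) (Fin 5) F) → g ∈ isoG (dForm σ) →
    g ∈ specialLinear (Fin 5) F → g ∈ H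

/-- A Siegel transformation. -/
def sie (h : F) (u v : Fin 5 → F) : M5 :=
  1 + vecMulVec v u - vecMulVec u v - (h * v ⬝ᵥ v) • vecMulVec u u

theorem sie_mul {h : F} {u v w : Fin 5 → F} (h2 : h * 2 = 1) (hu : u ⬝ᵥ u = 0) (hv : u ⬝ᵥ v = 0)
    (hw : u ⬝ᵥ w = 0) : sie h u v * sie h u w = sie h u (v + w) := by
  simp only [sie, mul_add, add_mul, mul_sub, sub_mul, smul_mul_assoc, mul_smul_comm, one_mul,
    mul_one, vecMulVec_mul_vecMulVec, hu, hw, dotProduct_comm v u, hv, zero_smul, vecMulVec_zero,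
    add_dotProduct, dotProduct_add, dotProduct_comm w v]
  ext i j
  simp only [Matrix.add_apply, Matrix.sub_apply, Matrix.smul_apply, vecMulVec_apply, smul_eq_mul,
    Pi.add_apply, Pi.smul_apply, Matrix.zero_apply]
  linear_combination (v ⬝ᵥ w) * u i * u j * h2

namespace Std

theorem mon (h : Std σ F₀ H) (h1 : (l : F) ∈ F₀) (h2 : l * σ l = 1) (h3 : l ≠ 1) : Mon H l :=
  ⟨h.le, h3, fun i j => h.mem _ (dd_rat h1 i j) (dd_iso h.invol h2 i j) (dd_mem_sl i j l),
    fun π => h.mem _ (pm_rat π) (pm_iso h.invol π) (pm_mem_sl π)⟩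

theorem mem' (h : Std σ F₀ H) (h1 : ∀ i j, (g : M5) i j ∈ F₀ ∧ σ ((g : M5) i j) = (g : M5) i j)
    (h2 : (g : M5)ᵀ * (g : M5) = 1) (h3 : (g : M5).det = 1) : g ∈ H :=
  h.mem g (rat_one_iff.2 fun i j => (h1 i j).1) ((mem_iso_iff h.invol).2 (by
    rwa [show (g : M5).map σ = g from Matrix.ext fun i j => (h1 i j).2]))
    ((mem_specialLinear_iff g).2 h3)

theorem refl (h : Std σ F₀ H) {v : Fin 5 → F} {c : F} (hv : ∀ i, v i ∈ F₀ ∧ σ (v i) = v i)
    (c1 : c ∈ F₀) (c2 : σ c = c) (e : c * v ⬝ᵥ v = 2) :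
    ∃ g ∈ H, g * g = 1 ∧ (g : M5) = c • vecMulVec v v - 1 := by
  have h1 : (c • vecMulVec v v - 1) * (c • vecMulVec v v - 1) = 1 := by
    simp only [mul_sub, sub_mul, smul_mul_assoc, mul_smul_comm, one_mul, mul_one,
      vecMulVec_mul_vecMulVec]
    ext i j
    simp only [Matrix.sub_apply, Matrix.smul_apply, vecMulVec_apply, smul_eq_mul, Pi.smul_apply]
    linear_combination c * v i * v j * e
  refine ⟨mkGL _ _ h1, h.mem' (fun i j => ?_) ?_ ?_, Units.ext h1, rfl⟩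
  · simp only [coe_mkGL, Matrix.sub_apply, Matrix.smul_apply, vecMulVec_apply, smul_eq_mul,
      one_apply]
    exact ⟨sub_mem (mul_mem c1 (mul_mem (hv i).1 (hv j).1)) (by split_ifs <;> simp),
      by simp [c2, (hv i).2, (hv j).2, apply_ite σ]⟩
  · rwa [coe_mkGL, transpose_sub, transpose_smul, transpose_vecMulVec, transpose_one]
  · rw [coe_mkGL, show c • vecMulVec v v - 1 = -(1 + vecMulVec (-c • v) v) by
      ext i j; simp [vecMulVec_apply]; ring, det_neg, det_one_add_vecMulVec, dotProduct_smul]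
    simp only [Fintype.card_fin, smul_eq_mul]
    linear_combination e

theorem not_le_mono (h : Std σ F₀ H) : ¬ H ≤ Mono F := fun hle => by
  obtain ⟨c, c0, c1, c2, e⟩ : ∃ c : F, c ≠ 0 ∧ c ∈ F₀ ∧ σ c = c ∧ c * 4 = 2 := by
    by_cases h2 : (2 : F) = 0
    · exact ⟨1, one_ne_zero, one_mem _, map_one _, by linear_combination h2⟩
    · exact ⟨2⁻¹, inv_ne_zero h2, F₀.inv_mem (by simp), by simp [map_ofNat], by field_simp; ring⟩
  obtain ⟨g, hg, -, e⟩ := h.refl (v := ![1, 1, 1, 1, 0]) (fun i => by fin_cases i <;> simp) c1 c2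
    (by simp [dotProduct, Fin.sum_univ_five]; linear_combination e)
  exact notMem_Mono (i := 0) (j := 1) (k := 2) (by decide) (by simpa [e, vecMulVec_apply])
    (by simpa [e, vecMulVec_apply]) (hle hg)

theorem orth_le (h : Std σ F₀ H) (h2 : (2 : F) ≠ 0) (hσ : ∀ a ∈ F₀, σ a = a) {S : Subfield F}
    (hS : ∀ g ∈ fif H, Rat S 1 (g : M5)) : F₀ ≤ S := fun a ha => by
  obtain ⟨b, hb, h1⟩ : ∃ b ∈ F₀, 1 + a ^ 2 + b ^ 2 ≠ 0 := by
    by_cases e : 1 + a ^ 2 = 0
    · exact ⟨1, one_mem _, by simp [e]⟩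
    · exact ⟨0, zero_mem _, by simpa using e⟩
  obtain ⟨c, hc⟩ : ∃ c, c = 2 / (1 + a ^ 2 + b ^ 2) := ⟨_, rfl⟩
  have c1 : c ∈ F₀ := hc ▸ div_mem (by simp)
    (add_mem (add_mem (one_mem _) (pow_mem ha 2)) (pow_mem hb 2))
  have c2 : c * (1 + a ^ 2 + b ^ 2) = 2 := by rw [hc, div_mul_cancel₀ _ h1]
  have c4 : c ≠ 0 := fun e => h2 (by rw [← c2, e, zero_mul])
  obtain ⟨g, hg, h3, e⟩ := h.refl (v := ![1, a, b, 0, 0])
    (fun i => by fin_cases i <;> simp [ha, hb, hσ]) c1 (hσ c c1)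
    (by simp [dotProduct, Fin.sum_univ_five]; linear_combination c2)
  have h3 := rat_one_iff.1 (hS g (inv_mem_fif hg h3))
  have h4 : c ∈ S := by simpa [e, vecMulVec_apply] using add_mem (h3 0 0) (one_mem S)
  simpa [e, c4, vecMulVec_apply] using mul_mem (S.inv_mem h4) (h3 0 1)

theorem card_dvd (h : Std σ F₀ H) (h2 : (2 : F) ≠ 0) (hσ : ∀ a ∈ F₀, σ a = a) :
    Nat.card F₀ ^ 3 ∣ Nat.card H := by
  obtain ⟨p, hp, _⟩ := L2.exists_char (F := F)
  have : NeZero p := ⟨hp.ne_zero⟩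
  obtain ⟨a', b', hab⟩ := CharP.sq_add_sq F p (-1)
  obtain ⟨a, a0, a1⟩ : ∃ a : F, a = a' ∧ a ∈ F₀ := ⟨_, rfl, by simp⟩
  obtain ⟨b, b0, b1⟩ : ∃ b : F, b = b' ∧ b ∈ F₀ := ⟨_, rfl, by simp⟩
  obtain ⟨c, c0, c1⟩ : ∃ c : F, c * 2 = 1 ∧ c ∈ F₀ :=
    ⟨2⁻¹, inv_mul_cancel₀ h2, F₀.inv_mem (by simp)⟩
  rw [← a0, ← b0, Int.cast_neg, Int.cast_one] at hab
  clear a0 b0
  let u : Fin 5 → F := ![a, b, 1, 0, 0]
  let L : (Fin 3 → F₀) → Fin 5 → F := fun x => ![b * x 0, -(a * x 0), 0, x 1, x 2]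
  have hu : u ⬝ᵥ u = 0 := by simp [u, dotProduct, Fin.sum_univ_five]; linear_combination hab
  have hL : ∀ x, u ⬝ᵥ L x = 0 := fun x => by simp [u, L, dotProduct, Fin.sum_univ_five]; ring
  have h0 : sie c u 0 = 1 := by simp [sie]
  let φ : Multiplicative (Fin 3 → F₀) →* GL (Fin 5) F := MonoidHom.toHomUnits
    { toFun := fun x => sie c u (L x.toAdd)
      map_one' := by rw [← h0]; congr 1; ext i; fin_cases i <;> simp [L]
      map_mul' := fun x y => by
        rw [sie_mul c0 hu (hL _) (hL _)]; congr 1; ext i; fin_cases i <;> simp [L] <;> ring }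
  have hφ : ∀ x, (φ x : M5) = sie c u (L x.toAdd) := fun _ => rfl
  have h1 : Function.Injective φ := (injective_iff_map_eq_one φ).2 fun x hx => by
    have e : sie c u (L x.toAdd) = 1 := by rw [← hφ, hx, Units.val_one]
    have e0 := congrFun₂ e 0 2
    have e1 := congrFun₂ e 1 2
    have e2 := congrFun₂ e 2 2
    have e3 := congrFun₂ e 3 2
    have e4 := congrFun₂ e 4 2
    simp only [sie, Matrix.add_apply, Matrix.sub_apply, Matrix.smul_apply, vecMulVec_apply,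
      smul_eq_mul] at e0 e1 e2 e3 e4
    generalize c * L x.toAdd ⬝ᵥ L x.toAdd = d at e0 e1 e2 e3 e4
    simp [u, L] at e0 e1 e2 e3 e4
    refine Multiplicative.toAdd.injective (funext fun i => ?_)
    fin_cases i
    · refine Subtype.ext (show ((x.toAdd 0 : F₀) : F) = 0 from ?_)
      linear_combination ((x.toAdd 0 : F₀) : F) * hab - b * e0 + a * e1
    · exact e3
    · exact e4
  have h3 : φ.range ≤ H := by
    rintro _ ⟨x, rfl⟩
    have a2 : ∀ i, u i ∈ F₀ := fun i => by fin_cases i <;> simp [u, a1, b1]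
    have a3 : ∀ i, L x.toAdd i ∈ F₀ := fun i => by fin_cases i <;> simp [L, a1, b1, mul_mem]
    have a4 : ∀ i j, (φ x : M5) i j ∈ F₀ := fun i j => by
      simp only [hφ, sie, Matrix.add_apply, Matrix.sub_apply, Matrix.smul_apply, vecMulVec_apply,
        smul_eq_mul, one_apply]
      exact sub_mem (sub_mem (add_mem (by split_ifs <;> simp) (mul_mem (a3 i) (a2 j)))
        (mul_mem (a2 i) (a3 j))) (mul_mem (mul_mem c1 (sum_mem fun k _ => mul_mem (a3 k) (a3 k)))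
          (mul_mem (a2 i) (a2 j)))
    refine h.mem' (fun i j => ⟨a4 i j, hσ _ (a4 i j)⟩) ?_ ?_
    · have : (φ x : M5)ᵀ = sie c u (-L x.toAdd) := by
        simp only [hφ, sie, transpose_sub, transpose_add, transpose_smul, transpose_vecMulVec,
          transpose_one, neg_dotProduct_neg, vecMulVec_neg, neg_vecMulVec]
        abel
      rw [this, hφ, sie_mul c0 hu (by rw [dotProduct_neg, hL, neg_zero]) (hL _), neg_add_cancel, h0]
    · have a5 : x ^ Fintype.card F = 1 := Multiplicative.toAdd.injective (funext fun i =>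
        Subtype.ext (by simp))
      rw [← FiniteField.pow_card (det _), ← det_pow, ← Units.val_pow_eq_pow_val, ← map_pow, a5,
        map_one, Units.val_one, det_one]
  have h4 := Subgroup.card_dvd_of_le h3
  rwa [← Nat.card_congr (MonoidHom.ofInjective h1).toEquiv, Nat.card_congr Multiplicative.toAdd,
    Nat.card_fun, Nat.card_eq_fintype_card (α := Fin 3), Fintype.card_fin] at h4

end Std

/-! ### The columns -/

/-- The column of the frame stabilisers. -/
def AF (G H : Subgroup (GL (Fin 5) F)) : Prop := ∀ D : Fin 5 → Submodule F (Fin 5 → F),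
  IsMDecomposition 1 D → H ≤ decompositionStabilizer D → decompositionStabilizer D ⊓ G ≤ H

/-- The column of the field normalisers. -/
def AK (G H : Subgroup (GL (Fin 5) F)) : Prop := ∀ K : Subalgebra F (Matrix (Fin 5) (Fin 5) F),
  IsFieldSubalgebra 5 K → H ≤ subalgebraNormalizer K → subalgebraNormalizer K ⊓ G ≤ H

/-- The column of the subfield groups. -/
def AS (G H : Subgroup (GL (Fin 5) F)) : Prop := ∀ (F₀ : Subfield F) (r : ℕ) (P : GL (Fin 5) F),
  r.Prime → Fintype.card F = Nat.card F₀ ^ r → H ≤ subfieldSubgroup F₀ P →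
    subfieldSubgroup F₀ P ⊓ G ≤ H

/-- The column of the normalisers of extraspecial groups. -/
def AN (G H : Subgroup (GL (Fin 5) F)) : Prop := ∀ R : Subgroup (GL (Fin 5) F),
  Hei R → H ≤ subgroupNormalizer R → subgroupNormalizer R ⊓ G ≤ H

/-- The column of the similarity groups. -/
def AH (σ : F →+* F) (H : Subgroup (GL (Fin 5) F)) : Prop :=
  ∀ f : (Fin 5 → F) → (Fin 5 → F) → F, HForm σ 1 f → ¬ H ≤ similarityGroup f

/-- The geometric columns common to both tables. -/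
structure Row (G H : Subgroup (GL (Fin 5) F)) : Prop where
  irr : Irr H
  af : AF G H
  ak : AK G H
  asb : AS G H
  an : AN G H

/-- The row of `H` in the table for `SL₅`. -/
structure RowL (H : Subgroup (GL (Fin 5) F)) : Prop where
  row : Row (specialLinear (Fin 5) F) H
  ao : Odd (Fintype.card F) → AH (RingHom.id F) H
  au : ∀ σ q, UField σ q → AH σ H
  res : ¬ Nat.card H ∣ 2851200

/-- The row of `H` in the table for `SU₅`. -/
structure RowU (q : ℕ) (G H : Subgroup (GL (Fin 5) F)) : Prop where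
  row : Row G H
  res : q.Prime → ¬ (Nat.card H ∣ 6600 ∨ (q % 6 = 5 ∧ Nat.card H ∣ 259200))

theorem Mon.row (h : Mon H l) (h1 : AF G H) (h2 : AS G H) : Row G H :=
  ⟨h.spans.irr, h1, fun _ hK hle => absurd hle (h.not_le_field hK), h2,
    fun _ hR hle => absurd hle (h.not_le_norm hR)⟩

theorem asb_of_le (hr : r.Prime) (hc : Fintype.card F = Nat.card F₀ ^ r)
    (h : ∀ F₁ P, subfieldSubgroup F₀ 1 ⊓ G ≤ subfieldSubgroup F₁ P →
      F₀ ≤ F₁ ∧ ∀ A : M5, Rat F₁ P A ↔ Rat F₁ 1 A) : AS G (subfieldSubgroup F₀ 1 ⊓ G) :=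
  fun F₁ _ P hr' hc' hle => by
    obtain ⟨h1, h2⟩ := h F₁ P hle
    rw [sub_eq_of_rat h2, D3.eq_of_prime_index hr hc h1 (ne_top_of_prime_index hr' hc')]

theorem Std.af (h : Std σ F₀ H) (h1 : Mon H l) : AF G H := fun _ hD hle =>
  absurd (h1.frame hD hle ▸ hle) h.not_le_mono

/-! ### The rows -/

theorem rowU_frame (hσ : UField σ q) : RowU q (suG (dForm σ)) (Mono F ⊓ suG (dForm σ)) := by
  have hi := hσ.invol.invol
  have hq := hσ.two_le
  have hm : ∀ l : Fˣ, l ≠ 1 → l * σ l = 1 → Mon (Mono F ⊓ suG (dForm σ)) l := fun l h h' =>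
    ⟨inf_le_right.trans inf_le_right, h,
      fun i j => ⟨dg_mem_Mono _, dd_iso hi h' i j, dd_mem_sl i j l⟩,
      fun π => ⟨pm_mem_Mono π, pm_iso hi π, pm_mem_sl π⟩⟩
  obtain ⟨l, hl, h1⟩ := D3.exists_norm_one hσ
  have h := hm l (by simpa using D3.ne_of_order hl one_pos (by omega)) h1
  refine ⟨h.row (fun D hD hle => by rw [h.frame hD hle]) fun _ _ _ hr hc hle => absurd
    (top_le_iff.1 (D3.le_of_order (Subfield.mem_top _) (h.rat hle).1 ?_))
    (ne_top_of_prime_index hr hc), fun _ h2 => ?_⟩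
  · rw [L2.card_top_subfield, hσ.card, hl]; nlinarith
  · rcases h2 with h2 | ⟨h2, h3⟩
    · have h3 := hl ▸ h.card_dvd.trans h2
      have h4 : q < 9 := by
        by_contra! h4
        have := (Nat.pow_le_pow_left (show 10 ≤ q + 1 by omega) 4).trans
          (Nat.le_of_dvd (by norm_num) h3)
        omega
      interval_cases q <;> omega
    · obtain ⟨k, hk⟩ : 3 ∣ q + 1 := by omega
      have h4 : orderOf (l ^ k) = 3 := by
        rw [orderOf_pow_of_dvd (by omega) (by rw [hl, hk]; exact dvd_mul_left _ _), hl, hk,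
          Nat.mul_div_cancel _ (by omega)]
      have := ((hm (l ^ k) (by simpa using D3.ne_of_order h4 one_pos (by omega)) (by
        rw [Units.val_pow_eq_pow_val, map_pow, ← mul_pow, h1, one_pow])).card_three h4).trans h3
      omega

theorem std_sub (hσ : ∀ a, σ (σ a) = a) : Std σ F₀ (subfieldSubgroup F₀ 1 ⊓ suG (dForm σ)) :=
  ⟨hσ, inf_le_right.trans inf_le_right,
    fun _ h1 h2 h3 => ⟨mem_subfieldSubgroup_of_rat h1, h2, h3⟩⟩

theorem rowU_sub (hσ : UField σ q) (hr : r.Prime) (ho : Odd r)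
    (hc : Fintype.card F = Nat.card F₀ ^ r) :
    RowU q (suG (dForm σ)) (subfieldSubgroup F₀ 1 ⊓ suG (dForm σ)) := by
  obtain ⟨q₀, h1, rfl, h3⟩ := D3.exists_root_card hσ ho hc
  have hs := std_sub (F₀ := F₀) hσ.invol.invol
  have hq : 2 ≤ q₀ := by have := D3.two_le_card F₀; nlinarith
  obtain ⟨l, h4, hl⟩ := D3.exists_unit F₀ (n := q₀ + 1) ⟨q₀ - 1, by rw [h1, ← Nat.sq_sub_sq]⟩
  have h := hs.mon h4 (by
    simpa [h3 l h4, hl, pow_succ'] using congrArg Units.val (pow_orderOf_eq_one l))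
    (by simpa using D3.ne_of_order hl one_pos (by omega))
  exact ⟨h.row (hs.af h) (asb_of_le hr hc fun _ _ hle =>
    ⟨D3.le_of_order h4 (h.rat hle).1 (by rw [h1, hl]; nlinarith), (h.rat hle).2⟩),
    fun hp => absurd hp (D3.not_prime_pow hr)⟩

theorem rowU_orth (hσ : UField σ q) (ho : Odd q) :
    RowU q (suG (dForm σ)) (subfieldSubgroup (uFix σ) 1 ⊓ suG (dForm σ)) := by
  have h2 := D3.two_ne_of_uField hσ ho
  have hs := std_sub (F₀ := uFix σ) hσ.invol.invol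
  have h := hs.mon (l := -1) (by simp) (by simp) (D3.neg_one_ne h2)
  refine ⟨h.row (hs.af h) (asb_of_le Nat.prime_two (by rw [hσ.card_uFix, D3.card_eq_sq hσ])
    fun _ _ hle => ⟨hs.orth_le h2 (fun _ h => h)
      fun g hg => ((h.rat hle).2 _).1 (fif_rat h.le hle hg), (h.rat hle).2⟩), fun hp h3 => ?_⟩
  have h4 := hσ.card_uFix ▸ hs.card_dvd h2 fun _ h => h
  have h5 := hσ.two_le
  obtain ⟨k, hk⟩ := ho
  have h6 : ∀ n, 0 < n → n ≤ 259200 → q ^ 3 ∣ n → q < 64 := fun n a1 a2 a3 => by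
    by_contra! a4
    have := (Nat.pow_le_pow_left a4 3).trans (Nat.le_of_dvd a1 a3)
    omega
  rcases h3 with h3 | ⟨h7, h3⟩
  · have h8 := h4.trans h3
    have := h6 _ (by norm_num) (by norm_num) h8
    interval_cases q <;> omega
  · have h8 := h4.trans h3
    have := h6 _ (by norm_num) (by norm_num) h8
    interval_cases q <;> omega

theorem KD.row {N : ℕ} {s : GL (Fin 5) F} (h : KD K (subalgebraNormalizer K ⊓ G) N s)
    (h1 : ∀ (F₀ : Subfield F) r j, r.Prime → Fintype.card F = Nat.card F₀ ^ r → 1 ≤ j → j ≤ 5 →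
      ¬ N ∣ 5 * (Nat.card F₀ ^ j - 1)) : Row G (subalgebraNormalizer K ⊓ G) :=
  ⟨h.irr, fun _ hD hle => absurd hle (h.not_le_frame hD),
    fun _ hK' hle => by rw [h.field_eq hK' hle],
    fun F₀ r _ hr hc hle => let ⟨j, a1, a2, a3⟩ := h.sub hle; absurd a3 (h1 F₀ r j hr hc a1 a2),
    fun _ hR hle => absurd hle (h.not_le_norm hR)⟩

theorem rowL_field (hK : IsFieldSubalgebra 5 K) : RowL (subalgebraNormalizer K ⊓ SL5) := by
  obtain ⟨s, h⟩ := exists_kd_sl hK
  obtain ⟨p, hp, _⟩ := L2.exists_char (F := F)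
  have := Fact.mk hp
  have h2 := Fintype.one_lt_card (α := F)
  refine ⟨h.row fun F₀ r j hr hc => arith_sub_sl hc hr.two_le (D3.two_le_card F₀),
    fun ho f hf hle => ?_, fun σ q hσ f hf hle => ?_, fun e => h.not_card (e.trans (by norm_num))⟩
  · obtain ⟨j, h1, h3⟩ := h.sim hf (p := p) (k := 0) (by simp) hle
    exact arith_sim (by simp; omega) (by simp) (by obtain ⟨k, hk⟩ := ho; omega) h1 h3
  · obtain ⟨p, k, hp, _, -, rfl⟩ := hσ.exists_prime_pow
    have := Fact.mk hp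
    obtain ⟨j, h1, h3⟩ := h.sim hf hσ.pow hle
    have h4 := hσ.two_le
    exact arith_sim (D3.card_eq_sq hσ).ge (by omega) (by rw [D3.card_eq_sq hσ]; nlinarith) h1 h3

theorem rowU_field (hσ : UField σ q) (hq : 3 ≤ q) (hf : HForm σ 1 f)
    (hK : IsFieldSubalgebra 5 K) (hS : StarC σ f K) :
    RowU q (suG f) (subalgebraNormalizer K ⊓ suG f) := by
  obtain ⟨m, rfl⟩ : ∃ m, q = m + 1 := ⟨q - 1, by omega⟩
  obtain ⟨s, h⟩ := exists_kd_su hσ (by omega) hf hK hS
  refine ⟨h.row fun F₀ r j hr hc => arith_sub_su h.big.choose_spec (D3.card_eq_sq hσ ▸ hc)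
    (D3.two_le_card F₀) (hr.eq_two_or_odd'.imp_right fun ho => ?_), fun _ e =>
      h.not_card (e.elim (·.trans (by norm_num)) (·.2.trans (by norm_num)))⟩
  obtain ⟨a, h1, h2, -⟩ := D3.exists_root_card hσ ho hc
  have := hr.two_le
  exact ⟨ho, by obtain ⟨k, hk⟩ := ho; omega, a, h1, h2⟩

theorem Wey.sc_mem_fif (hw : Wey c a b) (ha : a ∈ H) (hb : b ∈ H) : sc (Fin 5) c ∈ fif H := by
  have := comm_mem hb ha
  rwa [hw.rel, show ∀ z : GL (Fin 5) F, z * (a * b) * b⁻¹ * a⁻¹ = z from fun z => by group] at this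

theorem Hei.row (hR : Hei R) (hw : Wey c a b) (ha : a ∈ R) (hb : b ∈ R) (hG : G ≤ SL5)
    (h1 : Six (subgroupNormalizer R ⊓ G) a b) (h2 : Six (subgroupNormalizer R ⊓ G) b⁻¹ a)
    (h3 : ∀ (F₀ : Subfield F) r, r.Prime → Fintype.card F = Nat.card F₀ ^ r →
      ¬ 5 ∣ Nat.card F₀ - 1) : Row G (subgroupNormalizer R ⊓ G) := by
  obtain ⟨d, w, e, -, h4⟩ := h1.ex
  refine ⟨(hw.spans h1.ma h1.mb).irr, fun D hD hle => absurd (fix_comm hD
    (inv_mem_iff.1 (h2.fix hw.swap hD hle)) (h1.fix hw hD hle)) hw.not_comm,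
    fun K hK hle => absurd (scalar_of_invol hK (hle h4) e.w2) e.ns, fun F₀ r P hr hc hle => ?_,
    fun R' hR' hle => ?_⟩
  · refine absurd ?_ (h3 F₀ r hr hc)
    have h5 := fif_rat (inf_le_right.trans hG) hle (hw.sc_mem_fif h1.ma h1.mb)
    rw [coe_sc] at h5
    have h6 := D3.order_dvd (l := c) (mem_of_rat_smul one_ne_zero rat_one h5)
    rwa [order_five hw.ne hw.five] at h6
  · have key := fun {x : GL (Fin 5) F} => hR'.mem_of_inverted (x := x) (hle h4) e.w2 e.ns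
    have a1 := key (hle h1.ma) hw.a5 e.wa
    have a2 := key (hle h1.mb) hw.b5 e.wb
    rw [le_antisymm (hR.le hR' (hw.spans ⟨ha, a1⟩ ⟨hb, a2⟩)) (hR'.le hR (hw.spans ⟨a1, ha⟩ ⟨a2, hb⟩))]

theorem rowL_norm (hp : (Fintype.card F).Prime) (hR : Hei R) :
    RowL (subgroupNormalizer R ⊓ SL5) := by
  obtain ⟨a, ha, hs⟩ := hR.exists_ns
  obtain ⟨b, hb, c, hw⟩ := hR.wey ha hs
  obtain ⟨d, w, e, h1, h2, -⟩ := hw.exists_elts
  obtain ⟨d', w', e', h3, h4, -⟩ := hw.swap.exists_elts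
  have h := hR.six hw ha hb hR.le_sl e h1 h2
  refine ⟨hR.row hw ha hb le_rfl h (hR.six hw.swap (inv_mem hb) ha hR.le_sl e' h3 h4)
    fun _ _ hr hc => absurd (hc ▸ hp) (D3.not_prime_pow hr), fun _ f hf hle => ?_,
    fun _ _ hσ => absurd (D3.card_eq_sq hσ ▸ hp) (D3.not_prime_pow Nat.prime_two), fun e => ?_⟩
  · have h5 := hf.adj_of_mem_isoG (fif_iso hf inf_le_right hle (hw.sc_mem_fif h.ma h.mb))
    rw [← map_inv, coe_sc, coe_sc, hf.adj_smul_one] at h5
    have h6 : c = c⁻¹ := Units.ext (by simpa using congrFun₂ h5 0 0)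
    exact ne_pow hw.ne hw.five two_pos (by norm_num) (by rw [sq, ← eq_inv_iff_mul_eq_one, ← h6])
  · have := (hR.card.trans (Subgroup.card_dvd_of_le
      (le_inf Subgroup.le_normalizer hR.le_sl))).trans e
    omega

theorem rowU_norm (hσ : UField σ q) {p : ℕ} (hp : p.Prime) (hq : q = p ∨ q = p ^ 2)
    (h5 : q % 5 = 4) (hf : HForm σ 1 f) (hR : Hei R) (hs : R ≤ isoG f) :
    RowU q (suG f) (subgroupNormalizer R ⊓ suG f) := by
  obtain ⟨a, ha, hn⟩ := hR.exists_ns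
  obtain ⟨b, hb, c, hw⟩ := hR.wey ha hn
  obtain ⟨d, w, e, h1, h2, h3⟩ := hw.exists_elts
  obtain ⟨d', w', e', h1', h2', h3'⟩ := hw.swap.exists_elts
  have h4 := h3 σ f hf (hs ha) (hs hb)
  have h4' := h3' σ f hf (hs (inv_mem hb)) (hs ha)
  have hG : R ≤ suG f := le_inf hs hR.le_sl
  refine ⟨hR.row hw ha hb inf_le_right (hR.six hw ha hb hG e ⟨h4.1, h1⟩ ⟨h4.2, h2⟩)
    (hR.six hw.swap (inv_mem hb) ha hG e' ⟨h4'.1, h1'⟩ ⟨h4'.2, h2'⟩) fun F₀ r hr hc => ?_,
    fun _ e => ?_⟩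
  · rw [D3.card_eq_sq hσ] at hc
    obtain ⟨k, hk, h6⟩ : ∃ k, k ∣ 4 ∧ q ^ 2 = p ^ k :=
      hq.elim (fun e => ⟨2, by norm_num, by rw [e]⟩) fun e => ⟨4, dvd_rfl, by rw [e]; ring⟩
    obtain ⟨j, -, h7⟩ := (Nat.dvd_prime_pow hp).1 (h6 ▸ hc ▸ dvd_pow_self _ hr.ne_zero)
    have h8 := hc
    rw [h6, h7, ← pow_mul] at h8
    have h9 : r ∣ 2 ^ 2 := (Dvd.intro_left _ (Nat.pow_right_injective hp.two_le h8).symm).trans hk
    obtain rfl := (Nat.prime_dvd_prime_iff_eq hr Nat.prime_two).1 (hr.dvd_of_dvd_pow h9)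
    rw [← Nat.pow_left_injective two_ne_zero hc]
    omega
  · have h6 := hR.card.trans (Subgroup.card_dvd_of_le (le_inf Subgroup.le_normalizer hG))
    rcases e with e | ⟨-, e⟩ <;> have := h6.trans e <;> omega

end Cfsg.Agent.Cl.D5T
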