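import Mathlib
import Cfsg.Agent.Cl.MaxSLForm
import Cfsg.Agent.Cl.MaxFormC
import Cfsg.Agent.Cl.OrthSimple

/-!
# Maximality in `SL(V)` of the similarity group of a quadratic form (odd characteristic)
-/

set_option autoImplicit false
set_option linter.unusedSectionVars false
set_option linter.unusedVariables false
set_option linter.unusedSimpArgs false

namespace Cfsg.Agent.Cl.MSL

open Module QuadraticMap

variable {F V : Type*} [Field F] [AddCommGroup V] [Module F V]
variable {M : Subgroup (V ≃ₗ[F] V)} {Q : QuadraticForm F V}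

theorem orth_exists_nonsingular_notMem (h2 : (2 : F) ≠ 0) {W T : Submodule F V} {x z : V}
    (hx : x ∈ W) (hx0 : Q x ≠ 0) (hz : z ∈ W) (hzT : z ∉ T) : ∃ y ∈ W, Q y ≠ 0 ∧ y ∉ T := by
  by_cases hxT : x ∈ T
  swap
  · exact ⟨x, hx, hx0, hxT⟩
  by_contra! H
  have e1 : Q z = 0 := by
    by_contra h; exact hzT (H z hz h)
  have e2 : Q (z + x) = 0 := by
    by_contra h; exact hzT ((T.add_mem_iff_left hxT).1 (H _ (W.add_mem hz hx) h))
  have e3 : Q (z - x) = 0 := by
    by_contra h; exact hzT ((T.sub_mem_iff_left hxT).1 (H _ (W.sub_mem hz hx) h))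
  simp only [oexp, e1] at e2 e3
  exact mul_ne_zero h2 hx0 (by linear_combination e2 + e3)

theorem orth_span (hQ : (polarBilin Q).Nondegenerate) {e : V} (he0 : e ≠ 0) (he : Q e = 0)
    {T : Submodule F V} (h1 : e ∈ T) (h2 : ∀ y, Q y = 0 → polar Q e y ≠ 0 → y ∈ T) : T = ⊤ := by
  obtain ⟨f, hf, hef⟩ := o_exists_partner hQ he he0
  have hfT := h2 f hf (by simp [hef])
  refine eq_top_iff.2 fun z _ => ?_
  obtain ⟨p, hp⟩ : ∃ p, p = z - polar Q z f • e - polar Q z e • f := ⟨_, rfl⟩
  have h3 : polar Q e p = 0 := by simp [hp, oexp, he, hef, polar_comm Q z e]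
  have h4 : polar Q f p = 0 := by simp [hp, oexp, hf, hef, polar_comm Q z f, polar_comm Q f e]
  have := h2 (f + p - Q p • e) (by
    simp [oexp, he, hf, hef, h3, h4, polar_comm Q f e, polar_comm Q p e]) (by
    simp [oexp, he, hef, h3])
  have e1 : z = (f + p - Q p • e) + (polar Q z f + Q p) • e + (polar Q z e - 1) • f := by
    rw [hp]; module
  rw [e1]
  exact T.add_mem (T.add_mem this (T.smul_mem _ h1)) (T.smul_mem _ hfT)

variable [FiniteDimensional F V]

theorem det_eichL {u v : V} (hu : Q u = 0) (hv : polar Q u v = 0) :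
    LinearMap.det (eichL Q u v) = 1 := by
  have e : eichL Q u v = LinearMap.transvection (Q v • polarBilin Q u - polarBilin Q v) u ∘ₗ
      LinearMap.transvection (polarBilin Q u) v := LinearMap.ext fun x => by
    simp only [eichL_apply, LinearMap.comp_apply, LinearMap.transvection.apply, LinearMap.sub_apply,
      LinearMap.smul_apply, polarBilin_apply_apply, oexp, hv, smul_eq_mul, polar_comm Q x]
    module
  rw [e, LinearMap.det_comp, det_tv_one, det_tv_one, mul_one]
  · exact hv
  · simp [oexp, hu, polar_comm Q v u, hv]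

/-- The Siegel transformations act irreducibly on the additive group. -/
theorem orth_addSubgroup_eq_top [Finite F] (h2 : (2 : F) ≠ 0) (hQ : (polarBilin Q).Nondegenerate)
    (h5 : 5 ≤ finrank F V) (S : AddSubgroup V)
    (hS : ∀ z ∈ S, ∀ u y, Q u = 0 → polar Q u y = 0 → eichL Q u y z ∈ S) {z : V} (hz : z ∈ S)
    (hz0 : z ≠ 0) (x : V) : x ∈ S := by
  have rule : ∀ e ∈ S, Q e ≠ 0 → ∀ u, Q u = 0 → polar Q u e = 0 → ∀ c : F, c • u ∈ S :=
    fun e he h0 u hu hue c => by
      have := S.sub_mem he (hS e he u ((c / (2 * Q e)) • e) hu (by simp [oexp, hue]))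
      convert this using 1
      simp only [eichL_apply, oexp, polar_comm Q e u, hue, zero_smul, add_zero, mul_zero,
        sub_sub_cancel, div_mul_cancel₀ _ (mul_ne_zero h2 h0)]
  obtain ⟨u, hu, hu0, huQ⟩ : ∃ u ∈ S, u ≠ 0 ∧ Q u = 0 := by
    by_cases h0 : Q z = 0
    · exact ⟨z, hz, hz0, h0⟩
    obtain ⟨u, hu0, hu⟩ := quad_exists_singular (Q.restrict (LinearMap.ker (polarBilin Q z))) (by
      have := LinearMap.finrank_range_add_finrank_ker (polarBilin Q z)
      have h3 := Submodule.finrank_le (LinearMap.range (polarBilin Q z))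
      rw [Module.finrank_self] at h3
      omega)
    refine ⟨u, ?_, fun h => hu0 (Subtype.ext h), hu⟩
    simpa using rule z hz h0 u hu ((polar_comm Q _ _).trans u.2) 1
  obtain ⟨y, hy, huy⟩ := o_exists_partner hQ huQ hu0
  have hE : ∀ e, polar Q u e = 0 → polar Q y e = 0 → e ∈ S := fun e h3 h4 => by
    have := S.sub_mem (hS u hu y ((2 : F)⁻¹ • e) hy (by simp [oexp, h4]))
      (hS u hu y (-((2 : F)⁻¹ • e)) hy (by simp [oexp, h4]))
    convert this using 1
    simp only [eichL_apply, oexp, huy, h3]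
    have : e = ((2 : F)⁻¹ + (2 : F)⁻¹) • e := by rw [← two_mul, mul_inv_cancel₀ h2, one_smul]
    conv_lhs => rw [this]
    module
  obtain ⟨e, he, h3, h4⟩ := o_exists_nonsingular_perp_pair hQ (by omega) u y
  have e1 : x = (x - polar Q x y • u - polar Q x u • y) + polar Q x y • u + polar Q x u • y := by
    module
  rw [e1]
  exact S.add_mem (S.add_mem (hE _ (by simp [oexp, huQ, huy, polar_comm Q x u])
    (by simp [oexp, hy, huy, polar_comm Q x y, polar_comm Q y u]))
    (rule e (hE e h3 h4) he u huQ h3 _)) (rule e (hE e h3 h4) he y hy h4 _)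

theorem TV.conj_og {w z : V} (h : TV M w (polarBilin Q z)) {k : OG Q} (hk : Has M k.1) :
    TV M (k.1 w) (polarBilin Q (k.1 z)) :=
  h.conj hk fun x => by simp

section

variable (hM : ∀ T : V →ₗ[F] V, LinearMap.det T = 1 → (∀ x, Q (T x) = Q x) → Has M T)
include hM

theorem has_eich {u v : V} (hu : Q u = 0) (hv : polar Q u v = 0) : Has M (eich Q u v).1 := by
  have e : ∀ x, eichL Q u v x = (eich Q u v).1 x := fun x => by rw [eich_app hu hv, eichL_apply]
  exact (hM _ (det_eichL hu hv) fun x => by rw [e]; exact (eich Q u v).2 x).congr e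

theorem orth_cen_eq_top_of_nonsingular [Finite F] (h2 : (2 : F) ≠ 0)
    (hQ : (polarBilin Q).Nondegenerate) (h6 : 6 ≤ finrank F V) {w z : V} (hw : Q w ≠ 0)
    (hz : z ≠ 0) (h : TV M w (polarBilin Q z)) : cen M = ⊤ := by
  have hw0 : w ≠ 0 := o_ne_zero_of_norm hw
  let W := quad_perp Q (F ∙ w)
  have hW : ∀ {x}, x ∈ W ↔ polar Q w x = 0 := quad_mem_perp_span.trans (by simp)
  have hnd : (Q.restrict W).polarBilin.Nondegenerate := quad_perp_nondeg hQ (by
    rw [eq_bot_iff]
    rintro x ⟨h1, h3⟩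
    obtain ⟨c, rfl⟩ := Submodule.mem_span_singleton.1 h1
    have := hW.1 h3
    simp only [oexp, mul_eq_zero, h2, hw, or_false] at this
    simp [this])
  have hdim : 5 ≤ finrank F W := by
    have : _ + finrank F W = _ := quad_finrank_perp hQ (F ∙ w)
    rw [finrank_span_singleton hw0] at this
    omega
  let S : AddSubgroup W :=
    { carrier := {u | TV M w (polarBilin Q u)}
      zero_mem' := by simpa using tv_zero_right w
      add_mem' := fun h1 h2 => by simpa using TV.add_right h1 h2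
      neg_mem' := fun h1 => by simpa using TV.neg_right h1 }
  have hS : ∀ x, x ∈ S := by
    refine orth_addSubgroup_eq_top h2 hnd hdim S (fun z hz u y hu hy => ?_)
      (z := ⟨z, hW.2 ((polar_comm Q _ _).trans h.1)⟩) h (fun H => hz (congrArg Subtype.val H))
    rw [quad_polar_restrict] at hy
    have := TV.conj_og hz (has_eich hM (u := u) (v := y) hu hy)
    rw [eich_app_of_polar (hW.1 u.2) (hW.1 y.2), eich_app (Q := Q) hu hy] at this
    change TV M w _
    convert this using 2
    simp [eichL_apply, quad_polar_restrict]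
  have hcen : w ∈ cen M := mem_cen_of_axes fun x hx =>
    eq_smul_of_perp (B := polarBilin Q) hQ.1 fun y hy => by
      have := hx (polarBilin Q y) fun c => by
        rw [← map_smul]; exact hS (c • ⟨y, hW.2 hy⟩)
      exact (polar_comm Q _ _).trans this
  refine eq_top_iff.2 fun x _ => orth_addSubgroup_eq_top h2 hQ (by omega) (cen M).toAddSubgroup
    (fun z hz u y hu hy => ?_) hcen hw0 x
  have := (has_eich hM hu hy).mem_cen hz
  rwa [eich_app hu hy, ← eichL_apply] at this

theorem orth_cen_eq_top_of_tv [Finite F] (h2 : (2 : F) ≠ 0)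
    (hQ : (polarBilin Q).Nondegenerate) (h6 : 6 ≤ finrank F V) {w z : V} (hw0 : w ≠ 0)
    (hz : z ≠ 0) (h : TV M w (polarBilin Q z)) : cen M = ⊤ := by
  by_cases hw : Q w = 0
  swap
  · exact orth_cen_eq_top_of_nonsingular hM h2 hQ h6 hw hz h
  obtain ⟨c, hc, h1⟩ : ∃ c : F, c ≠ 0 ∧ TV M w (polarBilin Q (c • w)) := by
    by_cases H : ∀ y, polarBilin Q w y = 0 → polarBilin Q z y = 0
    · obtain ⟨c, rfl⟩ := eq_smul_of_perp hQ.1 H
      exact ⟨c, by rintro rfl; simp at hz, h⟩
    push Not at H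
    obtain ⟨y, h3, h4⟩ := H
    have := h.conj_og (has_eich hM hw h3)
    rw [eich_app_self, eich_app_of_polar_left hw h3 h.1] at this
    exact ⟨_, h4, by simpa using h.sub_right this⟩
  obtain ⟨y, hy, hwy⟩ := o_exists_partner hQ hw hw0
  obtain ⟨e, he, h3, h4⟩ := o_exists_nonsingular_perp_pair hQ (by omega) w y
  have h5 := h1.conj_og (has_eich hM hy h4)
  obtain ⟨w', hw'⟩ : ∃ w', w' = (eich Q y e).1 w := ⟨_, rfl⟩
  have h7 : polar Q w w' = -Q e := by simp [hw', eich_app hy h4, oexp, hw, hwy, h3]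
  have h8 : Q w' = 0 := by rw [hw', (eich Q y e).2, hw]
  rw [map_smul, ← hw'] at h5
  have h9 := h5.move h1
  rw [← map_smul, ← map_sub] at h9
  refine orth_cen_eq_top_of_nonsingular hM h2 hQ h6 ?_ (fun H => ?_) h9
  · simp [oexp, h7, h8, hw, polar_comm Q w' w, hc, he]
  · have := congrArg (polar Q w) H
    simp [oexp, h7, hw, hc, he] at this

theorem orth_exists_tv (h2 : (2 : F) ≠ 0) (hQ : (polarBilin Q).Nondegenerate)
    (h5 : 5 ≤ finrank F V) {u v a b y₀ : V} (huv : ∀ s t : F, s • v - t • u = 0 → s = 0 ∧ t = 0)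
    (hs : Has M fun x => x + polar Q x a • v - polar Q x b • u) (hua : polar Q u a = 0)
    (hva : polar Q v a = 0) (hub : polar Q u b = 0) (hvb : polar Q v b = 0)
    (h1 : polar Q u y₀ = 0) (h3 : polar Q v y₀ = 0) (h4 : polar Q a y₀ ≠ 0) :
    ∃ w z, w ≠ 0 ∧ z ≠ 0 ∧ TV M w (polarBilin Q z) := by
  let W := LinearMap.ker (polarBilin Q u) ⊓ LinearMap.ker (polarBilin Q v)
  obtain ⟨x₀, hx₀, h6, h7⟩ := o_exists_nonsingular_perp_pair hQ (by omega) u v
  obtain ⟨x, ⟨hux, hvx⟩, hx, hxa⟩ := orth_exists_nonsingular_notMem h2 (W := W)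
    (T := LinearMap.ker (polarBilin Q a)) ⟨h6, h7⟩ hx₀ ⟨h1, h3⟩ h4
  replace hux : polar Q u x = 0 := hux
  replace hvx : polar Q v x = 0 := hvx
  replace hxa : polar Q a x ≠ 0 := hxa
  let ρ : V →ₗ[F] F × F × F := (polarBilin Q u).prod ((polarBilin Q v).prod
    (polar Q b x • polarBilin Q a - polar Q a x • polarBilin Q b))
  have hρ : ∀ {y}, y ∈ LinearMap.ker ρ ↔ polar Q u y = 0 ∧ polar Q v y = 0 ∧
      polar Q b x * polar Q a y = polar Q a x * polar Q b y := by simp [ρ, sub_eq_zero]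
  obtain ⟨y₁, hy₁, hy₁'⟩ := exists_notMem_of_finrank_lt (W := F ∙ x) (U := LinearMap.ker ρ) (by
    have := LinearMap.finrank_range_add_finrank_ker ρ
    have h3 := Submodule.finrank_le (LinearMap.range ρ)
    rw [finrank_span_singleton (o_ne_zero_of_norm hx)]
    simp only [finrank_prod, finrank_self] at h3
    omega)
  obtain ⟨y, hy', hy, hyx⟩ := orth_exists_nonsingular_notMem h2 (T := F ∙ x)
    (hρ.2 ⟨hux, hvx, mul_comm _ _⟩) hx hy₁ hy₁'
  obtain ⟨huy, hvy, hκ⟩ := hρ.1 hy'
  let k := orefl Q x * orefl Q y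
  have hk : Has M k.1 := hM (k.1 : V →ₗ[F] V) (by
    change LinearMap.det (((orefl Q x).1 : V →ₗ[F] V) ∘ₗ ((orefl Q y).1 : V →ₗ[F] V)) = 1
    rw [LinearMap.det_comp, det_orefl hx, det_orefl hy]; ring) k.2
  have hk1 : ∀ p, k.1 p = (orefl Q x).1 ((orefl Q y).1 p) := fun p => rfl
  obtain ⟨d, hd⟩ : ∃ d, d = (polar Q a x)⁻¹ • (k.1 a - a) := ⟨_, rfl⟩
  have hka : k.1 a = a + polar Q a x • d := by rw [hd, smul_inv_smul₀ hxa]; abel
  have hkb : k.1 b = b + polar Q b x • d := by
    have e : polar Q b y = polar Q b x * polar Q a y * (polar Q a x)⁻¹ := by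
      rw [hκ]; field_simp
    simp only [hd, hk1, orefl_app, oexp, e]
    match_scalars <;> field_simp
    ring
  have hku : k.1 u = u := by rw [hk1, orefl_app_of_polar huy, orefl_app_of_polar hux]
  have hkv : k.1 v = v := by rw [hk1, orefl_app_of_polar hvy, orefl_app_of_polar hvx]
  have hud : polar Q u d = 0 := by
    rw [hd, o_polar_smul_right, o_polar_fix_sub k hku, mul_zero]
  have hvd : polar Q v d = 0 := by
    rw [hd, o_polar_smul_right, o_polar_fix_sub k hkv, mul_zero]
  refine ⟨polar Q a x • v - polar Q b x • u, d, fun H => hxa (huv _ _ H).1, fun H => hyx ?_,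
    by simp [oexp, polar_comm Q d, hud, hvd], ?_⟩
  · rw [H, smul_zero, add_zero, hk1, orefl_app, orefl_app] at hka
    by_cases hay : polar Q a y = 0
    · simp [hay, oexp, hx, hxa, o_ne_zero_of_norm hx] at hka
    · refine Submodule.mem_span_singleton.2 ⟨-(Q y * (polar Q a y)⁻¹ * ((Q x)⁻¹ *
        polar Q (a - ((Q y)⁻¹ * polar Q a y) • y) x)), ?_⟩
      have e : y = (Q y * (polar Q a y)⁻¹) • (((Q y)⁻¹ * polar Q a y) • y) := by
        rw [smul_smul, show Q y * (polar Q a y)⁻¹ * ((Q y)⁻¹ * polar Q a y) = 1 by field_simp,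
          one_smul]
      conv_rhs => rw [e]
      rw [neg_smul, mul_smul, ← smul_neg]
      congr 1
      linear_combination (norm := module) hka
  · have hs' : Has M fun x => x - polar Q x a • v + polar Q x b • u := hs.inv fun p => by
      simp only [oexp, hua, hva, hub, hvb]
      module
    have hk' : Has M (k⁻¹).1 := hk.inv fun p => k.1.apply_symm_apply p
    refine (((hk.comp hs).comp hk').comp hs').congr fun p => ?_
    have e : ∀ p, k.1 ((k⁻¹).1 p) = p := fun p => k.1.apply_symm_apply p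
    simp only [map_sub (k.1), map_add (k.1), map_smul (k.1), e, OG.polar_inv_left, hka, hkb, hku,
      hkv, oexp, hua, hva, hub, hvb, hud, hvd, polarBilin_apply_apply, polar_comm Q d]
    module

theorem cen_eq_top_orth [Finite F] (h2 : (2 : F) ≠ 0) (hQ : (polarBilin Q).Nondegenerate)
    (h6 : 6 ≤ finrank F V) {g : V ≃ₗ[F] V} (hg : g ∈ M)
    (hn : ¬ ∃ c : Fˣ, ∀ x, Q (g x) = c * Q x) : cen M = ⊤ := by
  by_contra hc
  let B' : V →ₗ[F] V →ₗ[F] F := (polarBilin Q).compl₁₂ (g : V →ₗ[F] V) (g : V →ₗ[F] V)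
  have hB' : ∀ x y, B' x y = polar Q (g x) (g y) := fun x y => rfl
  have hrep : ∀ u, ∃ a, ∀ x, polar Q x a = polar Q (g.symm x) u := fun u => by
    obtain ⟨a, ha⟩ := (LinearMap.BilinForm.toDual (polarBilin Q) hQ).surjective
      (polarBilin Q u ∘ₗ (g.symm : V →ₗ[F] V))
    exact ⟨a, fun x => by
      rw [polar_comm, polar_comm Q _ u]; exact LinearMap.congr_fun ha x⟩
  have key : ∀ u v, Q u = 0 → Q v = 0 → polar Q u v = 0 → u ≠ 0 → v ∉ Submodule.span F {u} →
      ∃ s t : F, s • B' u + t • B' v = polarBilin Q u := fun u v hu hv huv hu0 hvu => by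
    refine Submodule.mem_span_pair.1 (mem_of_forall_zero _ fun y hy => ?_)
    by_contra h4
    obtain ⟨a, ha⟩ := hrep u
    obtain ⟨b, hb⟩ := hrep v
    obtain ⟨w, z, hw, hz, h⟩ := orth_exists_tv hM h2 hQ (by omega) (u := g u) (v := g v) (a := a)
      (b := b) (y₀ := g y) (fun s t H => by
        rw [← map_smul, ← map_smul, ← map_sub, g.map_eq_zero_iff, sub_eq_zero] at H
        by_cases hs : s = 0
        · exact ⟨hs, by simpa [hs, hu0] using H.symm⟩
        · exact absurd (Submodule.mem_span_singleton.2 ⟨s⁻¹ * t, by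
            rw [mul_smul, ← H, inv_smul_smul₀ hs]⟩) hvu)
      ((((has_of_mem hg).comp (has_eich hM hu huv)).comp (has_symm hg)).congr fun x => by
        simp [eich_app hu huv, hv, ha, hb])
      (by simp [ha, oexp, hu]) (by simp [ha, polar_comm Q v, huv]) (by simp [hb, huv])
      (by simp [hb, oexp, hv]) (hy (B' u) (Submodule.subset_span (by simp)))
      (hy (B' v) (Submodule.subset_span (by simp)))
      (by rw [polar_comm, ha, g.symm_apply_apply, polar_comm]; exact h4)
    exact hc (orth_cen_eq_top_of_tv hM h2 hQ h6 hw hz h)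
  have hnd : ∀ x, B' x = 0 → x = 0 := fun x hx => g.map_eq_zero_iff.1 (o_eq_zero hQ fun y => by
    simpa [hB'] using LinearMap.congr_fun hx (g.symm y))
  have key2 : ∀ u, Q u = 0 → u ≠ 0 → ∃ s : F, polarBilin Q u = s • B' u := fun u hu hu0 => by
    obtain ⟨v, hv, huv, hvu⟩ := o_exists_singular_perp hQ (by omega) hu hu0
    obtain ⟨y, h3, h4⟩ : ∃ y, polar Q u y = 0 ∧ polar Q v y ≠ 0 := by
      by_contra! H
      obtain ⟨c, hc⟩ := eq_smul_of_perp (B := polarBilin Q) hQ.1 H
      exact hvu (Submodule.mem_span_singleton.2 ⟨c, hc.symm⟩)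
    obtain ⟨v', hv'⟩ : ∃ v', v' = polar Q v y • y - Q y • v := ⟨_, rfl⟩
    have h7 : Q v' = 0 := by
      simp only [hv', oexp, hv, polar_comm Q y v]; ring
    have h8 : polar Q v v' ≠ 0 := by simp [hv', oexp, hv, h4]
    obtain ⟨s, t, e⟩ := key u v hu hv huv hu0 hvu
    have h9 : polar Q u v' = 0 := by simp [hv', oexp, h3, huv]
    obtain ⟨s', t', e'⟩ := key u v' hu h7 h9 hu0 fun H => by
      obtain ⟨c, hc⟩ := Submodule.mem_span_singleton.1 H
      simp [← hc, oexp, polar_comm Q v u, huv] at h8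
    have := congrArg (polar Q v') (hnd ((s - s') • u + t • v - t' • v') (by
      simp only [map_add, map_sub, map_smul]
      linear_combination (norm := module) e - e'))
    have ht : t = 0 := by simpa [oexp, polar_comm Q v' u, polar_comm Q v' v, h9, h7, h8] using this
    exact ⟨s, by rw [← e, ht, zero_smul, add_zero]⟩
  obtain ⟨e, he0, he⟩ := quad_exists_singular Q (by omega)
  obtain ⟨s, hs⟩ := key2 e he he0
  have hs0 : s ≠ 0 := by
    rintro rfl
    exact he0 (hQ.1 e fun y => by rw [hs]; simp)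
  have hT := orth_span hQ he0 he (T := LinearMap.ker (polarBilin Q - s • B'))
    (by rw [LinearMap.mem_ker, LinearMap.sub_apply, hs, LinearMap.smul_apply, sub_self])
    fun y hy h1 => by
      obtain ⟨t, ht⟩ := key2 y hy (o_ne_zero_of_polar_right h1)
      have h3 := LinearMap.congr_fun hs y
      have h4 := LinearMap.congr_fun ht e
      simp only [polarBilin_apply_apply, LinearMap.smul_apply, hB', smul_eq_mul] at h3 h4
      rw [polar_comm, polar_comm Q (g y)] at h4
      have h7 : t = s := mul_right_cancel₀ (b := polar Q (g e) (g y))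
        (fun H => h1 (by rw [h3, H, mul_zero])) (h4.symm.trans h3)
      rw [LinearMap.mem_ker, LinearMap.sub_apply, ht, h7, LinearMap.smul_apply, sub_self]
  refine hn ⟨(Units.mk0 s hs0)⁻¹, fun x => ?_⟩
  have := LinearMap.congr_fun (LinearMap.congr_fun (LinearMap.ker_eq_top.1 hT) x) x
  simp only [LinearMap.sub_apply, LinearMap.smul_apply, polarBilin_apply_apply, hB', oexp,
    smul_eq_mul, LinearMap.zero_apply] at this
  rw [Units.val_inv_eq_inv_val, Units.val_mk0, eq_inv_mul_iff_mul_eq₀ hs0]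
  exact mul_left_cancel₀ h2 (by linear_combination -this)

end

open Cfsg.Geo Cfsg.Agent.Cl.Max in
theorem isMaximalIn_orthogonal [Fintype F] {ι : Type} [Fintype ι] [DecidableEq ι]
    (h6 : 6 ≤ Fintype.card ι) (hodd : Odd (Fintype.card F)) {Q : (ι → F) → F}
    (hQ : IsNondegenerateQuadraticForm Q) :
    IsMaximalIn (specialLinear ι F) (quadSimilarityGroup Q ⊓ specialLinear ι F) := by
  have h2 : (2 : F) ≠ 0 := Ring.two_ne_zero fun h => by
    have := FiniteField.even_card_of_char_two h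
    obtain ⟨k, hk⟩ := hodd
    omega
  have hd : finrank F (ι → F) = Fintype.card ι := by simp
  refine isMaximalIn_of_abs (LinearEquiv.refl F _) _
    (fun T => ∃ c : Fˣ, ∀ x, toQF hQ (T x) = c * toQF hQ x) (fun g => Iff.rfl) ?_
    fun M hM _ g hg hn => cen_eq_top_orth (fun T h1 h3 => hM T h1 ⟨1, by simpa using h3⟩) h2
      (toQF_nondeg hQ) (by omega) hg hn
  obtain ⟨e, he0, he⟩ := quad_exists_singular (toQF hQ) (by omega)
  obtain ⟨p, hp⟩ := o_exists_nonsingular (toQF_nondeg hQ) he0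
  obtain ⟨T, hT, hTe⟩ := exists_sl_apply_eq (F := F) (by omega) he0 (w := p) (by
    rintro c rfl
    simp [oexp, he] at hp)
  refine ⟨T, hT, fun ⟨c, hc⟩ => hp ?_⟩
  rw [← hTe, hc, he, mul_zero]

end Cfsg.Agent.Cl.MSL
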