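import Mathlib
import Cfsg.Agent.Cl.MaxSLOrth

/-!
# Maximality in `SL(V)` of the similarity group of a quadratic form, `dim V ≥ 4`
-/

set_option autoImplicit false
set_option linter.unusedSectionVars false
set_option linter.unusedVariables false
set_option linter.unusedSimpArgs false

namespace Cfsg.Agent.Cl.MSL

open Module QuadraticMap

variable {F V : Type*} [Field F] [AddCommGroup V] [Module F V]
variable {M : Subgroup (V ≃ₗ[F] V)} {Q : QuadraticForm F V} [FiniteDimensional F V]

theorem orth_add_three [Finite F] (h2 : (2 : F) ≠ 0) (hQ : (polarBilin Q).Nondegenerate)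
    (h3 : 3 ≤ finrank F V) (S : AddSubgroup V)
    (hS : ∀ z ∈ S, ∀ u y, Q u = 0 → polar Q u y = 0 → eichL Q u y z ∈ S) {z : V} (hz : z ∈ S)
    (hz0 : z ≠ 0) (x : V) : x ∈ S := by
  have key : ∀ z ∈ S, ∀ u, Q u = 0 → polar Q z u ≠ 0 → ∀ y, polar Q u y = 0 → y ∈ S :=
    fun z hz u hu h0 => by
      obtain ⟨u', hu', e⟩ := o_exists_partner hQ hu (o_ne_zero_of_polar_right h0)
      obtain ⟨f, f0, f1, -⟩ := o_exists_nonsingular_perp_hyp hu hu' e hQ h3
      have a1 : ∀ t : F, (-2 * t ^ 2 * Q f * polar Q z u) • u ∈ S := fun t => by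
        have := S.sub_mem (S.add_mem (hS z hz u (t • f) hu (by simp [oexp, f1]))
          (hS z hz u (-(t • f)) hu (by simp [oexp, f1]))) (S.add_mem hz hz)
        convert this using 1
        simp only [eichL_apply, oexp]
        module
      have a2 : ∀ c : F, c • u ∈ S := fun c => by
        obtain ⟨k, hk⟩ : ∃ k, k = c / (-2 * Q f * polar Q z u) := ⟨_, rfl⟩
        convert S.sub_mem (a1 ((k + 1) / 2)) (a1 ((k - 1) / 2)) using 1
        rw [← sub_smul, hk]
        congr 1
        field_simp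
        ring
      intro y hy
      have := S.add_mem (S.sub_mem (hS z hz u ((2 * polar Q z u)⁻¹ • y) hu (by simp [oexp, hy]))
        (hS z hz u (-((2 * polar Q z u)⁻¹ • y)) hu (by simp [oexp, hy])))
        (a2 ((polar Q z u)⁻¹ * polar Q z y))
      convert this using 1
      simp only [eichL_apply, oexp]
      match_scalars <;> field_simp <;> ring
  obtain ⟨e, e0, e1⟩ := quad_exists_singular Q h3
  obtain ⟨u, hu, h0⟩ : ∃ u, Q u = 0 ∧ polar Q z u ≠ 0 := by
    by_contra! H
    have := orth_span hQ e0 e1 (T := LinearMap.ker (polarBilin Q z)) (H e e1) fun y hy _ => H y hy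
    exact hz0 (o_eq_zero hQ fun y => LinearMap.congr_fun (LinearMap.ker_eq_top.1 this) y)
  obtain ⟨u', hu', e⟩ := o_exists_partner hQ hu (o_ne_zero_of_polar_right h0)
  have a1 := key z hz u hu h0
  have a2 := key u (a1 u (by simp [oexp, hu])) u' hu' (by simp [e])
  have := S.add_mem (a1 (x - polar Q u x • u') (by simp [oexp, e]))
    (a2 (polar Q u x • u') (by simp [oexp, hu']))
  simpa using this

theorem orth_perp_nondeg (h2 : (2 : F) ≠ 0) (hQ : (polarBilin Q).Nondegenerate) {w : V}
    (hw : Q w ≠ 0) : (Q.restrict (quad_perp Q (F ∙ w))).polarBilin.Nondegenerate ∧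
      finrank F (quad_perp Q (F ∙ w)) + 1 = finrank F V := by
  have hW : ∀ {x}, x ∈ quad_perp Q (F ∙ w) ↔ polar Q w x = 0 := quad_mem_perp_span.trans (by simp)
  refine ⟨quad_perp_nondeg hQ ?_, ?_⟩
  · rw [eq_bot_iff]
    rintro x ⟨h1, h3⟩
    obtain ⟨c, rfl⟩ := Submodule.mem_span_singleton.1 h1
    have := hW.1 h3
    simp only [oexp, mul_eq_zero, h2, hw, or_false] at this
    simp [this]
  · have : _ + finrank F (quad_perp Q (F ∙ w)) = _ := quad_finrank_perp hQ (F ∙ w)
    rw [finrank_span_singleton (o_ne_zero_of_norm hw)] at this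
    omega

section

variable (hM : ∀ T : V →ₗ[F] V, LinearMap.det T = 1 → (∀ x, Q (T x) = Q x) → Has M T)
include hM

theorem orth4_of_nonsingular [Finite F] (h2 : (2 : F) ≠ 0)
    (hQ : (polarBilin Q).Nondegenerate) (h4 : 4 ≤ finrank F V) {w z : V} (hw : Q w ≠ 0)
    (hz : z ≠ 0) (h : TV M w (polarBilin Q z)) : cen M = ⊤ := by
  have hw0 : w ≠ 0 := o_ne_zero_of_norm hw
  obtain ⟨hnd, hdim⟩ := orth_perp_nondeg h2 hQ hw
  have hW : ∀ {x}, x ∈ quad_perp Q (F ∙ w) ↔ polar Q w x = 0 := quad_mem_perp_span.trans (by simp)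
  let S : AddSubgroup (quad_perp Q (F ∙ w)) :=
    { carrier := {u | TV M w (polarBilin Q u)}
      zero_mem' := by simpa using tv_zero_right w
      add_mem' := fun h1 h2 => by simpa using TV.add_right h1 h2
      neg_mem' := fun h1 => by simpa using TV.neg_right h1 }
  have hS : ∀ x, x ∈ S := by
    refine orth_add_three h2 hnd (by omega) S (fun z hz u y hu hy => ?_)
      (z := ⟨z, hW.2 ((polar_comm Q _ _).trans h.1)⟩) h (fun H => hz (congrArg Subtype.val H))
    rw [quad_polar_restrict] at hy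
    have := TV.conj_og hz (has_eich hM (u := u) (v := y) hu hy)
    rw [eich_app_of_polar (hW.1 u.2) (hW.1 y.2), eich_app (Q := Q) hu hy] at this
    change TV M w _
    convert this using 2
    simp [eichL_apply, quad_polar_restrict]
  have hcen : w ∈ cen M := mem_cen_of_axes fun x hx =>
    eq_smul_of_perp (B := polarBilin Q) hQ.1 fun y hy => by
      have := hx (polarBilin Q y) fun c => by
        rw [← map_smul]; exact hS (c • ⟨y, hW.2 hy⟩)
      exact (polar_comm Q _ _).trans this
  refine eq_top_iff.2 fun x _ => orth_add_three h2 hQ (by omega) (cen M).toAddSubgroup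
    (fun z hz u y hu hy => ?_) hcen hw0 x
  have := (has_eich hM hu hy).mem_cen hz
  rwa [eich_app hu hy, ← eichL_apply] at this

theorem orth4_of_singular [Finite F] (h2 : (2 : F) ≠ 0)
    (hQ : (polarBilin Q).Nondegenerate) (h4 : 4 ≤ finrank F V) {w : V} (hw0 : w ≠ 0)
    (hw : Q w = 0) {c : F} (hc : c ≠ 0) (h1 : TV M w (polarBilin Q (c • w))) : cen M = ⊤ := by
  obtain ⟨y, hy, hwy⟩ := o_exists_partner hQ hw hw0
  obtain ⟨e, he, h3, h4'⟩ := o_exists_nonsingular_perp_hyp hw hy hwy hQ (by omega)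
  have h5 := h1.conj_og (has_eich hM hy h4')
  obtain ⟨w', hw'⟩ : ∃ w', w' = (eich Q y e).1 w := ⟨_, rfl⟩
  have h7 : polar Q w w' = -Q e := by simp [hw', eich_app hy h4', oexp, hw, hwy, h3]
  have h8 : Q w' = 0 := by rw [hw', (eich Q y e).2, hw]
  rw [map_smul, ← hw'] at h5
  have h9 := h5.move h1
  rw [← map_smul, ← map_sub] at h9
  refine orth4_of_nonsingular hM h2 hQ h4 ?_ (fun H => ?_) h9
  · simp [oexp, h7, h8, hw, polar_comm Q w' w, hc, he]
  · have := congrArg (polar Q w) H
    simp [oexp, h7, hw, hc, he] at this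

theorem orth4_of_flag [Finite F] (h2 : (2 : F) ≠ 0)
    (hQ : (polarBilin Q).Nondegenerate) (h4 : 4 ≤ finrank F V) {p d x₀ : V} (hp0 : p ≠ 0)
    (hp : Q p = 0) {α β : Dual F V} (hT : Has M fun x => x + α x • d + β x • p) (a1 : α p = 0)
    (a2 : α d = 0) (b1 : β p = 0) (hd : polar Q p d = 0) (hdp : d ∉ Submodule.span F {p})
    (x1 : polar Q p x₀ = 0) (x2 : α x₀ ≠ 0) : cen M = ⊤ := by
  obtain ⟨y, y1, y2⟩ : ∃ y, polar Q p y = 0 ∧ polar Q d y ≠ 0 := by
    by_contra! H
    obtain ⟨c, hc⟩ := eq_smul_of_perp (B := polarBilin Q) hQ.1 H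
    exact hdp (Submodule.mem_span_singleton.2 ⟨c, hc.symm⟩)
  obtain ⟨v, v1, v2, v3⟩ : ∃ v, polar Q p v = 0 ∧ α v ≠ 0 ∧ polar Q d v ≠ 0 := by
    by_cases H1 : polar Q d x₀ = 0
    · by_cases H2 : α y = 0
      · exact ⟨x₀ + y, by simp [oexp, x1, y1], by simpa [H2] using x2, by simpa [oexp, H1] using y2⟩
      · exact ⟨y, y1, H2, y2⟩
    · exact ⟨x₀, x1, x2, H1⟩
  obtain ⟨w, w1, w2, w3⟩ : ∃ w, polar Q p w = 0 ∧ α w ≠ 0 ∧ 2 * polar Q d w + β d ≠ 0 := by
    by_cases H : 2 * polar Q d v + β d = 0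
    · refine ⟨-v, by simp [oexp, v1], by simpa using v2, fun H' => ?_⟩
      simp only [oexp] at H'
      exact mul_ne_zero (mul_ne_zero h2 h2) v3 (by linear_combination H - H')
    · exact ⟨v, v1, v2, H⟩
  have w1' : polar Q p (-w) = 0 := by simp [oexp, w1]
  have cj : ∀ w, polar Q p w = 0 → Has M fun x => x + (α x - α w * polar Q x p) • d +
      (β x - β w * polar Q x p - polar Q d w * (α x - α w * polar Q x p)) • p := fun w w1 => by
    have w1' : polar Q p (-w) = 0 := by simp [oexp, w1]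
    refine (((has_eich hM hp w1).comp hT).comp (has_eich hM hp w1')).congr fun x => ?_
    have e := eich_app hp w1' x
    have e1 : α ((eich Q p (-w)).1 x) = α x - α w * polar Q x p := by rw [e]; simp [a1]; ring
    have e2 : β ((eich Q p (-w)).1 x) = β x - β w * polar Q x p := by rw [e]; simp [b1]; ring
    simp only [map_add, map_smul, e1, e2, eich_app_self,
      eich_app_of_polar_left hp w1 (polar_comm Q p d ▸ hd)]
    rw [← OG.mul_app, ← eich_inv, mul_inv_cancel, OG.one_app]
    module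
  have mul : ∀ {α β α' β' : V → F}, (Has M fun x => x + α x • d + β x • p) →
      (Has M fun x => x + α' x • d + β' x • p) → ∀ c : F, (∀ x s t, α (x + s • d + t • p) = α x) →
      (∀ x s t, β (x + s • d + t • p) = β x + s * c) →
      Has M fun x => x + (α x + α' x) • d + (β x + β' x + α' x * c) • p :=
    fun h h' c e1 e2 => (h.comp h').congr fun x => by
      beta_reduce
      rw [e1, e2]; module
  have hT' : Has M fun x => x + (-α x) • d + (β d * α x - β x) • p := hT.inv fun x => by
    simp only [map_add, map_sub, map_smul, a1, a2, b1, smul_eq_mul]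
    module
  have q1 : ∀ x (s t : F), polar Q (x + s • d + t • p) p = polar Q x p := fun x s t => by
    simp [oexp, hp, hd, polar_comm Q d p]
  have q2 : ∀ x (s t : F), α (x + s • d + t • p) = α x := fun x s t => by simp [a1, a2]
  have q3 : ∀ x (s t : F), β (x + s • d + t • p) = β x + s * β d := fun x s t => by simp [b1]
  have k1 := mul (cj w w1) (cj _ w1') (β d) (fun x s t => by rw [q1, q2])
    fun x s t => by rw [q1, q2, q3]; ring
  have k2 := mul hT' k1 (-β d) (fun x s t => by rw [q2]) fun x s t => by rw [q2, q3]; ring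
  have k3 := mul hT' k2 (-β d) (fun x s t => by rw [q2]) fun x s t => by rw [q2, q3]; ring
  refine orth4_of_singular hM h2 hQ h4 hp0 hp (mul_ne_zero w3 w2)
    ⟨by simp [oexp, hp], k3.congr fun x => ?_⟩
  simp only [map_neg, map_smul, oexp, polarBilin_apply_apply, polar_comm Q p x,
    LinearMap.smul_apply, smul_eq_mul]
  module

theorem cen_eq_top_orth4 [Finite F] (h2 : (2 : F) ≠ 0) (hQ : (polarBilin Q).Nondegenerate)
    (h4 : 4 ≤ finrank F V) {g : V ≃ₗ[F] V} (hg : g ∈ M)
    (hn : ¬ ∃ c : Fˣ, ∀ x, Q (g x) = c * Q x) : cen M = ⊤ := by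
  by_contra hc
  have flag : ∀ g ∈ M, ∀ s, Q s = 0 → s ≠ 0 → Q (g s) = 0 → ∀ x, polar Q (g s) (g x) = 0 →
      polar Q s x = 0 := fun g hg s hs hs0 hp x hx => by
    by_contra h0
    let ρ : V →ₗ[F] F × F := (polarBilin Q s).prod (polarBilin Q (g s) ∘ₗ (g : V →ₗ[F] V))
    obtain ⟨d, hd, hds⟩ := exists_notMem_of_finrank_lt (W := F ∙ s) (U := LinearMap.ker ρ) (by
      have := LinearMap.finrank_range_add_finrank_ker ρ
      have h3 := Submodule.finrank_le (LinearMap.range ρ)
      rw [finrank_span_singleton hs0]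
      simp only [finrank_prod, finrank_self] at h3
      omega)
    obtain ⟨d1, d2⟩ : polar Q s d = 0 ∧ polar Q (g s) (g d) = 0 := by simpa [ρ] using hd
    refine hc (orth4_of_flag hM h2 hQ h4 (p := g s) (d := g d) (x₀ := g x)
      (g.map_ne_zero_iff.2 hs0) hp (α := polarBilin Q s ∘ₗ (g.symm : V →ₗ[F] V))
      (β := (-(polarBilin Q d + Q d • polarBilin Q s)) ∘ₗ (g.symm : V →ₗ[F] V))
      ((((has_of_mem hg).comp (has_eich hM hs d1)).comp (has_symm hg)).congr fun x => ?_)
      (by simp [oexp, hs]) (by simp [d1]) (by simp [oexp, hs, d1, polar_comm Q d s]) d2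
      (fun H => hds ?_) hx (by simpa using h0))
    · simp only [eich_app hs d1, map_add, map_sub, map_smul, LinearEquiv.apply_symm_apply,
        LinearMap.comp_apply, LinearEquiv.coe_coe, LinearMap.neg_apply, LinearMap.add_apply,
        LinearMap.smul_apply, polarBilin_apply_apply, smul_eq_mul, polar_comm Q (g.symm x)]
      module
    · obtain ⟨c, hc⟩ := Submodule.mem_span_singleton.1 H
      exact Submodule.mem_span_singleton.2 ⟨c, g.injective (by rw [map_smul, hc])⟩
  have sing : ∀ s, Q s = 0 → s ≠ 0 → Q (g s) = 0 := fun s hs hs0 => by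
    by_contra hp
    obtain ⟨z, hz⟩ := (LinearMap.BilinForm.toDual (polarBilin Q) hQ).surjective
      (polarBilin Q s ∘ₗ (g.symm : V →ₗ[F] V))
    replace hz : ∀ x, polar Q z x = polar Q s (g.symm x) := fun x => LinearMap.congr_fun hz x
    obtain ⟨hnd, hdim⟩ := orth_perp_nondeg h2 hQ hp
    have hW : ∀ {x}, x ∈ quad_perp Q (F ∙ g s) ↔ polar Q (g s) x = 0 :=
      quad_mem_perp_span.trans (by simp)
    have hz0 : z ≠ 0 := fun H => hs0 (o_eq_zero hQ fun y => by simpa [H] using (hz (g y)).symm)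
    have hzW : z ∈ quad_perp Q (F ∙ g s) := hW.2 (by rw [polar_comm, hz]; simp [oexp, hs])
    let S := (F ∙ z).comap (quad_perp Q (F ∙ g s)).subtype
    have hS : ∀ x, x ∈ S := fun x => orth_add_three h2 hnd (by omega) S.toAddSubgroup
      (fun v hv u y hu hy => by
        rw [quad_polar_restrict] at hy
        obtain ⟨c, hc⟩ := Submodule.mem_span_singleton.1 (show (v : V) ∈ F ∙ z from hv)
        obtain ⟨k, hk, hk'⟩ := ((has_symm hg).comp (has_eich hM (u := u) (v := y) hu hy)).comp
          (has_of_mem hg)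
        replace hk' : ∀ x, k x = g.symm ((eich Q (u : V) y).1 (g x)) := hk'
        have e1 : k s = s := by
          rw [hk', eich_app_of_polar (hW.1 u.2) (hW.1 y.2), g.symm_apply_apply]
        obtain ⟨t, ht⟩ := eq_smul_of_perp (B := polarBilin Q) hQ.1 (x := (eich Q u y).1 z)
          (w := z) fun a ha => by
            have := flag k hk s hs hs0 (by rw [e1, hs]) (k.symm (g.symm a)) (by
              rw [e1, k.apply_symm_apply, ← hz]; exact ha)
            rw [← g.symm_apply_apply (k.symm _), ← hz, ← OG.polar_app (eich Q u y)] at this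
            have e2 := hk' (k.symm (g.symm a))
            rw [k.apply_symm_apply] at e2
            rwa [← g.symm.injective e2] at this
        refine Submodule.mem_span_singleton.2 ⟨c * t, ?_⟩
        rw [mul_smul, ← ht, ← map_smul, hc, eich_app (Q := Q) hu hy]
        simp [eichL_apply, quad_polar_restrict])
      (z := ⟨z, hzW⟩) (Submodule.mem_span_singleton_self z) (fun H => hz0 (congrArg Subtype.val H)) x
    have := Submodule.finrank_mono (show quad_perp Q (F ∙ g s) ≤ F ∙ z from fun x hx => hS ⟨x, hx⟩)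
    rw [finrank_span_singleton hz0] at this
    omega
  let B' : V →ₗ[F] V →ₗ[F] F := (polarBilin Q).compl₁₂ (g : V →ₗ[F] V) (g : V →ₗ[F] V)
  have hB' : ∀ x y, B' x y = polar Q (g x) (g y) := fun x y => rfl
  have key2 : ∀ u, Q u = 0 → u ≠ 0 → ∃ s : F, polarBilin Q u = s • B' u := fun u hu hu0 =>
    exists_smul_of_ker (flag g hg u hu hu0 (sing u hu hu0))
  obtain ⟨e, he0, he⟩ := quad_exists_singular Q (by omega)
  obtain ⟨s, hs⟩ := key2 e he he0
  have hs0 : s ≠ 0 := by
    rintro rfl
    exact he0 (hQ.1 e fun y => by rw [hs]; simp)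
  have hT := orth_span hQ he0 he (T := LinearMap.ker (polarBilin Q - s • B'))
    (by rw [LinearMap.mem_ker, LinearMap.sub_apply, hs, LinearMap.smul_apply, sub_self])
    fun y hy h1 => by
      obtain ⟨t, ht⟩ := key2 y hy (o_ne_zero_of_polar_right h1)
      have h3 := LinearMap.congr_fun hs y
      have h4 := LinearMap.congr_fun ht e
      simp only [polarBilin_apply_apply, LinearMap.smul_apply, hB', smul_eq_mul] at h3 h4
      rw [polar_comm, polar_comm Q (g y)] at h4
      have h7 : t = s := mul_right_cancel₀ (b := polar Q (g e) (g y))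
        (fun H => h1 (by rw [h3, H, mul_zero])) (h4.symm.trans h3)
      rw [LinearMap.mem_ker, LinearMap.sub_apply, ht, h7, LinearMap.smul_apply, sub_self]
  refine hn ⟨(Units.mk0 s hs0)⁻¹, fun x => ?_⟩
  have := LinearMap.congr_fun (LinearMap.congr_fun (LinearMap.ker_eq_top.1 hT) x) x
  simp only [LinearMap.sub_apply, LinearMap.smul_apply, polarBilin_apply_apply, hB', oexp,
    smul_eq_mul, LinearMap.zero_apply] at this
  rw [Units.val_inv_eq_inv_val, Units.val_mk0, eq_inv_mul_iff_mul_eq₀ hs0]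
  exact mul_left_cancel₀ h2 (by linear_combination -this)

end

open Cfsg.Geo Cfsg.Agent.Cl.Max in
theorem isMaximalIn_orthogonal4 [Fintype F] {ι : Type} [Fintype ι] [DecidableEq ι]
    (h4 : 4 ≤ Fintype.card ι) (hodd : Odd (Fintype.card F)) {Q : (ι → F) → F}
    (hQ : IsNondegenerateQuadraticForm Q) :
    IsMaximalIn (specialLinear ι F) (quadSimilarityGroup Q ⊓ specialLinear ι F) := by
  have h2 : (2 : F) ≠ 0 := Ring.two_ne_zero fun h => by
    have := FiniteField.even_card_of_char_two h
    obtain ⟨k, hk⟩ := hodd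
    omega
  have hd : finrank F (ι → F) = Fintype.card ι := by simp
  refine isMaximalIn_of_abs (LinearEquiv.refl F _) _
    (fun T => ∃ c : Fˣ, ∀ x, toQF hQ (T x) = c * toQF hQ x) (fun g => Iff.rfl) ?_
    fun M hM _ g hg hn => cen_eq_top_orth4 (fun T h1 h3 => hM T h1 ⟨1, by simpa using h3⟩) h2
      (toQF_nondeg hQ) (by omega) hg hn
  obtain ⟨e, he0, he⟩ := quad_exists_singular (toQF hQ) (by omega)
  obtain ⟨p, hp⟩ := o_exists_nonsingular (toQF_nondeg hQ) he0
  obtain ⟨T, hT, hTe⟩ := exists_sl_apply_eq (F := F) (by omega) he0 (w := p) (by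
    rintro c rfl
    simp [oexp, he] at hp)
  refine ⟨T, hT, fun ⟨c, hc⟩ => hp ?_⟩
  rw [← hTe, hc, he, mul_zero]

end Cfsg.Agent.Cl.MSL
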