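import Mathlib
import Cfsg.Agent.Cl.MaxSLMonA
import Cfsg.Agent.Sym.Index

/-!
# Maximality of the monomial group in `SL_n(q)`, `q ≥ 5`, and of all decomposition stabilisers
-/

set_option autoImplicit false
set_option linter.unusedSectionVars false
set_option linter.unusedVariables false

namespace Cfsg.Agent.Cl.MSL

open Module Cfsg.Agent.Cl.Mx

variable {F : Type*} {ι : Type} [Field F] [Fintype ι] [DecidableEq ι]

theorem exists_even (h4 : 4 ≤ Fintype.card ι) {p q : ι} (h : p ≠ q) :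
    ∃ π ∈ alternatingGroup ι, π p = q ∧ ∃ l, π l = l := by
  obtain ⟨r, h1, h2⟩ := exists_ne_two (by omega) p q
  obtain ⟨l, h3, h5, h6⟩ := exists_ne_three h4 p q r
  refine ⟨Equiv.swap p r * Equiv.swap p q, ?_, ?_, l, ?_⟩
  · simp [Equiv.Perm.mem_alternatingGroup, h, h1.symm]
  · simp [Equiv.swap_apply_of_ne_of_ne h.symm h2.symm]
  · simp [Equiv.swap_apply_of_ne_of_ne h3 h5, Equiv.swap_apply_of_ne_of_ne h3 h6]

theorem const_of_alt (h4 : 4 ≤ Fintype.card ι) {b : ι → F}
    (h : ∀ π ∈ alternatingGroup ι, ∃ c : F, ∀ l, b (π l) = c * b l) (p q : ι) : b p = b q := by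
  by_cases h0 : ∃ l, b l = 0
  · obtain ⟨l, hl⟩ := h0
    have : ∀ p, b p = 0 := fun p => by
      by_cases e : l = p
      · exact e ▸ hl
      · obtain ⟨π, h1, rfl, -⟩ := exists_even h4 e
        obtain ⟨c, hc⟩ := h π h1
        rw [hc, hl, mul_zero]
    rw [this, this]
  push Not at h0
  by_cases e : p = q
  · rw [e]
  obtain ⟨π, h1, rfl, l, hl⟩ := exists_even h4 e
  obtain ⟨c, hc⟩ := h π h1
  have := hc l
  rw [hl, eq_comm, mul_eq_right₀ (h0 l)] at this
  rw [hc, this, one_mul]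

/-- The alternating group cannot permute fewer than `n` nonconstant lines. -/
theorem const_of_orbit (h5 : 5 ≤ Fintype.card ι) {κ : Type} [Fintype κ]
    (hκ : Fintype.card κ < Fintype.card ι) {b : ι → F} (B : κ → ι → F)
    (h : ∀ π ∈ alternatingGroup ι, ∃ j, ∃ c : F, ∀ l, b (π⁻¹ l) = c * B j l) (p q : ι) :
    b p = b q := by
  by_cases hb : b = 0
  · simp [hb]
  obtain ⟨l₀, hl₀⟩ := Function.ne_iff.1 hb
  let K : Subgroup (alternatingGroup ι) :=
    { carrier := {π | ∃ c : F, ∀ l, b (π.1 l) = c * b l}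
      one_mem' := ⟨1, fun l => by simp⟩
      mul_mem' := fun {π τ} ⟨c, hc⟩ ⟨d, hd⟩ => ⟨c * d, fun l => by
        rw [Subgroup.coe_mul, Equiv.Perm.mul_apply, hc, hd, mul_assoc]⟩
      inv_mem' := fun {π} ⟨c, hc⟩ => ⟨c⁻¹, fun l => by
        have h0 : c ≠ 0 := fun e => hl₀ (by simpa [e] using hc (π.1⁻¹ l₀))
        have := hc (π.1⁻¹ l)
        rw [Equiv.Perm.inv_def, Equiv.apply_symm_apply] at this
        rw [this, inv_mul_cancel_left₀ h0]
        rfl⟩ }
  choose s c hs using h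
  have hK : K = ⊤ := by
    by_contra hK
    have h1 := Sym.card_le_index_alternating h5 hK
    have h2 : Function.Injective fun x : alternatingGroup ι ⧸ K => s x.out.1 x.out.2 := by
      intro x y e
      rw [← x.out_eq, ← y.out_eq, QuotientGroup.eq]
      have h0 : c y.out.1 y.out.2 ≠ 0 := fun e' => hl₀ (by
        simpa [e'] using hs y.out.1 y.out.2 (y.out.1 l₀))
      refine ⟨c x.out.1 x.out.2 / c y.out.1 y.out.2, fun l => ?_⟩
      have h3 := hs y.out.1 y.out.2 (y.out.1 l)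
      rw [Equiv.Perm.inv_def, Equiv.symm_apply_apply] at h3
      dsimp only at e
      rw [Subgroup.coe_mul, Equiv.Perm.mul_apply, Subgroup.coe_inv, hs x.out.1 x.out.2, h3, e]
      field_simp
    have h3 := Nat.card_le_card_of_injective _ h2
    rw [Nat.card_eq_fintype_card (α := κ)] at h3
    exact absurd (h1.trans h3) (by omega)
  exact const_of_alt (by omega) (fun π hπ => (show (⟨π, hπ⟩ : alternatingGroup ι) ∈ K from
    hK ▸ Subgroup.mem_top _)) p q

section

variable {M : Subgroup ((ι → F) ≃ₗ[F] (ι → F))}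
  (hM : ∀ T : (ι → F) →ₗ[F] (ι → F), LinearMap.det T = 1 → PB T → Has M T)
include hM

theorem exists_mo (σ : Equiv.Perm ι) {c : ι → F} (hc : ∀ i, c i ≠ 0) (k : ι) :
    ∃ c', (∀ i, c' i ≠ 0) ∧ (∀ i, i ≠ k → c' i = c i) ∧ Has M (mo σ c') := by
  have hd := det_mo_ne σ hc
  refine ⟨Function.update c k (c k / LinearMap.det (mo σ c)), fun i => ?_,
    fun i hi => by simp [hi], hM _ ?_ (pb_mo _ _)⟩
  · by_cases e : i = k
    · simp [e, hd, hc]
    · simp [e, hc]
  · rw [det_mo, Finset.prod_update_of_mem (Finset.mem_univ k)]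
    have := det_mo σ c
    rw [Finset.prod_eq_mul_prod_sdiff_singleton_of_mem (Finset.mem_univ k)] at this
    field_simp
    rw [this, mul_assoc]

theorem og_of_supp {x z : ι → F} (hx : Og M x) {k : ι} (hk : x k = 0) (σ : Equiv.Perm ι)
    (h : ∀ i, x i = 0 ↔ z (σ i) = 0) : Og M z := by
  classical
  obtain ⟨c, -, h1, h2⟩ := exists_mo hM σ (c := fun i => if x i = 0 then 1 else z (σ i) / x i)
    (fun i => by
      split_ifs with e
      · exact one_ne_zero
      · exact div_ne_zero (mt (h i).2 e) e) k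
  convert hx.has h2
  ext i
  obtain ⟨i, rfl⟩ := σ.surjective i
  rw [mo_apply]
  by_cases e : x i = 0
  · rw [e, (h i).1 e, mul_zero]
  · rw [h1 i (by rintro rfl; exact e hk), if_neg e, div_mul_cancel₀ _ e]

theorem exists_full [Fintype F] (hq : 5 ≤ Fintype.card F) {x : ι → F} (hx : Og M x)
    (h2 : 2 ≤ (supp x).card) : ∃ x, Og M x ∧ ∀ i, x i ≠ 0 := by
  classical
  by_contra! H
  obtain ⟨y, hy, hmax⟩ := Finset.exists_max_image (Finset.univ.filter (Og M))
    (fun x => (supp x).card) ⟨x, by simpa using hx⟩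
  simp only [Finset.mem_filter, Finset.mem_univ, true_and] at hy hmax
  replace h2 := h2.trans (hmax x hx)
  clear hx x
  obtain ⟨i, hi, j, hj, hij⟩ := Finset.one_lt_card.1 h2
  rw [mem_supp] at hi hj
  obtain ⟨k, hk⟩ := H y hy
  have hki : k ≠ i := by rintro rfl; exact hi hk
  have hkj : k ≠ j := by rintro rfl; exact hj hk
  obtain ⟨a, ha0, ha1, -⟩ := exists_ne_four hq 0 1 0 0
  let u : ι → F := ev k - y i • ev i - (a⁻¹ * y j) • ev j
  have hu : ∀ (c : F) l, (y + c • u) l = if l = k then c else if l = i then y i * (1 - c)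
      else if l = j then y j * (1 - c * a⁻¹) else y l := fun c l => by
    split_ifs with h1 h3 h4
    · simp [u, h1, hk, hki, hkj]
    · simp [u, h3, hki.symm, hij]; ring
    · simp [u, h4, hkj.symm, hij.symm]; ring
    · simp [u, h1, h3, h4]
  have h1 : Og M (y + (1 : F) • u) := og_of_supp hM hy hk (Equiv.swap i k) fun l => by
    rw [hu, Equiv.swap_apply_def]
    by_cases h1 : l = i
    · simp [h1, hi]
    by_cases h3 : l = k
    · simp [h3, hk, hki, hki.symm]
    by_cases h4 : l = j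
    · simp [h4, hj, hkj.symm, hij.symm, sub_eq_zero, ha1]
    · simp [h1, h3, h4]
  have h3 : Og M (y + a • u) := og_of_supp hM hy hk (Equiv.swap j k) fun l => by
    rw [hu, Equiv.swap_apply_def]
    by_cases h1 : l = j
    · simp [h1, hj, ha0]
    by_cases h3 : l = k
    · simp [h3, hk, hkj, hkj.symm, hij.symm, ha0]
    by_cases h4 : l = i
    · simp [h4, hi, hki.symm, hij, sub_eq_zero, ha1.symm]
    · simp [h1, h3, h4]
  have h4 : ∀ c : F, c ≠ 0 → c ≠ 1 → c ≠ a → ¬ Og M (y + c • u) := fun c c0 c1 c2 hc => by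
    have := hmax _ hc
    have e : insert k (supp y) ⊆ supp (y + c • u) := fun l hl => by
      rw [mem_supp, hu]
      split_ifs with h5 h6 h7
      · exact c0
      · exact mul_ne_zero hi (sub_ne_zero.2 c1.symm)
      · exact mul_ne_zero hj (sub_ne_zero.2 fun e => c2 (by field_simp at e; exact e.symm))
      · simpa [h5] using hl
    have := Finset.card_le_card e
    rw [Finset.card_insert_of_notMem (by simp [hk])] at this
    omega
  obtain ⟨g, hg, o, rfl⟩ := hy
  have h5 : ∀ c c' : F, c ≠ 0 → c' ≠ 0 → 1 + c * g.symm u o ≠ 0 → 1 + c' * g.symm u o ≠ 0 →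
      Og M (g (ev o) + c • u) → Og M (g (ev o) + c' • u) := fun c c' c0 c1 c2 c3 hc => by
    have h6 := hc.has (has_symm hg)
    obtain ⟨l, hl⟩ := H _ h6
    have := (og_of_supp hM h6 hl 1 (z := ev o + c' • g.symm u) fun l => by
      by_cases e : l = o
      · simp [e, c2, c3]
      · simp [e, c0, c1]).has (has_of_mem hg)
    simpa using this
  have h6 : ∀ c c' : F, c ≠ c' → 1 + c * g.symm u o ≠ 0 ∨ 1 + c' * g.symm u o ≠ 0 := by
    intro c c' e
    by_contra! h
    have : g.symm u o = 0 := mul_left_cancel₀ (sub_ne_zero.2 e) (by linear_combination h.1 - h.2)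
    simp [this] at h
  obtain ⟨c, c0, c1, c2, -⟩ := exists_ne_four hq 0 1 a 0
  obtain ⟨d, d0, d1, d2, d3⟩ := exists_ne_four hq 0 1 a c
  rcases h6 1 a ha1.symm with h7 | h7 <;> rcases h6 d c d3 with h8 | h8
  · exact h4 d d0 d1 d2 (h5 _ _ one_ne_zero d0 h7 h8 h1)
  · exact h4 c c0 c1 c2 (h5 _ _ one_ne_zero c0 h7 h8 h1)
  · exact h4 d d0 d1 d2 (h5 _ _ ha0 d0 h7 h8 h3)
  · exact h4 c c0 c1 c2 (h5 _ _ ha0 c0 h7 h8 h3)

theorem exists_fix_not_pb (h5 : 5 ≤ Fintype.card ι) {x : ι → F} (hx : Og M x) (h0 : ∀ i, x i ≠ 0)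
    (o : ι) : ∃ m ∈ M, m (ev o) = ev o ∧ ¬ PB (m : (ι → F) →ₗ[F] (ι → F)) := by
  obtain ⟨g, hg, rfl⟩ : ∃ g ∈ M, x = g (ev o) := by
    obtain ⟨g, hg, i, rfl⟩ := hx
    obtain ⟨k, hk, -⟩ := exists_ne_two (by omega) o o
    obtain ⟨c, -, h1, k, hk, h2⟩ := exists_mo hM (Equiv.swap o i) (c := 1) (fun _ => one_ne_zero) k
    exact ⟨g * k, M.mul_mem hg hk, by simp [h2, mo_single, h1 o (Ne.symm ‹_›)]⟩
  by_contra! H
  obtain ⟨i, hi, -⟩ := exists_ne_two (by omega) o o
  have h1 : ¬ ∀ p q, g (ev i) p / g (ev o) p = g (ev i) q / g (ev o) q := fun h => by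
    have : g (ev i) = g ((g (ev i) o / g (ev o) o) • ev o) := by
      ext p
      rw [map_smul, Pi.smul_apply, ← h p o, smul_eq_mul, div_mul_cancel₀ _ (h0 p)]
    simpa [hi] using congrFun (g.injective this) i
  refine h1 (const_of_orbit h5 (κ := {j // j ≠ o}) (by simp; omega)
    (fun j l => g (ev j.1) l / g (ev o) l) fun π hπ => ?_)
  obtain ⟨k, hk, h2⟩ := hM (mo π fun l => g (ev o) (π l) / g (ev o) l) (by
    rw [det_mo, Equiv.Perm.mem_alternatingGroup.1 hπ, Finset.prod_div_distrib,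
      Equiv.prod_comp π (g (ev o)), div_self (Finset.prod_ne_zero_iff.2 fun l _ => h0 l)]
    simp) (pb_mo _ _)
  obtain ⟨j, hj⟩ := H (g⁻¹ * k * g) (M.mul_mem (M.mul_mem (M.inv_mem hg) hk) hg) (by
    change g.symm (k (g (ev o))) = _
    rw [g.symm_apply_eq, h2]
    ext l
    rw [mo_apply', π.apply_symm_apply, div_mul_cancel₀ _ (h0 _)]) i
  obtain ⟨c, hc⟩ : ∃ c : F, ∀ l, g (ev i) (π⁻¹ l) / g (ev o) (π⁻¹ l) =
      c * (g (ev j) l / g (ev o) l) := by
    have h3 := eq_single_of (hj 1)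
    generalize ((g⁻¹ * k * g : (ι → F) ≃ₗ[F] (ι → F)) : (ι → F) →ₗ[F] (ι → F)) (ev i) j = c at h3
    change g.symm (k (g (ev i))) = _ at h3
    rw [g.symm_apply_eq, h2, single_eq_smul j c, map_smul] at h3
    refine ⟨c, fun l => ?_⟩
    have h4 := congrFun h3 l
    rw [mo_apply', π.apply_symm_apply, Pi.smul_apply, smul_eq_mul] at h4
    rw [← mul_div_assoc, ← h4, Equiv.Perm.inv_def]
    have := h0 l
    field_simp
  refine ⟨⟨j, fun e => h1 fun p q => ?_⟩, c, hc⟩
  have h3 : ∀ p, g (ev i) p / g (ev o) p = c := fun p => by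
    simpa [e, h0] using hc (π p)
  rw [h3, h3]

theorem cen_eq_top_of_tv_ev (h4 : 4 ≤ Fintype.card ι) {a : F} (ha0 : a ≠ 0) (ha1 : a ≠ 1) {i : ι}
    {φ : Dual F (ι → F)} (h : TV M (ev i) φ) (h0 : φ ≠ 0) : cen M = ⊤ := by
  obtain ⟨k, hk⟩ : ∃ k, φ (ev k) ≠ 0 := by
    by_contra! H
    exact h0 (dual_ext H)
  have hki : k ≠ i := by rintro rfl; exact hk h.1
  have hd : ∀ {ψ : Dual F (ι → F)} {l}, TV M (ev i) ψ → l ≠ i → l ≠ k → TV M (ev i)
      (((a - 1) * ψ (ev k)) • LinearMap.proj k + ((a⁻¹ - 1) * ψ (ev l)) • LinearMap.proj l) := by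
    intro ψ l hψ h1 h2
    have := hψ.pull_fix (φ := ψ + (((a - 1) * ψ (ev k)) • LinearMap.proj k +
      ((a⁻¹ - 1) * ψ (ev l)) • LinearMap.proj l))
      (has_dil hM (χ := LinearMap.id) (χ' := LinearMap.id) (u := 1) (u' := 1) rfl rfl ha0 h2.symm)
      (by simp [hki, h1]) fun x => by simp; ring
    simpa using this.sub_right hψ
  obtain ⟨l, hli, hlk⟩ := exists_ne_two (by omega) i k
  obtain ⟨p, hpi, hpk, hpl⟩ := exists_ne_three h4 i k l
  have h1 := hd (hd h hli hlk) hpi hpk
  have h2 : ∀ j (b : F), j ≠ i → TV M (ev i) (b • LinearMap.proj j) := fun j b hj => by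
    by_cases hb : b = 0
    · rw [hb, zero_smul]; exact tv_zero_right _
    obtain ⟨q, hqi, hqj⟩ := exists_ne_two (by omega) i j
    have hc : (a - 1) * ((a - 1) * φ (ev k)) ≠ 0 := by simp [sub_eq_zero, ha1, hk]
    obtain ⟨c, -, h3, h5⟩ := exists_mo hM (Equiv.swap j k) (c := Function.update 1 j
      (b / ((a - 1) * ((a - 1) * φ (ev k))))) (fun r => by
        by_cases e : r = j
        · subst e; simpa using ⟨hb, by simpa using hc⟩
        · simp [e]) q
    refine h1.pull_fix h5 (by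
      simp [mo_single, h3 i hqi.symm, hj.symm, Equiv.swap_apply_of_ne_of_ne hj.symm hki.symm])
      fun x => ?_
    have h6 := mo_apply (Equiv.swap j k) c x j
    rw [Equiv.swap_apply_left, h3 j hqj.symm, Function.update_self] at h6
    simp only [LinearMap.smul_apply, LinearMap.proj_apply, LinearMap.add_apply, h6, smul_eq_mul,
      Pi.single_eq_same, Pi.single_eq_of_ne hlk, Pi.single_eq_of_ne hpk.symm,
      Pi.single_eq_of_ne hpl.symm]
    field_simp
    ring
  have h3 : ev i ∈ cen M := fun ψ hψ => by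
    refine (tv_sum_right (φ := fun j => ψ (ev j) • LinearMap.proj j) Finset.univ
      fun j _ => ?_).congr_right fun x => ?_
    · by_cases e : j = i
      · rw [e, hψ, zero_smul]; exact tv_zero_right _
      · exact h2 j _ e
    · rw [dual_apply ψ]; simp [mul_comm]
  refine eq_top_iff.2 fun x _ => ?_
  rw [← Finset.univ_sum_single x]
  refine Submodule.sum_mem _ fun j _ => ?_
  obtain ⟨c, h5, -, h6⟩ := exists_mo hM (Equiv.swap i j) (c := 1) (fun _ => one_ne_zero) i
  have := h6.mem_cen h3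
  rw [mo_single, Equiv.swap_apply_left, single_eq_smul,
    (cen M).smul_mem_iff (by simpa using h5 i)] at this
  rw [single_eq_smul]
  exact (cen M).smul_mem _ this

end

section Quot

variable {J : Type} [Fintype J] [DecidableEq J]

/-- Reduction modulo the first basis vector. -/
def res : (Option J → F) →ₗ[F] (J → F) := LinearMap.funLeft F F some

theorem res_apply (x : Option J → F) (j : J) : res x j = x (some j) := rfl

theorem eq_add_of_res {x y : Option J → F} (h : res x = res y) :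
    x = y + (x none - y none) • ev none := by
  ext o
  cases o with
  | none => simp
  | some j => simpa [res_apply] using congrFun h j

theorem res_surjective : Function.Surjective (res : (Option J → F) → (J → F)) := fun y =>
  ⟨fun o => o.elim 0 y, rfl⟩

theorem res_ev_none : res (ev none : Option J → F) = 0 := funext fun j => by simp [res_apply]

theorem res_ev_some (j : J) : res (ev (some j) : Option J → F) = ev j := funext fun k => by
  simp [res_apply, Pi.single_apply]

/-- The group induced on the quotient. -/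
def quo (M : Subgroup ((Option J → F) ≃ₗ[F] (Option J → F))) : Subgroup ((J → F) ≃ₗ[F] (J → F)) where
  carrier := {h | ∃ g ∈ M, ∀ x, res (g x) = h (res x)}
  one_mem' := ⟨1, M.one_mem, fun _ => rfl⟩
  mul_mem' := fun {a b} ⟨g, hg, H⟩ ⟨k, hk, H'⟩ => ⟨g * k, M.mul_mem hg hk, fun x => by
    rw [LinearEquiv.mul_apply, H, H', LinearEquiv.mul_apply]⟩
  inv_mem' := fun {a} ⟨g, hg, H⟩ => ⟨g⁻¹, M.inv_mem hg, fun x => a.injective (by
    rw [← H]
    exact (congrArg res (g.apply_symm_apply x)).trans (a.apply_symm_apply _).symm)⟩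

variable {M : Subgroup ((Option J → F) ≃ₗ[F] (Option J → F))}

theorem exists_quo {m : (Option J → F) ≃ₗ[F] (Option J → F)} (hm : m ∈ M)
    (h : m (ev none) = ev none) : ∃ k ∈ quo M, ∀ x, res (m x) = k (res x) := by
  obtain ⟨s, hs⟩ := (res : (Option J → F) →ₗ[F] (J → F)).exists_rightInverse_of_surjective
    (LinearMap.range_eq_top.2 res_surjective)
  have hs' : ∀ y, res (s y) = y := LinearMap.congr_fun hs
  let T : (J → F) →ₗ[F] (J → F) := res ∘ₗ (m : (Option J → F) →ₗ[F] (Option J → F)) ∘ₗ s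
  have hT : ∀ x, res (m x) = T (res x) := fun x => by
    conv_lhs => rw [eq_add_of_res (hs' (res x)).symm]
    simp [T, h, res_ev_none]
  have h1 : Function.Surjective T := fun y => by
    obtain ⟨x, rfl⟩ := res_surjective y
    exact ⟨res (m.symm x), by rw [← hT, m.apply_symm_apply]⟩
  exact ⟨LinearEquiv.ofBijective T ⟨LinearMap.injective_iff_surjective.2 h1, h1⟩, ⟨m, hm, hT⟩, hT⟩

theorem exists_lift (hd : ∀ g ∈ M, LinearMap.det (g : (Option J → F) →ₗ[F] (Option J → F)) = 1)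
    {g : (Option J → F) ≃ₗ[F] (Option J → F)} (hg : g ∈ M) {ψ : Dual F (Option J → F)}
    {w : Option J → F} (h1 : ψ w = 0) (h2 : ψ (ev none) = 0)
    (h : ∀ x, res (g x) = res (x + ψ x • w)) :
    ∃ r : Dual F (Option J → F), r (ev none) = 0 ∧ ∀ x, g x = x + ψ x • w + r x • ev none := by
  have h3 : ∀ x, ψ (g x) = ψ x := fun x => by rw [eq_add_of_res (h x)]; simp [h1, h2]
  obtain ⟨r, hr⟩ := exists_dual_of_sub_mem (v := ev none) (LinearMap.transvection (-ψ) w ∘ₗ
    (g : (Option J → F) →ₗ[F] (Option J → F))) (by simp) fun x => by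
      refine ⟨g x none - (x + ψ x • w) none, ?_⟩
      simp only [LinearMap.comp_apply, LinearEquiv.coe_coe, LinearMap.transvection.apply,
        LinearMap.neg_apply, h3]
      conv_lhs => rw [eq_add_of_res (h x)]
      module
  refine ⟨r, ?_, fun x => ?_⟩
  · have := congrArg LinearMap.det hr
    rw [LinearMap.det_comp, hd g hg, det_tv, det_tv] at this
    simpa [h1] using this
  · have := LinearMap.congr_fun hr x
    simp only [LinearMap.comp_apply, LinearEquiv.coe_coe, LinearMap.transvection.apply,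
      LinearMap.neg_apply, h3] at this
    linear_combination (norm := module) this

variable (hM : ∀ T : (Option J → F) →ₗ[F] (Option J → F), LinearMap.det T = 1 → PB T → Has M T)
include hM

theorem exists_mo_lift (σ : Equiv.Perm J) {c : J → F} (hc : ∀ i, c i ≠ 0) :
    ∃ g ∈ M, PB (g : (Option J → F) →ₗ[F] (Option J → F)) ∧ ∀ x, res (g x) = mo σ c (res x) := by
  obtain ⟨c', -, h1, g, hg, h2⟩ := exists_mo hM σ.optionCongr (c := fun o => o.elim 1 c)
    (fun o => by cases o <;> simp [hc]) none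
  refine ⟨g, hg, by rw [LinearMap.ext (g := mo _ _) h2]; exact pb_mo _ _, fun x => funext fun j => ?_⟩
  obtain ⟨j, rfl⟩ := σ.surjective j
  rw [mo_apply, res_apply, res_apply, h2]
  exact (mo_apply σ.optionCongr c' x (some j)).trans (by rw [h1 _ (by simp)]; rfl)

theorem cen_eq_top_of_mon [Fintype F] (hq : 5 ≤ Fintype.card F) (h4 : 4 ≤ Fintype.card J)
    (hd : ∀ g ∈ M, LinearMap.det (g : (Option J → F) →ₗ[F] (Option J → F)) = 1)
    {g : (Option J → F) ≃ₗ[F] (Option J → F)} (hg : g ∈ M)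
    (hn : ¬ PB (g : (Option J → F) →ₗ[F] (Option J → F))) : cen M = ⊤ := by
  obtain ⟨a, ha0, ha1, ha2, -⟩ := exists_ne_four hq 0 1 (-1) 0
  suffices h : ∃ i φ, TV M (ev i) φ ∧ φ ≠ 0 by
    obtain ⟨i, φ, h1, h2⟩ := h
    exact cen_eq_top_of_tv_ev hM (by simp; omega) ha0 ha1 h1 h2
  obtain ⟨i, j, k, hjk, hj, hk⟩ := exists_two_of_not_pb hn
  obtain ⟨x, hx, h0⟩ := exists_full hM hq ⟨g, hg, i, rfl⟩ (Finset.one_lt_card.2
    ⟨j, mem_supp.2 hj, k, mem_supp.2 hk, hjk⟩)
  obtain ⟨m, hm, h1, h2⟩ := exists_fix_not_pb hM (by simp; omega) hx h0 none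
  obtain ⟨s, hs, h3⟩ := exists_quo hm h1
  by_cases h5 : PB (s : (J → F) →ₗ[F] (J → F))
  · obtain ⟨σ, c, hc, h6⟩ := exists_mo_of_pb h5
    obtain ⟨f, hf, h7, h8⟩ := exists_mo_lift hM σ hc
    obtain ⟨r, h9, h10⟩ := exists_lift hd (M.mul_mem (M.inv_mem hf) hm) (ψ := 0) (w := 0) rfl rfl
      fun x => s.injective (by
        rw [h6, ← h8, smul_zero, add_zero, ← h3]
        exact congrArg res (f.apply_symm_apply _))
    refine ⟨none, r, ⟨h9, _, M.mul_mem (M.inv_mem hf) hm, fun x => by simpa using h10 x⟩,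
      fun e => h2 ?_⟩
    have : f⁻¹ * m = 1 := LinearEquiv.ext fun x => by simpa [e] using h10 x
    rwa [← inv_mul_eq_one.1 this]
  obtain ⟨j, k, c, hjk, ⟨-, t, ⟨u, hu, h6⟩, h7⟩, hc⟩ := exists_tv_of_gl (N := quo M) hq (by omega)
    (fun σ c hc => by
      obtain ⟨f, hf, -, h8⟩ := exists_mo_lift hM σ hc
      exact ⟨(mo σ c).equivOfDetNeZero (det_mo_ne σ hc), ⟨f, hf, h8⟩, fun _ => rfl⟩) hs h5
  obtain ⟨r, h9, h10⟩ := exists_lift hd hu (ψ := c • LinearMap.proj (some k)) (w := ev (some j))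
    (by simp [hjk.symm]) (by simp) fun x => by
      rw [h6, h7]; simp [res_ev_some, res_apply]
  by_cases hr : r = 0
  · refine ⟨some j, c • LinearMap.proj (some k), ⟨by simp [hjk.symm], u, hu, fun x => by
      simpa [hr] using h10 x⟩, fun e => hc ?_⟩
    simpa using LinearMap.congr_fun e (ev (some k))
  obtain ⟨l, hlj, hlk⟩ := exists_ne_two (by omega) j k
  have hd := fun (b : F) (hb : b ≠ 0) => has_dil hM (χ := LinearMap.id) (χ' := LinearMap.id)
    (u := 1) (u' := 1) (j := none) (k := some l) rfl rfl hb (by simp)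
  refine ⟨none, (a - 1) • r + (a * (a - 1) * r (ev (some l))) • LinearMap.proj (some l),
    ⟨by simp [h9], (has_of_mem hu).cancel (((hd a ha0).comp (has_of_mem hu)).comp
      (hd a⁻¹ (inv_ne_zero ha0))) fun x => ?_⟩, fun e => hr (dual_ext fun o => ?_)⟩
  · simp only [h10, map_add, map_smul, h9, LinearMap.add_apply, LinearMap.smul_apply,
      LinearMap.proj_apply, LinearMap.id_apply, Pi.add_apply, Pi.smul_apply, smul_eq_mul, inv_inv]
    simp [hlj, hlk.symm]
    match_scalars <;> field_simp <;> ring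
  · have := LinearMap.congr_fun e (ev o)
    by_cases ho : o = some l
    · subst ho
      have h11 : (a - 1) * (a + 1) * r (ev (some l)) = 0 := by
        simp at this; linear_combination this
      simpa [sub_eq_zero, ha1, add_eq_zero_iff_eq_neg, ha2] using h11
    · simpa [Ne.symm ho, sub_eq_zero, ha1] using this

end Quot

open Matrix Cfsg.Geo Cfsg.Agent.Cl.Max in
theorem isMaximalIn_frame [Fintype F] (hq : 5 ≤ Fintype.card F) {t : ℕ}
    {D : Fin t → Submodule F (ι → F)} (hD : IsMDecomposition 1 D) (h5 : 5 ≤ t) :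
    IsMaximalIn (specialLinear ι F) (decompositionStabilizer D ⊓ specialLinear ι F) := by
  obtain ⟨t, rfl⟩ : ∃ s, t = s + 1 := ⟨t - 1, by omega⟩
  obtain ⟨e, P, hB⟩ := exists_isFrame hD
  let s : Option (Fin t) ≃ Fin (t + 1) := (finSuccEquiv t).symm
  let L := (trV e P).symm.trans (LinearEquiv.funCongrLeft F F s)
  have hL : ∀ i x, x ∈ D (s i) ↔ ∀ k, k ≠ i → L x k = 0 := fun i x => by
    obtain ⟨x, rfl⟩ := (trV e P).surjective x
    rw [hB _ x, s.surjective.forall]
    simp only [L, LinearEquiv.trans_apply, LinearEquiv.symm_apply_apply, ne_eq, s.apply_eq_iff_eq]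
    rfl
  have hL' : ∀ i y, L.symm (Pi.single i y) ∈ D (s i) := fun i y =>
    (hL _ _).2 fun k hk => by simp [hk]
  refine isMaximalIn_of_abs' L _ PB (fun g => ⟨fun hg i => ?_, fun hg => ?_⟩)
    (sl_not_le_decomp hD) fun M hM hd g hg hn =>
      cen_eq_top_of_mon hM hq (by simp; omega) hd hg hn
  · obtain ⟨σ, hσ⟩ := mem_decompositionStabilizer.1 hg
    refine ⟨s.symm (σ (s i)), fun y => (hL _ _).1 ?_⟩
    rw [s.apply_symm_apply, ← hσ]
    exact Submodule.mem_map_of_mem (hL' i y)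
  · refine mem_decompositionStabilizer_of_maps hD fun i => ?_
    obtain ⟨i, rfl⟩ := s.surjective i
    obtain ⟨j, hj⟩ := hg i
    refine ⟨s j, fun v hv => (hL _ _).2 fun k hk => ?_⟩
    have := hj (L v i) k hk
    rwa [← eq_single_of ((hL _ _).1 hv), LinearEquiv.coe_coe, toE_apply_e] at this

open Cfsg.Geo Cfsg.Agent.Cl.Max in
theorem isMaximalIn_decomposition [Fintype F] (h5 : 5 ≤ Fintype.card ι) {t m : ℕ}
    {D : Fin t → Submodule F (ι → F)} (hD : IsMDecomposition m D)
    (h1 : ¬ (m = 1 ∧ Fintype.card F ≤ 4)) (h2 : ¬ (m = 2 ∧ Fintype.card F = 2)) :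
    IsMaximalIn (specialLinear ι F) (decompositionStabilizer D ⊓ specialLinear ι F) := by
  have h3 := IsMDecomposition.mul_eq hD
  have h4 := hD.pos
  have h6 : 1 < Fintype.card F := Fintype.one_lt_card
  obtain rfl | rfl | h7 : m = 1 ∨ m = 2 ∨ 3 ≤ m := by omega
  · exact isMaximalIn_frame (by omega) hD (by omega)
  · exact isMaximalIn_blocks hD le_rfl (Or.inr ⟨by omega, exists_ne_zero_ne_one (by omega)⟩)
  · exact isMaximalIn_blocks hD (by omega) (Or.inl h7)

end Cfsg.Agent.Cl.MSL
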