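import Mathlib
import Cfsg.Agent.Cl.Syl2Wr
import Cfsg.Agent.Cl.SpSylow
import Cfsg.Agent.Cl.ClassSpOSyl
import Cfsg.Agent.Cl.LinearBasic

/-!
# Sylow subgroups of `GL_n(q)` in cross characteristic

The imprimitive subgroup `GL_e ≀ S_w × GL_k` of `GL_{ew+k}` with its determinants, and the
`r`-part of `|GL_n(q)|`.
-/

set_option autoImplicit false

namespace Cfsg.Agent.Cl.GLS

open Module Equiv SemidirectProduct S2W

section Lin

variable {F : Type*} [Field F] {U R : Type*} [AddCommGroup U] [Module F U] [AddCommGroup R]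
  [Module F R]

variable (F U R) in
/-- `GL(U) × GL(R) → GL(U ⊕ R)`. -/
def prodL : (U ≃ₗ[F] U) × (R ≃ₗ[F] R) →* ((U × R) ≃ₗ[F] (U × R)) where
  toFun p := p.1.prodCongr p.2
  map_one' := rfl
  map_mul' _ _ := rfl

theorem prodL_apply (p : (U ≃ₗ[F] U) × (R ≃ₗ[F] R)) (x : U × R) :
    prodL F U R p x = (p.1 x.1, p.2 x.2) := rfl

theorem prodL_injective : Function.Injective (prodL F U R) := by
  rw [injective_iff_map_eq_one]
  intro p hp
  have h : ∀ x : U × R, (p.1 x.1, p.2 x.2) = x := fun x => by rw [← prodL_apply, hp]; rfl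
  exact Prod.ext (LinearEquiv.ext fun u => congrArg Prod.fst (h (u, 0)))
    (LinearEquiv.ext fun r => congrArg Prod.snd (h (0, r)))

theorem det_prodL [FiniteDimensional F U] [FiniteDimensional F R]
    (p : (U ≃ₗ[F] U) × (R ≃ₗ[F] R)) :
    LinearEquiv.det (prodL F U R p) = LinearEquiv.det p.1 * LinearEquiv.det p.2 := by
  ext
  rw [Units.val_mul, LinearEquiv.coe_det, LinearEquiv.coe_det, LinearEquiv.coe_det,
    ← LinearMap.det_prodMap]
  rfl

variable {ι : Type*} [Fintype ι]

theorem det_wr_inl [FiniteDimensional F U] (x : ι → (U ≃ₗ[F] U)) :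
    LinearEquiv.det (formWrLin ι (inl x)) = ∏ i, LinearEquiv.det (x i) := by
  ext
  rw [Units.coe_prod, LinearEquiv.coe_det]
  simp only [LinearEquiv.coe_det]
  rw [← LinearMap.det_pi]
  rfl

theorem det_wr_single [DecidableEq ι] [FiniteDimensional F U] (i : ι) (d : U ≃ₗ[F] U) :
    LinearEquiv.det (formWrLin ι (wrSingle (Perm ι) i d)) = LinearEquiv.det d := by
  change LinearEquiv.det (formWrLin ι (inl (Pi.mulSingle i d))) = _
  rw [det_wr_inl, Finset.prod_eq_single i (fun j _ hj => by rw [Pi.mulSingle_eq_of_ne hj, map_one])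
    (fun h => absurd (Finset.mem_univ i) h), Pi.mulSingle_eq_same]

theorem hom_perm_sq {A : Type*} [CommGroup A] (φ : Perm ι →* A) (σ : Perm ι) : φ σ ^ 2 = 1 := by
  classical
  induction σ using Perm.swap_induction_on with
  | one => rw [map_one, one_pow]
  | swap_mul f x y _ ih => rw [map_mul, mul_pow, ih, mul_one, ← map_pow, pow_two, swap_mul_self,
      map_one]

theorem det_wr_inr [FiniteDimensional F U] (h : Even (finrank F U)) (σ : Perm ι) :
    LinearEquiv.det (formWrLin (F := F) (U := U) ι (inr σ)) = 1 := by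
  classical
  let b := finBasis F U
  let e : (ι → U) ≃ₗ[F] (Fin (finrank F U) → ι → F) :=
    (LinearEquiv.piCongrRight fun _ => b.equivFun).trans 
      { Equiv.piComm (fun _ _ => F) with map_add' := fun _ _ => rfl, map_smul' := fun _ _ => rfl }
  have : autCongr e (formWrLin ι (inr σ)) = formWrLin (Fin (finrank F U))
      (inl fun _ => formWrLin (F := F) (U := F) ι (inr σ)) := by
    refine LinearEquiv.ext fun x => ?_
    obtain ⟨y, rfl⟩ := e.surjective x
    rw [autCongr_apply_apply]
    rfl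
  rw [← det_autCongr e, this, det_wr_inl, Finset.prod_const, Finset.card_univ, Fintype.card_fin]
  obtain ⟨m, hm⟩ := h
  rw [hm, ← two_mul, pow_mul]
  have := hom_perm_sq (LinearEquiv.det.comp ((formWrLin (F := F) (U := F) ι).comp inr)) σ
  rw [MonoidHom.comp_apply, MonoidHom.comp_apply] at this
  rw [this, one_pow]

end Lin

section Mat

open Matrix.GeneralLinearGroup

variable {F : Type*} [Field F]

/-- The imprimitive subgroup `GL_e ≀ S_w × GL_k` of `GL_{ew+k}`. -/
theorem exists_glW {e w k n : ℕ} (he : 0 < e) (h : n = e * w + k) :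
    ∃ f : Wr (GL (Fin e) F) (Fin w) (Perm (Fin w)) × GL (Fin k) F →* GL (Fin n) F,
      Function.Injective f ∧ (∀ i d, det (f (sg _ _ i d)) = det d) ∧
      (∀ x, det (f (MonoidHom.inr _ _ x)) = det x) ∧
      (Even e → ∀ σ, det (f (tp _ _ _ σ)) = 1) := by
  have hfr : finrank F ((Fin w → Fin e → F) × (Fin k → F)) = finrank F (Fin n → F) := by
    simp [finrank_prod, finrank_pi_fintype, h, mul_comm]
  let E := LinearEquiv.ofFinrankEq _ _ hfr
  have : Nonempty (Fin e) := ⟨⟨0, he⟩⟩
  let g : Wr (GL (Fin e) F) (Fin w) (Perm (Fin w)) →* _ := (formWrLin (Fin w)).comp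
    (wrMap (glEquiv (Fin e) F).toMonoidHom (MonoidHom.id _) fun _ _ => rfl)
  let f := ((autCongr E).trans (glEquiv (Fin n) F).symm).toMonoidHom.comp
    ((prodL F _ _).comp (g.prodMap (glEquiv (Fin k) F).toMonoidHom))
  have hf : ∀ x, det (f x) = LinearEquiv.det (g x.1) * det x.2 := fun x => by
    change det ((glEquiv (Fin n) F).symm (autCongr E (prodL F _ _ (g x.1, glEquiv _ F x.2)))) = _
    rw [det_glEquiv_symm, det_autCongr, det_prodL, det_glEquiv]
  have hg : Function.Injective g := formWrLin_injective.comp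
    (wrMap_injective (fun _ _ => rfl) (glEquiv _ F).injective fun _ _ h => h)
  have hg' : Function.Injective (g.prodMap (glEquiv (Fin k) F).toMonoidHom) :=
    Function.Injective.prodMap hg (glEquiv _ F).injective
  refine ⟨f, ((autCongr E).trans (glEquiv (Fin n) F).symm).injective.comp
    (prodL_injective.comp hg'), fun i d => ?_, fun x => ?_, fun h2 σ => ?_⟩
  · have : g (sg (GL (Fin k) F) (Perm (Fin w)) i d).1 =
        formWrLin _ (wrSingle (Perm (Fin w)) i (glEquiv _ F d)) := by
      refine congrArg (formWrLin _) (SemidirectProduct.ext (funext fun j => ?_) rfl)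
      change glEquiv _ F (Pi.mulSingle (M := fun _ => GL (Fin e) F) i d j) = Pi.mulSingle (M := fun _ => _) i _ j
      by_cases hj : j = i
      · subst hj; simp
      · simp [Pi.mulSingle_eq_of_ne hj]
    rw [hf, this, det_wr_single, det_glEquiv]
    change _ * det 1 = _
    rw [map_one, mul_one]
  · rw [hf]
    change LinearEquiv.det (g 1) * _ = _
    rw [map_one, map_one, one_mul]
    rfl
  · have : g (tp (GL (Fin e) F) (GL (Fin k) F) (Fin w) σ).1 = formWrLin _ (inr σ) := by
      refine congrArg (formWrLin _) (SemidirectProduct.ext (funext fun j => ?_) rfl)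
      exact map_one (glEquiv _ F)
    rw [hf, this, det_wr_inr (by simpa using h2)]
    change _ * det 1 = _
    rw [map_one, mul_one]

/-- Restriction of an embedding of `X ≀ S_w × Y` to `D ≀ T × E`. -/
def resW {X Y ι : Type*} [Group X] [Group Y] (D : Subgroup X) (T : Subgroup (Perm ι))
    (E : Subgroup Y) : Wr D ι T × E →* Wr X ι (Perm ι) × Y :=
  (wrMap D.subtype T.subtype fun _ _ => rfl).prodMap E.subtype

section Res

variable {X Y ι : Type*} [Group X] [Group Y] (D : Subgroup X) (T : Subgroup (Perm ι))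
    (E : Subgroup Y)

theorem resW_injective : Function.Injective (resW D T E) :=
  Function.Injective.prodMap (wrMap_injective (fun _ _ => rfl) D.subtype_injective
    T.subtype_injective)
    E.subtype_injective

theorem resW_sg [DecidableEq ι] (i : ι) (d : D) : resW D T E (sg E T i d) = sg Y _ i d.1 := by
  refine Prod.ext (SemidirectProduct.ext (funext fun j => ?_) rfl) rfl
  change ((Pi.mulSingle (M := fun _ => D) i d j : D) : X) = Pi.mulSingle (M := fun _ => X) i _ j
  by_cases hj : j = i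
  · subst hj; simp
  · simp [Pi.mulSingle_eq_of_ne hj]

theorem resW_tp (t : T) : resW D T E (tp D E ι t) = tp X Y ι t.1 := rfl

theorem resW_inr (x : E) : resW D T E (MonoidHom.inr _ _ x) = MonoidHom.inr _ _ x.1 := rfl

end Res

/-- A Singer cycle. -/
theorem exists_orderOf [Fintype F] {e N : ℕ} (he : 0 < e) (h : N ∣ Fintype.card F ^ e - 1) :
    ∃ A : GL (Fin e) F, orderOf A = N := by
  obtain ⟨p, hc, k, hp, hq⟩ := FiniteField.card' F
  have := Fact.mk hp
  have : NeZero e := ⟨he.ne'⟩
  let E := FiniteField.Extension F p e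
  have hE : Nat.card E = Fintype.card F ^ e := by
    rw [FiniteField.natCard_extension, Nat.card_eq_fintype_card]
  obtain ⟨a, ha⟩ := IsCyclic.exists_ofOrder_eq_natCard (α := Eˣ)
  rw [Nat.card_units, hE] at ha
  let b := finBasisOfFinrankEq F E (FiniteField.finrank_extension F p e)
  let φ : Eˣ →* GL (Fin e) F := Units.map (Algebra.leftMulMatrix b).toMonoidHom
  have hφ : Function.Injective φ := Units.map_injective (Algebra.leftMulMatrix_injective b)
  obtain ⟨c, hc⟩ := h
  have h0 : 0 < Fintype.card F ^ e - 1 := SpO.pow_sub_one_pos Fintype.one_lt_card he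
  refine ⟨φ (a ^ c), ?_⟩
  rw [orderOf_injective φ hφ, orderOf_pow_of_dvd (by rintro rfl; omega) (by rw [ha, hc]; simp), ha,
    hc, Nat.mul_div_cancel _ (Nat.pos_of_ne_zero (by rintro rfl; omega))]

end Mat

section Arith

variable {q r : ℕ} [hr : Fact r.Prime]

theorem val_pow_sub_one (hq : 2 ≤ q) (hq' : (q : ZMod r) ≠ 0) (hr2 : r ≠ 2) {j : ℕ} (hj : j ≠ 0) :
    padicValNat r (q ^ (orderOf (q : ZMod r) * j) - 1) =
      padicValNat r (q ^ orderOf (q : ZMod r) - 1) + padicValNat r j := by
  have h0 := SpO.orderOf_cast_pos hq'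
  have h1 : 1 < q ^ orderOf (q : ZMod r) := Nat.one_lt_pow h0.ne' hq
  have := padicValNat.pow_sub_pow (p := r) (hr.out.odd_of_ne_two hr2) h1
    ((Der.dvd_pow_sub_one_iff (by omega) _).2 dvd_rfl) (fun h => hq' (by
      rw [ZMod.natCast_eq_zero_iff]; exact hr.out.dvd_of_dvd_pow h)) hj
  rwa [one_pow, ← pow_mul] at this

theorem sum_val_odd (hq : 2 ≤ q) (hq' : (q : ZMod r) ≠ 0) (hr2 : r ≠ 2) (n : ℕ) :
    ∑ i ∈ Finset.range n, padicValNat r (q ^ (i + 1) - 1) =
      n / orderOf (q : ZMod r) * padicValNat r (q ^ orderOf (q : ZMod r) - 1) +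
        padicValNat r (n / orderOf (q : ZMod r)).factorial := by
  have h0 := SpO.orderOf_cast_pos hq'
  induction n with
  | zero => simp
  | succ n ih =>
    rw [Finset.sum_range_succ, ih]
    by_cases h : orderOf (q : ZMod r) ∣ n + 1
    · rw [Nat.succ_div_of_dvd h]
      obtain ⟨j, hj⟩ := h
      have hj' : j = n / orderOf (q : ZMod r) + 1 := by
        rw [← Nat.succ_div_of_dvd ⟨j, hj⟩, hj, Nat.mul_div_cancel_left _ h0]
      rw [hj, val_pow_sub_one hq hq' hr2 (hj' ▸ Nat.succ_ne_zero _), Nat.factorial_succ,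
        padicValNat.mul (Nat.succ_ne_zero _) (Nat.factorial_ne_zero _), hj']
      ring
    · rw [Nat.succ_div_of_not_dvd h, padicValNat.eq_zero_of_not_dvd
        (n := q ^ (n + 1) - 1) (by rwa [Der.dvd_pow_sub_one_iff (by omega)]), add_zero]

theorem val_two_odd (hq : Odd q) (hq1 : 1 < q) (m : ℕ) :
    padicValNat 2 (q ^ (2 * m + 1) - 1) = padicValNat 2 (q - 1) := by
  have h : q ^ (2 * m + 1) - 1 = (∑ i ∈ Finset.range (2 * m + 1), q ^ i) * (q - 1) :=
    (geom_sum_mul_of_one_le hq1.le _).symm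
  have h2 : Odd (∑ i ∈ Finset.range (2 * m + 1), q ^ i) := by
    rw [Finset.odd_sum_iff_odd_card_odd, Finset.filter_true_of_mem fun i _ => hq.pow,
      Finset.card_range]
    exact odd_two_mul_add_one m
  rw [h, padicValNat.mul h2.pos.ne' (by omega), padicValNat.eq_zero_of_not_dvd
    (fun h => Nat.not_even_iff_odd.2 h2 (even_iff_two_dvd.2 h)), zero_add]

theorem sum_val_two (hq : Odd q) (hq1 : 1 < q) (m : ℕ) :
    ∑ i ∈ Finset.range (2 * m), padicValNat 2 (q ^ (i + 1) - 1) =
      m * (padicValNat 2 (q - 1) + padicValNat 2 (q ^ 2 - 1)) + padicValNat 2 m.factorial := by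
  induction m with
  | zero => simp
  | succ m ih =>
    rw [mul_add, mul_one, Finset.sum_range_succ, Finset.sum_range_succ, ih, val_two_odd hq hq1,
      show 2 * m + 1 + 1 = 2 * (m + 1) by ring, wr_padicValNat_two_pow_sub_one hq hq1 (by omega),
      Nat.factorial_succ, padicValNat.mul (by omega) (Nat.factorial_ne_zero _)]
    ring

variable {F : Type*} [Field F] [Fintype F]

theorem fact_gl (hrq : ¬ r ∣ Fintype.card F) (n : ℕ) :
    (Nat.card (GL (Fin n) F)).factorization r =
      ∑ i ∈ Finset.range n, padicValNat r (Fintype.card F ^ (i + 1) - 1) := by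
  have h1 : 2 ≤ Fintype.card F := Fintype.one_lt_card
  rw [card_gl', Nat.card_eq_fintype_card, Fintype.card_fin,
    Nat.factorization_mul (by positivity) (Finset.prod_ne_zero_iff.2 fun i _ =>
      (SpO.pow_sub_one_pos h1 (by omega)).ne'),
    Nat.factorization_prod fun i _ => (SpO.pow_sub_one_pos h1 (by omega)).ne', Finsupp.add_apply,
    Nat.factorization_eq_zero_of_not_dvd fun h => hrq (hr.out.dvd_of_dvd_pow h), zero_add,
    Finsupp.finsetSum_apply]
  exact Finset.sum_congr rfl fun i _ => Nat.factorization_def _ hr.out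

theorem fact_sl (n : ℕ) :
    padicValNat r (Fintype.card F - 1) +
      (Nat.card (Matrix.SpecialLinearGroup (Fin (n + 1)) F)).factorization r =
      (Nat.card (GL (Fin (n + 1)) F)).factorization r := by
  have h1 : 2 ≤ Fintype.card F := Fintype.one_lt_card
  rw [← card_sl_mul, Nat.card_eq_fintype_card (α := F),
    Nat.factorization_mul (by omega) Nat.card_pos.ne', Finsupp.add_apply,
    Nat.factorization_def (Fintype.card F - 1) hr.out]

end Arith

section Sylow

open Matrix.GeneralLinearGroup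

theorem sylow_equiv_of_injective {G H : Type*} [Group G] [Group H] [Finite G] {p : ℕ}
    [Fact p.Prime] (f : H →* G) (hf : Function.Injective f)
    (h : (Nat.card H).factorization p = (Nat.card G).factorization p) (P : Sylow p H)
    (Q : Sylow p G) : Nonempty ((P : Subgroup H) ≃* (Q : Subgroup G)) := by
  have : Finite H := Finite.of_injective f hf
  exact wr_nonempty_equiv_sylow (f.comp (P : Subgroup H).subtype)
    (hf.comp (P : Subgroup H).subtype_injective) (by rw [P.card_eq_multiplicity, h]) Q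

variable {F : Type*} [Field F]

/-- `GL_n → SL_{n+1}`. -/
theorem exists_gl_to_sl (n : ℕ) :
    ∃ f : GL (Fin n) F →* Matrix.SpecialLinearGroup (Fin (n + 1)) F, Function.Injective f := by
  obtain ⟨f, hf, h1, h2, -⟩ := exists_glW (F := F) (e := 1) (w := 1) (k := n) (n := n + 1)
    one_pos (by ring)
  let s : Fˣ →* GL (Fin 1) F := scalar (Fin 1)
  have hs : ∀ a, det (s a) = a := fun a => by ext; simp [s]
  let g : GL (Fin n) F →* _ := f.comp (((wrSingle (Perm (Fin 1)) 0).comp (s.comp det⁻¹)).prod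
    (MonoidHom.id _))
  have hg : ∀ x, g x ∈ (det : GL (Fin (n + 1)) F →* Fˣ).ker := fun x => by
    have : g x = f (sg _ _ 0 (s (det x)⁻¹)) * f (MonoidHom.inr _ _ x) := by
      rw [← map_mul]
      exact congrArg f (Prod.ext (mul_one _).symm (one_mul _).symm)
    rw [MonoidHom.mem_ker, this, map_mul, h1, h2, hs, inv_mul_cancel]
  refine ⟨(slEquivKer _ F).symm.toMonoidHom.comp (g.codRestrict _ hg), fun x y h => ?_⟩
  exact congrArg Prod.snd (hf (congrArg Subtype.val ((slEquivKer _ F).symm.injective h)))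

variable [Fintype F] {r : ℕ} [hr : Fact r.Prime]

/-- Sylow `r`-subgroups of `GL_n(q)`, `r` odd: `C_{r^v} ≀ T`. -/
theorem sylow_odd (hr2 : r ≠ 2) (hrq : ¬ r ∣ Fintype.card F) {n : ℕ}
    (T : Sylow r (Perm (Fin (n / orderOf (Fintype.card F : ZMod r)))))
    (P : Sylow r (GL (Fin n) F)) :
    Nonempty (Wr (Multiplicative (ZMod (r ^ padicValNat r
      (Fintype.card F ^ orderOf (Fintype.card F : ZMod r) - 1))))
      (Fin (n / orderOf (Fintype.card F : ZMod r))) T.1 ≃*
        (P : Subgroup (GL (Fin n) F))) := by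
  have h1 : 2 ≤ Fintype.card F := Fintype.one_lt_card
  have h2 : ((Fintype.card F : ℕ) : ZMod r) ≠ 0 := by rwa [Ne, ZMod.natCast_eq_zero_iff]
  have h0 := SpO.orderOf_cast_pos h2
  obtain ⟨f, hf, -⟩ := exists_glW (F := F) h0
    (Nat.div_add_mod n (orderOf (Fintype.card F : ZMod r))).symm
  obtain ⟨A, hA⟩ := exists_orderOf (F := F) h0 (pow_padicValNat_dvd (p := r))
  obtain ⟨g, hg⟩ := SpO.exists_hom_zmod A
  rw [← hA]
  refine wr_nonempty_equiv_sylow (f.comp ((MonoidHom.inl _ _).comp
    (wrMap g T.1.subtype fun _ _ => rfl))) (fun _ _ h =>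
      wrMap_injective (fun _ _ => rfl) hg (Subgroup.subtype_injective _)
        (congrArg Prod.fst (hf h))) ?_ P
  rw [wr_card, wr_card_sylow_perm, Nat.card_congr Multiplicative.toAdd, Nat.card_zmod, hA,
    Nat.card_fin, ← pow_mul, ← pow_add, fact_gl hrq, sum_val_odd h1 h2 hr2,
    Nat.factorization_def _ hr.out, mul_comm]

theorem card_W2 (hF : Odd (Fintype.card F)) (m : ℕ) {k : ℕ} (hk : k ≤ 1)
    (D : Sylow 2 (GL (Fin 2) F)) (T : Sylow 2 (Perm (Fin m))) (E : Sylow 2 (GL (Fin k) F)) :
    Nat.card (Wr (D : Subgroup (GL (Fin 2) F)) (Fin m) (T : Subgroup (Perm (Fin m))) ×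
      (E : Subgroup (GL (Fin k) F))) = 2 ^ (Nat.card (GL (Fin (2 * m + k)) F)).factorization 2 := by
  have h1 : 1 < Fintype.card F := Fintype.one_lt_card
  have h2 : ¬ 2 ∣ Fintype.card F := fun h => Nat.not_even_iff_odd.2 hF (even_iff_two_dvd.2 h)
  rw [Nat.card_prod, wr_card, wr_card_sylow_perm, D.card_eq_multiplicity, E.card_eq_multiplicity,
    Nat.card_fin, ← pow_mul, ← pow_add, ← pow_add, fact_gl h2, fact_gl h2, fact_gl h2,
    Finset.sum_range_add, sum_val_two hF h1, Nat.factorization_def _ Nat.prime_two]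
  congr 1
  interval_cases k
  · simp [Finset.sum_range_succ, mul_comm]
  · simp [Finset.sum_range_succ, mul_comm m, val_two_odd hF h1]

/-- Sylow `2`-subgroups of `GL_n(q)`, `q` odd: `D ≀ T × E`, with determinants. -/
theorem exists_W2 (hF : Odd (Fintype.card F)) (m : ℕ) {k n : ℕ} (hk : k ≤ 1) (hn : n = 2 * m + k)
    (D : Sylow 2 (GL (Fin 2) F)) (T : Sylow 2 (Perm (Fin m))) (E : Sylow 2 (GL (Fin k) F)) :
    ∃ f : Wr (D : Subgroup (GL (Fin 2) F)) (Fin m) (T : Subgroup (Perm (Fin m))) ×
      (E : Subgroup (GL (Fin k) F)) →* GL (Fin n) F, Function.Injective f ∧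
      Nat.card (Wr (D : Subgroup (GL (Fin 2) F)) (Fin m) (T : Subgroup (Perm (Fin m))) ×
        (E : Subgroup (GL (Fin k) F))) = 2 ^ (Nat.card (GL (Fin n) F)).factorization 2 ∧
      (∀ i d, det (f (sg _ _ i d)) = det d.1) ∧ (∀ x, det (f (MonoidHom.inr _ _ x)) = det x.1) ∧
      ∀ t, det (f (tp _ _ _ t)) = 1 := by
  obtain ⟨f, hf, h1, h2, h3⟩ := exists_glW (F := F) two_pos hn
  refine ⟨f.comp (resW _ _ _), hf.comp (resW_injective _ _ _), hn ▸ card_W2 hF m hk D T E,
    fun i d => ?_, fun x => ?_, fun t => ?_⟩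
  · rw [MonoidHom.comp_apply, resW_sg, h1]
  · rw [MonoidHom.comp_apply, resW_inr, h2]
  · rw [MonoidHom.comp_apply, resW_tp, h3 even_two]

end Sylow

end Cfsg.Agent.Cl.GLS
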