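import Mathlib
import Cfsg.Agent.Cl.GLSyl
import Cfsg.Agent.Cl.SylTwoGL2
import Cfsg.Agent.Perm.PermModule
import Cfsg.Agent.S0261
import Cfsg.Agent.S0542

/-!
# Sylow `2`-subgroups of `SL_n(q)`, `q` odd, with elementary abelianization
-/

set_option autoImplicit false

namespace Cfsg.Agent.Cl.GLS

open Equiv S2W Matrix.GeneralLinearGroup

variable {F : Type*} [Field F] [Fintype F]

theorem ker_det_sq_mem (hF : Odd (Fintype.card F)) (D : Sylow 2 (GL (Fin 2) F))
    (x : (det.comp D.1.subtype).ker) : x ^ 2 ∈ commutator (det.comp D.1.subtype).ker := by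
  obtain ⟨Q, hQ⟩ := S0542.result 2 (det : GL (Fin 2) F →* Fˣ).ker
    (Subgroup.Normal.isSubnormal inferInstance) D
  obtain ⟨P⟩ : Nonempty (Sylow 2 (Matrix.SpecialLinearGroup (Fin 2) F)) := inferInstance
  obtain ⟨k, hk, ⟨e⟩⟩ := S0261.result hF P
  obtain ⟨e'⟩ := wr_nonempty_sylow_equiv (slEquivKer (Fin 2) F) P Q
  have h1 : ∀ y : Q.1, ((y : (det : GL (Fin 2) F →* Fˣ).ker) : GL (Fin 2) F) ∈ D.1 := fun y =>
    hQ.le y.2
  let g : Q.1 →* (det.comp D.1.subtype).ker :=
    (((det : GL (Fin 2) F →* Fˣ).ker.subtype.comp Q.1.subtype).codRestrict D.1 h1).codRestrict _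
      fun y => y.1.2
  refine wr_pow_mem_commutator_of_surjective (g.comp (e.symm.trans e').toMonoidHom)
    (Function.Surjective.comp (g := g) (fun y => ⟨⟨⟨y.1.1, y.2⟩, by rw [hQ]; exact y.1.2⟩, rfl⟩)
      (e.symm.trans e').surjective) (quat_sq_mem_commutator ?_) x
  exact (Nat.even_pow' (by omega)).2 even_two

theorem sq_eq_one_of_three (hq : 4 ∣ Fintype.card F + 1) {a : Fˣ} {k : ℕ} (ha : a ^ 2 ^ k = 1) :
    a = 1 ∨ a = -1 := by
  have h1 : orderOf a ∣ Fintype.card F - 1 := by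
    classical
    rw [← Fintype.card_units]; exact orderOf_dvd_card
  obtain ⟨j, -, hj⟩ := (Nat.dvd_prime_pow Nat.prime_two).1 (orderOf_dvd_of_pow_eq_one ha)
  have h2 : j ≤ 1 := by
    by_contra h
    have : 2 ^ 2 ∣ Fintype.card F - 1 := (pow_dvd_pow 2 (by omega)).trans (hj ▸ h1)
    have := Fintype.one_lt_card (α := F)
    omega
  have h3 : a ^ 2 = 1 := orderOf_dvd_iff_pow_eq_one.1 (by
    rw [hj]; exact (pow_dvd_pow 2 h2).trans (by norm_num))
  have h4 : (a : F) ^ 2 = 1 := by rw [← Units.val_pow_eq_pow_val, h3, Units.val_one]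
  rcases sq_eq_one_iff.1 h4 with h | h
  · exact .inl (Units.ext h)
  · exact .inr (Units.ext h)

omit [Fintype F] in
theorem gl_eq_one_of_det {k : ℕ} (hk : k ≤ 1) {e : GL (Fin k) F} (he : det e = 1) : e = 1 := by
  interval_cases k
  · exact Units.ext (Subsingleton.elim _ _)
  · ext i j
    have := congrArg Units.val he
    rw [val_det_apply, Matrix.det_fin_one] at this
    rw [Subsingleton.elim i 0, Subsingleton.elim j 0, this]
    rfl

theorem sl_sq_mem (hF : Odd (Fintype.card F)) {m k n : ℕ} (hm : 1 ≤ m) (hk : k ≤ 1)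
    (hn : n = 2 * m + k) (hq : 4 ∣ Fintype.card F + 1 ∨ (k = 0 ∧ ∃ j : ℕ, m = 2 ^ j))
    (P : Sylow 2 (Matrix.SpecialLinearGroup (Fin n) F)) (x : P.1) : x ^ 2 ∈ commutator P.1 := by
  let r : GL (Fin 2) F := S2.dg (-1, 1)
  have hr : r ^ 2 = 1 := by rw [← map_pow, ← map_one S2.dg]; congr 1; simp
  have hr' : det r = -1 := by ext; simp [r, S2.coe_dg]
  obtain ⟨j, -, hj⟩ := (Nat.dvd_prime_pow Nat.prime_two (m := 1)).1
    (orderOf_dvd_of_pow_eq_one hr)
  obtain ⟨D, hD⟩ := (S2.isPGroup_zpowers hj).exists_le_sylow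
  let r' : D.1 := ⟨r, hD (Subgroup.mem_zpowers r)⟩
  have hr2 : r' ^ 2 = 1 := Subtype.ext hr
  obtain ⟨T⟩ : Nonempty (Sylow 2 (Perm (Fin m))) := inferInstance
  obtain ⟨E⟩ : Nonempty (Sylow 2 (GL (Fin k) F)) := inferInstance
  obtain ⟨f, hf, hc, h1, h2, h3⟩ := exists_W2 hF m hk hn D T E
  have hN : (Matrix.SpecialLinearGroup.toGL :
      Matrix.SpecialLinearGroup (Fin n) F →* GL (Fin n) F).range.Normal := by
    rw [range_toGL]; infer_instance
  refine sylow_transfer _ Matrix.SpecialLinearGroup.toGL_injective f hf hc ?_ P x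
  rw [range_toGL]
  set K := (det : GL (Fin n) F →* Fˣ).ker.comap f
  have hK : ∀ w, w ∈ K ↔ det (f w) = 1 := fun w => Iff.rfl
  have hT := wr_sylow_perm_sq_mem_commutator T
  have htP : ∀ t, tp D.1 E.1 (Fin m) t ∈ K := h3
  have hd : ∀ i (d : D.1), det d.1 = 1 → sg E.1 T.1 i d ∈ sqK K := fun i d hd =>
    map_mem_sqK ((sg E.1 T.1 i).comp (det.comp D.1.subtype).ker.subtype)
      (fun y => (hK _).2 ((h1 i y).trans y.2)) (ker_det_sq_mem hF D ⟨d, hd⟩)
  let i₀ : Fin m := ⟨0, hm⟩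
  have ha : ∀ t, tp D.1 E.1 (Fin m) t ∈ sqK K := fun t => map_mem_sqK _ htP (hT t)
  have hd' : ∀ d, sg E.1 T.1 i₀ d ∈ K → sg E.1 T.1 i₀ d ∈ sqK K := fun d h =>
    hd _ _ (by rw [← h1 i₀]; exact h)
  refine sq_mem_of_le_sqK ?_
  rcases hq with hq | ⟨rfl, l, hl⟩
  · refine le_of_gens sqK_le i₀ (SD := {d | det d.1 = 1} ∪ {r'}) ?_ (Subgroup.closure_univ) ha
      ?_ ?_ hd'
    · rw [eq_top_iff]
      intro d _
      obtain ⟨a, ha⟩ := D.isPGroup' d
      rcases sq_eq_one_of_three hq (a := det d.1) (k := a)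
        (by rw [← map_pow, ← Subgroup.coe_pow, ha]; simp) with h | h
      · exact Subgroup.subset_closure (.inl h)
      · rw [← inv_mul_cancel_right d r']
        refine Subgroup.mul_mem _ (Subgroup.subset_closure (.inl ?_))
          (Subgroup.subset_closure (.inr rfl))
        change det (d.1 * r⁻¹) = 1
        rw [map_mul, map_inv, h, hr', mul_inv_cancel]
    · rintro i hi d (h | rfl)
      · exact ⟨1, by rw [map_one, mul_one]; exact hd i d h⟩
      · refine ⟨r', mem_sqK_of_sq ?_ ?_⟩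
        · rw [hK, map_mul, map_mul, h1, h1, hr', neg_mul_neg, mul_one]
        · rw [(sg_comm hi _ _).mul_pow, ← map_pow, ← map_pow, hr2, map_one, map_one, mul_one]
    · rintro e -
      obtain ⟨a, ha⟩ := E.isPGroup' e
      rcases sq_eq_one_of_three hq (a := det e.1) (k := a)
        (by rw [← map_pow, ← Subgroup.coe_pow, ha]; simp) with h | h
      · obtain rfl : e = 1 := Subtype.ext (gl_eq_one_of_det hk h)
        exact ⟨1, by rw [map_one, map_one, mul_one]; exact Subgroup.one_mem _⟩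
      · have he : e ^ 2 = 1 := Subtype.ext (gl_eq_one_of_det hk (by
          rw [Subgroup.coe_pow, map_pow, h, neg_one_sq]))
        refine ⟨r', mem_sqK_of_sq ?_ ?_⟩
        · rw [hK, map_mul, map_mul, h1, h2, hr', h, neg_mul_neg, mul_one]
        · rw [(sg_comm_inr _ _ _).mul_pow, ← map_pow, ← map_pow, hr2, he, map_one, map_one,
            mul_one]
  · have := Perm.sylow_isPretransitive_of_card_eq_pow (Ω := Fin m) (f := l) (by simp [hl]) T
    refine le_of_gens sqK_le i₀ Subgroup.closure_univ Subgroup.closure_univ ha ?_ ?_ hd'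
    · rintro i - d -
      obtain ⟨t, rfl⟩ := MulAction.exists_smul_eq T.1 i₀ i
      exact ⟨d⁻¹, sg_mul_sg_inv_mem_sqK i₀ hT htP d (fun t => by
        rw [hK, map_mul, map_mul, h1, h1, Subgroup.coe_inv, map_inv, mul_inv_cancel]) t⟩
    · rintro e -
      obtain rfl : e = 1 := Subtype.ext (Units.ext (Subsingleton.elim _ _))
      exact ⟨1, by rw [map_one, map_one, mul_one]; exact Subgroup.one_mem _⟩

end Cfsg.Agent.Cl.GLS
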