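import Mathlib

/-! Avoiding a few proper subspaces over a field with at least four elements, and the choice of a
vector and a linear form for one step of a triangular factorisation. -/

set_option autoImplicit false

open Module Submodule

namespace Cfsg.Agent.Cl.Lev

variable {K : Type*} [Field K] {V : Type*} [AddCommGroup V] [Module K V]

theorem bad (U : Submodule K V) {y : V} (hy : y ∉ U) (x : V) :
    ∃ s : K, ∀ t, t ≠ s → x + t • y ∉ U := by
  by_cases h : ∃ s : K, x + s • y ∈ U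
  · obtain ⟨s, hs⟩ := h
    refine ⟨s, fun t ht hm => hy ?_⟩
    have := U.sub_mem hm hs
    rw [add_sub_add_left_eq_sub, ← sub_smul] at this
    exact (U.smul_mem_iff (sub_ne_zero.2 ht)).1 this
  · exact ⟨0, fun t _ hm => h ⟨t, hm⟩⟩

theorem line (hK : 4 ≤ Cardinal.mk K) (l : List (Submodule K V)) (hl : l.length ≤ 3) {y : V}
    (hy : ∀ U ∈ l, y ∉ U) (x : V) : ∃ t : K, ∀ U ∈ l, x + t • y ∉ U := by
  classical
  choose! s hs using fun U (hU : U ∈ l) => bad U (hy U hU) x
  obtain ⟨t, ht⟩ := Cardinal.exists_notMem_of_length_lt (l.map s) (lt_of_lt_of_le (by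
    rw [List.length_map]; exact_mod_cast (by omega : l.length < 4)) hK)
  exact ⟨t, fun U hU => hs U hU t fun e => ht (e ▸ List.mem_map_of_mem hU)⟩

theorem avoid (hK : 4 ≤ Cardinal.mk K) (l : List (Submodule K V)) (hl : l.length ≤ 4)
    (h : ∀ U ∈ l, U ≠ ⊤) : ∃ x : V, ∀ U ∈ l, x ∉ U := by
  induction l with
  | nil => exact ⟨0, by simp⟩
  | cons U l ih =>
    rw [List.length_cons] at hl
    obtain ⟨y, hy⟩ := ih (by omega) fun W hW => h W (List.mem_cons_of_mem _ hW)
    by_cases hU : y ∈ U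
    · obtain ⟨x, hx⟩ : ∃ x, x ∉ U := by
        by_contra hn
        push Not at hn
        exact h U List.mem_cons_self (eq_top_iff.2 fun x _ => hn x)
      obtain ⟨t, ht⟩ := line hK l (by omega) hy x
      refine ⟨x + t • y, fun W hW => ?_⟩
      rcases List.mem_cons.1 hW with rfl | hW
      · exact fun hm => hx (by simpa using W.sub_mem hm (W.smul_mem t hU))
      · exact ht W hW
    · exact ⟨y, fun W hW => by
        rcases List.mem_cons.1 hW with rfl | hW
        exacts [hU, hy W hW]⟩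

theorem avoid_dual (hK : 4 ≤ Cardinal.mk K) (z : V) {e a b c : V} (he : e ∉ K ∙ z)
    (ha : a ∉ K ∙ z) (hb : b ∉ K ∙ z) (hc : c ∉ K ∙ z) :
    ∃ φ : Dual K V, φ z = 0 ∧ φ e = 1 ∧ φ a ≠ 0 ∧ φ b ≠ 0 ∧ φ c ≠ 0 := by
  let D : Submodule K (Dual K V) := LinearMap.ker (Dual.eval K V z)
  let U : V → Submodule K D := fun v => LinearMap.ker ((Dual.eval K V v).comp D.subtype)
  have hU : ∀ v, v ∉ K ∙ z → U v ≠ ⊤ := fun v hv ht => by
    obtain ⟨f, h1, h2⟩ := Submodule.exists_le_ker_of_notMem hv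
    have : (⟨f, h2 (mem_span_singleton_self z)⟩ : D) ∈ U v := ht ▸ mem_top
    exact h1 this
  obtain ⟨⟨φ, hφ⟩, h⟩ := avoid (V := D) hK [U e, U a, U b, U c] le_rfl (by
    simp [hU e he, hU a ha, hU b hb, hU c hc])
  simp only [List.mem_cons, List.not_mem_nil, or_false, forall_eq_or_imp, forall_eq] at h
  obtain ⟨h1, h2, h3, h4⟩ := h
  have h1' : φ e ≠ 0 := h1
  have hz : φ z = 0 := hφ
  refine ⟨(φ e)⁻¹ • φ, by simp [hz], by simp [h1'], ?_, ?_, ?_⟩
  · exact mul_ne_zero (inv_ne_zero h1') h2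
  · exact mul_ne_zero (inv_ne_zero h1') h3
  · exact mul_ne_zero (inv_ne_zero h1') h4

/-- A non-scalar map has a non-eigenvector outside two given proper subspaces. -/
theorem exists_not_eigen (hK : 4 ≤ Cardinal.mk K) {N : V →ₗ[K] V}
    (hN : ∀ l : K, ∃ x, N x ≠ l • x) {U₁ U₂ : Submodule K V} (h1 : U₁ ≠ ⊤) (h2 : U₂ ≠ ⊤) :
    ∃ e, e ∉ U₁ ∧ e ∉ U₂ ∧ N e ∉ K ∙ e := by
  let E : K → Submodule K V := fun l => LinearMap.ker (N - l • LinearMap.id)
  have hE : ∀ l x, x ∈ E l ↔ N x = l • x := fun l x => by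
    simp [E, sub_eq_zero]
  have hE' : ∀ l, E l ≠ ⊤ := fun l ht => by
    obtain ⟨x, hx⟩ := hN l
    exact hx ((hE l x).1 (ht ▸ mem_top))
  obtain ⟨x, hx⟩ := avoid hK [U₁, U₂] (by simp) (by simp [h1, h2])
  simp only [List.mem_cons, List.not_mem_nil, or_false, forall_eq_or_imp, forall_eq] at hx
  by_cases hxe : N x ∈ K ∙ x
  swap
  · exact ⟨x, hx.1, hx.2, hxe⟩
  obtain ⟨l, hl⟩ := mem_span_singleton.1 hxe
  obtain ⟨y, hy⟩ := avoid hK [U₁, U₂, E l] (by simp) (by simp [h1, h2, hE'])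
  simp only [List.mem_cons, List.not_mem_nil, or_false, forall_eq_or_imp, forall_eq] at hy
  by_cases hye : N y ∈ K ∙ y
  swap
  · exact ⟨y, hy.1, hy.2.1, hye⟩
  obtain ⟨m, hm⟩ := mem_span_singleton.1 hye
  have hx0 : x ≠ 0 := fun h => hx.1 (h ▸ U₁.zero_mem)
  have hlm : l ≠ m := fun h => hy.2.2 ((hE l y).2 (h ▸ hm.symm))
  have hxm : x ∉ E m := fun h => by
    have := (hE m x).1 h
    rw [← hl, ← sub_eq_zero, ← sub_smul, smul_eq_zero, sub_eq_zero] at this
    tauto
  obtain ⟨t, ht⟩ := line hK [U₁, U₂, E m] le_rfl (y := x) (by simp [hx.1, hx.2, hxm]) y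
  simp only [List.mem_cons, List.not_mem_nil, or_false, forall_eq_or_imp, forall_eq] at ht
  refine ⟨y + t • x, ht.1, ht.2.1, fun h => ?_⟩
  obtain ⟨ν, hν⟩ := mem_span_singleton.1 h
  have hνm : ν ≠ m := fun e => ht.2.2 ((hE m _).2 (e ▸ hν.symm))
  have hxl : x ∈ E l := (hE l x).2 hl.symm
  have : (ν - m) • y = (t * l - ν * t) • x := by
    rw [map_add, map_smul, ← hl, ← hm] at hν
    linear_combination (norm := module) hν
  have h3 : (ν - m) • y ∈ E l := this ▸ (E l).smul_mem _ hxl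
  exact hy.2.2 (((E l).smul_mem_iff (sub_ne_zero.2 hνm)).1 h3)

theorem finrank_span_le_one (a : V) : finrank K (K ∙ a) ≤ 1 := by
  simpa using finrank_span_le_card (R := K) ({a} : Set V)

variable [FiniteDimensional K V]

omit [FiniteDimensional K V] in
theorem not_range_le {N : V →ₗ[K] V} (hr : 2 ≤ finrank K (LinearMap.range N)) (a : V) :
    ¬ LinearMap.range N ≤ K ∙ a := fun h => by
  have := (Submodule.finrank_mono h).trans (finrank_span_le_one a)
  omega

theorem exists_vec (hK : 4 ≤ Cardinal.mk K) {N : V →ₗ[K] V} (hN : ∀ l : K, ∃ x, N x ≠ l • x)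
    (hr : 2 ≤ finrank K (LinearMap.range N)) (c : V) {r : Dual K V} (hr0 : r ≠ 0) :
    ∃ e, r e ≠ 0 ∧ N e ∉ K ∙ c ∧ N e ∉ K ∙ e ∧
      (Function.Injective N ∨ (e ∉ LinearMap.range N ∧ ¬ LinearMap.ker N ≤ K ∙ N e)) := by
  have h1 : LinearMap.ker r ≠ ⊤ := fun h => hr0 (LinearMap.ker_eq_top.1 h)
  have h2 : (K ∙ c).comap N ≠ ⊤ := fun h => not_range_le hr c (by
    rintro _ ⟨x, rfl⟩
    exact (h ▸ mem_top : x ∈ (K ∙ c).comap N))
  by_cases hi : Function.Injective N
  · obtain ⟨e, a, b, c⟩ := exists_not_eigen hK hN h1 h2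
    exact ⟨e, a, b, c, Or.inl hi⟩
  have h3 : LinearMap.range N ≠ ⊤ := fun h =>
    hi (LinearMap.injective_iff_surjective.2 (LinearMap.range_eq_top.1 h))
  obtain ⟨U, hU, hU'⟩ : ∃ U : Submodule K V, U ≠ ⊤ ∧ ∀ e, e ∉ U → N (N e) = 0 → N * N = 0 := by
    by_cases h : N * N = 0
    · exact ⟨_, h1, fun _ _ _ => h⟩
    · exact ⟨LinearMap.ker (N * N), fun e => h (LinearMap.ker_eq_top.1 e),
        fun e he h' => absurd h' he⟩
  obtain ⟨e, he⟩ := avoid hK [LinearMap.ker r, (K ∙ c).comap N, LinearMap.range N, U] le_rfl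
    (by simp [h1, h2, h3, hU])
  simp only [List.mem_cons, List.not_mem_nil, or_false, forall_eq_or_imp, forall_eq] at he
  obtain ⟨e1, e2, e3, e4⟩ := he
  have e0 : N e ≠ 0 := fun h => e2 (by simp [h])
  refine ⟨e, e1, e2, fun h => ?_, Or.inr ⟨e3, fun h => ?_⟩⟩
  · obtain ⟨l, hl⟩ := mem_span_singleton.1 h
    have hl0 : l ≠ 0 := fun h => e0 (by rw [← hl, h, zero_smul])
    exact e3 ⟨l⁻¹ • e, by rw [map_smul, ← hl, smul_smul, inv_mul_cancel₀ hl0, one_smul]⟩
  · obtain ⟨k, hk, hk0⟩ := (Submodule.ne_bot_iff _).1 fun h => hi (LinearMap.ker_eq_bot.1 h)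
    obtain ⟨s, rfl⟩ := mem_span_singleton.1 (h hk)
    have hs : s ≠ 0 := fun h => hk0 (by rw [h, zero_smul])
    rw [LinearMap.mem_ker, map_smul, smul_eq_zero, or_iff_right hs] at hk
    refine not_range_le hr (N e) (le_trans ?_ h)
    rintro _ ⟨x, rfl⟩
    exact LinearMap.congr_fun (hU' e e4 hk) x

omit [FiniteDimensional K V] in
theorem indep {e f : V} (h : f ∉ K ∙ e) (he : e ≠ 0) {s t : K} (hst : s • e + t • f = 0) :
    s = 0 ∧ t = 0 := by
  have ht : t = 0 := by
    by_contra ht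
    refine h (mem_span_singleton.2 ⟨-(t⁻¹ * s), ?_⟩)
    have : t • ((-(t⁻¹ * s)) • e) = t • f := by
      rw [smul_smul, mul_neg, mul_inv_cancel_left₀ ht]
      linear_combination (norm := module) -hst
    exact smul_right_injective V ht this
  rw [ht, zero_smul, add_zero, smul_eq_zero] at hst
  exact ⟨hst.resolve_right he, ht⟩

theorem three {N : V →ₗ[K] V} (h3 : finrank K V = 3) (hd : LinearMap.det (1 + N) = 1)
    (hi : Function.Injective N) {e : V} (he : N e ∉ K ∙ e) (h0 : e ≠ 0) {a : K}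
    (ha : N (N e) = a • (e + N e)) : False := by
  classical
  let P : Submodule K V := span K {e, N e}
  have hP : P ≠ ⊤ := fun h => by
    have := finrank_span_le_card (R := K) ({e, N e} : Set V)
    have h2 : ({e, N e} : Set V).toFinset.card ≤ 2 := by
      rw [Set.toFinset_insert, Set.toFinset_singleton]
      exact Finset.card_le_two
    change finrank K P ≤ _ at this
    rw [h, finrank_top] at this
    omega
  obtain ⟨v, hv⟩ : ∃ v, v ∉ P := by
    by_contra hn
    push Not at hn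
    exact hP (eq_top_iff.2 fun x _ => hn x)
  have hli : LinearIndependent K ![e, N e, v] := by
    rw [Fintype.linearIndependent_iff]
    intro s hs
    simp only [Fin.sum_univ_three, Matrix.cons_val_zero, Matrix.cons_val_one,
      Matrix.cons_val] at hs
    have h2 : s 2 = 0 := by
      by_contra h2
      refine hv ((P.smul_mem_iff h2).1 (mem_span_pair.2 ⟨-s 0, -s 1, ?_⟩))
      linear_combination (norm := module) -hs
    rw [h2, zero_smul, add_zero] at hs
    obtain ⟨h0, h1⟩ := indep he h0 hs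
    intro i
    fin_cases i <;> assumption
  let b : Basis (Fin 3) K V := basisOfLinearIndependentOfCardEqFinrank hli (by simp [h3])
  have b0 : e = b 0 := by simp [b]
  have b1 : N e = b 1 := by simp [b]
  have b2 : v = b 2 := by simp [b]
  have n0 : N (b 0) = b 1 := by rw [← b0, b1]
  have n1 : N (b 1) = a • (b 0 + b 1) := by rw [← b1, ha, ← b0, b1]
  rw [← LinearMap.det_toMatrix b, Matrix.det_fin_three] at hd
  simp [LinearMap.toMatrix_apply, n0, n1] at hd
  have hγ : b.repr (N (b 2)) 2 = 0 := by linear_combination hd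
  have p0 : b 0 ∈ P := b0 ▸ subset_span (by simp)
  have p1 : b 1 ∈ P := b1 ▸ subset_span (by simp)
  have : P.comap N = ⊤ := by
    rw [eq_top_iff, ← b.span_eq, span_le]
    rintro _ ⟨i, rfl⟩
    change N (b i) ∈ P
    fin_cases i
    · exact n0 ▸ p1
    · exact n1 ▸ P.smul_mem _ (P.add_mem p0 p1)
    · change N (b 2) ∈ P
      rw [← b.sum_repr (N (b 2)), Fin.sum_univ_three, hγ, zero_smul, add_zero]
      exact P.add_mem (P.smul_mem _ p0) (P.smul_mem _ p1)
  obtain ⟨x, rfl⟩ := LinearMap.injective_iff_surjective.1 hi v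
  exact hv (this ▸ mem_top : x ∈ P.comap N)

theorem finrank_ker_dual {φ : Dual K V} {e : V} (h : φ e = 1) :
    finrank K (LinearMap.ker φ) + 1 = finrank K V :=
  Module.Dual.finrank_ker_add_one_of_ne_zero (fun h0 => by simp [h0] at h)

/-- The choice of the vector `e` and the form `φ` for one step of the factorisation. -/
theorem exists_step (hK : 4 ≤ Cardinal.mk K) {N : V →ₗ[K] V} (hd : LinearMap.det (1 + N) = 1)
    (hN : ∀ l : K, ∃ x, N x ≠ l • x) (hr : 2 ≤ finrank K (LinearMap.range N)) {c : V}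
    (hc : c ≠ 0) {r : Dual K V} (hr0 : r ≠ 0) :
    ∃ (e : V) (φ : Dual K V), φ e = 1 ∧ φ (N e) = 0 ∧ N e ≠ 0 ∧ φ c ≠ 0 ∧ r e ≠ 0 ∧
      (∃ u, φ (N u) ≠ 0) ∧ (finrank K V = 2 ∨
        (finrank K ↥(LinearMap.ker φ ⊓ (K ∙ (e + N e)).comap N) + 3 ≤ finrank K V ∧
          ∀ μ : K, ∃ w, φ w = 0 ∧ N w - μ • w ∉ K ∙ (e + N e))) := by
  obtain ⟨e, e1, e2, e3, e4⟩ := exists_vec hK hN hr c hr0
  have e0 : e ≠ 0 := fun h => e1 (by simp [h])
  have f0 : N e ≠ 0 := fun h => e3 (h ▸ zero_mem _)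
  have he : e ∉ K ∙ N e := fun h => by
    obtain ⟨s, hs⟩ := mem_span_singleton.1 h
    have := indep e3 e0 (s := 1) (t := -s) (by linear_combination (norm := module) -hs)
    exact one_ne_zero this.1
  have hc' : c ∉ K ∙ N e := fun h => by
    obtain ⟨s, hs⟩ := mem_span_singleton.1 h
    have hs0 : s ≠ 0 := fun h => hc (by rw [← hs, h, zero_smul])
    exact e2 (mem_span_singleton.2 ⟨s⁻¹, by rw [← hs, smul_smul, inv_mul_cancel₀ hs0, one_smul]⟩)
  obtain ⟨u, hu⟩ : ∃ u, N u ∉ K ∙ N e := by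
    by_contra hn
    push Not at hn
    exact not_range_le hr (N e) (by rintro _ ⟨x, rfl⟩; exact hn x)
  have hn2 : 2 ≤ finrank K V := hr.trans (Submodule.finrank_le _)
  rcases hn2.eq_or_lt with h2 | h3
  · obtain ⟨φ, a1, a2, a3, a4, -⟩ := avoid_dual hK (N e) he hc' hu hu
    exact ⟨e, φ, a2, a1, f0, a3, e1, ⟨u, a4⟩, Or.inl h2.symm⟩
  set S := (K ∙ (e + N e)).comap N with hS
  have hSd : finrank K S + 2 ≤ finrank K V ∧ S ≠ ⊥ := by
    rcases e4 with hi | ⟨h1, h2⟩
    · constructor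
      · have : finrank K S ≤ finrank K (K ∙ (e + N e)) :=
          LinearMap.finrank_le_finrank_of_injective (f := N.restrict (p := S) fun x hx => hx)
            (fun x y h => Subtype.ext (hi (congrArg Subtype.val h)))
        have := finrank_span_le_one (K := K) (e + N e)
        omega
      · obtain ⟨k, hk⟩ := LinearMap.injective_iff_surjective.1 hi (e + N e)
        refine (Submodule.ne_bot_iff _).2 ⟨k, by
          rw [hS, mem_comap, hk]; exact mem_span_singleton_self _, fun h => ?_⟩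
        rw [h, map_zero] at hk
        exact one_ne_zero (indep e3 e0 (s := 1) (t := 1) (by simpa using hk.symm)).1
    · have : S = LinearMap.ker N := by
        refine le_antisymm (fun x hx => ?_) fun x hx => by
          rw [hS, mem_comap, LinearMap.mem_ker.1 hx]; exact zero_mem _
        obtain ⟨s, hs⟩ := mem_span_singleton.1 (show N x ∈ K ∙ (e + N e) from hx)
        by_cases hs0 : s = 0
        · rw [LinearMap.mem_ker, ← hs, hs0, zero_smul]
        · refine absurd ⟨s⁻¹ • x - e, ?_⟩ h1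
          rw [map_sub, map_smul, ← hs, smul_smul, inv_mul_cancel₀ hs0, one_smul, add_sub_cancel_right]
      rw [this]
      have := LinearMap.finrank_range_add_finrank_ker N
      exact ⟨by omega, fun h => h2 (h ▸ bot_le)⟩
  have rk : ∀ φ : Dual K V, ∀ k ∈ S, φ k ≠ 0 →
      finrank K ↥(LinearMap.ker φ ⊓ S) + 3 ≤ finrank K V := fun φ k hk h => by
    have : LinearMap.ker φ ⊓ S < S := lt_of_le_of_ne inf_le_right fun e =>
      h (e.ge hk).1
    have := Submodule.finrank_lt_finrank_of_lt this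
    omega
  have ge : ∀ {s t : K}, s • e + t • N e ∈ K ∙ (e + N e) → s = t := fun {s t} h => by
    obtain ⟨x, hx⟩ := mem_span_singleton.1 h
    have := indep e3 e0 (s := x - s) (t := x - t) (by linear_combination (norm := module) hx)
    linear_combination this.2 - this.1
  by_cases hA : ∃ a b : K, N (N e) = a • N e + b • e
  swap
  · obtain ⟨k, hk, hk0⟩ := (Submodule.ne_bot_iff _).1 hSd.2
    have hA' : ∀ s : K, N (N e) - s • N e ∉ K ∙ (e + N e) := fun s h => by
      obtain ⟨x, hx⟩ := mem_span_singleton.1 h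
      exact hA ⟨x + s, x, by linear_combination (norm := module) -hx⟩
    obtain ⟨φ, a1, a2, a3, a4, a5⟩ := avoid_dual hK (N e) he hc' (b := N (N e)) (c := k)
      (fun h => by
        obtain ⟨x, hx⟩ := mem_span_singleton.1 h
        exact hA ⟨x, 0, by rw [hx, zero_smul, add_zero]⟩)
      (fun h => by
        obtain ⟨x, rfl⟩ := mem_span_singleton.1 h
        have hx : x ≠ 0 := fun h => hk0 (by rw [h, zero_smul])
        have := (S.smul_mem_iff hx).1 hk
        exact hA' 0 (by rwa [zero_smul, sub_zero]))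
    exact ⟨e, φ, a2, a1, f0, a3, e1, ⟨_, a4⟩, Or.inr ⟨rk φ k hk a5, fun μ => ⟨N e, a1, hA' μ⟩⟩⟩
  obtain ⟨a, b, hab⟩ := hA
  set T := (K ∙ (e + N e)).comap (N - (a - b) • LinearMap.id) with hT
  have hTm : ∀ w, w ∈ T ↔ N w - (a - b) • w ∈ K ∙ (e + N e) := fun w => Iff.rfl
  have hinj : Function.Injective (1 + N : V →ₗ[K] V) := by
    have := (LinearMap.isUnit_iff_isUnit_det (1 + N : V →ₗ[K] V)).2 (by rw [hd]; exact isUnit_one)
    exact LinearMap.ker_eq_bot.1 ((LinearMap.isUnit_iff_ker_eq_bot _).1 this)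
  have heT : e ∉ T := fun h => by
    have h1 : -(a - b) = 1 := ge (by rw [hTm] at h; convert h using 1; module)
    have : (1 + N : V →ₗ[K] V) (N e) = (1 + N : V →ₗ[K] V) (b • e) := by
      simp only [LinearMap.add_apply, Module.End.one_apply, map_smul, hab]
      have : a = b - 1 := by linear_combination -h1
      rw [this]
      module
    exact e3 (mem_span_singleton.2 ⟨b, (hinj this).symm⟩)
  have ns : ∀ φ : Dual K V, φ e = 1 → φ (N e) = 0 →
      (finrank K T + 2 ≤ finrank K V ∨ ∃ t ∈ T, φ t ≠ 0) →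
      ∀ μ : K, ∃ w, φ w = 0 ∧ N w - μ • w ∉ K ∙ (e + N e) := fun φ h1 h2 h μ => by
    by_cases hμ : μ = a - b
    · by_contra hn
      push Not at hn
      have hle : LinearMap.ker φ ≤ T := fun w hw => (hTm w).2 (hμ ▸ hn w hw)
      have hk := finrank_ker_dual h1
      rcases h with h | ⟨t, ht, ht0⟩
      · have := Submodule.finrank_mono hle
        omega
      · refine heT ((T.smul_mem_iff ht0).1 ?_)
        have : t - φ t • e ∈ T := hle (by simp [h1])
        simpa using T.sub_mem ht this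
    · refine ⟨N e, h2, fun h => hμ ?_⟩
      have : b = a - μ := ge (by convert h using 1; rw [hab]; module)
      linear_combination this
  obtain ⟨t, ht, ht'⟩ : ∃ t, t ∉ K ∙ N e ∧ (T ≤ K ∙ N e ∨ t ∈ T) := by
    by_cases h : T ≤ K ∙ N e
    · exact ⟨e, he, Or.inl h⟩
    · obtain ⟨t, h1, h2⟩ := Set.not_subset.1 h
      exact ⟨t, h2, Or.inr h1⟩
  have ns' : ∀ φ : Dual K V, φ e = 1 → φ (N e) = 0 → φ t ≠ 0 →
      ∀ μ : K, ∃ w, φ w = 0 ∧ N w - μ • w ∉ K ∙ (e + N e) := fun φ h1 h2 h =>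
    ns φ h1 h2 (ht'.imp (fun h => by
      have := (Submodule.finrank_mono h).trans (finrank_span_le_one _)
      omega) fun h' => ⟨t, h', h⟩)
  by_cases hμ : a = b
  · have hST : T = S := by rw [hT, hμ, sub_self, zero_smul, sub_zero]
    obtain ⟨φ, a1, a2, a3, a4, a5⟩ := avoid_dual hK (N e) he hc' hu ht
    refine ⟨e, φ, a2, a1, f0, a3, e1, ⟨_, a4⟩, Or.inr ⟨?_, ns' φ a2 a1 a5⟩⟩
    rw [hST] at ht'
    rcases ht' with h | h
    · have h4 : finrank K V ≠ 3 := fun h3 => by
        rcases e4 with hi | ⟨-, h2⟩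
        · exact three h3 hd hi e3 e0 (a := a) (by rw [hab, hμ]; module)
        · exact h2 (le_trans (fun x hx => by
            rw [hS, mem_comap, LinearMap.mem_ker.1 hx]; exact zero_mem _) h)
      have := (Submodule.finrank_mono (inf_le_right.trans h : LinearMap.ker φ ⊓ S ≤ _)).trans
        (finrank_span_le_one _)
      change finrank K ↥(LinearMap.ker φ ⊓ S) + 3 ≤ _
      omega
    · exact rk φ t h a5
  by_cases hb : b = 0
  · obtain ⟨φ, a1, a2, a3, a4, a5⟩ := avoid_dual hK (N e) he hc' hu ht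
    refine ⟨e, φ, a2, a1, f0, a3, e1, ⟨_, a4⟩, Or.inr ⟨rk φ (N e - a • e) ?_ ?_, ns' φ a2 a1 a5⟩⟩
    · rw [hS, mem_comap, map_sub, map_smul, hab, hb, zero_smul, add_zero, sub_self]
      exact zero_mem _
    · simpa [a1, a2, ← hb] using hμ
  · obtain ⟨k, hk, hk0⟩ := (Submodule.ne_bot_iff _).1 hSd.2
    obtain ⟨φ, a1, a2, a3, a4, a5⟩ := avoid_dual hK (N e) he hc' (b := k) (fun h => by
      obtain ⟨x, rfl⟩ := mem_span_singleton.1 h
      have hx : x ≠ 0 := fun h => hk0 (by rw [h, zero_smul])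
      have := (S.smul_mem_iff hx).1 hk
      rw [hS, mem_comap, hab, add_comm (a • N e)] at this
      exact hμ (ge this).symm) ht
    exact ⟨e, φ, a2, a1, f0, a3, e1, ⟨N e, by simpa [hab, a1, a2] using hb⟩,
      Or.inr ⟨rk φ k hk a4, ns' φ a2 a1 a5⟩⟩

end Cfsg.Agent.Cl.Lev
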