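import Mathlib
import Cfsg.Agent.Cl.MaxSpC1

/-!
# Maximality of `GL_m(q).2` in `Sp_{2m}(q)`, `q` odd, `m ≥ 3`

Also the sets `ZS hA M v = {u ⟂ v | E_{u,cv} ∈ M for all c}`.
-/

set_option autoImplicit false
set_option linter.unusedSectionVars false
set_option linter.unusedVariables false

namespace Cfsg.Agent.Cl.MaxSp

open Module Matrix

section Z

variable {F : Type*} [Field F] {V : Type*} [AddCommGroup V] [Module F V]
  {B : LinearMap.BilinForm F V}

/-- The vectors `u ⟂ v` such that `M` contains all `E_{u,cv}`. -/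
def ZS (hA : B.IsAlt) (M : Subgroup (SpG B)) (v : V) : Set V :=
  {u | B u v = 0 ∧ ∀ c : F, spE hA u (c • v) ∈ M}

variable {hA : B.IsAlt} {M : Subgroup (SpG B)}

theorem ZS_symm {u v : V} (h : u ∈ ZS hA M v) : v ∈ ZS hA M u :=
  ⟨alt_zero hA h.1, fun c => by
    rw [← spE_smul hA (alt_zero hA h.1), spE_comm hA (by simp [alt_zero hA h.1])]; exact h.2 c⟩

theorem ZS_map {g : SpG B} (hg : g ∈ M) {u v : V} (h : u ∈ ZS hA M v) :
    g.1 u ∈ ZS hA M (g.1 v) :=
  ⟨by rw [spG_form]; exact h.1, fun c => by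
    rw [← map_smul, ← spE_conj]; exact M.mul_mem (M.mul_mem hg (h.2 c)) (M.inv_mem hg)⟩

theorem ZS_smul {u v : V} (h : u ∈ ZS hA M v) (a : F) : a • u ∈ ZS hA M v :=
  ⟨by simp [h.1], fun c => by
    rw [spE_smul hA (by simp [h.1]), smul_smul]; exact h.2 _⟩

theorem ZS_smul_right {u v : V} (h : u ∈ ZS hA M v) (a : F) : u ∈ ZS hA M (a • v) :=
  ZS_symm (ZS_smul (ZS_symm h) a)

theorem ZS_zero (v : V) : (0 : V) ∈ ZS hA M v := ⟨by simp, fun c => by simpa using M.one_mem⟩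

theorem XS_of_ZS (h2 : (2 : F) ≠ 0) {u u' v : V} (h : u ∈ ZS hA M v) (h' : u' ∈ ZS hA M v)
    (hne : B u' u ≠ 0) : v ∈ XS hA M := fun c => by
  have h1 := ZS_smul h (c / (2 * B u' u))
  have := spT_mem_of_spE hA h1.1 h'.1 (by simpa using h1.2 1) (by simpa using h'.2 1)
  rw [map_smul, smul_eq_mul] at this
  convert this using 2
  field_simp

theorem XS_of_ZS_self (h2 : (2 : F) ≠ 0) {v : V} (h : v ∈ ZS hA M v) : v ∈ XS hA M := fun c => by
  have := h.2 (c / 2)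
  rw [spE_self] at this
  convert this using 2
  field_simp

theorem ZS_add {u u' v : V} (h : u ∈ ZS hA M v) (h' : u' ∈ ZS hA M v) (h0 : B u' u = 0) :
    u + u' ∈ ZS hA M v :=
  ⟨by simp [h.1, h'.1], fun c => by
    have := spE_mul hA (u := u) (u' := u') (v := c • v) (by simp [h.1]) (by simp [h'.1])
    rw [h0, spT_zero, mul_one] at this
    rw [← this]; exact M.mul_mem (h.2 c) (h'.2 c)⟩

theorem ZS_perp (h2 : (2 : F) ≠ 0) {u u' v : V} (hv : v ∉ XS hA M) (h : u ∈ ZS hA M v)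
    (h' : u' ∈ ZS hA M v) : B u' u = 0 := by
  by_contra hne
  exact hv (XS_of_ZS h2 h h' hne)

/-- `ZS hA M v` as a subspace when `v ∉ X`. -/
def ZSub (h2 : (2 : F) ≠ 0) {v : V} (hv : v ∉ XS hA M) : Submodule F V where
  carrier := ZS hA M v
  zero_mem' := ZS_zero v
  smul_mem' a _ h := ZS_smul h a
  add_mem' h h' := ZS_add h h' (ZS_perp h2 hv h h')

theorem mem_ZSub (h2 : (2 : F) ≠ 0) {v : V} (hv : v ∉ XS hA M) {u : V} :
    u ∈ ZSub h2 hv ↔ u ∈ ZS hA M v := Iff.rfl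

theorem exists_perp_two [FiniteDimensional F V] {W : Submodule F V} (h3 : 3 ≤ finrank F W)
    (x y : V) : ∃ a ∈ W, a ≠ 0 ∧ B a x = 0 ∧ B a y = 0 := by
  let l : W →ₗ[F] F × F := ((B.flip x).prod (B.flip y)).comp W.subtype
  have h1 := l.finrank_range_add_finrank_ker
  have h2 : finrank F (LinearMap.range l) ≤ 2 := (Submodule.finrank_le _).trans (by simp)
  have h4 : LinearMap.ker l ≠ ⊥ := fun h => by rw [h, finrank_bot] at h1; omega
  obtain ⟨a, ha, ha0⟩ := Submodule.exists_mem_ne_zero_of_ne_bot h4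
  have := Prod.ext_iff.1 (LinearMap.mem_ker.1 ha)
  exact ⟨a, a.2, fun h => ha0 (Subtype.ext h), this.1, this.2⟩

theorem neg_one_ne (h2 : (2 : F) ≠ 0) : ∃ a : F, a ≠ 0 ∧ a ≠ 1 :=
  ⟨-1, by simp, fun h => h2 (by linear_combination -h)⟩

end Z

section GLm

variable {F : Type*} [Field F] {V : Type*} [AddCommGroup V] [Module F V] [FiniteDimensional F V]
  {B : LinearMap.BilinForm F V}

/-- Two complementary totally isotropic subspaces of dimension at least three. -/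
structure LagPair (B : LinearMap.BilinForm F V) (U U' : Submodule F V) : Prop where
  ti : ∀ u ∈ U, ∀ v ∈ U, B u v = 0
  ti' : ∀ u ∈ U', ∀ v ∈ U', B u v = 0
  compl : IsCompl U U'
  dim : 3 ≤ finrank F U
  dim' : 3 ≤ finrank F U'

/-- `g` maps each of `U`, `U'` into one of them. -/
def PairStab (U U' : Submodule F V) (g : SpG B) : Prop :=
  ((∀ u ∈ U, g.1 u ∈ U) ∨ ∀ u ∈ U, g.1 u ∈ U') ∧ ((∀ u ∈ U', g.1 u ∈ U) ∨ ∀ u ∈ U', g.1 u ∈ U')

theorem PairStab.symm {U U' : Submodule F V} {g : SpG B} (h : PairStab U U' g) :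
    PairStab U' U g := ⟨h.2.symm, h.1.symm⟩

namespace LagPair

variable {U U' : Submodule F V} {M : Subgroup (SpG B)}

theorem symm (h : LagPair B U U') : LagPair B U' U := ⟨h.ti', h.ti, h.compl.symm, h.dim', h.dim⟩

theorem exists_add (h : LagPair B U U') (x : V) : ∃ u ∈ U, ∃ v ∈ U', u + v = x :=
  Submodule.mem_sup.1 (by rw [h.compl.sup_eq_top]; trivial)

theorem eq_zero (h : LagPair B U U') {x : V} (hx : x ∈ U) (hx' : x ∈ U') : x = 0 :=
  Submodule.disjoint_def.1 h.compl.disjoint x hx hx'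

theorem exists_sep (h : LagPair B U U') (hB : B.Nondegenerate) {a y : V} (ha : a ∈ U) (hy : y ∈ U)
    (hya : y ∉ Submodule.span F {a}) : ∃ ψ ∈ U', B a ψ = 0 ∧ B y ψ ≠ 0 := by
  obtain ⟨z, h1, h2⟩ := exists_perp_ne hB hya
  obtain ⟨u, hu, v, hv, rfl⟩ := h.exists_add z
  have := h1 a (Submodule.mem_span_singleton_self a)
  exact ⟨v, hv, by simpa [h.ti a ha u hu] using this, by simpa [h.ti y hy u hu] using h2⟩

theorem exists_ne (h : LagPair B U U') (hB : B.Nondegenerate) {y : V} (hy : y ∈ U) (hy0 : y ≠ 0) :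
    ∃ ψ ∈ U', B y ψ ≠ 0 := by
  obtain ⟨ψ, h1, -, h2⟩ := h.exists_sep hB U.zero_mem hy (by simpa using hy0)
  exact ⟨ψ, h1, h2⟩

theorem mem_of_perp (h : LagPair B U U') (hB : B.Nondegenerate) (hA : B.IsAlt) {x : V}
    (hx : ∀ u ∈ U, B u x = 0) : x ∈ U := by
  obtain ⟨u, hu, v, hv, rfl⟩ := h.exists_add x
  by_cases hv0 : v = 0
  · simpa [hv0] using hu
  · obtain ⟨a, ha, hne⟩ := h.symm.exists_ne hB hv hv0
    have := hx a ha
    rw [map_add, h.ti a ha u hu, zero_add] at this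
    exact absurd (alt_zero hA this) hne

theorem mem_ZS (h : LagPair B U U') (hA : B.IsAlt) (hM : ∀ g, PairStab U U' g → g ∈ M) {a ψ : V}
    (ha : a ∈ U) (hψ : ψ ∈ U') (h0 : B ψ a = 0) : ψ ∈ ZS hA M a :=
  ⟨h0, fun c => hM _ ⟨Or.inl fun u hu => by
    rw [spE_apply hA (by simp [h0])]
    simpa [h.ti u hu a ha] using U.add_mem hu (U.smul_mem _ (U.smul_mem c ha)),
    Or.inr fun u hu => by
    rw [spE_apply hA (by simp [h0])]
    simpa [h.ti' u hu ψ hψ] using U'.add_mem hu (U'.smul_mem _ hψ)⟩⟩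

theorem ZS_le (h : LagPair B U U') (hB : B.Nondegenerate) (hA : B.IsAlt) (h2 : (2 : F) ≠ 0)
    (hM : ∀ g, PairStab U U' g → g ∈ M) {a y : V} (ha : a ∈ U) (haX : a ∉ XS hA M)
    (hy : y ∈ ZS hA M a) : y ∈ U' := by
  obtain ⟨u, hu, v, hv, rfl⟩ := h.exists_add y
  have h1 : v ∈ ZSub h2 haX := h.mem_ZS hA hM ha hv (by simpa [h.ti u hu a ha] using hy.1)
  have h3 : u ∈ ZSub h2 haX := by simpa using (ZSub h2 haX).sub_mem hy h1
  by_cases hua : u ∈ Submodule.span F {a}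
  · obtain ⟨c, rfl⟩ := Submodule.mem_span_singleton.1 hua
    by_cases hc : c = 0
    · simpa [hc] using hv
    · exact absurd (XS_of_ZS_self h2 (((ZSub h2 haX).smul_mem_iff hc).1 h3)) haX
  · obtain ⟨ψ, hψ, e1, e2⟩ := h.exists_sep hB ha hu hua
    exact absurd (ZS_perp h2 haX (h.mem_ZS hA hM ha hψ (alt_zero hA e1)) h3) e2

theorem mem_or_mem (h : LagPair B U U') (hB : B.Nondegenerate) (hA : B.IsAlt) (h2 : (2 : F) ≠ 0)
    (hM : ∀ g, PairStab U U' g → g ∈ M) (hX : ∀ x ∈ XS hA M, x = 0) {v y y' : V}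
    (hy : y ∈ ZS hA M v) (hy' : y' ∈ ZS hA M v) (hy0 : y ≠ 0) (hyy : y' ∉ Submodule.span F {y}) :
    v ∈ U ∨ v ∈ U' := by
  by_contra! hv
  have hM' : ∀ g, PairStab U' U g → g ∈ M := fun g hg => hM g hg.symm
  have hvX : v ∉ XS hA M := fun hv' => hv.1 (by rw [hX v hv']; exact U.zero_mem)
  have e1 : ∀ z ∈ ZSub h2 hvX, z ∈ U → z = 0 := fun z hz hzU => by
    by_contra h0
    exact hv.2 (h.ZS_le hB hA h2 hM hzU (fun h' => h0 (hX z h')) (ZS_symm hz))
  have e2 : ∀ z ∈ ZSub h2 hvX, z ∈ U' → z = 0 := fun z hz hzU => by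
    by_contra h0
    exact hv.1 (h.symm.ZS_le hB hA h2 hM' hzU (fun h' => h0 (hX z h')) (ZS_symm hz))
  obtain ⟨v₁, hv₁, v₂, hv₂, hvv⟩ := h.exists_add v
  obtain ⟨u₁, hu₁, u₂, hu₂, hu, hne⟩ : ∃ u₁ ∈ U, ∃ u₂ ∈ U', u₁ + u₂ ∈ ZSub h2 hvX ∧
      u₁ ∉ Submodule.span F {v₁} := by
    by_contra! hc
    obtain ⟨a, ha, b, hb, rfl⟩ := h.exists_add y
    obtain ⟨a', ha', b', hb', rfl⟩ := h.exists_add y'
    obtain ⟨c, rfl⟩ := Submodule.mem_span_singleton.1 (hc a ha b hb hy)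
    obtain ⟨c', rfl⟩ := Submodule.mem_span_singleton.1 (hc a' ha' b' hb' hy')
    by_cases hc0 : c = 0
    · exact hy0 (e2 _ hy (by simpa [hc0] using hb))
    · have := e2 _ ((ZSub h2 hvX).sub_mem hy' ((ZSub h2 hvX).smul_mem (c' / c) hy)) (by
        convert U'.sub_mem hb' (U'.smul_mem (c' / c) hb) using 1
        match_scalars <;> field_simp <;> ring)
      exact hyy (Submodule.mem_span_singleton.2 ⟨c' / c, (sub_eq_zero.1 this).symm⟩)
  obtain ⟨ψ, hψ, p1, p2⟩ := h.exists_sep hB hv₁ hu₁ hne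
  obtain ⟨a, ha, ha0, a1, a2⟩ := exists_perp_two (B := B) h.dim v₂ ψ
  have hE : spE hA ψ a ∈ M := by simpa using (h.mem_ZS hA hM ha hψ (alt_zero hA a2)).2 1
  have h3 := ZS_map hE hu
  have h4 : (spE hA ψ a).1 v = v := by
    rw [spE_apply hA (alt_zero hA a2), ← hvv]
    simp [p1, h.ti' v₂ hv₂ ψ hψ, h.ti v₁ hv₁ a ha, alt_zero hA a1]
  rw [h4, spE_apply hA (alt_zero hA a2)] at h3
  have h5 := ZS_perp h2 hvX h3 hu
  have h6 : B (u₁ + u₂) ψ ≠ 0 := by simpa [h.ti' u₂ hu₂ ψ hψ] using p2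
  set u := u₁ + u₂
  have h7 : B u a = 0 := by
    simp only [map_add, map_smul, hA.self_eq_zero, smul_eq_mul] at h5
    have : 2 * B u ψ * B u a = 0 := by linear_combination h5
    simpa [h2, h6] using this
  have h8 := (ZSub h2 hvX).sub_mem h3 hu
  rw [h7, zero_smul, add_zero, add_sub_cancel_left, Submodule.smul_mem_iff _ h6] at h8
  exact ha0 (e1 a h8 ha)

theorem map_mem_or (h : LagPair B U U') (hB : B.Nondegenerate) (hA : B.IsAlt) (h2 : (2 : F) ≠ 0)
    (hM : ∀ g, PairStab U U' g → g ∈ M) (hX : ∀ x ∈ XS hA M, x = 0) {g : SpG B} (hg : g ∈ M) :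
    (∀ u ∈ U, g.1 u ∈ U) ∨ ∀ u ∈ U, g.1 u ∈ U' := by
  have : ∀ x ∈ U.map g.1.toLinearMap, x ∈ U ∨ x ∈ U' := by
    rintro _ ⟨a, ha, rfl⟩
    obtain ⟨y, hy, hy0, y1, -⟩ := exists_perp_two (B := B) h.dim' a a
    obtain ⟨b, hb, hyb⟩ := h.symm.exists_ne hB hy hy0
    obtain ⟨y', hy', hy0', y2, y3⟩ := exists_perp_two (B := B) h.dim' a b
    refine h.mem_or_mem hB hA h2 hM hX (ZS_map hg (h.mem_ZS hA hM ha hy y1))
      (ZS_map hg (h.mem_ZS hA hM ha hy' y2)) (sp_apply_ne_zero g hy0) fun hc => ?_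
    obtain ⟨c, hc⟩ := Submodule.mem_span_singleton.1 hc
    rw [← map_smul] at hc
    have h3 := g.1.injective hc
    subst h3
    have : c = 0 := by simpa [hyb] using y3
    simp [this] at hy0'
  rcases le_or_le this with h1 | h1
  · exact Or.inl fun u hu => h1 ⟨u, hu, rfl⟩
  · exact Or.inr fun u hu => h1 ⟨u, hu, rfl⟩

theorem add_mem_XS (h : LagPair B U U') (hB : B.Nondegenerate) (hA : B.IsAlt)
    (hM : ∀ g, PairStab U U' g → g ∈ M) {u φ a : V} (hu : u ∈ U) (hφ : φ ∈ U') (ha : a ∈ U)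
    (hx : u + φ ∈ XS hA M) (haφ : B a φ = 0) (hua : u ∉ Submodule.span F {a}) (t : F) :
    u + φ + t • a ∈ XS hA M := by
  obtain ⟨ψ, hψ, p1, p2⟩ := h.exists_sep hB ha hu hua
  have h3 := XS_map hA ((h.mem_ZS hA hM ha hψ (alt_zero hA p1)).2 (t / B u ψ)) hx
  rw [spE_apply hA (by simp [alt_zero hA p1])] at h3
  convert h3 using 1
  simp only [map_add, map_smul, LinearMap.add_apply, h.ti' φ hφ ψ hψ, h.ti u hu a ha,
    alt_zero hA haφ]
  match_scalars <;> field_simp <;> ring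

theorem exists_XS_left (h : LagPair B U U') (hB : B.Nondegenerate) (hA : B.IsAlt) (h2 : (2 : F) ≠ 0)
    (hM : ∀ g, PairStab U U' g → g ∈ M) {u φ : V} (hu : u ∈ U) (hφ : φ ∈ U') (hu0 : u ≠ 0)
    (hφ0 : φ ≠ 0) (hx : u + φ ∈ XS hA M) : ∃ a ∈ U, a ≠ 0 ∧ a ∈ XS hA M := by
  obtain ⟨ψ, hψ, huψ⟩ := h.exists_ne hB hu hu0
  obtain ⟨a, ha, ha0, a1, a2⟩ := exists_perp_two (B := B) h.dim φ ψ
  have e1 : u ∉ Submodule.span F {a} := fun hc => by
    obtain ⟨c, rfl⟩ := Submodule.mem_span_singleton.1 hc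
    simp [a2] at huψ
  have e2 : a ∉ Submodule.span F {u} := fun hc => by
    obtain ⟨c, rfl⟩ := Submodule.mem_span_singleton.1 hc
    have : c = 0 := by simpa [huψ] using a2
    simp [this] at ha0
  obtain ⟨b, hb, b1, b2⟩ := h.exists_sep hB hu ha e2
  have e3 : φ ∉ Submodule.span F {b} := fun hc => by
    obtain ⟨c, rfl⟩ := Submodule.mem_span_singleton.1 hc
    have : c = 0 := by simpa [b2] using a1
    simp [this] at hφ0
  have x1 := h.add_mem_XS hB hA hM hu hφ ha hx a1 e1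
  have x2 := h.symm.add_mem_XS hB hA (fun g hg => hM g hg.symm) hφ hu hb (add_comm u φ ▸ hx)
    (alt_zero hA b1) e3 1
  have k : ∀ t : F, B (u + φ + t • a) (φ + u + (1 : F) • b) = t * B a b := fun t => by
    simp only [map_add, map_smul, LinearMap.add_apply, LinearMap.smul_apply, hA.self_eq_zero, b1,
      a1, h.ti a ha u hu, h.ti' φ hφ b hb, smul_eq_mul]
    rw [← hA.neg_eq u φ]; ring
  obtain ⟨W, w1, w2, w3, w4⟩ := (tClosed_XS hA M).exists_comp_pair hA (neg_one_ne h2) (x1 1) x2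
    (by rw [k]; simpa using b2)
  have w5 : u + φ + (-1 : F) • a ∈ W := (w3 _ (x1 _)).resolve_right fun hc => by
    have := alt_zero hA (hc _ w2)
    rw [k] at this
    simp [b2] at this
  have w6 : a ∈ W := by
    have := W.smul_mem (2 : F)⁻¹ (W.sub_mem w1 w5)
    convert this using 1
    match_scalars <;> field_simp <;> ring
  refine ⟨a, ha, ha0, w4 a w6 fun hc => ?_⟩
  have := alt_zero hA (hc _ w2)
  simp [a1, h.ti a ha u hu, b2] at this

theorem le_XS (h : LagPair B U U') (hB : B.Nondegenerate) (hA : B.IsAlt)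
    (hM : ∀ g, PairStab U U' g → g ∈ M) {a : V} (ha : a ∈ U) (ha0 : a ≠ 0) (haX : a ∈ XS hA M) :
    ∀ u ∈ U, u ∈ XS hA M := fun u hu => by
  by_cases hu0 : u = 0
  · rw [hu0]; exact (tClosed_XS hA M).zero_mem
  have e : ∀ y ∈ U, y ≠ 0 → ∃ ψ ∈ U', B ψ y ≠ 0 := fun y hy hy0 => by
    obtain ⟨ψ, h1, h2⟩ := h.exists_ne hB hy hy0
    exact ⟨ψ, h1, alt_ne hA h2⟩
  obtain ⟨ψ, hψ, p1, p2⟩ := exists_two_ne (e a ha ha0) (e u hu hu0)
  replace p1 := alt_ne hA p1
  replace p2 := alt_ne hA p2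
  have hb : (B a ψ)⁻¹ • (u - a) ∈ U := U.smul_mem _ (U.sub_mem hu ha)
  obtain ⟨g, κ, hg⟩ := exists_spR hB hA ((B a ψ)⁻¹ • (u - a)) ψ (by
    simp only [map_smul, map_sub, LinearMap.smul_apply, LinearMap.sub_apply, smul_eq_mul]
    field_simp
    simpa [p1] using p2)
  have hgM : g ∈ M := hM g ⟨Or.inl fun x hx => by
    rw [hg, h.ti x hx _ hb]
    simpa using U.add_mem hx (U.smul_mem _ hb), Or.inr fun x hx => by
    rw [hg, h.ti' x hx _ hψ]
    simpa using U'.add_mem hx (U'.smul_mem _ hψ)⟩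
  have := XS_map hA hgM haX
  rw [hg, h.ti a ha _ hb, smul_inv_smul₀ p1] at this
  simpa using this

theorem exists_swap (h : LagPair B U U') (hB : B.Nondegenerate) (hA : B.IsAlt) :
    ∃ s : SpG B, (∀ u ∈ U, s.1 u ∈ U') ∧ ∀ u ∈ U', s.1 u ∈ U := by
  let b := Module.finBasis F U
  let e : Fin (finrank F U) → V := fun i => b i
  have he : LinearIndependent F e := b.linearIndependent.map' U.subtype U.ker_subtype
  have heU : ∀ i, e i ∈ U := fun i => (b i).2
  have : ∀ j, ∃ f ∈ U', ∀ i, B (e i) f = if i = j then 1 else 0 := fun j => by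
    obtain ⟨w, hw⟩ := (wittData_alt hA).exists_dual_vector hB.1 e he j
    obtain ⟨u, hu, v, hv, rfl⟩ := h.exists_add w
    exact ⟨v, hv, fun i => by simpa [h.ti _ (heU i) u hu] using hw i⟩
  choose f hf hef using this
  have hee : ∀ i j, B (e i) (e j) = 0 := fun i j => h.ti _ (heU i) _ (heU j)
  have hff : ∀ i j, B (f i) (f j) = 0 := fun i j => h.ti' _ (hf i) _ (hf j)
  have hfe : ∀ i j, B (f i) (-e j) = if i = j then 1 else 0 := fun i j => by
    rw [map_neg, hA.neg_eq, hef]; simp [eq_comm]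
  obtain ⟨g, g1, g2⟩ := witt_alt_family hB hA (Sum.elim e f) (Sum.elim f (-e))
    ((wittData_alt hA).linearIndependent_hyperbolic e f hee (fun i j => hef j i) hff)
    ((wittData_alt hA).linearIndependent_hyperbolic f (-e) hff hfe (fun i j => by simp [hee]))
    (by
      rintro (i | i) (j | j)
      · simp [hee, hff]
      · exact (hfe i j).trans (hef j i).symm
      · simp only [Sum.elim_inr, Sum.elim_inl, Pi.neg_apply, map_neg, LinearMap.neg_apply]
        rw [← hA.neg_eq (e j), hef, hef]; simp [eq_comm]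
      · simp [hee, hff])
  have key : ∀ {p : V → Prop}, (∀ i, p (e i)) → p 0 → (∀ x y, p x → p y → p (x + y)) →
      (∀ (c : F) x, p x → p (c • x)) → ∀ u ∈ U, p u := fun {p} h1 h0 ha hs u hu => by
    have : u ∈ Submodule.span F (Set.range e) := by
      have h3 := Submodule.mem_map_of_mem (f := U.subtype) (b.mem_span ⟨u, hu⟩)
      rw [Submodule.map_span, ← Set.range_comp] at h3
      exact h3
    exact Submodule.span_induction (p := fun x _ => p x) (by rintro _ ⟨i, rfl⟩; exact h1 i) h0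
      (fun x y _ _ => ha x y) (fun c x _ => hs c x) this
  refine ⟨⟨g, g1⟩, key (fun i => ?_) (by simp) (fun x y hx hy => ?_) fun c x hx => ?_,
    fun y hy => h.mem_of_perp hB hA
      (key (fun i => ?_) (by simp) (fun x y hx hy => by simp [hx, hy]) fun c x hx => by simp [hx])⟩
  · exact (g2 (Sum.inl i)).symm ▸ hf i
  · rw [map_add]; exact U'.add_mem hx hy
  · rw [map_smul]; exact U'.smul_mem c hx
  · have h3 : g (f i) = -e i := g2 (Sum.inr i)
    have h4 := g1 (f i) y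
    rw [h3, h.ti' _ (hf i) y hy] at h4
    simpa using h4

theorem top (h : LagPair B U U') (hB : B.Nondegenerate) (hA : B.IsAlt) (h2 : (2 : F) ≠ 0)
    (M : Subgroup (SpG B)) (hM : ∀ g, PairStab U U' g → g ∈ M) (g : SpG B) (hg : g ∈ M)
    (hgP : ¬ PairStab U U' g) : M = ⊤ := by
  have hM' : ∀ g, PairStab U' U g → g ∈ M := fun g hg => hM g hg.symm
  have hX := tClosed_XS hA M
  obtain ⟨s, s1, s2⟩ := h.exists_swap hB hA
  have hs : s ∈ M := hM s ⟨Or.inr s1, Or.inl s2⟩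
  obtain ⟨x, hx, hx0⟩ : ∃ x ∈ XS hA M, x ≠ 0 := by
    by_contra! hc
    exact hgP ⟨h.map_mem_or hB hA h2 hM hc hg, (h.symm.map_mem_or hB hA h2 hM' hc hg).symm⟩
  obtain ⟨a, ha, ha0, haX⟩ : ∃ a ∈ U, a ≠ 0 ∧ a ∈ XS hA M := by
    obtain ⟨u, hu, φ, hφ, rfl⟩ := h.exists_add x
    by_cases hφ0 : φ = 0
    · exact ⟨u, hu, by simpa [hφ0] using hx0, by simpa [hφ0] using hx⟩
    by_cases hu0 : u = 0
    · exact ⟨s.1 φ, s2 φ hφ, sp_apply_ne_zero s hφ0, XS_map hA hs (by simpa [hu0] using hx)⟩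
    exact h.exists_XS_left hB hA h2 hM hu hφ hu0 hφ0 hx
  have h1 := h.le_XS hB hA hM ha ha0 haX
  have h3 := h.symm.le_XS hB hA hM' (s1 a ha) (sp_apply_ne_zero s ha0) (XS_map hA hs haX)
  obtain ⟨ψ, hψ, haψ⟩ := h.exists_ne hB ha ha0
  obtain ⟨W, w1, w2, w3, w4⟩ := hX.exists_comp_pair hA (neg_one_ne h2) haX (h3 ψ hψ) haψ
  refine eq_top_of_XS hB hA (hX.of_top hB w4 ?_)
  rw [eq_top_iff, ← h.compl.sup_eq_top]
  refine sup_le ((le_or_le fun x hx => w3 x (h1 x hx)).resolve_right fun hc => ?_)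
    ((le_or_le fun x hx => w3 x (h3 x hx)).resolve_right fun hc => haψ (hc hψ a w1))
  exact haψ (alt_zero hA (hc ha ψ w2))

theorem exists_not (h : LagPair B U U') (hB : B.Nondegenerate) (hA : B.IsAlt) :
    ∃ g : SpG B, ¬ PairStab U U' g := by
  obtain ⟨a, ha, ha0, -⟩ := exists_perp_two (B := B) h.dim 0 0
  obtain ⟨ψ, hψ, haψ⟩ := h.exists_ne hB ha ha0
  refine ⟨spT hA ψ 1, fun hc => ?_⟩
  rcases hc.1 with h1 | h1
  · have h2 := U.sub_mem (h1 a ha) ha
    rw [spT_apply, add_sub_cancel_left, one_mul, U.smul_mem_iff haψ] at h2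
    exact haψ (h.ti a ha ψ h2)
  · have h2 := h1 a ha
    rw [spT_apply, U'.add_mem_iff_left (U'.smul_mem _ hψ)] at h2
    exact haψ (h.ti' a h2 ψ hψ)

end LagPair

end GLm

section Mat

variable {F : Type*} [Field F] {m : ℕ}

open Cfsg.Geo

theorem two_ne_zero_of_odd [Fintype F] (h : Odd (Fintype.card F)) : (2 : F) ≠ 0 := fun h2 => by
  have : ringChar F = 2 := by
    have h3 := (ringChar.spec F 2).1 (by exact_mod_cast h2)
    rcases (Nat.dvd_prime Nat.prime_two).1 h3 with h4 | h4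
    · exact absurd h4 (CharP.ringChar_ne_one (R := F))
    · exact h4
  rw [FiniteField.even_card_iff_char_two] at this
  exact Nat.not_odd_iff.2 this h

theorem max_glm [Fintype F] (hm : 3 ≤ m) (hodd : Odd (Fintype.card F))
    (D : Fin 2 → Submodule F (Fin m ⊕ Fin m → F)) (hD : IsMDecomposition m D)
    (hts : ∀ i, IsTotallySingularFor (sympForm m F) (D i)) :
    IsMaximalIn (spGL m F) (decompositionStabilizer D ⊓ spGL m F) := by
  have hL : LagPair (spB m F) (D 0) (D 1) :=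
    ⟨fun u hu v hv => by rw [spB_apply]; exact hts 0 u hu v hv,
      fun u hu v hv => by rw [spB_apply]; exact hts 1 u hu v hv,
      ⟨hD.indep.pairwiseDisjoint (by simp), codisjoint_iff.2 (by
        rw [← hD.iSup_eq_top]
        exact le_antisymm (sup_le (le_iSup D 0) (le_iSup D 1))
          (iSup_le (Fin.forall_fin_two.2 ⟨le_sup_left, le_sup_right⟩)))⟩,
      by rw [hD.finrank_eq]; exact hm, by rw [hD.finrank_eq]; exact hm⟩
  refine isMaximalIn_sp _ (PairStab (D 0) (D 1)) (fun g => ⟨?_, fun h => ?_⟩)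
    (hL.exists_not spB_nondegenerate spB_isAlt)
    (hL.top spB_nondegenerate spB_isAlt (two_ne_zero_of_odd hodd))
  · rintro ⟨σ, hσ⟩
    have : ∀ i, ∃ j, ∀ w ∈ D i, g.1 w ∈ D j := fun i => ⟨σ i, fun w hw => by
      rw [← hσ, ← spι_mulVec]
      exact ⟨w, hw, rfl⟩⟩
    simpa only [Fin.forall_fin_two, Fin.exists_fin_two, PairStab] using this
  · refine Max.mem_decompositionStabilizer_of_maps hD ?_
    simpa only [spι_mulVec, Fin.forall_fin_two, Fin.exists_fin_two, PairStab] using h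

end Mat

end Cfsg.Agent.Cl.MaxSp
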