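import Mathlib
import Cfsg.Agent.Cl.MaxSpGL
import Cfsg.Agent.Cl.MaxAlg

/-!
# Maximality of `GU_m(q).2` in `Sp_{2m}(q)`, `q` odd, `m ≥ 3`
-/

set_option autoImplicit false
set_option linter.unusedSectionVars false
set_option linter.unusedVariables false

namespace Cfsg.Agent.Cl.MaxSp

open Module Matrix

section GUm

variable {F : Type*} [Field F] {V : Type*} [AddCommGroup V] [Module F V] [FiniteDimensional F V]
  {B : LinearMap.BilinForm F V}

theorem finrank_span_pair_le (u v : V) : finrank F (Submodule.span F {u, v}) ≤ 2 := by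
  classical
  refine (finrank_span_le_card _).trans ?_
  rw [Set.toFinset_insert, Set.toFinset_singleton]
  exact Finset.card_le_two

theorem exists_perp_four (h5 : 5 ≤ finrank F V) (x y z w : V) :
    ∃ a, a ≠ 0 ∧ B x a = 0 ∧ B y a = 0 ∧ B z a = 0 ∧ B w a = 0 := by
  let l : V →ₗ[F] (F × F) × (F × F) := ((B x).prod (B y)).prod ((B z).prod (B w))
  have h1 := l.finrank_range_add_finrank_ker
  have h2 : finrank F (LinearMap.range l) ≤ 4 := (Submodule.finrank_le _).trans (by simp)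
  have h4 : LinearMap.ker l ≠ ⊥ := fun h => by rw [h, finrank_bot] at h1; omega
  obtain ⟨a, ha, ha0⟩ := Submodule.exists_mem_ne_zero_of_ne_bot h4
  have := Prod.ext_iff.1 (LinearMap.mem_ker.1 ha)
  exact ⟨a, ha0, (Prod.ext_iff.1 this.1).1, (Prod.ext_iff.1 this.1).2, (Prod.ext_iff.1 this.2).1,
    (Prod.ext_iff.1 this.2).2⟩

/-- The pairs `(w, y)` such that `M` contains all `T_{y,c} T_{w,-δc}`. -/
def YS (hA : B.IsAlt) (M : Subgroup (SpG B)) (δ : F) (w : V) : Set V :=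
  {y | B y w = 0 ∧ ∀ c : F, spT hA y c * spT hA w (-(δ * c)) ∈ M}

theorem YS_map {hA : B.IsAlt} {M : Subgroup (SpG B)} {δ : F} {g : SpG B} (hg : g ∈ M) {w y : V}
    (h : y ∈ YS hA M δ w) : g.1 y ∈ YS hA M δ (g.1 w) :=
  ⟨by rw [spG_form]; exact h.1, fun c => by
    have := M.mul_mem (M.mul_mem hg (h.2 c)) (M.inv_mem hg)
    rw [← spT_conj, ← spT_conj]
    convert this using 1; group⟩

theorem spE_sub_add (hA : B.IsAlt) {y y' : V} (h0 : B y y' = 0) (c : F) :
    spE hA (y - y') (c • (y + y')) = spT hA y (2 * c) * spT hA y' (-(2 * c)) :=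
  spG_ext fun x => by
    have h1 := alt_zero hA h0
    rw [spE_apply hA (by simp [h0, h1, hA.self_eq_zero]), spG_mul_apply]
    simp only [spT_apply, map_add, map_sub, map_smul, LinearMap.add_apply, LinearMap.smul_apply,
      h1, smul_eq_mul]
    module

theorem ZS_of_YS {hA : B.IsAlt} {M : Subgroup (SpG B)} {δ : F} {w y y' : V}
    (h : y ∈ YS hA M δ w) (h' : y' ∈ YS hA M δ w) (h0 : B y y' = 0) : y - y' ∈ ZS hA M (y + y') :=
  ⟨by simp [h0, alt_zero hA h0, hA.self_eq_zero], fun c => by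
    have := M.mul_mem (h.2 (2 * c)) (M.inv_mem (h'.2 (2 * c)))
    rw [spE_sub_add hA h0, ← spT_inv]
    convert this using 1; group⟩

/-- A unitary structure on a symplectic space of odd characteristic. -/
structure UStr (B : LinearMap.BilinForm F V) (ω : V →ₗ[F] V) (δ : F) : Prop where
  nondeg : B.Nondegenerate
  alt : B.IsAlt
  adj : ∀ u v, B (ω u) v = -B u (ω v)
  sq : ∀ v, ω (ω v) = δ • v
  nsq : ∀ a : F, a ^ 2 ≠ δ
  two : (2 : F) ≠ 0
  dim : 5 ≤ finrank F V
  univ : ∀ c : F, ∃ a b : F, a ^ 2 - δ * b ^ 2 = c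

/-- `g` commutes or anticommutes with `ω`. -/
def UNorm (ω : V →ₗ[F] V) (g : SpG B) : Prop :=
  (∀ x, g.1 (ω x) = ω (g.1 x)) ∨ ∀ x, g.1 (ω x) = -ω (g.1 x)

namespace UStr

variable {ω : V →ₗ[F] V} {δ : F} {M : Subgroup (SpG B)}

theorem δ_ne (h : UStr B ω δ) : δ ≠ 0 := fun h0 => h.nsq 0 (by simp [h0])

theorem one_sub_ne (h : UStr B ω δ) : 1 - δ ≠ 0 := fun h0 => h.nsq 1 (by linear_combination h0)

theorem norm_ne (h : UStr B ω δ) {a b : F} (hab : a ≠ 0 ∨ b ≠ 0) : a ^ 2 - δ * b ^ 2 ≠ 0 := by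
  intro h0
  by_cases hb : b = 0
  · exact (hab.resolve_right (by simp [hb])) (by simpa [hb] using h0)
  · exact h.nsq (a / b) (by field_simp; linear_combination h0)

theorem symm (h : UStr B ω δ) (u v : V) : B u (ω v) = B v (ω u) := by
  rw [← h.alt.neg_eq, h.adj, neg_neg]

theorem ωω (h : UStr B ω δ) (u v : V) : B (ω u) (ω v) = -(δ * B u v) := by
  rw [h.adj, h.sq, map_smul, smul_eq_mul]

theorem ind (h : UStr B ω δ) {v : V} (hv : v ≠ 0) {a b : F} (h0 : a • v + b • ω v = 0) :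
    a = 0 ∧ b = 0 := by
  by_contra hc
  have h1 := congrArg ω h0
  rw [map_add, map_smul, map_smul, h.sq, map_zero] at h1
  have : (a ^ 2 - δ * b ^ 2) • v = 0 := by linear_combination (norm := module) a • h0 - b • h1
  exact h.norm_ne (by tauto) ((smul_eq_zero.1 this).resolve_right hv)

theorem ω_ne (h : UStr B ω δ) {v : V} (hv : v ≠ 0) : ω v ≠ 0 := fun h0 =>
  one_ne_zero (h.ind hv (a := 0) (b := 1) (by simp [h0])).2

theorem N_add (h : UStr B ω δ) (u v : V) :
    B (u + v) (ω (u + v)) = B u (ω u) + 2 * B u (ω v) + B v (ω v) := by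
  simp only [map_add, LinearMap.add_apply, h.symm v u]; ring

theorem N_K (h : UStr B ω δ) (v : V) (a b : F) :
    B (a • v + b • ω v) (ω (a • v + b • ω v)) = (a ^ 2 - δ * b ^ 2) * B v (ω v) := by
  simp only [map_add, map_smul, LinearMap.add_apply, LinearMap.smul_apply, h.sq, h.adj v v,
    h.alt.self_eq_zero, smul_eq_mul]
  ring

theorem exists_R (h : UStr B ω δ) (a : V) (α β : F)
    (hc : 2 * α + (α ^ 2 - δ * β ^ 2) * B a (ω a) = 0) :
    ∃ g : SpG B, (∀ x, g.1 (ω x) = ω (g.1 x)) ∧ ∀ x, g.1 x =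
      x + (α * B x (ω a) - β * δ * B x a) • a + (β * B x (ω a) - α * B x a) • ω a := by
  let f : V →ₗ[F] V := LinearMap.id + (α • B.flip (ω a) - (β * δ) • B.flip a).smulRight a +
    (β • B.flip (ω a) - α • B.flip a).smulRight (ω a)
  have hf : ∀ x, f x =
      x + (α * B x (ω a) - β * δ * B x a) • a + (β * B x (ω a) - α * B x a) • ω a := fun x => rfl
  refine ⟨spOfLin h.nondeg f fun x y => ?_, fun x => ?_, hf⟩
  · simp only [hf, map_add, map_smul, LinearMap.add_apply, LinearMap.smul_apply, smul_eq_mul,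
      h.alt.self_eq_zero]
    rw [← h.alt.neg_eq y a, ← h.alt.neg_eq y (ω a), h.adj a a]
    linear_combination -(B x (ω a) * B y a - B x a * B y (ω a)) * hc
  · simp only [spOfLin_apply, hf, map_add, map_smul, h.ωω, h.adj x a, h.sq]
    module

theorem move (h : UStr B ω δ) {v v' : V} (hN : B v (ω v) = B v' (ω v')) (hb : B v v' ≠ 0) :
    ∃ g : SpG B, (∀ x, g.1 (ω x) = ω (g.1 x)) ∧ g.1 v = v' := by
  have hb' : B v (v' - v) ≠ 0 := by simpa [h.alt.self_eq_zero] using hb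
  have hD := h.norm_ne (a := B v (ω (v' - v))) (Or.inr hb')
  have e : B (v' - v) (ω (v' - v)) = -(2 * B v (ω (v' - v))) := by
    simp only [map_sub, LinearMap.sub_apply, h.symm v' v]
    linear_combination -hN
  set s := B v (ω (v' - v))
  set b := B v (v' - v)
  obtain ⟨g, g1, g2⟩ := h.exists_R (v' - v) (s / (s ^ 2 - δ * b ^ 2)) (b / (s ^ 2 - δ * b ^ 2))
    (by rw [e]; field_simp; ring)
  refine ⟨g, g1, ?_⟩
  rw [g2]
  have e1 : s / (s ^ 2 - δ * b ^ 2) * s - b / (s ^ 2 - δ * b ^ 2) * δ * b = 1 := by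
    field_simp
  have e2 : b / (s ^ 2 - δ * b ^ 2) * s - s / (s ^ 2 - δ * b ^ 2) * b = 0 := by ring
  rw [e1, e2]; simp

theorem exists_noniso (h : UStr B ω δ) (w : V) :
    ∃ n, B w n = 0 ∧ B (ω w) n = 0 ∧ B n (ω n) ≠ 0 := by
  by_contra! hc
  let P := B.orthogonal (Submodule.span F {w, ω w})
  have hP : ∀ x, x ∈ P ↔ B w x = 0 ∧ B (ω w) x = 0 := fun x =>
    ⟨fun hx => ⟨hx w (Submodule.subset_span (by simp)), hx _ (Submodule.subset_span (by simp))⟩,
      fun hx y hy => by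
        obtain ⟨a, b, rfl⟩ := Submodule.mem_span_pair.1 hy
        change B _ x = 0
        simp [hx.1, hx.2]⟩
  have hω : ∀ x ∈ P, ω x ∈ P := fun x hx => by
    rw [hP] at hx ⊢
    exact ⟨by rw [← neg_eq_zero, ← h.adj, hx.2], by rw [h.ωω, hx.1]; simp⟩
  have h1 : ∀ x ∈ P, ∀ y ∈ P, B x (ω y) = 0 := fun x hx y hy => by
    have e := h.N_add x y
    rw [hc _ ((hP _).1 hx).1 ((hP _).1 hx).2, hc _ ((hP _).1 hy).1 ((hP _).1 hy).2,
      hc _ ((hP _).1 (P.add_mem hx hy)).1 ((hP _).1 (P.add_mem hx hy)).2] at e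
    simpa [h.two] using e.symm
  have h2 : P ≤ Submodule.span F {w, ω w} := fun y hy => by
    rw [← orth_orth h.nondeg h.alt (Submodule.span F {w, ω w})]
    intro x hx
    have := h1 x hx _ (hω y hy)
    rw [h.sq, map_smul] at this
    exact (smul_eq_zero.1 this).resolve_left h.δ_ne
  have h3 := Submodule.finrank_mono h2
  have h4 := finrank_span_pair_le (F := F) w (ω w)
  have h5 := LinearMap.BilinForm.finrank_orthogonal h.nondeg (Submodule.span F {w, ω w})
  have h6 := h.dim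
  simp only [P] at h3
  omega

theorem exists_iso (h : UStr B ω δ) {a : V} (ha : a ≠ 0) : ∃ v, B v (ω v) = 0 ∧ B v a ≠ 0 := by
  by_cases hN : B a (ω a) = 0
  · obtain ⟨x, h1, h2⟩ := sp_exists_ne_zero_two h.nondeg ha (h.ω_ne ha)
    refine ⟨x + (-B x (ω x) / (2 * B x (ω a))) • a, ?_, by simpa [h.alt.self_eq_zero] using h1⟩
    rw [h.N_add]
    simp only [map_smul, LinearMap.smul_apply, hN, smul_eq_mul]
    have := h.two
    field_simp; ring
  · obtain ⟨n, n1, n2, n3⟩ := h.exists_noniso a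
    obtain ⟨s, t, hst⟩ := h.univ (δ * B a (ω a) / B n (ω n))
    have n4 : B a (ω n) = 0 := by rw [← neg_eq_zero, ← h.adj, n2]
    refine ⟨ω a + (s • n + t • ω n), ?_, ?_⟩
    · rw [h.N_add, h.N_K, hst, h.ωω, h.ωω]
      simp only [map_add, map_smul, n1, n4]
      field_simp; simp
    · simpa [alt_zero h.alt n1, alt_zero h.alt n4, h.adj a a] using hN

theorem exists_iso_notMem (h : UStr B ω δ) {A : Submodule F V} (hA : A ≠ ⊤) :
    ∃ v, B v (ω v) = 0 ∧ v ∉ A := by
  obtain ⟨y, hy⟩ : ∃ y, y ∉ A := by by_contra! hc; exact hA (eq_top_iff.2 fun y _ => hc y)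
  obtain ⟨z, z1, z2⟩ := exists_perp_ne h.nondeg hy
  obtain ⟨v, v1, v2⟩ := h.exists_iso (ne_zero_right z2)
  exact ⟨v, v1, fun hv => v2 (z1 v hv)⟩

theorem exists_iso_two (h : UStr B ω δ) {A A' : Submodule F V} (hA : A ≠ ⊤) (hA' : A' ≠ ⊤) :
    ∃ v, B v (ω v) = 0 ∧ v ∉ A ∧ v ∉ A' := by
  by_contra! hc
  have h1 : ∀ v, B v (ω v) = 0 → (v ∈ A ∧ ω v ∈ A) ∨ (v ∈ A' ∧ ω v ∈ A') := fun v hv => by
    have e1 : v ∈ Submodule.span F {v, ω v} := Submodule.subset_span (by simp)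
    have e2 : ω v ∈ Submodule.span F {v, ω v} := Submodule.subset_span (by simp)
    refine (le_or_le (A := Submodule.span F {v, ω v}) fun x hx => ?_).imp
      (fun H => ⟨H e1, H e2⟩) fun H => ⟨H e1, H e2⟩
    obtain ⟨a, b, rfl⟩ := Submodule.mem_span_pair.1 hx
    exact or_iff_not_imp_left.2 (hc _ (by rw [h.N_K, hv, mul_zero]))
  obtain ⟨v, v1, v2⟩ := h.exists_iso_notMem hA
  obtain ⟨u, u1, u2⟩ := h.exists_iso_notMem hA'
  have v3 := (h1 v v1).resolve_left fun H => v2 H.1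
  have u3 := (h1 u u1).resolve_right fun H => u2 H.1
  obtain ⟨a, b, hab, e⟩ : ∃ a b : F, (a ≠ 0 ∨ b ≠ 0) ∧ B v (ω (a • u + b • ω u)) = 0 := by
    by_cases h0 : B v (ω u) = 0
    · exact ⟨1, 0, by simp, by simpa using h0⟩
    · refine ⟨-B v (ω (ω u)), B v (ω u), Or.inr h0, ?_⟩
      simp only [map_add, map_smul, smul_eq_mul]; ring
  rcases h1 (v + (a • u + b • ω u)) (by rw [h.N_add, h.N_K, v1, u1, e]; simp) with H | H
  · exact v2 ((A.add_mem_iff_left (A.add_mem (A.smul_mem a u3.1) (A.smul_mem b u3.2))).1 H.1)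
  · have e1 := (A'.add_mem_iff_right v3.1).1 H.1
    have e2 := H.2
    rw [map_add, A'.add_mem_iff_right v3.2, map_add, map_smul, map_smul, h.sq] at e2
    refine u2 ((A'.smul_mem_iff (h.norm_ne hab)).1 ?_)
    convert A'.sub_mem (A'.smul_mem a e1) (A'.smul_mem b e2) using 1
    module

theorem ker_ne_top (h : UStr B ω δ) {v : V} (hv : v ≠ 0) : LinearMap.ker (B v) ≠ ⊤ := fun H =>
  hv (h.nondeg.1 v fun y => by
    have : y ∈ LinearMap.ker (B v) := by rw [H]; trivial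
    exact this)

theorem iso_trans (h : UStr B ω δ) {v v' : V} (hv : v ≠ 0) (hv' : v' ≠ 0) (hN : B v (ω v) = 0)
    (hN' : B v' (ω v') = 0) : ∃ g : SpG B, (∀ x, g.1 (ω x) = ω (g.1 x)) ∧ g.1 v = v' := by
  obtain ⟨y, y1, y2, y3⟩ := h.exists_iso_two (h.ker_ne_top hv) (h.ker_ne_top hv')
  obtain ⟨g, g1, g2⟩ := h.move (hN.trans y1.symm) y2
  obtain ⟨k, k1, k2⟩ := h.move (y1.trans hN'.symm) (alt_ne h.alt y3)
  exact ⟨k * g, fun x => by rw [spG_mul_apply, spG_mul_apply, g1, k1],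
    by rw [spG_mul_apply, g2, k2]⟩

theorem mem_YS (h : UStr B ω δ) (hM : ∀ g, UNorm ω g → g ∈ M) {w : V} (hN : B w (ω w) = 0) :
    ω w ∈ YS h.alt M δ w :=
  ⟨by rw [h.adj, hN, neg_zero], fun c => hM _ (Or.inl fun x => by
    simp only [spG_mul_apply, spT_apply, map_add, map_smul, LinearMap.add_apply,
      LinearMap.smul_apply, hN, h.ωω, h.adj x w, h.sq]
    module)⟩

theorem XS_of_ZS' (h : UStr B ω δ) (hM : ∀ g, UNorm ω g → g ∈ M) {u v : V}
    (hu : u ∈ ZS h.alt M v) (hu0 : u ≠ 0) (hv0 : v ≠ 0) : v ∈ XS h.alt M := by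
  by_cases hK : u ∈ Submodule.span F {v, ω v}
  · obtain ⟨a, b, rfl⟩ := Submodule.mem_span_pair.1 hK
    by_cases hb : b = 0
    · have ha : a ≠ 0 := by rintro rfl; simp [hb] at hu0
      have := ZS_smul hu a⁻¹
      rw [hb, zero_smul, add_zero, inv_smul_smul₀ ha] at this
      exact XS_of_ZS_self h.two this
    have hN : B v (ω v) = 0 := by simpa [h.alt.self_eq_zero, hb, h.adj v v] using hu.1
    have hN' : B (ω v) v = 0 := alt_zero h.alt hN
    obtain ⟨g, g1, g2⟩ := h.iso_trans (v' := v + ω v) hv0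
      (fun h0 => one_ne_zero (h.ind hv0 (a := 1) (b := 1) (by simpa using h0)).1) hN
      (by simpa [hN] using h.N_K v 1 1)
    have h1 := ZS_map (hM g (Or.inl g1)) hu
    rw [map_add, map_smul, map_smul, g1, g2, map_add, h.sq] at h1
    intro c
    have hD := h.norm_ne (a := a) (Or.inr hb)
    have h4 : (4 : F) ≠ 0 := by
      have := mul_ne_zero h.two h.two
      rwa [show (2 : F) * 2 = 4 by norm_num] at this
    obtain ⟨t, ht⟩ : ∃ t, c = -(4 * t * (a ^ 2 - δ * b ^ 2)) :=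
      ⟨-c / (4 * (a ^ 2 - δ * b ^ 2)), by field_simp⟩
    have := M.mul_mem (M.mul_mem (h1.2 (b * t)) (hu.2 (-((2 * a + b + b * δ) * t))))
      ((h.mem_YS hM hN).2 (-(2 * b * t * (a + b))))
    convert this using 1
    refine spG_ext fun x => ?_
    rw [spG_mul_apply, spG_mul_apply, spE_apply h.alt (by simp [hN, hN', h.alt.self_eq_zero]),
      spE_apply h.alt (by simp [hN, hN', h.alt.self_eq_zero]), ht]
    simp only [spG_mul_apply, spT_apply, map_add, map_smul, LinearMap.add_apply,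
      LinearMap.smul_apply, hN, hN', h.alt.self_eq_zero, smul_eq_mul]
    module
  · obtain ⟨z, z1, z2⟩ := exists_perp_ne h.nondeg hK
    have z3 : B v z = 0 := z1 v (Submodule.subset_span (by simp))
    have z4 : B v (ω z) = 0 := by
      rw [← neg_eq_zero, ← h.adj]; exact z1 _ (Submodule.subset_span (by simp))
    obtain ⟨α, β, hβ, hc⟩ : ∃ α β : F, β ≠ 0 ∧ 2 * α + (α ^ 2 - δ * β ^ 2) * B z (ω z) = 0 := by
      by_cases hN : B z (ω z) = 0
      · exact ⟨0, 1, one_ne_zero, by simp [hN]⟩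
      · have := h.one_sub_ne
        exact ⟨2 * δ / ((1 - δ) * B z (ω z)), 2 / ((1 - δ) * B z (ω z)),
          div_ne_zero h.two (mul_ne_zero this hN), by field_simp; ring⟩
    obtain ⟨g, g1, g2⟩ := h.exists_R z α β hc
    have h1 := ZS_map (hM g (Or.inl g1)) hu
    rw [g2 v, z3, z4] at h1
    simp only [mul_zero, sub_zero, zero_smul, add_zero] at h1
    refine XS_of_ZS h.two h1 hu ?_
    have : B u (g.1 u) = β * (B u (ω z) ^ 2 - δ * B u z ^ 2) := by
      rw [g2]
      simp only [map_add, map_smul, h.alt.self_eq_zero, smul_eq_mul]; ring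
    rw [this]
    exact mul_ne_zero hβ (h.norm_ne (Or.inr z2))

theorem exists_refl_vec (h : UStr B ω δ) {w y : V} (hy : y ∉ Submodule.span F {w, ω w}) :
    ∃ a, B w a = 0 ∧ B (ω w) a = 0 ∧ B a (ω a) ≠ 0 ∧ (B y (ω a) ≠ 0 ∨ B y a ≠ 0) ∧
      y ∉ Submodule.span F {a, ω a} := by
  obtain ⟨p, p1, p2⟩ := exists_perp_ne h.nondeg hy
  have p3 : B w p = 0 := p1 w (Submodule.subset_span (by simp))
  have p4 : B (ω w) p = 0 := p1 _ (Submodule.subset_span (by simp))
  obtain ⟨n, n1, n2, n3⟩ := h.exists_noniso w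
  obtain ⟨a, a1, a2, a3, a4⟩ : ∃ a, B w a = 0 ∧ B (ω w) a = 0 ∧ B a (ω a) ≠ 0 ∧ B y a ≠ 0 := by
    by_contra! hc
    have e0 := hc n n1 n2 n3
    have e1 : B p (ω p) = 0 := by by_contra H; exact p2 (hc p p3 p4 H)
    have e2 : B (p + n) (ω (p + n)) = 0 := by
      by_contra H
      exact p2 (by simpa [e0] using hc _ (by simp [p3, n1]) (by simp [p4, n2]) H)
    have e3 : B (p + -n) (ω (p + -n)) = 0 := by
      by_contra H
      exact p2 (by simpa [e0] using hc _ (by simp [p3, n1]) (by simp [p4, n2]) H)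
    rw [h.N_add, e1] at e2 e3
    simp only [map_neg, LinearMap.neg_apply, neg_neg] at e3
    have : 2 * B n (ω n) = 0 := by linear_combination e2 + e3
    exact mul_ne_zero h.two n3 this
  by_cases hya : y ∈ Submodule.span F {a, ω a}
  swap
  · exact ⟨a, a1, a2, a3, Or.inr a4, hya⟩
  obtain ⟨s, t, hst⟩ := Submodule.mem_span_pair.1 hya
  have y1 : B w y = 0 := by
    have : B w (ω a) = 0 := by rw [← neg_eq_zero, ← h.adj, a2]
    simp [← hst, a1, this]
  have y2 : B (ω w) y = 0 := by simp [← hst, a2, h.ωω, a1]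
  have y3 : B y (ω y) ≠ 0 := by
    rw [← hst, h.N_K]
    refine mul_ne_zero (h.norm_ne ?_) a3
    by_contra! H
    simp [← hst, H.1, H.2] at a4
  obtain ⟨z, z0, z1, z2, z3, z4⟩ : ∃ z, z ≠ 0 ∧ B w z = 0 ∧ B (ω w) z = 0 ∧ B y z = 0 ∧
      B (ω y) z = 0 ∧ B y (ω y) + B z (ω z) ≠ 0 := by
    obtain ⟨z, z0, z1, z2, z3, z4⟩ := exists_perp_four (B := B) h.dim w (ω w) y (ω y)
    by_cases H : B y (ω y) + B z (ω z) = 0
    · have k1 : B w (ω z) = 0 := by rw [← neg_eq_zero, ← h.adj, z2]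
      have k2 : B y (ω z) = 0 := by rw [← neg_eq_zero, ← h.adj, z4]
      refine ⟨(1 : F) • z + (1 : F) • ω z, fun h0 => one_ne_zero (h.ind z0 h0).1, by simp [z1, k1],
        by simp [z2, h.ωω, z1], by simp [z3, k2], by simp [z4, h.ωω, z3], ?_⟩
      rw [h.N_K]
      intro H'
      exact mul_ne_zero h.δ_ne y3 (by linear_combination H' - (1 - δ) * H)
    · exact ⟨z, z0, z1, z2, z3, z4, H⟩
  have k2 : B y (ω z) = 0 := by rw [← neg_eq_zero, ← h.adj, z4.1]
  refine ⟨y + z, by simp [y1, z1], by simp [y2, z2], by rw [h.N_add, k2]; simpa using z4.2,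
    Or.inl (by simpa [k2] using y3), fun H => ?_⟩
  obtain ⟨α, β, H⟩ := Submodule.mem_span_pair.1 H
  have e1 := congrArg (B y) H
  have e2 := congrArg (B (ω y)) H
  simp only [map_add, map_smul, h.alt.self_eq_zero, z3, k2, smul_eq_mul, add_zero, mul_zero,
    zero_add, mul_eq_zero, y3, or_false] at e1
  simp only [map_add, map_smul, z4.1, smul_eq_mul, add_zero, e1, zero_mul, h.adj y y] at e2
  have e3 : α = 1 := mul_right_cancel₀ (neg_ne_zero.2 y3) (by rw [e2, one_mul])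
  exact z0 (by simpa [e1, e3] using H)

theorem eq_of_YS (h : UStr B ω δ) (hM : ∀ g, UNorm ω g → g ∈ M) (hX : ∀ x ∈ XS h.alt M, x = 0)
    {w y : V} (hy : y ∈ YS h.alt M δ w) (hyw : y ∉ Submodule.span F {w}) :
    y = ω w ∨ y = -ω w := by
  have key : ∀ y' ∈ YS h.alt M δ w, B y y' = 0 → y = y' ∨ y = -y' := fun y' hy' h0 => by
    by_contra! hc
    have h1 : y + y' ≠ 0 := fun H => hc.2 (eq_neg_of_add_eq_zero_left H)
    exact h1 (hX _ (h.XS_of_ZS' hM (ZS_of_YS hy hy' h0) (sub_ne_zero.2 hc.1) h1))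
  by_cases hK : y ∈ Submodule.span F {w, ω w}
  · obtain ⟨a, b, rfl⟩ := Submodule.mem_span_pair.1 hK
    have hb : b ≠ 0 := by
      rintro rfl
      exact hyw (Submodule.mem_span_singleton.2 ⟨a, by simp⟩)
    have hN : B w (ω w) = 0 := by simpa [h.alt.self_eq_zero, hb, h.adj w w] using hy.1
    exact key _ (h.mem_YS hM hN) (by simp [hN, h.alt.self_eq_zero])
  · exfalso
    obtain ⟨a, a1, a2, a3, a4, a5⟩ := h.exists_refl_vec hK
    obtain ⟨g, g1, g2⟩ := h.exists_R a (-2 / B a (ω a)) 0 (by field_simp; ring)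
    have h1 := YS_map (hM g (Or.inl g1)) hy
    have a6 : B w (ω a) = 0 := by rw [← neg_eq_zero, ← h.adj, a2]
    rw [g2 w, a1, a6] at h1
    simp only [mul_zero, sub_zero, zero_smul, add_zero] at h1
    have hα : -2 / B a (ω a) ≠ 0 := div_ne_zero (neg_ne_zero.2 h.two) a3
    set α := -2 / B a (ω a)
    rcases key _ h1 (by
      rw [g2]; simp only [map_add, map_smul, h.alt.self_eq_zero, smul_eq_mul]; ring) with H | H
    · rw [g2, add_assoc, left_eq_add] at H
      have := h.ind (ne_zero_left a3) H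
      simp only [zero_mul, sub_zero, mul_eq_zero, hα, false_or, zero_sub, neg_eq_zero] at this
      tauto
    · rw [g2] at H
      refine a5 ((Submodule.smul_mem_iff _ h.two).1
        (Submodule.mem_span_pair.2 ⟨-(α * B y (ω a)), α * B y a, ?_⟩))
      linear_combination (norm := module) -H

theorem top (h : UStr B ω δ) (M : Subgroup (SpG B)) (hM : ∀ g, UNorm ω g → g ∈ M) (g : SpG B)
    (hg : g ∈ M) (hgP : ¬ UNorm ω g) : M = ⊤ := by
  have hX := tClosed_XS h.alt M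
  obtain ⟨x, hx, hx0⟩ : ∃ x ∈ XS h.alt M, x ≠ 0 := by
    by_contra! hc
    let A : Submodule F V := LinearMap.ker (g.1.toLinearMap ∘ₗ ω - ω ∘ₗ g.1.toLinearMap)
    let A' : Submodule F V := LinearMap.ker (g.1.toLinearMap ∘ₗ ω + ω ∘ₗ g.1.toLinearMap)
    have hA : ∀ x, x ∈ A ↔ g.1 (ω x) = ω (g.1 x) := fun x => by simp [A, sub_eq_zero]
    have hA' : ∀ x, x ∈ A' ↔ g.1 (ω x) = -ω (g.1 x) := fun x => by
      simp [A', add_eq_zero_iff_eq_neg]
    obtain ⟨v, v1, v2, v3⟩ := h.exists_iso_two (A := A) (A' := A')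
      (fun H => hgP (Or.inl fun x => (hA x).1 (by rw [H]; trivial)))
      (fun H => hgP (Or.inr fun x => (hA' x).1 (by rw [H]; trivial)))
    have v0 : v ≠ 0 := by rintro rfl; exact v2 A.zero_mem
    rw [hA] at v2
    rw [hA'] at v3
    refine (h.eq_of_YS hM hc (YS_map hg (h.mem_YS hM v1)) fun H => ?_).elim v2 v3
    obtain ⟨c, H⟩ := Submodule.mem_span_singleton.1 H
    rw [← map_smul] at H
    have := h.ind v0 (a := c) (b := -1) (by rw [g.1.injective H]; simp)
    simpa using this.2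
  obtain ⟨a, a1, a2⟩ := h.exists_iso hx0
  replace a2 := alt_ne h.alt a2
  obtain ⟨k, k1, k2⟩ := h.exists_R a 0 1 (by simp [a1])
  have h1 := XS_map h.alt (hM k (Or.inl k1)) hx
  have h2 : B x (k.1 x) ≠ 0 := by
    have : B x (k.1 x) = B x (ω a) ^ 2 - δ * B x a ^ 2 := by
      rw [k2]; simp only [map_add, map_smul, h.alt.self_eq_zero, smul_eq_mul]; ring
    rw [this]; exact h.norm_ne (Or.inr a2)
  have h3 := hX.add_mem (hX.neg_mem hx) h1 (by simpa using h2)
  have h4 : -x + k.1 x ≠ 0 := fun H => h2 (by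
    rw [← neg_add_eq_zero.1 H]; exact h.alt.self_eq_zero x)
  have h5 : B (-x + k.1 x) (ω (-x + k.1 x)) = 0 := by
    rw [k2, add_assoc, neg_add_cancel_left, h.N_K, a1, mul_zero]
  have h6 : ∀ v, B v (ω v) = 0 → v ∈ XS h.alt M := fun v hv => by
    by_cases hv0 : v = 0
    · rw [hv0]; exact hX.zero_mem
    obtain ⟨l, l1, l2⟩ := h.iso_trans h4 hv0 h5 hv
    exact l2 ▸ XS_map h.alt (hM l (Or.inl l1)) h3
  obtain ⟨U, u1, u2, u3, u4⟩ := hX.exists_comp_pair h.alt (neg_one_ne h.two) hx h1 h2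
  refine eq_top_of_XS h.nondeg h.alt (hX.of_top h.nondeg u4 ?_)
  by_contra hU
  obtain ⟨v, v1, v2, v3⟩ := h.exists_iso_two (A := U) (A' := B.orthogonal U) hU fun H => by
    have : k.1 x ∈ B.orthogonal U := by rw [H]; trivial
    exact h2 (this x u1)
  exact (u3 v (h6 v v1)).elim v2 v3

theorem exists_not (h : UStr B ω δ) : ∃ g : SpG B, ¬ UNorm ω g := by
  obtain ⟨v, hv, -⟩ := exists_perp_four (B := B) h.dim 0 0 0 0
  refine ⟨spT h.alt v 1, ?_⟩
  rintro (H | H)
  · obtain ⟨x, hx, -⟩ := sp_exists_ne_zero_two h.nondeg hv hv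
    have := H x
    simp only [spT_apply, map_add, map_smul, one_mul, add_right_inj] at this
    exact hx (neg_eq_zero.1 (h.ind hv (a := B (ω x) v) (b := -B x v) (by rw [this]; simp)).2)
  · obtain ⟨x, hx, x1, x2, -⟩ := exists_perp_four (B := B) h.dim v (ω v) 0 0
    have := H x
    have x3 : B (ω x) v = 0 := by rw [h.adj, alt_zero h.alt x2, neg_zero]
    simp only [spT_apply, x3, alt_zero h.alt x1, mul_zero, zero_smul, add_zero] at this
    have e : (2 : F) • ω x = 0 := by rw [two_smul]; nth_rw 1 [this]; simp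
    exact h.ω_ne hx ((smul_eq_zero.1 e).resolve_left h.two)

end UStr

end GUm

section Mat

variable {F : Type*} [Field F] {m : ℕ}

open Cfsg.Geo Polynomial

theorem exists_norm_eq [Fintype F] (hodd : Odd (Fintype.card F)) {δ : F} (hδ : δ ≠ 0) (c : F) :
    ∃ a b : F, a ^ 2 - δ * b ^ 2 = c := by
  obtain ⟨a, b, hab⟩ := FiniteField.exists_root_sum_quadratic (f := X ^ 2 - C c)
    (g := C (-δ) * X ^ 2) (degree_X_pow_sub_C (by decide) _)
    (degree_C_mul_X_pow 2 (neg_ne_zero.2 hδ)) (Nat.odd_iff.1 hodd)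
  simp only [eval_sub, eval_pow, eval_X, eval_C, eval_mul] at hab
  exact ⟨a, b, by linear_combination hab⟩

theorem max_gu [Fintype F] (hm : 3 ≤ m) (hodd : Odd (Fintype.card F))
    (K : Subalgebra F (Matrix (Fin m ⊕ Fin m) (Fin m ⊕ Fin m) F)) (hK : IsFieldSubalgebra 2 K)
    (hac : IsAdjointClosedFor (sympForm m F) K) (hnsa : ¬ IsSelfAdjointFor (sympForm m F) K) :
    IsMaximalIn (spGL m F) (subalgebraNormalizer K ⊓ spGL m F) := by
  have h2 := two_ne_zero_of_odd hodd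
  have hA : (spB m F).IsAlt := spB_isAlt
  have hB : (spB m F).Nondegenerate := spB_nondegenerate
  obtain ⟨Ω, hΩK, hΩ0, hadj⟩ : ∃ Ω ∈ K, Ω ≠ 0 ∧ ∀ u v, spB m F (Ω *ᵥ u) v = -spB m F u (Ω *ᵥ v) := by
    simp only [IsSelfAdjointFor, not_forall] at hnsa
    obtain ⟨k, hk, u, v, huv⟩ := hnsa
    obtain ⟨k', hk', h⟩ := hac k hk
    simp only [← spB_apply] at h huv
    refine ⟨k - k', K.sub_mem hk hk', fun H => huv (by rw [h, sub_eq_zero.1 H]), fun x y => ?_⟩
    have e : spB m F (k' *ᵥ x) y = spB m F x (k *ᵥ y) := by rw [← hA.neg_eq y, ← h, hA.neg_eq]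
    rw [sub_mulVec, sub_mulVec, map_sub, map_sub, LinearMap.sub_apply, h, e]
    ring
  have hne : Nonempty (Fin m ⊕ Fin m) := ⟨Sum.inl ⟨0, by omega⟩⟩
  have zero_of : ∀ (x : Matrix (Fin m ⊕ Fin m) (Fin m ⊕ Fin m) F),
      (∀ u v, spB m F (x *ᵥ u) v = 0) → x = 0 := fun x hx =>
    Matrix.ext_iff_mulVec.2 fun u => by rw [zero_mulVec]; exact hB.1 _ (hx u)
  have sc : ∀ a b : F, (∀ u v, spB m F ((a • 1 + b • Ω) *ᵥ u) v =
      -spB m F u ((a • 1 + b • Ω) *ᵥ v)) → a = 0 := fun a b H => by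
    have := zero_of ((2 * a) • 1) fun u v => by
      have := H u v
      simp only [add_mulVec, smul_mulVec, one_mulVec, map_add, map_smul, LinearMap.add_apply,
        LinearMap.smul_apply, hadj, smul_eq_mul] at this ⊢
      linear_combination this
    simpa [h2] using this
  have hspan : ∀ k ∈ K, ∃ a b : F, a • 1 + b • Ω = k := fun k hk => by
    have hli : LinearIndependent F ![(1 : K), ⟨Ω, hΩK⟩] := by
      rw [LinearIndependent.pair_iff]
      intro a b hab
      have e : a • (1 : Matrix (Fin m ⊕ Fin m) (Fin m ⊕ Fin m) F) + b • Ω = 0 :=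
        congrArg Subtype.val hab
      have ha := sc a b (by simp [e])
      exact ⟨ha, by simpa [ha, hΩ0] using e⟩
    have := hli.span_eq_top_of_card_eq_finrank' (by simp [hK.finrank_eq])
    have h1 : (⟨k, hk⟩ : K) ∈ Submodule.span F {(1 : K), ⟨Ω, hΩK⟩} := by
      rw [show ({(1 : K), ⟨Ω, hΩK⟩} : Set K) = Set.range ![(1 : K), ⟨Ω, hΩK⟩] by
        simp [Set.pair_comm], this]
      trivial
    obtain ⟨a, b, hab⟩ := Submodule.mem_span_pair.1 h1
    exact ⟨a, b, congrArg Subtype.val hab⟩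
  obtain ⟨δ, hδ⟩ : ∃ δ : F, Ω * Ω = δ • 1 := by
    obtain ⟨a, b, hab⟩ := hspan _ (K.mul_mem hΩK hΩK)
    have := zero_of ((2 * b) • Ω) fun u v => by
      have e : spB m F ((Ω * Ω) *ᵥ u) v = spB m F u ((Ω * Ω) *ᵥ v) := by
        rw [← mulVec_mulVec, ← mulVec_mulVec, hadj, hadj, neg_neg]
      simp only [← hab, add_mulVec, smul_mulVec, one_mulVec, map_add, map_smul,
        LinearMap.add_apply, LinearMap.smul_apply, hadj, smul_eq_mul] at e ⊢
      linear_combination e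
    exact ⟨a, by rw [← hab, show b = 0 by simpa [h2, hΩ0] using this]; simp⟩
  have hnsq : ∀ a : F, a ^ 2 ≠ δ := fun a ha => by
    have e : (a • 1 + (1 : F) • Ω) * ((-a) • 1 + (1 : F) • Ω) = 0 := by
      simp only [one_smul, add_mul, mul_add, smul_mul_assoc, mul_smul_comm, one_mul, mul_one, hδ,
        ← ha]
      module
    have mem : ∀ c : F, c • 1 + (1 : F) • Ω ∈ K := fun c =>
      K.add_mem (K.smul_mem K.one_mem c) (K.smul_mem hΩK 1)
    have ne : ∀ c : F, c • 1 + (1 : F) • Ω ≠ 0 := fun c H => by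
      have := sc c 1 (by rw [H]; simp)
      exact hΩ0 (by simpa [this] using H)
    exact ne _ ((Max.IsFieldSubalgebra.isUnit hK (mem a) (ne a)).mul_right_eq_zero.1 e)
  have hU : UStr (spB m F) (Matrix.toLin' Ω) δ :=
    ⟨hB, hA, hadj, fun v => by simp [hδ, smul_mulVec], hnsq, h2, by rw [sp_finrank_std]; omega,
      exists_norm_eq hodd fun H => hnsq 0 (by simp [H])⟩
  refine isMaximalIn_sp _ (UNorm (Matrix.toLin' Ω)) (fun g => ⟨fun H => ?_, fun H => ?_⟩)
    hU.exists_not hU.top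
  · obtain ⟨a, b, hab⟩ := hspan _ ((H Ω).1 hΩK)
    replace hab : a • 1 + b • Ω = Max.cj (spι m F g) Ω := hab
    have e : ∀ x, g.1 (Ω *ᵥ x) = (a • 1 + b • Ω) *ᵥ g.1 x := fun x => by
      rw [hab, ← spι_mulVec g x, Max.cj_mulVec, spι_mulVec]
    have ha := sc a b fun u v => by
      rw [← sp_apply_inv_apply g u, ← sp_apply_inv_apply g v, ← e, ← e, spG_form, spG_form, hadj]
    have hb : b ^ 2 = 1 := by
      have e1 : Max.cj (spι m F g) (Ω * Ω) = (b ^ 2 * δ) • 1 := by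
        rw [map_mul, ← hab, ha]
        simp only [zero_smul, zero_add, smul_mul_assoc, mul_smul_comm, hδ]
        module
      rw [hδ, map_smul, map_one] at e1
      have e2 := smul_left_injective F (one_ne_zero (α := Matrix (Fin m ⊕ Fin m) (Fin m ⊕ Fin m) F)) e1
      exact mul_right_cancel₀ hU.δ_ne (by rw [← e2, one_mul])
    rcases sq_eq_one_iff.1 hb with rfl | rfl
    · exact Or.inl fun x => by simpa [ha] using e x
    · exact Or.inr fun x => by simpa [ha, neg_mulVec] using e x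
  · obtain ⟨ε, hε, e⟩ : ∃ ε : F, ε * ε = 1 ∧ Max.cj (spι m F g) Ω = ε • Ω := by
      rcases H with H | H
      · refine ⟨1, one_mul 1, (Max.cj_eq_iff _ _ _).2 (Matrix.ext_iff_mulVec.2 fun x => ?_)⟩
        simpa [← mulVec_mulVec] using H x
      · refine ⟨-1, by simp, (Max.cj_eq_iff _ _ _).2 (Matrix.ext_iff_mulVec.2 fun x => ?_)⟩
        simpa [← mulVec_mulVec, neg_mulVec] using H x
    have e' : Max.cj (spι m F g)⁻¹ Ω = ε • Ω := by
      have := congrArg (fun x => ε • Max.cj (spι m F g)⁻¹ x) e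
      simpa only [Max.cj_inv_cj, map_smul, smul_smul, hε, one_smul] using this.symm
    have key : ∀ x : GL (Fin m ⊕ Fin m) F, Max.cj x Ω = ε • Ω → ∀ k ∈ K, Max.cj x k ∈ K :=
      fun x hx k hk => by
        obtain ⟨a, b, rfl⟩ := hspan k hk
        rw [map_add, map_smul, map_smul, map_one, hx]
        exact K.add_mem (K.smul_mem K.one_mem a) (K.smul_mem (K.smul_mem hΩK ε) b)
    refine Max.mem_subalgebraNormalizer.2 fun k => ⟨key _ e k, fun hk => ?_⟩
    simpa only [Max.cj_inv_cj] using key _ e' _ hk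

end Mat

end Cfsg.Agent.Cl.MaxSp
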