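import Mathlib
import Cfsg.Agent.Cl.MaxSLCore
import Cfsg.Agent.Cl.MaxSpGU

/-!
# Irreducible subgroups of `Sp(V)` in characteristic two with large `2`-transvection groups

`R B M a u γ`: the element `x ↦ x + B(x,u) a + B(x,a) u + γ B(x,a) a` lies in `M`.
`Full B M a`: such an element exists for every `u ⟂ a`.  `Pts B M S`: an invariant set of full
vectors.  Here: the calculus of these elements and the case when `M` has transvections.
-/

set_option autoImplicit false
set_option linter.unusedSectionVars false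
set_option linter.unusedVariables false

namespace Cfsg.Agent.Cl.MaxSp.Two

open Module Cfsg.Agent.Cl.MSL

variable {F V : Type*} [Field F] [CharP F 2] [AddCommGroup V] [Module F V]

structure Ctx (B : LinearMap.BilinForm F V) (M : Subgroup (V ≃ₗ[F] V)) : Prop where
  nd : B.Nondegenerate
  alt : B.IsAlt
  iso : ∀ g ∈ M, ∀ x y, B (g x) (g y) = B x y
  irr : ∀ W : Submodule F V, (∀ g ∈ M, ∀ w ∈ W, g w ∈ W) → W = ⊥ ∨ W = ⊤
  dim : 4 ≤ finrank F V

/-- The element of the unipotent radical of the stabiliser of `a`. -/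
def R (B : LinearMap.BilinForm F V) (M : Subgroup (V ≃ₗ[F] V)) (a u : V) (γ : F) : Prop :=
  B u a = 0 ∧ Has M fun x => x + B x u • a + B x a • u + (γ * B x a) • a

def Full (B : LinearMap.BilinForm F V) (M : Subgroup (V ≃ₗ[F] V)) (a : V) : Prop :=
  ∀ u, B u a = 0 → ∃ γ, R B M a u γ

/-- A product of two transvections. -/
def Z (B : LinearMap.BilinForm F V) (M : Subgroup (V ≃ₗ[F] V)) (a p : V) (α β : F) : Prop :=
  Has M fun x => x + (α * B x a) • a + (β * B x p) • p

structure Pts (B : LinearMap.BilinForm F V) (M : Subgroup (V ≃ₗ[F] V)) (S : Set V) : Prop where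
  ne : ∀ p ∈ S, p ≠ 0
  map : ∀ g ∈ M, ∀ p ∈ S, g p ∈ S
  smul : ∀ p ∈ S, ∀ c : F, c ≠ 0 → c • p ∈ S
  full : ∀ p ∈ S, Full B M p
  nonempty : S.Nonempty

variable {B : LinearMap.BilinForm F V} {M : Subgroup (V ≃ₗ[F] V)} {S : Set V} {a b p u u' : V}
  {γ γ' α β : F}

theorem Ctx.sym (h : Ctx B M) (x y : V) : B x y = B y x := by
  rw [← h.alt.neg_eq, CharTwo.neg_eq]

theorem Ctx.self (h : Ctx B M) (x : V) : B x x = 0 := h.alt x

theorem vadd_self (F : Type*) [Field F] [CharP F 2] [Module F V] (x : V) : x + x = 0 := by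
  rw [← two_smul F x, CharTwo.two_eq_zero, zero_smul]

theorem R.mul (h : Ctx B M) (h1 : R B M a u γ) (h2 : R B M a u' γ') :
    R B M a (u + u') (γ + γ' + B u' u) :=
  ⟨by simp [h1.1, h2.1], (h1.2.comp h2.2).congr fun x => by
    simp only [map_add, map_smul, LinearMap.add_apply, LinearMap.smul_apply, smul_eq_mul,
      h.self, h2.1, h.sym a u, h1.1]
    module⟩

theorem r_zero (a : V) : R B M a 0 0 := ⟨by simp, has_id.congr fun x => by simp⟩

theorem R.add_self (h : Ctx B M) (h1 : R B M a u γ) (s : F) : R B M a (u + s • a) γ :=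
  ⟨by simp [h1.1, h.self], h1.2.congr fun x => by
    simp only [map_add, map_smul, smul_eq_mul]
    match_scalars <;> grind⟩

theorem R.diff (h : Ctx B M) (h1 : R B M a u γ) (h2 : R B M a u γ') : R B M a 0 (γ + γ') := by
  simpa [vadd_self F, h.self] using h1.mul h h2

theorem R.add_t (h : Ctx B M) (h1 : R B M a u γ) (h2 : R B M a 0 γ') : R B M a u (γ + γ') := by
  simpa using h1.mul h h2

theorem R.conj (h : Ctx B M) (h1 : R B M a u γ) {g : V ≃ₗ[F] V} (hg : g ∈ M) :
    R B M (g a) (g u) γ :=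
  ⟨by rw [h.iso g hg, h1.1], (((has_of_mem hg).comp h1.2).comp (has_symm hg)).congr fun x => by
    have e : ∀ y, B x (g y) = B (g.symm x) y := fun y => by
      rw [← h.iso g hg (g.symm x), g.apply_symm_apply]
    simp only [map_add, map_smul, g.apply_symm_apply, e]⟩

theorem R.smul (h1 : R B M a u γ) {c : F} (hc : c ≠ 0) :
    R B M (c • a) (c⁻¹ • u) (γ / c ^ 2) :=
  ⟨by simp [h1.1], h1.2.congr fun x => by
    simp only [map_smul, smul_eq_mul]
    match_scalars <;> field_simp⟩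

theorem Full.conj (h : Ctx B M) (h1 : Full B M a) {g : V ≃ₗ[F] V} (hg : g ∈ M) :
    Full B M (g a) := fun u hu => by
  obtain ⟨γ, hγ⟩ := h1 (g.symm u) (by rwa [← h.iso g hg, g.apply_symm_apply])
  exact ⟨γ, by simpa using hγ.conj h hg⟩

theorem Full.smul (h1 : Full B M a) {c : F} (hc : c ≠ 0) : Full B M (c • a) := fun u hu => by
  obtain ⟨γ, hγ⟩ := h1 (c • u) (by simpa using hu)
  exact ⟨_, by simpa [smul_smul, hc] using hγ.smul hc⟩

theorem Pts.has (hS : Pts B M S) {f : V → V} (hf : Has M f) (hp : p ∈ S) : f p ∈ S := by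
  obtain ⟨g, hg, e⟩ := hf
  rw [← e]; exact hS.map g hg p hp

theorem Pts.span (h : Ctx B M) (hS : Pts B M S) : Submodule.span F S = ⊤ := by
  refine (h.irr _ fun g hg w hw => ?_).resolve_left fun e => ?_
  · induction hw using Submodule.span_induction with
    | mem x hx => exact Submodule.subset_span (hS.map g hg x hx)
    | zero => simp
    | add x y _ _ hx hy => rw [map_add]; exact Submodule.add_mem _ hx hy
    | smul c x _ hx => rw [map_smul]; exact Submodule.smul_mem _ _ hx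
  · obtain ⟨p, hp⟩ := hS.nonempty
    exact hS.ne p hp (Submodule.span_eq_bot.1 e p hp)

theorem Pts.opp (h : Ctx B M) (hS : Pts B M S) {x : V} (hx : x ≠ 0) : ∃ b ∈ S, B b x = 1 := by
  obtain ⟨b, hb, e⟩ : ∃ b ∈ S, B b x ≠ 0 := by
    by_contra! hc
    have : Submodule.span F S ≤ LinearMap.ker (B.flip x) := Submodule.span_le.2 hc
    rw [hS.span h] at this
    exact hx (h.nd.2 x fun y => this (Submodule.mem_top (x := y)))
  exact ⟨_, hS.smul b hb (B b x)⁻¹ (inv_ne_zero e), by simp [e]⟩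

variable [FiniteDimensional F V]

theorem Ctx.sep (h : Ctx B M) (hp : ∀ c : F, p ≠ c • a) (t : F) : ∃ u, B u a = 0 ∧ B u p = t := by
  obtain ⟨z, h1, h2⟩ := exists_perp_ne h.nd (W := F ∙ a) (y := p) (by
    rw [Submodule.mem_span_singleton]
    rintro ⟨c, hc⟩
    exact hp c hc.symm)
  have h3 := h1 a (Submodule.mem_span_singleton_self a)
  exact ⟨(t / B p z) • z, by simp [h.sym z, h3], by simp [h.sym z, h2]⟩

theorem indep_symm (hp : ∀ c : F, p ≠ c • a) (ha : a ≠ 0) : ∀ c : F, a ≠ c • p := by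
  rintro c rfl
  have hc : c ≠ 0 := by rintro rfl; simp at ha
  exact hp c⁻¹ (by simp [smul_smul, hc])

theorem Pts.perp (h : Ctx B M) (hS : Pts B M S) (ha : a ∈ S) (hp : p ∈ S) (e : B p a = 0)
    (hi : ∀ c : F, p ≠ c • a) (s : F) : p + s • a ∈ S := by
  obtain ⟨u, h1, h2⟩ := h.sep hi s
  obtain ⟨γ, hγ⟩ := hS.full a ha u h1
  simpa [e, h.sym p u, h2] using hS.has hγ.2 hp

theorem Pts.all_of_off (h : Ctx B M) (hS : Pts B M S) (ha : a ≠ 0)
    (H : ∀ x, B x a ≠ 0 → x ∈ S) (haS : a ∈ S) {x : V} (hx : x ≠ 0) : x ∈ S := by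
  by_cases e : B x a = 0
  swap
  · exact H x e
  by_cases hi : ∀ c : F, x ≠ c • a
  swap
  · push Not at hi
    obtain ⟨c, rfl⟩ := hi
    exact hS.smul a haS c (by rintro rfl; simp at hx)
  obtain ⟨y, h1, h2⟩ := h.sep (indep_symm hi ha) 1
  have := hS.perp h (H y (by simp [h2])) (H (x + y) (by simp [h2, e]))
    (by simp [h.self, h.sym x y, h1]) (fun c hc => by
      have h3 := congrArg (fun v => B v a) hc
      simp only [map_add, map_smul, LinearMap.add_apply, LinearMap.smul_apply, e, h2, smul_eq_mul,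
        zero_add, mul_one] at h3
      exact hx (by simpa [← h3] using hc)) 1
  simpa [add_assoc, vadd_self F] using this

theorem Z.symm (h : Z B M a p α β) : Z B M p a β α := h.congr fun x => by abel

theorem z_of_t (h : R B M p 0 β) : Z B M a p 0 β := h.2.congr fun x => by simp

theorem z_of_r (h : Ctx B M) (e : B p a = 0) {s : F} (h1 : R B M a (s • p) α)
    (h2 : R B M p (s • a) β) : Z B M a p α β :=
  (h1.2.comp h2.2).congr fun x => by
    simp only [map_add, map_smul, LinearMap.add_apply, LinearMap.smul_apply, smul_eq_mul,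
      h.self, e, h.sym a p]
    match_scalars <;> grind

theorem Z.r (h : Ctx B M) (hz : Z B M a p α β) (hβ : β ≠ 0) (ha : Full B M a) (e : B p a = 0)
    (hi : ∀ c : F, p ≠ c • a) (t : F) : R B M a (t • p) (t ^ 2 / β) := by
  obtain ⟨u, h1, h2⟩ := h.sep hi (t / β)
  obtain ⟨γ, hγ⟩ := ha u h1
  obtain ⟨g, hg, eg⟩ := hz
  have k := hγ.conj h hg
  rw [eg, eg] at k
  simp only [h.self, h.sym a p, e, h1, h2, mul_zero, zero_smul, add_zero,
    mul_div_cancel₀ _ hβ] at k
  have := k.mul h hγ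
  convert this using 1
  · rw [add_right_comm, vadd_self F, zero_add]
  · simp only [map_add, map_smul, h.self, h2, smul_eq_mul]; grind

variable [Finite F]

theorem exists_sq (c : F) : ∃ t : F, t ^ 2 = c :=
  (Finite.injective_iff_surjective.1 (frobenius_inj F 2)) c

theorem Ctx.exists_W (h : Ctx B M) (a b : V) :
    ∃ u, u ≠ 0 ∧ B u a = 0 ∧ B u b = 0 := by
  obtain ⟨u, -, h0, h1, h2⟩ := exists_perp_two (B := B) (W := ⊤) (by have := h.dim; simp; omega) a b
  exact ⟨u, h0, h1, h2⟩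

theorem notMem_of_perp (e : B b a = 1) (h1 : B b p = 0) (h0 : p ≠ 0) : ∀ c : F, p ≠ c • a := by
  rintro c rfl
  simp [e] at h1
  simp [h1] at h0

/-- A singular vector of `W` is a point. -/
theorem Pts.mem_of_r (h : Ctx B M) (hS : Pts B M S) (hb : b ∈ S) (e : B b a = 1) {w : V}
    (hw : B w b = 0) (hw0 : w ≠ 0) (hba : b + γ • a ∈ S) (hr : R B M a w γ) : w ∈ S := by
  have h1 : w + b ∈ S := by
    convert hS.has hr.2 hba using 1
    simp only [map_add, map_smul, LinearMap.add_apply, LinearMap.smul_apply, smul_eq_mul, h.self,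
      e, h.sym b w, hw, h.sym a w, hr.1]
    match_scalars <;> grind
  have := hS.perp h hb h1 (by simp [hw, h.self]) (fun c hc => by
    have h3 := congrArg (fun v => B v a) hc
    simp only [map_add, map_smul, LinearMap.add_apply, LinearMap.smul_apply, e, hr.1, smul_eq_mul,
      zero_add, mul_one] at h3
    exact hw0 (by simpa [← h3] using hc)) 1
  simpa [add_assoc, vadd_self F] using this

/-- If all points are centres of transvections, some point is the centre of all transvections. -/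
theorem Pts.exists_full_t (h : Ctx B M) (hS : Pts B M S)
    (hC : ∀ p ∈ S, ∃ δ, δ ≠ 0 ∧ R B M p 0 δ) : ∃ p ∈ S, ∀ γ, R B M p 0 γ := by
  by_contra! hc
  have keyC : ∀ a ∈ S, ∀ p ∈ S, B p a = 0 → (∀ c : F, p ≠ c • a) → ∀ s β, R B M p (s • a) β →
      R B M p 0 β := fun a ha p hp e hi s β hβ => by
    obtain ⟨δ, hδ, ht⟩ := hC p hp
    obtain ⟨α, hα⟩ := hS.full a ha (s • p) (by rw [map_smul, LinearMap.smul_apply, e, smul_zero])
    by_cases h0 : β = 0
    · rw [h0]; exact r_zero p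
    by_cases h1 : β = δ
    · rwa [h1]
    obtain ⟨γ, hγ⟩ := hc a ha
    have hk : 1 / β + 1 / δ ≠ 0 := fun k => h1 (by
      rw [CharTwo.add_eq_zero] at k
      simpa using k)
    obtain ⟨t, ht'⟩ := exists_sq (γ / (1 / β + 1 / δ))
    refine absurd ?_ hγ
    convert ((z_of_r h e hα hβ).r h h0 (hS.full a ha) e hi t).diff h
      ((z_of_t (a := a) ht).r h hδ (hS.full a ha) e hi t) using 1
    rw [← div_mul_cancel₀ γ hk, ← ht']; ring
  obtain ⟨a, ha⟩ := hS.nonempty
  obtain ⟨b, hb, e⟩ := hS.opp h (hS.ne a ha)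
  obtain ⟨u, hu0, hu1, hu2⟩ := h.exists_W a b
  obtain ⟨δ, hδ, ht⟩ := hC a ha
  obtain ⟨s, hs, hr⟩ : ∃ s : F, s ≠ 0 ∧ R B M a (s • u) 0 := by
    choose c hc' using fun s : F => hS.full a ha (s • u) (by simp [hu1])
    let φ : F × Bool → F := fun x => c x.1 + if x.2 then δ else 0
    have hφ : ∀ x, R B M a (x.1 • u) (φ x) := fun ⟨s, ε⟩ => by
      cases ε
      · simpa [φ] using hc' s
      · simpa [φ] using (hc' s).add_t h ht
    obtain ⟨x, y, hne, hxy⟩ : ∃ x y, x ≠ y ∧ φ x = φ y := by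
      have := Fintype.ofFinite F
      refine Fintype.exists_ne_map_eq_of_card_lt φ ?_
      have := Fintype.card_pos (α := F)
      simp only [Fintype.card_prod, Fintype.card_bool]; omega
    refine ⟨x.1 + y.1, fun k => ?_, ?_⟩
    · rw [CharTwo.add_eq_zero] at k
      obtain ⟨s, ε⟩ := x
      obtain ⟨s', ε'⟩ := y
      simp only at k
      subst k
      cases ε <;> cases ε' <;> simp [φ, hδ] at hne hxy
    · convert (hφ x).mul h (hφ y) using 1
      · rw [add_smul]
      · simp [hxy, h.self, CharTwo.add_self_eq_zero]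
  have hp0 : s • u ≠ 0 := smul_ne_zero hs hu0
  have hp : s • u ∈ S := hS.mem_of_r h hb e (by simp [hu2]) hp0 (by simpa using hb) hr
  have hi := notMem_of_perp e (p := s • u) (by simp [h.sym b, hu2]) hp0
  obtain ⟨δ', hδ', ht'⟩ := hC _ hp
  obtain ⟨γ, hγ⟩ := hc a ha
  obtain ⟨t, ht2⟩ := exists_sq (γ * δ')
  have := keyC _ hp a ha (by rw [h.sym]; exact hr.1) (indep_symm hi (hS.ne a ha)) t _
    ((z_of_t (a := a) ht').r h hδ' (hS.full a ha) hr.1 hi t)
  rw [ht2, mul_div_cancel_right₀ _ hδ'] at this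
  exact hγ this

/-- Decomposition along a hyperbolic pair. -/
theorem Ctx.decomp (h : Ctx B M) (e : B b a = 1) (x : V) :
    ∃ w, B w a = 0 ∧ B w b = 0 ∧ x = B x a • b + w + B x b • a :=
  ⟨x + B x a • b + B x b • a, by simp [e, h.self, CharTwo.add_self_eq_zero],
    by simp [e, h.self, h.sym a b, CharTwo.add_self_eq_zero], by match_scalars <;> grind⟩

theorem Pts.off_of_line (h : Ctx B M) (hS : Pts B M S) (ha : a ∈ S) (e : B b a = 1)
    (H : ∀ γ : F, b + γ • a ∈ S) (x : V) (hx : B x a ≠ 0) : x ∈ S := by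
  obtain ⟨w, h1, h2, h3⟩ := h.decomp e ((B x a)⁻¹ • x)
  obtain ⟨γ, hγ⟩ := hS.full a ha w h1
  have := hS.smul _ (hS.has hγ.2 (H (γ + B ((B x a)⁻¹ • x) b))) _ hx
  convert this using 1
  rw [← inv_smul_eq_iff₀ hx]
  refine h3.trans ?_
  simp only [map_add, map_smul, LinearMap.add_apply, LinearMap.smul_apply, smul_eq_mul, h.self,
    e, h.sym b w, h2, h.sym a w, h1, inv_mul_cancel₀ hx]
  match_scalars <;> grind

theorem Ctx.sp_le (h : Ctx B M) (ha0 : a ≠ 0) (ha : Full B M a) (ht : ∀ γ, R B M a 0 γ) :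
    SpG B ≤ M := by
  have hS : Pts B M {p | p ≠ 0 ∧ Full B M p ∧ ∀ γ, R B M p 0 γ} :=
    ⟨fun p hp => hp.1, fun g hg p hp => ⟨by simpa using hp.1, hp.2.1.conj h hg,
      fun γ => by simpa using (hp.2.2 γ).conj h hg⟩,
      fun p hp c hc => ⟨smul_ne_zero hc hp.1, hp.2.1.smul hc,
        fun γ => by
          have := (hp.2.2 (γ * c ^ 2)).smul hc
          rwa [mul_div_cancel_right₀ _ (pow_ne_zero 2 hc), smul_zero] at this⟩, fun p hp => hp.2.1,
      ⟨a, ha0, ha, ht⟩⟩
  obtain ⟨b, hb, e⟩ := hS.opp h ha0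
  have hall := fun x => hS.all_of_off h ha0 (hS.off_of_line h ⟨ha0, ha, ht⟩ e fun γ => by
    simpa [e] using hS.has (ht γ).2 hb) ⟨ha0, ha, ht⟩ (x := x)
  intro g hg
  have : (⟨g, hg⟩ : SpG B) ∈ M.comap (SpG B).subtype := by
    have k : M.comap (SpG B).subtype = ⊤ := by
      rw [eq_top_iff, ← sp_closure_spT h.nd h.alt, Subgroup.closure_le]
      rintro _ ⟨v, c, rfl⟩
      by_cases hv : v = 0
      · rw [hv]; simpa using one_mem _
      obtain ⟨g, hg, eg⟩ := ((hall v hv).2.2 c).2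
      have : g = (spT h.alt v c).1 := LinearEquiv.ext fun x => by simp [eg]
      exact show (spT h.alt v c).1 ∈ M from this ▸ hg
    rw [k]; trivial
  exact this

end Cfsg.Agent.Cl.MaxSp.Two
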