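import Mathlib
import Cfsg.Agent.Cl.MaxSpTwoA
import Cfsg.Agent.Cl.OrthOmega

/-!
# Irreducible subgroups of `Sp(V)` with large `2`-transvection groups: no transvections
-/

set_option autoImplicit false
set_option linter.unusedSectionVars false
set_option linter.unusedVariables false

namespace Cfsg.Agent.Cl.MaxSp.Two

open Module Cfsg.Agent.Cl.MSL

variable {F V : Type*} [Field F] [CharP F 2] [AddCommGroup V] [Module F V]
  [FiniteDimensional F V] [Finite F]
  {B : LinearMap.BilinForm F V} {M : Subgroup (V ≃ₗ[F] V)} {S : Set V} {a b p u u' w : V}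
  {γ γ' α β : F}

/-- `M` has no transvection with centre `a`. -/
def NoT (B : LinearMap.BilinForm F V) (M : Subgroup (V ≃ₗ[F] V)) (a : V) : Prop :=
  ∀ δ, R B M a 0 δ → δ = 0

theorem NoT.uniq (h : Ctx B M) (hn : NoT B M a) (h1 : R B M a u γ) (h2 : R B M a u γ') :
    γ = γ' := CharTwo.add_eq_zero.1 (hn _ (h1.diff h h2))

theorem Ctx.exists_pair (h : Ctx B M) (e : B b a = 1) (hu0 : u ≠ 0) (h1 : B u a = 0)
    (h2 : B u b = 0) (t : F) : ∃ v, B v a = 0 ∧ B v b = 0 ∧ B v u = t := by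
  obtain ⟨y, y1, y2⟩ := h.sep (notMem_of_perp e (by rw [h.sym, h2]) hu0) t
  exact ⟨y + B y b • a, by simp [y1, h.self], by simp [h.sym a b, e, CharTwo.add_self_eq_zero],
    by simp [y2, h.sym a u, h1]⟩

theorem NoT.surj (h : Ctx B M) (hn : NoT B M a) (ha : Full B M a) (e : B b a = 1) (γ : F) :
    ∃ w, B w b = 0 ∧ R B M a w γ := by
  classical
  obtain ⟨u, hu0, hu1, hu2⟩ := h.exists_W a b
  obtain ⟨v, v1, v2, v3⟩ := h.exists_pair e hu0 hu1 hu2 1
  choose c hc using fun s : F => ha (s • u) (by simp [hu1])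
  obtain ⟨t, ht⟩ : ∃ t : F, ∀ s, s ≠ 0 → c s ≠ t * s := by
    by_contra! k
    choose f hf hf' using k
    have hinj : Function.Injective f := fun x y hxy =>
      mul_right_cancel₀ (hf y) (by rw [← hf' y, ← hxy, hf' x])
    obtain ⟨x, hx⟩ := Finite.injective_iff_surjective.1 hinj 0
    exact hf x hx
  have hinj : Function.Injective fun s => c s + t * s := fun s s' k => by
    by_contra hne
    refine ht (s + s') (fun k' => hne (CharTwo.add_eq_zero.1 k')) ?_
    have := hn.uniq h (hc (s + s')) (by simpa [add_smul] using (hc s).mul h (hc s'))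
    simp only [h.self] at this k
    grind
  obtain ⟨β, hβ⟩ := ha (t • v) (by simp [v1])
  obtain ⟨s, hs⟩ := Finite.injective_iff_surjective.1 hinj (γ + β)
  refine ⟨s • u + t • v, by simp [hu2, v2], ?_⟩
  convert (hc s).mul h hβ using 1
  simp only [map_smul, LinearMap.smul_apply, smul_eq_mul, v3] at hs ⊢
  grind

/-- Three points on a hyperbolic line force the field with two elements. -/
theorem Pts.two_of_line (h : Ctx B M) (hS : Pts B M S) (hn : ∀ p ∈ S, NoT B M p) (ha : a ∈ S)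
    (hb : b ∈ S) (e : B b a = 1) (hγ : γ ≠ 0) (hl : b + γ • a ∈ S) : ∀ t : F, t ≠ 0 → t = 1 := by
  intro t ht
  obtain ⟨w, w1, w2⟩ := (hn a ha).surj h (hS.full a ha) e γ
  have hw0 : w ≠ 0 := by rintro rfl; exact hγ (hn a ha _ w2)
  have hw := hS.mem_of_r h hb e w1 hw0 hl w2
  have hi := notMem_of_perp e (by rw [h.sym, w1]) hw0
  have hi' := indep_symm hi (hS.ne a ha)
  have e' : B a w = 0 := by rw [h.sym, w2.1]
  obtain ⟨β, hβ⟩ := hS.full w hw ((1 : F) • a) (by simp [e'])
  have k1 := (z_of_r h w2.1 (s := 1) (by simpa using w2) hβ).symm.r h hγ (hS.full w hw) e' hi' t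
  obtain ⟨α, hα⟩ := hS.full a ha (t • w) (by simp [w2.1])
  have k2 := (z_of_r h w2.1 hα k1).r h (by simp [ht, hγ]) (hS.full a ha) w2.1 hi 1
  have k3 := (hn a ha).uniq h (by simpa using k2) w2
  have : (t + 1) ^ 2 = 0 := by field_simp at k3; grind
  exact CharTwo.add_eq_zero.1 (pow_eq_zero_iff two_ne_zero |>.1 this)

theorem Z.trans (h : Ctx B M) {r : V} (h1 : Z B M a p 1 1) (h2 : Z B M p r 1 1) (e1 : B p a = 0)
    (e2 : B r a = 0) (e3 : B r p = 0) : Z B M a r 1 1 :=
  (Has.comp h1 h2).congr fun x => by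
    simp only [map_add, map_smul, LinearMap.add_apply, LinearMap.smul_apply, smul_eq_mul,
      h.self, e1, e2, e3]
    match_scalars <;> grind

theorem Pts.dim_le_four (h : Ctx B M) (hS : Pts B M S) (hn : ∀ p ∈ S, NoT B M p)
    (h2 : ∀ t : F, t ≠ 0 → t = 1) (hall : ∀ x, x ≠ 0 → x ∈ S) : finrank F V ≤ 4 := by
  by_contra! hd
  have ind : ∀ a p : V, p ≠ 0 → p ≠ a → ∀ c : F, p ≠ c • a := fun a p h0 h1 c => by
    by_cases hc : c = 0
    · simpa [hc] using h0
    · simpa [h2 c hc] using h1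
  have zr : ∀ a p : V, a ≠ 0 → p ≠ 0 → p ≠ a → B p a = 0 → Z B M a p 1 1 → R B M a p 1 :=
    fun a p h0 h1 h3 e hz => by
      simpa using hz.r h one_ne_zero (hS.full a (hall a h0)) e (ind a p h1 h3) 1
  have rz : ∀ a p : V, a ≠ 0 → p ≠ 0 → p ≠ a → R B M a p 1 → Z B M a p 1 1 :=
    fun a p h0 h1 h3 hr => by
      have e' : B a p = 0 := by rw [h.sym, hr.1]
      obtain ⟨β, hβ⟩ := hS.full p (hall p h1) a e'
      have hz := z_of_r h hr.1 (s := 1) (by simpa using hr) (by simpa using hβ)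
      have k := hz.symm.r h one_ne_zero (hS.full p (hall p h1)) e' (ind p a h0 h3.symm) 1
      rwa [(hn p (hall p h1)).uniq h hβ (by simpa using k)] at hz
  obtain ⟨a, ha⟩ := hS.nonempty
  have ha0 := hS.ne a ha
  obtain ⟨b, hb, e⟩ := hS.opp h ha0
  obtain ⟨p, p1, p2⟩ := (hn a ha).surj h (hS.full a ha) e 1
  have hp0 : p ≠ 0 := by rintro rfl; exact one_ne_zero (hn a ha _ p2)
  obtain ⟨p', q1, q2, q3⟩ := h.exists_pair e hp0 p2.1 p1 1
  obtain ⟨r, r0, r1, r2, r3, r4, r5⟩ : ∃ r, r ≠ 0 ∧ r ≠ p ∧ B r b = 0 ∧ B r p = 0 ∧ r + p ≠ 0 ∧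
      R B M a r 1 := by
    obtain ⟨r, r0, r1, r2, r3, r4⟩ := exists_perp_four (B := B) hd a b p p'
    have k1 : r ≠ p := by rintro rfl; simp [r4] at q3
    have k2 : r + p ≠ 0 := fun k => by simpa [r4, q3] using congrArg (B p') k
    obtain ⟨c, hc⟩ := hS.full a ha r (by rw [h.sym, r1])
    by_cases h0 : c = 0
    · refine ⟨r + p, k2, by simpa using r0, by simp [h.sym r, r2, p1],
        by simp [h.sym r, r3, h.self], by simpa [add_assoc, vadd_self F] using r0, ?_⟩
      simpa [h0, r3] using hc.mul h p2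
    · exact ⟨r, r0, k1, by rw [h.sym, r2], by rw [h.sym, r3], k2, h2 c h0 ▸ hc⟩
  have na : ∀ x, B x b = 0 → x ≠ a := by
    rintro x hx rfl
    rw [h.sym, e] at hx
    exact one_ne_zero hx
  have z1 := rz a p ha0 hp0 (na p p1) p2
  have z2 := rz a r ha0 r0 (na r r2) r5
  have z3 := z1.symm.trans h z2 (by rw [h.sym, p2.1]) r3 r5.1
  have k1 := (zr p r hp0 r0 r1 r3 z3).add_self h 1
  rw [one_smul] at k1
  have z4 := rz p (r + p) hp0 r4 (by simpa using r0) k1
  have k2 := zr a (r + p) ha0 r4 (na _ (by simp [r2, p1])) (by simp [r5.1, p2.1])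
    (z1.trans h z4 p2.1 (by simp [r5.1, p2.1]) k1.1)
  have := (hn a ha).uniq h k2 (r5.mul h p2)
  rw [h.sym p r, r3] at this
  grind

/-- The hyperbolic line through `a` and `b` has no further point. -/
def Thin (S : Set V) (a b : V) : Prop := ∀ γ : F, b + γ • a ∈ S → γ = 0

theorem Thin.symm (hS : Pts B M S) (h : Thin (F := F) S a b) : Thin (F := F) S b a :=
  fun γ hγ => by
    by_contra h0
    refine inv_ne_zero h0 (h γ⁻¹ ?_)
    simpa [smul_smul, h0, add_comm] using hS.smul _ hγ γ⁻¹ (inv_ne_zero h0)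

theorem Thin.key (h : Ctx B M) (hS : Pts B M S) (ht : Thin (F := F) S a b) (e : B b a = 1)
    (hr : R B M a w γ) (hw : B w b = 0) (hx : b + w + γ' • a ∈ S) : γ' = γ := by
  refine CharTwo.add_eq_zero.1 (ht _ ?_)
  convert hS.has hr.2 hx using 1
  simp only [map_add, map_smul, LinearMap.add_apply, LinearMap.smul_apply, smul_eq_mul, h.self,
    e, h.sym b w, hw, h.sym a w, hr.1]
  match_scalars <;> grind

theorem Pts.r_mem (h : Ctx B M) (hS : Pts B M S) (hb : b ∈ S) (e : B b a = 1)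
    (hr : R B M a w γ) (hw : B w b = 0) : b + w + γ • a ∈ S := by
  simpa [e, h.sym b w, hw] using hS.has hr.2 hb

theorem Thin.swap (h : Ctx B M) (hS : Pts B M S) (ht : Thin (F := F) S a b) (ha : a ∈ S)
    (hb : b ∈ S) (e : B b a = 1) {c : F} (hr : R B M a u c) (hu : B u b = 0) (hc : c ≠ 0)
    {v : V} (v1 : B v a = 0) (v2 : B v b = 0) (hx : β • b + v + α • a ∈ S) :
    (α / c) • b + (v + (B v u / c) • u) + (β * c) • a ∈ S := by
  have e' : B a b = 1 := by rw [h.sym, e]
  obtain ⟨d, hd⟩ := hS.full b hb (c⁻¹ • u) (by simp [hu])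
  have k : c⁻¹ = d := (ht.symm hS).key h hS e' hd (by simp [hr.1]) (by
    convert hS.smul _ (hS.r_mem h hb e hr hu) c⁻¹ (inv_ne_zero hc) using 1
    match_scalars <;> field_simp)
  subst k
  convert hS.has hd.2 (hS.has hr.2 (hS.has hd.2 hx)) using 1
  simp only [map_add, map_smul, LinearMap.add_apply, LinearMap.smul_apply, smul_eq_mul, h.self,
    e, e', h.sym b u, hu, h.sym a u, hr.1, v1, v2]
  match_scalars <;> field_simp <;> grind

theorem Thin.r_smul_zero (h : Ctx B M) (hS : Pts B M S) (ht : Thin (F := F) S a b) (ha : a ∈ S)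
    (hb : b ∈ S) (e : B b a = 1) (hr : R B M a w 0) (hw : B w b = 0) {r : F}
    (hr' : R B M a (r • w) γ) : γ = 0 := by
  refine (ht.key h hS e hr' (by simp [hw]) ?_).symm
  by_cases h0 : r • w = 0
  · simpa [h0] using hb
  have hw0 : w ≠ 0 := by rintro rfl; simp at h0
  have hr0 : r ≠ 0 := by rintro rfl; simp at h0
  have k := hS.smul _ (hS.mem_of_r h hb e hw hw0 (by simpa using hb) hr) r hr0
  have := hS.perp h hb k (by simp [hw])
    (notMem_of_perp (b := a) (by rw [h.sym, e]) (by rw [h.sym]; exact hr'.1) h0) 1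
  simpa [add_comm] using this

theorem Thin.r_smul (h : Ctx B M) (hS : Pts B M S) (ht : Thin (F := F) S a b) (ha : a ∈ S)
    (hb : b ∈ S) (e : B b a = 1) (hr : R B M a w γ) (hw : B w b = 0) (r : F) :
    R B M a (r • w) (r ^ 2 * γ) := by
  obtain ⟨γ₂, h2⟩ := hS.full a ha (r • w) (by simp [hr.1])
  suffices γ₂ = r ^ 2 * γ by rwa [← this]
  by_cases g1 : γ = 0
  · subst g1
    simpa using ht.r_smul_zero h hS ha hb e hr hw h2
  by_cases r0 : r = 0
  · subst r0
    simpa using (ht.key h hS e h2 (by simp) (γ' := 0) (by simpa using hb)).symm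
  by_cases g2 : γ₂ = 0
  · subst g2
    exact absurd (ht.r_smul_zero h hS ha hb e h2 (by simp [hw]) (r := r⁻¹)
      (by simpa [smul_smul, r0] using hr)) g1
  have w0 : w ≠ 0 := by
    rintro rfl
    exact g1 (ht.key h hS e hr hw (γ' := 0) (by simpa using hb)).symm
  have of_mem : ∀ v c, B v a = 0 → B v b = 0 → b + v + c • a ∈ S → R B M a v c :=
    fun v c v1 v2 hx => by
      obtain ⟨c', hc'⟩ := hS.full a ha v v1
      rwa [ht.key h hS e hc' v2 hx]
  obtain ⟨s, hs⟩ : ∃ s, s = γ₂ / γ := ⟨_, rfl⟩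
  obtain ⟨κ, hκ⟩ : ∃ κ, κ = 1 / γ + r ^ 2 / γ₂ := ⟨_, rfl⟩
  have s0 : s ≠ 0 := by simp [hs, g1, g2]
  have step : ∀ v c, B v b = 0 → R B M a v c → R B M a (s • (v + (κ * B v w) • w)) (s ^ 2 * c) := by
    intro v c v2 hv
    have m0 : (1 : F) • b + v + c • a ∈ S := by simpa using hS.r_mem h hb e hv v2
    have m1 := ht.swap h hS ha hb e hr hw g1 hv.1 v2 m0
    have m2 := ht.swap h hS ha hb e h2 (by simp [hw]) g2 (by simp [hv.1, hr.1])
      (by simp [v2, hw]) m1
    refine of_mem _ _ (by simp [hv.1, hr.1]) (by simp [v2, hw]) ?_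
    convert hS.smul _ m2 s s0 using 1
    simp only [map_add, map_smul, LinearMap.add_apply, LinearMap.smul_apply, smul_eq_mul, h.self,
      hs, hκ]
    match_scalars <;> field_simp <;> ring
  have step2 : ∀ (j : ℕ) v c, B v b = 0 → R B M a v c →
      R B M a (s ^ (2 * j) • v) ((s ^ (2 * j)) ^ 2 * c) := fun j v c v2 hv => by
    induction j with
    | zero => simpa using hv
    | succ j ih =>
      convert step _ _ (by simp [v2, hw]) (step _ _ (by simp [v2]) ih) using 1
      · simp only [map_add, map_smul, LinearMap.add_apply, LinearMap.smul_apply, smul_eq_mul,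
          h.self]
        match_scalars <;> grind
      · ring
  have step3 : ∀ v c, B v b = 0 → R B M a v c → R B M a (s • v) (s ^ 2 * c) := by
    have := Fintype.ofFinite F
    obtain ⟨j, hj⟩ : 2 ∣ Fintype.card F := by
      obtain ⟨n, -, hn⟩ := FiniteField.card F 2
      rw [hn]; exact dvd_pow_self 2 n.ne_zero
    have := step2 j
    rwa [← hj, FiniteField.pow_card] at this
  have uq : ∀ v c c', B v b = 0 → R B M a v c → R B M a v c' → c = c' := fun v c c' v2 k k' =>
    ht.key h hS e k' v2 (hS.r_mem h hb e k v2)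
  have step4 : ∀ ρ : F, R B M a ((κ * ρ) • w) (κ * ρ ^ 2) := fun ρ => by
    obtain ⟨v, v1, v2, v3⟩ := h.exists_pair e w0 hr.1 hw ρ
    obtain ⟨c, hc⟩ := hS.full a ha v v1
    obtain ⟨d, hd⟩ := hS.full a ha ((κ * ρ) • w) (by simp [hr.1])
    have k1 := step v c v2 hc
    have k2 := step3 _ _ (by simp [v2, hw]) (hc.mul h hd)
    rw [v3] at k1
    have k3 := mul_left_cancel₀ (pow_ne_zero 2 s0) (uq _ _ _ (by simp [v2, hw]) k1 k2)
    simp only [map_smul, LinearMap.smul_apply, smul_eq_mul, h.sym w v, v3] at k3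
    convert hd using 1
    grind
  by_cases k0 : κ = 0
  · rw [k0, eq_comm, CharTwo.add_eq_zero] at hκ
    field_simp at hκ
    grind
  · have k1 := uq _ _ _ hw hr (by simpa [k0] using step4 κ⁻¹)
    have k2 := uq _ _ _ (by simp [hw]) h2 (by simpa [k0, mul_div_cancel₀] using step4 (r / κ))
    rw [k1, k2]; field_simp

/-- The invariant quadratic form. -/
theorem Thin.exists_quad (h : Ctx B M) (hS : Pts B M S) (ht : Thin (F := F) S a b) (ha : a ∈ S)
    (hb : b ∈ S) (e : B b a = 1) :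
    ∃ Q : QuadraticForm F V, (∀ x y, QuadraticMap.polar Q x y = B x y) ∧ (∀ p ∈ S, Q p = 0) := by
  have e' : B a b = 1 := by rw [h.sym, e]
  let π : V → V := fun x => x + B x a • b + B x b • a
  have π1 : ∀ x, B (π x) a = 0 := fun x => by simp [π, e, h.self, CharTwo.add_self_eq_zero]
  have π2 : ∀ x, B (π x) b = 0 := fun x => by simp [π, e', h.self, CharTwo.add_self_eq_zero]
  choose c hc using fun x => hS.full a ha (π x) (π1 x)
  have uq : ∀ x γ, R B M a (π x) γ → c x = γ := fun x γ k =>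
    ht.key h hS e k (π2 x) (hS.r_mem h hb e (hc x) (π2 x))
  let q : V → F := fun x => B x a * B x b + c x
  have hadd : ∀ x y, QuadraticMap.polar q x y = B x y := fun x y => by
    have k := uq (x + y) _ (by
      convert (hc x).mul h (hc y) using 1
      simp only [π, map_add, LinearMap.add_apply]; module)
    simp only [QuadraticMap.polar, q, k, π, map_add, map_smul, LinearMap.add_apply,
      LinearMap.smul_apply, smul_eq_mul, h.self, e, e', h.sym a x, h.sym b x, h.sym y x]
    grind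
  refine ⟨QuadraticMap.ofPolar q (fun r x => ?_) (fun x y z => by simp [hadd])
    (fun r x y => by simp [hadd]), hadd, fun p hp => ?_⟩
  · have k := uq (r • x) _ (by
      convert ht.r_smul h hS ha hb e (hc x) (π2 x) r using 1
      simp only [π, map_smul, LinearMap.smul_apply, smul_eq_mul]; module)
    simp only [q, k, map_smul, LinearMap.smul_apply, smul_eq_mul]; ring
  · change B p a * B p b + c p = 0
    by_cases h0 : B p a = 0
    · rw [h0, zero_mul, zero_add]
      refine uq p 0 ?_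
      by_cases w0 : π p = 0
      · rw [w0]; exact r_zero a
      have hi : ∀ t : F, p ≠ t • a := by
        rintro t rfl
        exact w0 (by simp [π, h.self, e', vadd_self F])
      have k1 : π p ∈ S := by simpa [π, h0] using hS.perp h ha hp h0 hi (B p b)
      have k2 := hS.perp h hb k1 (π2 p) (notMem_of_perp e' (by rw [h.sym, π1]) w0) 1
      convert hc p
      exact ht.key h hS e (hc p) (π2 p) (γ' := 0) (by simpa [add_comm] using k2)
    · have k := ht.key h hS e (ht.r_smul h hS ha hb e (hc p) (π2 p) (B p a)⁻¹) (by simp [π2])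
        (γ' := B p b / B p a) (by
          convert hS.smul p hp _ (inv_ne_zero h0) using 1
          simp only [π]
          match_scalars <;> field_simp <;> grind)
      field_simp at k
      grind

theorem Pts.le_OG (h : Ctx B M) (hS : Pts B M S) {Q : QuadraticForm F V}
    (hQ : ∀ x y, QuadraticMap.polar Q x y = B x y) (h0 : ∀ p ∈ S, Q p = 0) : M ≤ OG Q := by
  intro g hg x
  have hx : x ∈ Submodule.span F S := by rw [hS.span h]; trivial
  induction hx using Submodule.span_induction with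
  | mem p hp => rw [h0 p hp, h0 _ (hS.map g hg p hp)]
  | zero => simp
  | add x y _ _ hx hy =>
    rw [map_add, QuadraticMap.map_add Q, QuadraticMap.map_add Q, hx, hy, hQ, hQ, h.iso g hg]
  | smul c x _ hx => rw [map_smul, QuadraticMap.map_smul, QuadraticMap.map_smul, hx]

theorem eich_mem (h : Ctx B M) {Q : QuadraticForm F V}
    (hQ : ∀ x y, QuadraticMap.polar Q x y = B x y) (hM : M ≤ OG Q) (ha : Full B M a)
    (e : B b a = 1) (qa : Q a = 0) (w : V) : eich Q a w ∈ M.subgroupOf (OG Q) := by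
  by_cases hw : QuadraticMap.polar Q a w = 0
  swap
  · rw [eich_of_not fun k => hw k.2]; exact one_mem _
  obtain ⟨d, h1, g, hg, eg⟩ := ha w (by rw [h.sym, ← hQ, hw])
  have k : Q (g b) = Q b := hM hg b
  rw [eg] at k
  simp only [QuadraticMap.map_add Q, QuadraticMap.map_smul, hQ, map_add, map_smul,
    LinearMap.add_apply, LinearMap.smul_apply, smul_eq_mul, e, h.self, h1, h.sym a w, qa] at k
  have : g = (eich Q a w).1 := LinearEquiv.ext fun x => by
    rw [eich_app qa hw, eg, hQ, hQ, show Q w = d by grind]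
    match_scalars <;> grind
  exact Subgroup.mem_subgroupOf.2 (this ▸ hg)

theorem ker_dickson_le_EO {Q : QuadraticForm F V} (hQ : (QuadraticMap.polarBilin Q).Nondegenerate)
    (hn : 3 ≤ finrank F V) {u u' : V} (hu : Q u = 0) (hu' : Q u' = 0)
    (huu' : QuadraticMap.polar Q u u' = 1) : (dickson hQ).ker ≤ EO Q := by
  let π := QuotientGroup.mk' (EO Q)
  have hπ : ∀ g, π g = 1 ↔ g ∈ EO Q := fun g => QuotientGroup.eq_one_iff g
  have q1 : Q (u + u') ≠ 0 := by simpa using (o_norm_hyp' hu hu' huu' 1).trans_ne one_ne_zero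
  have r2 : π (orefl Q (u + u')) * π (orefl Q (u + u')) = 1 := by simp [← map_mul]
  have key : ∀ g : OG Q, (π g = 1 ∧ dickson hQ g = 1) ∨
      (π g = π (orefl Q (u + u')) ∧ dickson hQ g = -1) := fun g => by
    have hg : g ∈ Subgroup.closure (oreflSet Q ∪ siegelSet Q) := by
      rw [closure_oreflSet_union_siegelSet hQ]; trivial
    induction hg using Subgroup.closure_induction with
    | mem g hg =>
      rcases hg with ⟨v, hv, rfl⟩ | ⟨v, w, -, -, -, rfl⟩
      · obtain ⟨t, ht, -, k⟩ := exists_orefl_hyp_mod_EO hQ hu hu' huu' hv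
        obtain ⟨c, rfl⟩ := exists_sq t
        have k' := otor_sq_mem_EO hQ hu hu' huu' hn (c := c) (by rintro rfl; simp at ht)
        rw [← hπ, map_mul] at k
        rw [← hπ, otor, map_mul] at k'
        exact Or.inr ⟨mul_right_cancel (k.trans k'.symm), dickson_orefl hQ hv⟩
      · exact Or.inl ⟨(hπ _).2 (eich_mem_EO v w), dickson_eich hQ v w⟩
    | one => simp
    | mul x y _ _ hx hy =>
      rcases hx with hx | hx <;> rcases hy with hy | hy <;> simp [hx.1, hx.2, hy.1, hy.2, r2]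
    | inv x _ hx =>
      rcases hx with hx | hx
      · simp [hx.1, hx.2]
      · simp [hx.1, hx.2, inv_eq_of_mul_eq_one_right r2]
  intro g hg
  rcases key g with k | k
  · exact (hπ g).1 k.1
  · rw [MonoidHom.mem_ker, k.2] at hg
    exact absurd hg (by decide)

theorem Thin.main (h : Ctx B M) (hS : Pts B M S) (ht : Thin (F := F) S a b) (ha : a ∈ S)
    (hb : b ∈ S) (e : B b a = 1) :
    ∃ Q : QuadraticForm F V, (∀ x y, QuadraticMap.polar Q x y = B x y) ∧
      (M = OG Q ∨ ∀ g, g ∈ M ↔ ∃ hg : g ∈ OG Q, Even (orank ⟨g, hg⟩)) := by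
  obtain ⟨Q, hQ, h0⟩ := ht.exists_quad h hS ha hb e
  have hM := hS.le_OG h hQ h0
  have hnd : (QuadraticMap.polarBilin Q).Nondegenerate :=
    o_nondeg_of fun x hx => h.nd.1 x fun y => by rw [← hQ, hx]
  have e' : B a b = 1 := by rw [h.sym, e]
  have k : (dickson hnd).ker ≤ M.subgroupOf (OG Q) :=
    (ker_dickson_le_EO hnd (by have := h.dim; omega) (h0 a ha) (h0 b hb) (by rw [hQ, e'])).trans
      (EO_le_of_pair hnd (h0 a ha) (h0 b hb) (by rw [hQ, e'])
        (eich_mem h hQ hM (hS.full a ha) e (h0 a ha)) (eich_mem h hQ hM (hS.full b hb) e' (h0 b hb)))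
  refine ⟨Q, hQ, ?_⟩
  by_cases hc : ∀ g (hg : g ∈ M), dickson hnd ⟨g, hM hg⟩ = 1
  · exact Or.inr fun g => ⟨fun hg => ⟨hM hg, (dickson_eq_one_iff hnd _).1 (hc g hg)⟩,
      fun ⟨hg, he⟩ => k (show (⟨g, hg⟩ : OG Q) ∈ _ from (dickson_eq_one_iff hnd _).2 he)⟩
  · push Not at hc
    obtain ⟨g₀, hg₀, hd⟩ := hc
    refine Or.inl (le_antisymm hM fun g hg => ?_)
    by_cases h1 : dickson hnd ⟨g, hg⟩ = 1
    · exact k (show (⟨g, hg⟩ : OG Q) ∈ _ from h1)
    · have : (⟨g₀, hM hg₀⟩ : OG Q) * ⟨g, hg⟩ ∈ (dickson hnd).ker := by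
        rw [MonoidHom.mem_ker, map_mul, (Int.units_eq_one_or _).resolve_left hd,
          (Int.units_eq_one_or _).resolve_left h1]
        simp
      exact (M.mul_mem_cancel_left hg₀).1 (k this)

end Cfsg.Agent.Cl.MaxSp.Two
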