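import Mathlib
import Cfsg.Agent.Cl.ClassSpOSS
import Cfsg.Agent.Cl.PSL2Finite
import Cfsg.Agent.Cl.SpTransv

/-! Every non-scalar element of `Sp₄(F)`, `|F| ≥ 3`, is a product of two conjugates of a fixed
regular semisimple element. -/

set_option autoImplicit false

open Matrix Polynomial Sum

namespace Cfsg.Agent.Cl.Ore4

variable {F : Type*} [Field F]

local notation "Sp4" => Matrix.symplecticGroup (Fin 2) F
local notation "ω" => spB 2 F
local notation "M2" => Matrix (Fin 2) (Fin 2) F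

/-- The characteristic polynomial of the class. -/
noncomputable def chi (τ μ : F) : F[X] :=
  (X ^ 2 - C τ * X + C μ) * (X ^ 2 - C (τ / μ) * X + C μ⁻¹)

/-- The admissible Levi components. -/
def InM (τ μ : F) (M : M2) : Prop :=
  (M.trace = τ ∧ M.det = μ) ∨ (M.trace = τ / μ ∧ M.det = μ⁻¹)

theorem InM.det_ne {τ μ : F} (hμ : μ ≠ 0) {M : M2} (h : InM τ μ M) : M.det ≠ 0 := by
  rcases h with h | h <;> rw [h.2]
  exacts [hμ, inv_ne_zero hμ]

theorem InM.charpoly {τ μ : F} (hμ : μ ≠ 0) {M D : M2} (h : InM τ μ M) (e : Mᵀ * D = 1) :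
    M.charpoly * D.charpoly = chi τ μ := by
  have hd : M.det * D.det = 1 := by rw [← det_transpose M, ← det_mul, e, det_one]
  have e00 := congrFun (congrFun e 0) 0
  have e01 := congrFun (congrFun e 0) 1
  have e10 := congrFun (congrFun e 1) 0
  have e11 := congrFun (congrFun e 1) 1
  simp [Matrix.mul_apply, Fin.sum_univ_two] at e00 e01 e10 e11
  have ht : D.trace * M.det = M.trace := by
    rw [trace_fin_two, trace_fin_two, det_fin_two]
    linear_combination M 1 1 * e00 - M 1 0 * e10 + M 0 0 * e11 - M 0 1 * e01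
  rw [charpoly_fin_two, charpoly_fin_two, chi]
  rcases h with ⟨h1, h2⟩ | ⟨h1, h2⟩
  · rw [h1, h2] at ht
    rw [h2] at hd
    rw [h1, h2, show D.trace = τ / μ by rw [← ht]; field_simp,
      show D.det = μ⁻¹ from eq_inv_of_mul_eq_one_right hd]
  · rw [h1, h2] at ht
    rw [h2] at hd
    rw [h1, h2, show D.trace = τ by field_simp at ht; exact ht,
      show D.det = μ by field_simp at hd; exact hd, mul_comm]

/-- Products of two symplectic matrices with characteristic polynomial `chi τ μ`. -/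
def Good (τ μ : F) (G : Sp4) : Prop :=
  ∃ A B : Sp4, A.1.charpoly = chi τ μ ∧ B.1.charpoly = chi τ μ ∧ G = A * B

theorem charpoly_conj (S A : Sp4) : (S * A * S⁻¹).1.charpoly = A.1.charpoly := by
  have : (S⁻¹ * S).1 = 1 := by rw [inv_mul_cancel]; rfl
  change (S.1 * A.1 * (S⁻¹).1).charpoly = _
  rw [Matrix.charpoly_mul_comm, ← Matrix.mul_assoc]
  change ((S⁻¹ * S).1 * A.1).charpoly = _
  rw [this, Matrix.one_mul]

theorem Good.of_conj {τ μ : F} {G : Sp4} (S : Sp4) (h : Good τ μ (S⁻¹ * G * S)) : Good τ μ G := by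
  obtain ⟨A, B, hA, hB, e⟩ := h
  refine ⟨S * A * S⁻¹, S * B * S⁻¹, by rw [charpoly_conj, hA], by rw [charpoly_conj, hB], ?_⟩
  calc G = S * (S⁻¹ * G * S) * S⁻¹ := by group
    _ = _ := by rw [e]; group

theorem good_A {τ μ : F} (hμ : μ ≠ 0) {G : Sp4} {M N : M2} (hM : InM τ μ M) (hN : InM τ μ N)
    (h : G.1.toBlocks₁₁ = M * N) : Good τ μ G := by
  obtain ⟨G, hG⟩ := G
  obtain ⟨A, B, C, D, rfl⟩ : ∃ A B C D : M2, G = fromBlocks A B C D :=
    ⟨_, _, _, _, (fromBlocks_toBlocks G).symm⟩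
  rw [toBlocks_fromBlocks₁₁] at h
  subst h
  obtain ⟨h1, -, -⟩ := SymplecticGroup.fromBlocks_mem_iff.1 hG
  have uM : IsUnit M.det := (hM.det_ne hμ).isUnit
  have uN : IsUnit N.det := (hN.det_ne hμ).isUnit
  have m1 : M⁻¹ * M = 1 := nonsing_inv_mul M uM
  have m2 : Mᵀ * M⁻¹ᵀ = 1 := by rw [← transpose_mul, m1, transpose_one]
  have n1 : N * N⁻¹ = 1 := mul_nonsing_inv N uN
  have n2 : N⁻¹ᵀ * Nᵀ = 1 := by rw [← transpose_mul, n1, transpose_one]
  have hX : fromBlocks M 0 (C * N⁻¹) M⁻¹ᵀ ∈ Sp4 := by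
    refine SymplecticGroup.fromBlocks_mem_iff.2 ⟨?_, by simp, by simp [m2]⟩
    rw [transpose_mul] at h1
    calc Mᵀ * (C * N⁻¹) = N⁻¹ᵀ * (Nᵀ * Mᵀ * C) * N⁻¹ := by
          simp only [← Matrix.mul_assoc, n2, Matrix.one_mul]
      _ = N⁻¹ᵀ * Cᵀ * M * (N * N⁻¹) := by rw [h1]; simp only [Matrix.mul_assoc]
      _ = _ := by rw [n1, Matrix.mul_one, transpose_mul]
  set X₁ : Sp4 := ⟨_, hX⟩ with hX₁
  set Y : Sp4 := X₁⁻¹ * ⟨_, hG⟩ with hY
  have hXY : X₁ * Y = ⟨_, hG⟩ := by rw [hY, mul_inv_cancel_left]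
  obtain ⟨P, Q, R, T, hP⟩ : ∃ P Q R T : M2, Y.1 = fromBlocks P Q R T :=
    ⟨_, _, _, _, (fromBlocks_toBlocks Y.1).symm⟩
  have e : fromBlocks M 0 (C * N⁻¹) M⁻¹ᵀ * fromBlocks P Q R T = fromBlocks (M * N) B C D := by
    rw [← hP]; exact congrArg Subtype.val hXY
  rw [fromBlocks_multiply] at e
  obtain ⟨e1, -, e3, -⟩ := fromBlocks_inj.1 e
  have hPN : P = N := by
    rw [Matrix.zero_mul, add_zero] at e1
    calc P = M⁻¹ * (M * P) := by rw [← Matrix.mul_assoc, m1, Matrix.one_mul]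
      _ = N := by rw [e1, ← Matrix.mul_assoc, m1, Matrix.one_mul]
  subst hPN
  have hR : R = 0 := by
    rw [Matrix.mul_assoc, nonsing_inv_mul P uN, Matrix.mul_one, add_eq_left] at e3
    rw [← Matrix.one_mul R, ← m2, Matrix.mul_assoc, e3, Matrix.mul_zero]
  subst hR
  have hY2 := Y.2
  rw [hP] at hY2
  obtain ⟨-, -, y3⟩ := SymplecticGroup.fromBlocks_mem_iff.1 hY2
  refine ⟨X₁, Y, ?_, ?_, hXY.symm⟩
  · rw [hX₁, charpoly_fromBlocks_zero₁₂]
    exact hM.charpoly hμ m2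
  · rw [hP, charpoly_fromBlocks_zero₂₁]
    exact hN.charpoly hμ (by simpa using y3)

theorem good_B {τ μ : F} (hμ : μ ≠ 0) {G : Sp4} {M N S : M2} (hM : InM τ μ M) (hN : InM τ μ N)
    (hS : Sᵀ = S) (h : G.1.toBlocks₁₂ * S = M * N) : Good τ μ G := by
  obtain ⟨G, hG⟩ := G
  obtain ⟨A, B, C, D, rfl⟩ : ∃ A B C D : M2, G = fromBlocks A B C D :=
    ⟨_, _, _, _, (fromBlocks_toBlocks G).symm⟩
  rw [toBlocks_fromBlocks₁₂] at h
  have uB : IsUnit B.det := by
    have := congrArg det h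
    rw [det_mul, det_mul] at this
    refine isUnit_iff_ne_zero.2 fun h0 => ?_
    rw [h0, zero_mul] at this
    exact mul_ne_zero (hM.det_ne hμ) (hN.det_ne hμ) this.symm
  have hT := SymplecticGroup.transpose_mem hG
  rw [fromBlocks_transpose] at hT
  obtain ⟨h1, -, -⟩ := SymplecticGroup.fromBlocks_mem_iff.1 hT
  rw [transpose_transpose, transpose_transpose] at h1
  have b1 : B⁻¹ * B = 1 := nonsing_inv_mul B uB
  have b2 : Bᵀ * B⁻¹ᵀ = 1 := by rw [← transpose_mul, b1, transpose_one]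
  have hsym : (S - B⁻¹ * A)ᵀ = S - B⁻¹ * A := by
    rw [transpose_sub, hS, transpose_mul]
    congr 1
    calc Aᵀ * B⁻¹ᵀ = B⁻¹ * (B * Aᵀ) * B⁻¹ᵀ := by
          simp only [← Matrix.mul_assoc, b1, Matrix.one_mul]
      _ = B⁻¹ * A * (Bᵀ * B⁻¹ᵀ) := by rw [← h1]; simp only [Matrix.mul_assoc]
      _ = _ := by rw [b2, Matrix.mul_one]
  have mem : ∀ U : M2, Uᵀ = U → fromBlocks 1 0 U 1 ∈ Sp4 := fun U hU =>
    SymplecticGroup.fromBlocks_mem_iff.2 ⟨by simp [hU], by simp, by simp⟩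
  set T : Sp4 := ⟨_, mem _ hsym⟩ with hTd
  set T' : Sp4 := ⟨_, mem (-(S - B⁻¹ * A)) (by rw [transpose_neg, hsym])⟩ with hT'd
  have hTT : T⁻¹ = T' := by
    refine inv_eq_of_mul_eq_one_right (Subtype.ext ?_)
    change fromBlocks 1 0 (S - B⁻¹ * A) 1 * fromBlocks 1 0 (-(S - B⁻¹ * A)) 1 = 1
    rw [fromBlocks_multiply, ← fromBlocks_one]
    simp
  refine Good.of_conj T (good_A hμ hM hN ?_)
  rw [hTT]
  change (fromBlocks 1 0 (-(S - B⁻¹ * A)) 1 * fromBlocks A B C D *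
    fromBlocks 1 0 (S - B⁻¹ * A) 1).toBlocks₁₁ = _
  rw [fromBlocks_multiply, fromBlocks_multiply, toBlocks_fromBlocks₁₁, ← h]
  simp only [Matrix.one_mul, Matrix.zero_mul, add_zero, Matrix.mul_one, Matrix.mul_sub,
    ← Matrix.mul_assoc, mul_nonsing_inv B uB]
  abel

theorem entry_conj (S G : Sp4) (i : Fin 2) (j : Fin 2 ⊕ Fin 2) :
    (S⁻¹ * G * S).1 (inl i) j =
      ω (S.1 *ᵥ Pi.single (inr i) 1) (G.1 *ᵥ (S.1 *ᵥ Pi.single j 1)) := by
  rw [← spB_mulVec S⁻¹, sp_inv_mulVec_mulVec, ← sp_mul_mulVec, ← sp_mul_mulVec, spB_single_inr,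
    one_mul, Matrix.mulVec_single_one, Matrix.col_apply]

theorem exists_frame (e₁ e₂ f₁ f₂ : Fin 2 ⊕ Fin 2 → F) (h1 : ω e₁ e₂ = 0) (h2 : ω f₁ f₂ = 0)
    (h3 : ω f₁ e₁ = 1) (h4 : ω f₁ e₂ = 0) (h5 : ω f₂ e₁ = 0) (h6 : ω f₂ e₂ = 1) :
    ∃ S : Sp4, S.1 *ᵥ Pi.single (inl 0) 1 = e₁ ∧ S.1 *ᵥ Pi.single (inl 1) 1 = e₂ ∧
      S.1 *ᵥ Pi.single (inr 0) 1 = f₁ ∧ S.1 *ᵥ Pi.single (inr 1) 1 = f₂ := by
  have sk : ∀ x y, ω x y = -ω y x := fun x y => (spB_isAlt.neg_eq y x).symm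
  have z : ∀ x, ω x x = 0 := spB_isAlt
  let v : Fin 2 ⊕ Fin 2 → Fin 2 ⊕ Fin 2 → F := Sum.elim ![e₁, e₂] ![f₁, f₂]
  have hv : ∀ i j, ω (v i) (v j) = Matrix.J (Fin 2) F i j := by
    rintro (i | i) (j | j) <;> fin_cases i <;> fin_cases j <;>
      simp [v, Matrix.J, z, h1, h2, h3, h4, h5, h6, sk e₂ e₁, sk f₂ f₁, sk e₁ f₁, sk e₁ f₂,
        sk e₂ f₁, sk e₂ f₂]
  refine ⟨⟨(Matrix.of v)ᵀ, SymplecticGroup.mem_iff'.2 ?_⟩, ?_, ?_, ?_, ?_⟩
  · ext i j
    rw [← hv, spB, Matrix.toBilin'_apply', Matrix.mul_assoc, Matrix.mul_apply]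
    rfl
  all_goals rw [Matrix.mulVec_single_one]; rfl

theorem eq_zero_of_frame (S : Sp4) {z : Fin 2 ⊕ Fin 2 → F}
    (h : ∀ i, ω (S.1 *ᵥ Pi.single i 1) z = 0) : z = 0 := by
  have : (S⁻¹).1 *ᵥ z = 0 := by
    ext (i | i)
    · have := h (inr i)
      rwa [← spB_mulVec S⁻¹, sp_inv_mulVec_mulVec, spB_single_inr, one_mul] at this
    · have := h (inl i)
      rwa [← spB_mulVec S⁻¹, sp_inv_mulVec_mulVec, spB_single_inl, one_mul, neg_eq_zero] at this
  rw [← sp_mulVec_inv_mulVec S z, this, mulVec_zero]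

theorem exists_perp_pair (G : Sp4) {u : Fin 2 ⊕ Fin 2 → F} (hu : ω u (G.1 *ᵥ u) ≠ 0) :
    ∃ a b, ω u a = 0 ∧ ω (G.1 *ᵥ u) a = 0 ∧ ω u b = 0 ∧ ω (G.1 *ᵥ u) b = 0 ∧ ω b a = 1 ∧
      ω u (G.1 *ᵥ a) = 0 := by
  have sk : ∀ x y, ω x y = -ω y x := fun x y => (spB_isAlt.neg_eq y x).symm
  have z : ∀ x, ω x x = 0 := spB_isAlt
  set κ := ω u (G.1 *ᵥ u) with hκ
  obtain ⟨S, hS⟩ := sp_witt_family (m := 2) (F := F)
    ![Pi.single (inl 0) 1, Pi.single (inr 0) 1] ![u, -κ⁻¹ • G.1 *ᵥ u]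
    (sp_linearIndependent_pair spB_isAlt (B := ω) (by simp [spB_single_inl]))
    (sp_linearIndependent_pair spB_isAlt (B := ω) (by simp [← hκ, hu])) (by
      intro i j
      fin_cases i <;> fin_cases j <;>
        simp [z, spB_single_inl, spB_single_inr, sk (G.1 *ᵥ u) u, ← hκ, hu])
  have s0 : S.1 *ᵥ Pi.single (inl 0) 1 = u := hS 0
  have s1 : G.1 *ᵥ u = -κ • S.1 *ᵥ Pi.single (inr 0) 1 := by
    have : S.1 *ᵥ Pi.single (inr 0) 1 = -κ⁻¹ • G.1 *ᵥ u := hS 1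
    rw [this, smul_smul]
    simp [hu]
  obtain ⟨a, ha⟩ : ∃ a, a = S.1 *ᵥ Pi.single (inl 1) 1 := ⟨_, rfl⟩
  obtain ⟨b, hb⟩ : ∃ b, b = S.1 *ᵥ Pi.single (inr 1) 1 := ⟨_, rfl⟩
  have a1 : ω u a = 0 := by rw [← s0, ha, spB_mulVec]; simp [spB_single_inl]
  have a2 : ω (G.1 *ᵥ u) a = 0 := by
    rw [s1, ha, map_smul, LinearMap.smul_apply, spB_mulVec]; simp [spB_single_inr]
  have b1 : ω u b = 0 := by rw [← s0, hb, spB_mulVec]; simp [spB_single_inl]
  have b2 : ω (G.1 *ᵥ u) b = 0 := by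
    rw [s1, hb, map_smul, LinearMap.smul_apply, spB_mulVec]; simp [spB_single_inr]
  have ab : ω b a = 1 := by rw [ha, hb, spB_mulVec]; simp [spB_single_inr]
  by_cases h : ω u (G.1 *ᵥ a) = 0
  · exact ⟨a, b, a1, a2, b1, b2, ab, h⟩
  · refine ⟨b - (ω u (G.1 *ᵥ b) / ω u (G.1 *ᵥ a)) • a, -a, by simp [a1, b1], by simp [a2, b2],
      by simp [a1], by simp [a2], by simp [z, sk a b, ab], ?_⟩
    simp [mulVec_sub, mulVec_smul, h]

theorem good_of_q {τ μ : F} (hμ : μ ≠ 0) (G : Sp4) {u : Fin 2 ⊕ Fin 2 → F}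
    (hu : ω u (G.1 *ᵥ u) ≠ 0) : Good τ μ G := by
  have sk : ∀ x y, ω x y = -ω y x := fun x y => (spB_isAlt.neg_eq y x).symm
  have z : ∀ x, ω x x = 0 := spB_isAlt
  obtain ⟨a, b, a1, a2, b1, b2, ab, ga⟩ := exists_perp_pair G hu
  set κ := ω u (G.1 *ᵥ u) with hκ
  have g1 : ω (G.1 *ᵥ u) (G.1 *ᵥ a) = 0 := by rw [spB_mulVec, a1]
  have hM : InM τ μ !![0, -μ; 1, τ] := Or.inl ⟨by simp [trace_fin_two], by simp [det_fin_two]⟩
  by_cases hq : ω a (G.1 *ᵥ a) = 0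
  · set l := ω b (G.1 *ᵥ a) with hl
    have fr := fun α γ : F => exists_frame u a (-κ⁻¹ • (G.1 *ᵥ u - α • u) + γ • a) (b + γ • u) a1
      (by simp [z, b1, b2, sk a b, ab, sk (G.1 *ᵥ u) u, ← hκ, sk a u, a1]; field_simp; ring)
      (by simp [z, sk (G.1 *ᵥ u) u, ← hκ, sk a u, a1, hu]) (by simp [z, a1, a2])
      (by simp [z, sk b u, b1]) (by simp [ab, a1])
    have hl0 : l ≠ 0 := by
      intro h0
      obtain ⟨S, s1, s2, s3, s4⟩ := fr 0 0
      have : G.1 *ᵥ a = 0 := eq_zero_of_frame S (by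
        rintro (i | i) <;> fin_cases i
        · simpa [s1] using ga
        · simpa [s2] using hq
        · simp [s3, g1]
        · simpa [s4] using h0)
      have h2 : a = 0 := sp_mulVec_injective G (by simpa using this)
      simp [h2] at ab
    obtain ⟨S, s1, s2, s3, s4⟩ := fr (μ ^ 2 / l) (τ * (1 - μ / l) / κ)
    refine Good.of_conj S (good_A hμ hM (N := !![τ, l; -μ / l, 0])
      (Or.inl ⟨by simp [trace_fin_two], by simp [det_fin_two]; field_simp⟩) ?_)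
    ext i j
    rw [toBlocks₁₁, of_apply, entry_conj]
    fin_cases i <;> fin_cases j <;>
      simp [s1, s2, s3, s4, z, g1, ga, hq, ← hκ, ← hl, sk a (G.1 *ᵥ u), sk b (G.1 *ᵥ u), a2, b2]
    · field_simp
    · field_simp; ring
  · obtain ⟨S, s1, s2, s3, s4⟩ := exists_frame (κ⁻¹ • G.1 *ᵥ u) (-b) u a (by simp [b2]) a1
      (by simp [← hκ, hu]) (by simp [b1]) (by simp [sk a (G.1 *ᵥ u), a2]) (by simp [sk a b, ab])
    refine Good.of_conj S (good_B hμ hM (N := !![τ / μ, 1; -μ⁻¹, 0])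
      (S := !![κ⁻¹, 0; 0, (ω a (G.1 *ᵥ a))⁻¹])
      (Or.inr ⟨by simp [trace_fin_two], by simp [det_fin_two]⟩) ?_ ?_)
    · ext i j
      fin_cases i <;> fin_cases j <;> simp
    · have : (S⁻¹ * G * S).1.toBlocks₁₂ = !![κ, 0; 0, ω a (G.1 *ᵥ a)] := by
        ext i j
        rw [toBlocks₁₂, of_apply, entry_conj]
        fin_cases i <;> fin_cases j <;> simp [s3, s4, ← hκ, ga, sk a (G.1 *ᵥ u), a2]
      rw [this]
      ext i j
      fin_cases i <;> fin_cases j <;> simp [hu, hq, hμ]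
      field_simp; ring

theorem exists_trace_zero [Finite F] {τ μ : F} (hμ : μ ≠ 0) :
    ∃ M N : M2, InM τ μ M ∧ InM τ μ N ∧ (M * N) 1 1 = -(M * N) 0 0 := by
  have hM : InM τ μ !![0, -μ; 1, τ] := Or.inl ⟨by simp [trace_fin_two], by simp [det_fin_two]⟩
  by_cases h2 : ringChar F = 2
  · refine ⟨_, !![τ / μ, 1; -μ⁻¹, 0], hM, Or.inr ⟨by simp [trace_fin_two], by simp [det_fin_two]⟩,
      ?_⟩
    have : (2 : F) = 0 := by
      have := ringChar.Nat.cast_ringChar (R := F)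
      rwa [h2] at this
    simp [hμ]
    linear_combination this
  · cases nonempty_fintype F
    obtain ⟨a, c, h⟩ := FiniteField.exists_root_sum_quadratic
      (f := X ^ 2 - C τ * X + C μ) (g := X ^ 2 - C τ * X) (R := F) (by compute_degree!)
      (by compute_degree!) (FiniteField.odd_card_of_char_ne_two h2)
    simp at h
    refine ⟨!![a, μ * (c - τ); c / μ, τ - a], !![τ - c, -μ * (τ - a); a / μ, c],
      Or.inl ⟨by simp [trace_fin_two], ?_⟩, Or.inl ⟨by simp [trace_fin_two], ?_⟩, ?_⟩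
    · simp [det_fin_two]; field_simp; linear_combination -h
    · simp [det_fin_two]; field_simp; linear_combination -h
    · simp; field_simp; ring

theorem good_of_alt [Finite F] {τ μ : F} (hμ : μ ≠ 0) (G : Sp4) (hq : ∀ u, ω u (G.1 *ᵥ u) = 0)
    {u w : Fin 2 ⊕ Fin 2 → F} (h1 : ω u w = 0) (h2 : ω w (G.1 *ᵥ u) ≠ 0) : Good τ μ G := by
  have sk : ∀ x y, ω x y = -ω y x := fun x y => (spB_isAlt.neg_eq y x).symm
  have z : ∀ x, ω x x = 0 := spB_isAlt
  set b := ω w (G.1 *ᵥ u) with hb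
  have h3 : ω u (G.1 *ᵥ w) = -b := by
    have := hq (u + w)
    simp only [mulVec_add, map_add, LinearMap.add_apply, hq, ← hb] at this
    linear_combination this
  obtain ⟨S, hS⟩ := sp_witt_family (m := 2) (F := F)
    (fun i : Fin 2 => Pi.single (inr i) 1) ![u, w]
    ((Pi.linearIndependent_single_one (Fin 2 ⊕ Fin 2) F).comp inr inr_injective)
    (LinearIndependent.pair_iff.2 fun s t h => by
      have e1 := congrArg (fun x => ω x (G.1 *ᵥ u)) h
      have e2 := congrArg (fun x => ω x (G.1 *ᵥ w)) h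
      simp [hq, ← hb, h3, h2] at e1 e2
      exact ⟨e2, e1⟩) (by
      intro i j
      fin_cases i <;> fin_cases j <;> simp [z, spB_single_inr, sk w u, h1])
  have s0 : S.1 *ᵥ Pi.single (inr 0) 1 = u := hS 0
  have s1 : S.1 *ᵥ Pi.single (inr 1) 1 = w := hS 1
  obtain ⟨M, N, hM, hN, ht⟩ := exists_trace_zero (τ := τ) hμ
  refine Good.of_conj S (good_B hμ hM hN
    (S := !![(M * N) 1 0 / b, (M * N) 1 1 / b; -(M * N) 0 0 / b, -(M * N) 0 1 / b]) ?_ ?_)
  · ext i j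
    fin_cases i <;> fin_cases j <;> simp [ht]
  · have : (S⁻¹ * G * S).1.toBlocks₁₂ = !![0, -b; b, 0] := by
      ext i j
      rw [toBlocks₁₂, of_apply, entry_conj]
      fin_cases i <;> fin_cases j <;> simp [s0, s1, ← hb, hq, h3]
    rw [this]
    generalize M * N = P
    ext i j
    fin_cases i <;> fin_cases j <;> simp <;> field_simp

theorem exists_pair_of_not_scalar (G : Matrix (Fin 2 ⊕ Fin 2) (Fin 2 ⊕ Fin 2) F)
    (h : ∀ a : F, G ≠ a • 1) : ∃ u w, ω u w = 0 ∧ ω w (G *ᵥ u) ≠ 0 := by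
  by_contra hn
  push Not at hn
  have off : ∀ i j : Fin 2 ⊕ Fin 2, i ≠ j → G i j = 0 := by
    rintro (i | i) j hij
    · have := hn (Pi.single j 1) (Pi.single (inr i) 1)
        (by rw [spB_right_single_inr]; simp [hij])
      rwa [spB_single_inr, one_mul, mulVec_single_one] at this
    · have := hn (Pi.single j 1) (Pi.single (inl i) 1)
        (by rw [spB_right_single_inl]; simp [hij])
      rwa [spB_single_inl, one_mul, mulVec_single_one, neg_eq_zero] at this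
  have d1 := hn (Pi.single (inl 0) 1 + Pi.single (inl 1) 1)
    (Pi.single (inr 0) 1 - Pi.single (inr 1) 1) (by simp [spB_single_inl])
  have d2 := hn (Pi.single (inl 0) 1 + Pi.single (inr 1) 1)
    (Pi.single (inr 0) 1 + Pi.single (inl 1) 1) (by simp [spB_single_inl, spB_single_inr])
  have d3 := hn (Pi.single (inl 1) 1 + Pi.single (inr 0) 1)
    (Pi.single (inr 1) 1 + Pi.single (inl 0) 1) (by simp [spB_single_inl, spB_single_inr])
  simp [mulVec_add, spB_single_inl, spB_single_inr, off] at d1 d2 d3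
  apply h (G (inl 0) (inl 0))
  ext i j
  by_cases hij : i = j
  · subst hij
    rcases i with i | i <;> fin_cases i <;> simp
    · linear_combination -d1
    · linear_combination -d1 - d3
    · linear_combination -d2
  · simp [off i j hij, Matrix.one_apply_ne hij]

theorem good_of_not_scalar [Finite F] {τ μ : F} (hμ : μ ≠ 0) (G : Sp4) (h : ∀ a : F, G.1 ≠ a • 1) :
    Good τ μ G := by
  by_cases hq : ∀ u, ω u (G.1 *ᵥ u) = 0
  · obtain ⟨u, w, h1, h2⟩ := exists_pair_of_not_scalar G.1 h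
    exact good_of_alt hμ G hq h1 h2
  · push Not at hq
    obtain ⟨u, hu⟩ := hq
    exact good_of_q hμ G hu

theorem irreducible_quad {τ μ : F} (h : ∀ l : F, l ^ 2 - τ * l + μ ≠ 0) :
    Irreducible (X ^ 2 - C τ * X + C μ : F[X]) := by
  have hd : (X ^ 2 - C τ * X + C μ : F[X]).natDegree = 2 := by compute_degree!
  have hm : (X ^ 2 - C τ * X + C μ : F[X]).Monic := by monicity!
  refine (hm.irreducible_iff_roots_eq_zero_of_degree_le_three (by omega) (by omega)).2 ?_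
  refine Multiset.eq_zero_of_forall_notMem fun l hl => h l ?_
  simpa using (mem_roots hm.ne_zero).1 hl

theorem squarefree_chi {τ μ : F} (h : ∀ l : F, l ^ 2 - τ * l + μ ≠ 0) (hτ : τ ≠ 0) (h1 : μ ≠ 1) :
    Squarefree (chi τ μ) := by
  have hμ : μ ≠ 0 := by simpa using h 0
  have i1 := irreducible_quad h
  have i2 : Irreducible (X ^ 2 - C (τ / μ) * X + C μ⁻¹ : F[X]) := irreducible_quad fun l hl => by
    have hl0 : l ≠ 0 := by
      rintro rfl
      simp [hμ] at hl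
    apply h l⁻¹
    field_simp at hl ⊢
    linear_combination hl
  rw [chi, squarefree_mul_iff]
  refine ⟨i1.isRelPrime_iff_not_dvd.2 fun hdv => h1 ?_, i1.squarefree, i2.squarefree⟩
  have := eq_of_monic_of_associated (by monicity!) (by monicity!)
    (i1.associated_of_dvd i2 hdv)
  have e := congrArg (fun f => f.coeff 1) this
  simp [coeff_X, coeff_C] at e
  field_simp at e
  exact e

theorem exists_params [Fintype F] (h3 : 3 ≤ Fintype.card F) :
    ∃ τ μ : F, (∀ l : F, l ^ 2 - τ * l + μ ≠ 0) ∧ τ ≠ 0 ∧ μ ≠ 1 := by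
  obtain ⟨d, hd⟩ := L2.exists_irreducible_quadratic (F := F)
  by_cases h1 : d = 1
  swap
  · exact ⟨1, d, by simpa using hd, one_ne_zero, h1⟩
  subst h1
  obtain ⟨c, hc0, hc⟩ : ∃ c : F, c ≠ 0 ∧ c ^ 2 ≠ 1 := by
    by_contra hn
    push Not at hn
    by_cases h2 : (2 : F) = 0
    · classical
      have : (Finset.univ : Finset F) ⊆ {0, 1} := fun c _ => by
        by_cases h0 : c = 0
        · simp [h0]
        · have : (c - 1) ^ 2 = 0 := by linear_combination hn c h0 + (1 - c) * h2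
          simp [sub_eq_zero.1 (pow_eq_zero_iff two_ne_zero |>.1 this)]
      have h := (Finset.card_le_card this).trans Finset.card_le_two
      rw [Finset.card_univ] at h
      omega
    · exact hd (-1) (by linear_combination hn 2 h2)
  refine ⟨c, c ^ 2, fun l hl => hd (l / c) ?_, hc0, hc⟩
  field_simp
  linear_combination hl

theorem exists_class [Fintype F] (p : ℕ) [Fact p.Prime] [CharP F p] (h3 : 3 ≤ Fintype.card F) :
    ∃ x : Sp4, (orderOf x).Coprime p ∧ ∀ g : Sp4, g ∉ Subgroup.center _ →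
      ∃ u v, g = (u * x * u⁻¹) * (v * x * v⁻¹) := by
  obtain ⟨τ, μ, h, hτ, h1⟩ := exists_params h3
  have hμ : μ ≠ 0 := by simpa using h 0
  have hsq := squarefree_chi h hτ h1
  have ss : ∀ A : Sp4, A.1.charpoly = chi τ μ → (orderOf A).Coprime p := fun A hA =>
    (Cls.isSS_iff_coprime_hom p (Matrix.symplecticGroup (Fin 2) F).subtype Subtype.val_injective
      A).1 (Cls.isSS_of_aeval_eq_zero hsq (hA ▸ A.1.aeval_self_charpoly))
  obtain ⟨x, -, hx, -⟩ : Good τ μ 1 := good_A hμ (M := !![0, -μ; 1, τ])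
    (N := !![τ / μ, 1; -μ⁻¹, 0]) (Or.inl ⟨by simp [trace_fin_two], by simp [det_fin_two]⟩)
    (Or.inr ⟨by simp [trace_fin_two], by simp [det_fin_two]⟩) (by
      ext i j
      fin_cases i <;> fin_cases j <;> simp [toBlocks₁₁, hμ]
      field_simp; ring)
  refine ⟨x, ss x hx, fun g hg => ?_⟩
  obtain ⟨a, b, ha, hb, e⟩ := good_of_not_scalar (τ := τ) hμ g fun a ha => hg (by
    rw [Subgroup.mem_center_iff]
    intro k
    apply Subtype.ext
    simp [ha])
  have conj : ∀ m : Sp4, m.1.charpoly = chi τ μ → IsConj x m := fun m hm =>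
    (SpO.sp_isConj_iff_charpoly p (ss x hx) (ss m hm)).2 (hx.trans hm.symm)
  obtain ⟨u, hu⟩ := isConj_iff.1 (conj a ha)
  obtain ⟨v, hv⟩ := isConj_iff.1 (conj b hb)
  exact ⟨u, v, by rw [hu, hv]; exact e⟩

end Cfsg.Agent.Cl.Ore4
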