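import Mathlib
import Cfsg.Agent.Cl.ClassSemis
import Cfsg.Agent.Cl.ClassUnip
import Cfsg.Agent.Cl.MaxSLCore

/-! Cyclic matrices, Krylov data, and block factorisations: tools for products of conjugacy
classes in `GL_n(F)`. -/

set_option autoImplicit false

open Matrix Polynomial Sum Module

namespace Cfsg.Agent.Cl.Ore

open Cls

variable {F : Type*} [Field F] {ι κ : Type*} [Fintype ι] [DecidableEq ι] [Fintype κ]
  [DecidableEq κ]

/-- `A` is similar to the companion matrix of `f`. -/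
def IsCyc (A : Matrix ι ι F) (f : F[X]) : Prop := Sim (Matrix.toLin' A) (cyc f)

/-- The determinant of the companion matrix of a monic polynomial. -/
def dd (f : F[X]) : F := (-1) ^ f.natDegree * f.coeff 0

theorem IsCyc.edM_eq {A : Matrix ι ι F} {B : Matrix κ κ F} {f : F[X]} (hA : IsCyc A f)
    (hB : IsCyc B f) : edM A = edM B := (Sim.trans hA (Sim.symm hB)).ed_eq

theorem IsCyc.card_eq {A : Matrix ι ι F} {f : F[X]} (hA : IsCyc A f) :
    Fintype.card ι = f.natDegree := by
  rw [← finrank_adjoinRoot, ← Sim.finrank_eq hA, Module.finrank_fintype_fun_eq_card]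

theorem IsCyc.charpoly {A : Matrix ι ι F} {f : F[X]} (hA : IsCyc A f) (hf : f.Monic) :
    A.charpoly = f := by
  have := finiteDimensional_adjoinRoot hf.ne_zero
  rw [← Matrix.charpoly_toLin', Sim.charpoly_eq hA, charpoly_cyc hf]

theorem det_eq_dd (A : Matrix ι ι F) : A.det = dd A.charpoly := by
  rw [dd, coeff_zero_charpoly, Matrix.charpoly_natDegree_eq_dim, ← mul_assoc, ← mul_pow]
  simp

theorem IsCyc.det {A : Matrix ι ι F} {f : F[X]} (hA : IsCyc A f) (hf : f.Monic) :
    A.det = dd f := by rw [det_eq_dd, hA.charpoly hf]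

theorem dd_ne_zero {f : F[X]} (h : f.coeff 0 ≠ 0) : dd f ≠ 0 :=
  mul_ne_zero (pow_ne_zero _ (neg_ne_zero.2 one_ne_zero)) h

theorem dd_mul {f g : F[X]} (hf : f ≠ 0) (hg : g ≠ 0) : dd (f * g) = dd f * dd g := by
  rw [dd, dd, dd, natDegree_mul hf hg, mul_coeff_zero, pow_add]; ring

theorem dd_X_sub_C (a : F) : dd (X - C a) = a := by simp [dd]

theorem exists_isCyc {f : F[X]} (hf : f ≠ 0) (h : f.natDegree = Fintype.card ι) :
    ∃ A : Matrix ι ι F, IsCyc A f := by
  have := finiteDimensional_adjoinRoot hf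
  exact exists_sim_toLin' (cyc f) (by rw [finrank_adjoinRoot, h])

theorem IsCyc.edM_pp {A : Matrix ι ι F} {f : F[X]} (hA : IsCyc A f) (hf : IsPP f) :
    edM A = {f} := by
  have := finiteDimensional_adjoinRoot hf.ne_zero
  rw [edM_def, Sim.ed_eq hA, ed_cyc hf]

theorem IsCyc.edM_prod {A : Matrix ι ι F} {α : Type*} [Fintype α] {p : α → F[X]}
    (hA : IsCyc A (∏ i, p i)) (hp : ∀ i, IsPP (p i)) (h : Pairwise (Function.onFun IsCoprime p)) :
    edM A = Finset.univ.val.map p :=
  ed_eq_of_sim_cycPi hp (Sim.trans hA (sim_cyc_prod h))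

theorem IsCyc.edM_pair {A : Matrix ι ι F} {e e' : F[X]} (hA : IsCyc A (e * e')) (he : IsPP e)
    (he' : IsPP e') (h : IsCoprime e e') : edM A = {e, e'} := by
  have := IsCyc.edM_prod (A := A) (p := ![e, e']) (by simpa using hA)
    (fun i => by fin_cases i <;> assumption) (fun i j hij => by
      fin_cases i <;> fin_cases j
      exacts [(hij rfl).elim, h, h.symm, (hij rfl).elim])
  rw [this]; rfl

theorem IsCyc.edM_triple {A : Matrix ι ι F} {e e' e'' : F[X]} (hA : IsCyc A (e * e' * e''))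
    (he : IsPP e) (he' : IsPP e') (he'' : IsPP e'') (h : IsCoprime e e') (h' : IsCoprime e e'')
    (h'' : IsCoprime e' e'') : edM A = {e, e', e''} := by
  have := IsCyc.edM_prod (A := A) (p := ![e, e', e'']) (by simpa [Fin.prod_univ_three] using hA)
    (fun i => by fin_cases i <;> assumption) (fun i j hij => by
      fin_cases i <;> fin_cases j
      exacts [(hij rfl).elim, h, h', h.symm, (hij rfl).elim, h'', h'.symm, h''.symm,
        (hij rfl).elim])
  rw [this]; rfl

theorem edM_eq_of_mul {G G' P : Matrix ι ι F} (hP : IsUnit P) (h : G * P = P * G') :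
    edM G = edM G' := by
  obtain ⟨c, rfl⟩ := hP
  exact (isConj_iff_edM_eq.1 ⟨c, h.symm⟩).symm

theorem edM_unit (A : Matrix Unit Unit F) : edM A = {X - C (A () ())} := by
  have : A = Matrix.diagonal fun _ => A () () := by ext; simp
  rw [this, edM_diagonal]
  simp

/-- `u` is a cyclic vector of `A`. -/
def Kry (A : Matrix ι ι F) (u : ι → F) : Prop :=
  ∀ S : Submodule F (ι → F), (∀ j < Fintype.card ι, A ^ j *ᵥ u ∈ S) → S = ⊤

theorem isCyc_of_kry {A : Matrix ι ι F} {u : ι → F} (h : Kry A u) {f : F[X]} (hf : f.Monic)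
    (hd : f.natDegree = Fintype.card ι) (h0 : aeval A f *ᵥ u = 0) : IsCyc A f := by
  have := finiteDimensional_adjoinRoot hf.ne_zero
  let φ : F[X] →ₗ[F] (ι → F) := (LinearMap.applyₗ u).comp (aeval (Matrix.toLin' A)).toLinearMap
  have hφ : ∀ a, φ a = aeval A a *ᵥ u := fun a => by
    change aeval (R := F) (A := End F (ι → F)) (Matrix.toLin' A) a u = _
    rw [← toLin'_aeval, Matrix.toLin'_apply]
  let ψ : AdjoinRoot f →ₗ[F] (ι → F) :=
    ((Ideal.span {f}).restrictScalars F).liftQ φ fun a ha => by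
      obtain ⟨b, rfl⟩ := Ideal.mem_span_singleton'.1 ha
      rw [LinearMap.mem_ker, hφ, map_mul, ← Matrix.mulVec_mulVec, h0, Matrix.mulVec_zero]
  have hψ : ∀ a, ψ (AdjoinRoot.mk f a) = aeval A a *ᵥ u := fun a => hφ a
  have hs : Function.Surjective ψ := LinearMap.range_eq_top.1 (h _ fun j _ =>
    ⟨AdjoinRoot.mk f (X ^ j), by rw [hψ]; simp⟩)
  refine Sim.symm (sim_of_bijective ψ ⟨?_, hs⟩ fun x => ?_)
  · exact (LinearMap.injective_iff_surjective_of_finrank_eq_finrank (by
      rw [finrank_adjoinRoot, hd, Module.finrank_fintype_fun_eq_card])).2 hs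
  · obtain ⟨a, rfl⟩ := AdjoinRoot.mk_surjective x
    rw [cyc_apply, ← AdjoinRoot.mk_X, ← map_mul, hψ, hψ, map_mul, aeval_X, Matrix.toLin'_apply,
      Matrix.mulVec_mulVec]

theorem Kry.isCyc {A : Matrix ι ι F} {u : ι → F} (h : Kry A u) : IsCyc A A.charpoly :=
  isCyc_of_kry h A.charpoly_monic A.charpoly_natDegree_eq_dim (by
    rw [A.aeval_self_charpoly, Matrix.zero_mulVec])

theorem IsCyc.exists_kry {A : Matrix ι ι F} {f : F[X]} (hA : IsCyc A f) (hf : f.Monic) :
    ∃ u, Kry A u := by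
  have hc := hA.card_eq
  obtain ⟨e, he⟩ := Sim.symm hA
  refine ⟨e 1, fun S hS => ?_⟩
  have hp : ∀ j, A ^ j *ᵥ e 1 = e (AdjoinRoot.root f ^ j) := fun j => by
    induction j with
    | zero => simp
    | succ j ih =>
      rw [pow_succ', ← Matrix.mulVec_mulVec, ih, ← Matrix.toLin'_apply, ← he, cyc_apply,
        ← pow_succ']
  have : S.comap (e : AdjoinRoot f →ₗ[F] (ι → F)) = ⊤ := by
    rw [eq_top_iff, ← (AdjoinRoot.powerBasis' hf).basis.span_eq, Submodule.span_le]
    rintro _ ⟨j, rfl⟩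
    have := hS j (by rw [hc]; exact j.2)
    rw [hp] at this
    simpa using this
  rw [eq_top_iff]
  intro x _
  have hx : e.symm x ∈ S.comap (e : AdjoinRoot f →ₗ[F] (ι → F)) := by rw [this]; trivial
  simpa using hx

theorem Kry.mulVec {A P : Matrix ι ι F} {u : ι → F} (h : Kry A u) (hP : IsUnit P)
    (hc : Commute A P) : Kry A (P *ᵥ u) := fun S hS => by
  have : S.comap (Matrix.toLin' P) = ⊤ := h _ fun j hj => by
    have := hS j hj
    rwa [Matrix.mulVec_mulVec, (hc.pow_left j).eq, ← Matrix.mulVec_mulVec] at this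
  rw [eq_top_iff]
  intro x _
  obtain ⟨y, rfl⟩ := Matrix.mulVec_surjective_iff_isUnit.2 hP x
  have hy : y ∈ S.comap (Matrix.toLin' P) := by rw [this]; trivial
  simpa using hy

theorem Kry.add_smul {A : Matrix ι ι F} {u : ι → F} (h : Kry A u) (c : F) :
    Kry (A + c • 1) u := fun S hS => by
  have key : ∀ i j, i + j < Fintype.card ι → (A ^ i * (A + c • 1) ^ j) *ᵥ u ∈ S := by
    intro i
    induction i with
    | zero => intro j hj; simpa using hS j (by omega)
    | succ i ih =>
      intro j hj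
      have : A ^ (i + 1) * (A + c • 1) ^ j =
          A ^ i * (A + c • 1) ^ (j + 1) - c • (A ^ i * (A + c • 1) ^ j) := by
        rw [pow_succ, pow_succ', Matrix.mul_assoc]
        simp only [Matrix.add_mul, Matrix.mul_add, Matrix.smul_mul, Matrix.mul_smul,
          Matrix.one_mul]
        abel
      rw [this, Matrix.sub_mulVec, Matrix.smul_mulVec]
      exact S.sub_mem (ih _ (by omega)) (S.smul_mem _ (ih _ (by omega)))
  exact h S fun j hj => by simpa using key j 0 (by omega)

/-- Krylov data: a cyclic vector with the functional dual to the last Krylov vector. -/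
def KD (A : Matrix ι ι F) (u θ : ι → F) : Prop :=
  Kry A u ∧ ∀ j < Fintype.card ι, θ ⬝ᵥ (A ^ j *ᵥ u) = if j + 1 = Fintype.card ι then 1 else 0

theorem Kry.exists_kd {A : Matrix ι ι F} {u : ι → F} (h : Kry A u) : ∃ θ, KD A u θ := by
  rcases hn : Fintype.card ι with _ | m
  · exact ⟨0, h, fun j hj => by omega⟩
  let S : Submodule F (ι → F) := Submodule.span F (Set.range fun j : Fin m => A ^ (j : ℕ) *ᵥ u)
  have hS : ∀ j < m, A ^ j *ᵥ u ∈ S := fun j hj => Submodule.subset_span ⟨⟨j, hj⟩, rfl⟩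
  have hm : A ^ m *ᵥ u ∉ S := fun hm => by
    have ht : S = ⊤ := h S fun j hj => by
      rcases Nat.lt_succ_iff_lt_or_eq.1 (hn ▸ hj) with hj | rfl
      exacts [hS j hj, hm]
    have := finrank_range_le_card (R := F) fun j : Fin m => A ^ (j : ℕ) *ᵥ u
    rw [Set.finrank, show Submodule.span F _ = S from rfl, ht, finrank_top,
      Module.finrank_fintype_fun_eq_card, hn, Fintype.card_fin] at this
    omega
  obtain ⟨φ, h1, h0⟩ := MSL.exists_dual_of_notMem hm
  have hφ : ∀ x, (fun i => φ (Pi.single i 1)) ⬝ᵥ x = φ x := fun x => by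
    rw [LinearMap.pi_apply_eq_sum_univ φ x, dotProduct]
    refine Finset.sum_congr rfl fun i _ => ?_
    rw [smul_eq_mul, mul_comm]
    congr 2
    ext j
    simp [Pi.single_apply, eq_comm]
  refine ⟨fun i => φ (Pi.single i 1), h, fun j hj => ?_⟩
  rw [hφ, hn]
  split_ifs with e
  · rw [show j = m by omega, h1]
  · exact h0 _ (hS j (by omega))

omit [DecidableEq ι] in
theorem vmv_mulVec (a φ v : ι → F) : vecMulVec a φ *ᵥ v = (φ ⬝ᵥ v) • a := by
  rw [Matrix.vecMulVec_mulVec]
  ext i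
  simp [mul_comm]

theorem KD.pow_add {A : Matrix ι ι F} {u θ : ι → F} (h : KD A u θ) (z : ι → F) {j : ℕ}
    (hj : j < Fintype.card ι) : (A + vecMulVec z θ) ^ j *ᵥ u = A ^ j *ᵥ u := by
  induction j with
  | zero => simp
  | succ j ih =>
    rw [pow_succ', ← Matrix.mulVec_mulVec, ih (by omega), Matrix.add_mulVec, vmv_mulVec,
      h.2 j (by omega), if_neg (by omega), zero_smul, add_zero, Matrix.mulVec_mulVec, ← pow_succ']

theorem KD.add {A : Matrix ι ι F} {u θ : ι → F} (h : KD A u θ) (z : ι → F) :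
    KD (A + vecMulVec z θ) u θ :=
  ⟨fun S hS => h.1 S fun j hj => by rw [← h.pow_add z hj]; exact hS j hj,
    fun j hj => by rw [h.pow_add z hj]; exact h.2 j hj⟩

/-- The last column determines the characteristic polynomial. -/
theorem KD.exists_isCyc {A : Matrix ι ι F} {u θ : ι → F} (h : KD A u θ) {f : F[X]} (hf : f.Monic)
    (hd : f.natDegree = Fintype.card ι) (hn : 0 < Fintype.card ι) :
    ∃ z, IsCyc (A + vecMulVec z θ) f := by
  obtain ⟨m, hm⟩ : ∃ m, Fintype.card ι = m + 1 := ⟨_, (Nat.succ_pred_eq_of_pos hn).symm⟩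
  refine ⟨-(aeval A f *ᵥ u), isCyc_of_kry (h.add _).1 hf hd ?_⟩
  have e : ∀ B : Matrix ι ι F, aeval B f *ᵥ u =
      ∑ i ∈ Finset.range (m + 1), f.coeff i • B ^ i *ᵥ u + B ^ (m + 1) *ᵥ u := fun B => by
    rw [aeval_eq_sum_range, hd, hm, Finset.sum_range_succ, Matrix.add_mulVec, Matrix.sum_mulVec,
      ← hm, ← hd, hf.coeff_natDegree, one_smul]
    simp only [Matrix.smul_mulVec]
  rw [e, pow_succ', ← Matrix.mulVec_mulVec, h.pow_add _ (by omega), Matrix.add_mulVec,
    vmv_mulVec, h.2 m (by omega), if_pos hm.symm, one_smul, Matrix.mulVec_mulVec,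
    ← pow_succ', Finset.sum_congr rfl fun i hi => by
      rw [h.pow_add _ (show i < _ by rw [hm]; exact Finset.mem_range.1 hi)], ← add_assoc, ← e,
    add_neg_cancel]

theorem KD.add_one {A : Matrix ι ι F} {u θ : ι → F} (h : KD A u θ) : KD (A + 1) u θ := by
  refine ⟨by simpa using h.1.add_smul 1, fun j hj => ?_⟩
  have key : ∀ j i, i + j < Fintype.card ι → θ ⬝ᵥ ((A ^ i * (A + 1) ^ j) *ᵥ u) =
      if i + j + 1 = Fintype.card ι then 1 else 0 := by
    intro j
    induction j with
    | zero => intro i hi; simpa using h.2 i hi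
    | succ j ih =>
      intro i hi
      have : A ^ i * (A + 1) ^ (j + 1) = A ^ (i + 1) * (A + 1) ^ j + A ^ i * (A + 1) ^ j := by
        rw [pow_succ', Matrix.add_mul, Matrix.mul_add, Matrix.one_mul, pow_succ, Matrix.mul_assoc]
      rw [this, Matrix.add_mulVec, dotProduct_add, ih _ (by omega), ih _ (by omega),
        if_neg (show ¬ i + j + 1 = _ by omega), add_zero, add_right_comm i 1 j, add_assoc i j 1]
  simpa using key j 0 (by omega)

/-- Two cyclic matrices with the same characteristic polynomial and cyclic quotient. -/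
theorem exists_pair {χ : F[X]} (hχ : χ.Monic) (h0 : χ.coeff 0 ≠ 0)
    (hd : χ.natDegree = Fintype.card ι) (hn : 0 < Fintype.card ι) :
    ∃ (M M' K : Matrix ι ι F) (u : ι → F), IsCyc M χ ∧ IsCyc M' χ ∧ M * K = M' ∧ K.det = 1 ∧
      Kry K u := by
  obtain ⟨k, hk⟩ : ∃ m, Fintype.card ι = m + 1 := ⟨_, (Nat.succ_pred_eq_of_pos hn).symm⟩
  obtain ⟨M, hM⟩ := exists_isCyc (ι := ι) hχ.ne_zero hd
  have hdet : IsUnit M.det := by rw [hM.det hχ]; exact (dd_ne_zero h0).isUnit
  have hu : IsUnit M := (Matrix.isUnit_iff_isUnit_det M).2 hdet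
  obtain ⟨w, hw⟩ := hM.exists_kry hχ
  obtain ⟨θ, hθ⟩ := (hw.mulVec hu (Commute.refl M)).exists_kd
  obtain ⟨z, hz⟩ := hθ.add_one.exists_isCyc hχ hd hn
  set M' := M + 1 + vecMulVec z θ with hM'
  have e1 : M * (M⁻¹ * M') = M' := by
    rw [← Matrix.mul_assoc, Matrix.mul_nonsing_inv M hdet, Matrix.one_mul]
  refine ⟨M, M', M⁻¹ * M', M ^ k *ᵥ w, hM, hz, e1, ?_, ?_⟩
  · have := congrArg det e1
    rw [det_mul, hz.det hχ, hM.det hχ] at this
    exact mul_left_cancel₀ (dd_ne_zero h0) (by rw [this, mul_one])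
  · set N := M⁻¹ * M' + (-1 : F) • 1 with hN
    have step : ∀ i < k, N *ᵥ (M ^ (i + 1) *ᵥ w) = M ^ i *ᵥ w := fun i hi => by
      have t := hθ.2 i (by omega)
      rw [if_neg (by omega), Matrix.mulVec_mulVec, ← pow_succ] at t
      have inv : ∀ x, M⁻¹ *ᵥ (M *ᵥ x) = x := fun x => by
        rw [Matrix.mulVec_mulVec, Matrix.nonsing_inv_mul M hdet, Matrix.one_mulVec]
      rw [hN, Matrix.add_mulVec, ← Matrix.mulVec_mulVec, hM', Matrix.add_mulVec,
        Matrix.add_mulVec, vmv_mulVec, t, zero_smul, add_zero, Matrix.mulVec_add, inv,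
        Matrix.one_mulVec, Matrix.smul_mulVec, Matrix.one_mulVec, pow_succ',
        ← Matrix.mulVec_mulVec, inv]
      simp
    have pw : ∀ j ≤ k, N ^ j *ᵥ (M ^ k *ᵥ w) = M ^ (k - j) *ᵥ w := fun j hj => by
      induction j with
      | zero => simp
      | succ j ih =>
        rw [pow_succ', ← Matrix.mulVec_mulVec, ih (by omega),
          show k - j = k - (j + 1) + 1 by omega, step _ (by omega)]
    have hKN : Kry N (M ^ k *ᵥ w) := fun S hS => hw S fun j hj => by
      have := hS (k - j) (by omega)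
      rwa [pw _ (by omega), show k - (k - j) = j by omega] at this
    simpa [hN] using hKN.add_smul 1

/-- Bordering a cyclic matrix. -/
theorem KD.border {K : Matrix ι ι F} {u θ : ι → F} (h : KD K u θ) (hn : 0 < Fintype.card ι)
    (b : Matrix ι Unit F) (e : Matrix Unit Unit F) :
    KD (fromBlocks K b (Matrix.of fun _ => θ) e) (Sum.elim u 0) (Pi.single (inr ()) 1) := by
  obtain ⟨k, hk⟩ : ∃ m, Fintype.card ι = m + 1 := ⟨_, (Nat.succ_pred_eq_of_pos hn).symm⟩
  set g := fromBlocks K b (Matrix.of fun _ => θ) e with hg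
  have step : ∀ x : ι → F, g *ᵥ Sum.elim x 0 = Sum.elim (K *ᵥ x) fun _ => θ ⬝ᵥ x := fun x => by
    rw [hg, fromBlocks_mulVec]
    ext (i | i) <;> simp [Matrix.mulVec]
  have pw : ∀ j ≤ k, g ^ j *ᵥ Sum.elim u 0 = Sum.elim (K ^ j *ᵥ u) 0 := fun j hj => by
    induction j with
    | zero => simp
    | succ j ih =>
      rw [pow_succ', ← Matrix.mulVec_mulVec, ih (by omega), step, h.2 j (by omega),
        if_neg (by omega), Matrix.mulVec_mulVec, ← pow_succ']
      rfl
  have last : g ^ (k + 1) *ᵥ Sum.elim u 0 = Sum.elim (K ^ (k + 1) *ᵥ u) fun _ => 1 := by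
    rw [pow_succ', ← Matrix.mulVec_mulVec, pw k le_rfl, step, h.2 k (by omega), if_pos hk.symm,
      Matrix.mulVec_mulVec, ← pow_succ']
  have hc : Fintype.card (ι ⊕ Unit) = k + 2 := by simp [hk]
  refine ⟨fun S hS => ?_, fun j hj => ?_⟩
  · let L : (ι → F) →ₗ[F] (ι ⊕ Unit → F) :=
      { toFun := fun x => Sum.elim x 0
        map_add' := fun x y => by ext (i | i) <;> simp
        map_smul' := fun c x => by ext (i | i) <;> simp }
    have h1 : S.comap L = ⊤ := h.1 _ fun j hj => by
      have := hS j (by omega)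
      rwa [pw j (by omega)] at this
    have h2 : ∀ x : ι → F, Sum.elim x (0 : Unit → F) ∈ S := fun x => by
      have : x ∈ S.comap L := by rw [h1]; trivial
      exact this
    have h3 := hS (k + 1) (by omega)
    rw [last] at h3
    rw [eq_top_iff]
    intro y _
    have : y = y (inr ()) • (Sum.elim (K ^ (k + 1) *ᵥ u) fun _ => 1) +
        Sum.elim (y ∘ inl - y (inr ()) • K ^ (k + 1) *ᵥ u) 0 := by
      ext (i | i) <;> simp
    rw [this]
    exact S.add_mem (S.smul_mem _ h3) (h2 _)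
  · rw [single_dotProduct, one_mul, hc]
    split_ifs with e
    · rw [show j = k + 1 by omega, last]; rfl
    · rw [pw j (by omega)]; rfl

theorem KD.exists_border {K : Matrix ι ι F} {u θ : ι → F} (h : KD K u θ)
    (hn : 0 < Fintype.card ι) {f : F[X]} (hf : f.Monic) (hd : f.natDegree = Fintype.card ι + 1) :
    ∃ (b : Matrix ι Unit F) (e : Matrix Unit Unit F),
      IsCyc (fromBlocks K b (Matrix.of fun _ => θ) e) f := by
  obtain ⟨z, hz⟩ := (h.border hn 0 0).exists_isCyc hf (by simpa using hd) (by simp)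
  refine ⟨Matrix.of fun i _ => z (inl i), Matrix.of fun _ _ => z (inr ()), ?_⟩
  convert hz using 1
  ext (i | i) (j | j) <;> simp [vecMulVec_apply]

theorem sylvester {A : Matrix ι ι F} {B : Matrix κ κ F} (h : IsCoprime A.charpoly B.charpoly)
    (R : Matrix κ ι F) : ∃ S : Matrix κ ι F, S * A - B * S = R := by
  let L : Matrix κ ι F →ₗ[F] Matrix κ ι F :=
    { toFun := fun S => S * A - B * S
      map_add' := fun S T => by rw [Matrix.add_mul, Matrix.mul_add]; abel
      map_smul' := fun c S => by simp [smul_sub] }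
  refine (LinearMap.injective_iff_surjective (f := L)).1 ?_ R
  rw [injective_iff_map_eq_zero]
  intro S hS
  have e : S * A = B * S := sub_eq_zero.1 hS
  have pw : ∀ j : ℕ, S * A ^ j = B ^ j * S := fun j => by
    induction j with
    | zero => simp
    | succ j ih => rw [pow_succ, ← Matrix.mul_assoc, ih, Matrix.mul_assoc, e, ← Matrix.mul_assoc,
        ← pow_succ]
  have ae : ∀ a : F[X], S * aeval A a = aeval B a * S := fun a => by
    rw [aeval_eq_sum_range, aeval_eq_sum_range, Matrix.mul_sum, Matrix.sum_mul]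
    exact Finset.sum_congr rfl fun i _ => by rw [Matrix.mul_smul, Matrix.smul_mul, pw]
  obtain ⟨a, b, hab⟩ := h
  have h1 : aeval B (a * A.charpoly) = 1 := by
    have := congrArg (aeval B) hab
    rwa [map_add, map_mul _ b, B.aeval_self_charpoly, mul_zero, add_zero, map_one] at this
  rw [← Matrix.one_mul S, ← h1, ← ae, map_mul, A.aeval_self_charpoly, mul_zero, Matrix.mul_zero]

theorem edM_lower {A : Matrix ι ι F} {B : Matrix κ κ F} (h : IsCoprime A.charpoly B.charpoly)
    (R : Matrix κ ι F) : edM (fromBlocks A 0 R B) = edM A + edM B := by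
  obtain ⟨S, hS⟩ := sylvester h R
  rw [← edM_fromBlocks]
  refine edM_eq_of_mul (P := fromBlocks 1 0 S 1) ?_ ?_
  · rw [Matrix.isUnit_iff_isUnit_det, det_fromBlocks_zero₁₂]; simp
  · rw [fromBlocks_multiply, fromBlocks_multiply, ← hS]; simp

theorem edM_upper {A : Matrix ι ι F} {B : Matrix κ κ F} (h : IsCoprime A.charpoly B.charpoly)
    (R : Matrix ι κ F) : edM (fromBlocks A R 0 B) = edM A + edM B := by
  rw [← edM_transpose, fromBlocks_transpose, transpose_zero,
    edM_lower (by rwa [charpoly_transpose, charpoly_transpose]), edM_transpose, edM_transpose]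

theorem det_schur {K : Matrix ι ι F} (hK : IsUnit K.det) (B : Matrix ι κ F) (C : Matrix κ ι F)
    (E : Matrix κ κ F) : (fromBlocks K B C E).det = K.det * (E - C * K⁻¹ * B).det := by
  have := Matrix.invertibleOfIsUnitDet K hK
  rw [det_fromBlocks₁₁, invOf_eq_nonsing_inv]

theorem isCoprime_X_sub_C {χ : F[X]} {a : F} (h : χ.eval a ≠ 0) : IsCoprime χ (X - C a) :=
  ((irreducible_X_sub_C a).coprime_iff_not_dvd.2 fun hd => h (dvd_iff_isRoot.1 hd)).symm

theorem kry_two {A : Matrix (Fin 2) (Fin 2) F} (h : A 1 0 ≠ 0) : Kry A (Pi.single 0 1) :=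
  fun S hS => by
  have h0 := hS 0 (by simp)
  have h1 := hS 1 (by simp)
  rw [pow_zero, Matrix.one_mulVec] at h0
  rw [pow_one, Matrix.mulVec_single_one] at h1
  rw [eq_top_iff]
  intro y _
  have : y = (y 1 / A 1 0) • A.col 0 +
      (y 0 - y 1 / A 1 0 * A 0 0) • (Pi.single 0 1 : Fin 2 → F) := by
    ext i
    fin_cases i <;> simp [h]
  rw [this]
  exact S.add_mem (S.smul_mem _ h1) (S.smul_mem _ h0)

theorem isCyc_two {A : Matrix (Fin 2) (Fin 2) F} (h : A 1 0 ≠ 0) {τ μ : F}
    (ht : A 0 0 + A 1 1 = τ) (hd : A 0 0 * A 1 1 - A 0 1 * A 1 0 = μ) :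
    IsCyc A (X ^ 2 - C τ * X + C μ) := by
  have := (kry_two h).isCyc
  rwa [charpoly_fin_two, trace_fin_two, det_fin_two, ht, hd] at this

/-- Rootless polynomials with prescribed degree and constant term. -/
theorem exists_rootless [Finite F] {m : ℕ} {c : F} (hc : c ≠ 0) :
    ∃ τ : F, ∀ l : F, l ^ (m + 2) - τ * l + c ≠ 0 := by
  classical
  cases nonempty_fintype F
  have : ¬ Function.Surjective fun l : F => if l = 0 then 1 + c else (l ^ (m + 2) + c) / l := by
    intro hs
    have := Finite.injective_iff_surjective.2 hs (a₁ := 0) (a₂ := 1) (by simp)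
    exact zero_ne_one this
  simp only [Function.Surjective, not_forall, not_exists] at this
  obtain ⟨τ, hτ⟩ := this
  refine ⟨τ, fun l hl => ?_⟩
  by_cases h0 : l = 0
  · subst h0
    simp [hc] at hl
  · apply hτ l
    rw [if_neg h0]
    field_simp
    linear_combination hl

theorem exists_chi [Finite F] {m : ℕ} (hm : 2 ≤ m) {D : F} (hD : D ≠ 0) :
    ∃ χ : F[X], χ.Monic ∧ χ.natDegree = m ∧ dd χ = D ∧ ∀ l, χ.eval l ≠ 0 := by
  obtain ⟨m, rfl⟩ := Nat.exists_eq_add_of_le' hm
  have hc : (-1) ^ (m + 2) * D ≠ 0 := mul_ne_zero (pow_ne_zero _ (neg_ne_zero.2 one_ne_zero)) hD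
  obtain ⟨τ, hτ⟩ := exists_rootless (m := m) hc
  have hd : (X ^ (m + 2) - C τ * X + C ((-1) ^ (m + 2) * D) : F[X]).natDegree = m + 2 := by
    compute_degree!; simp
  refine ⟨X ^ (m + 2) - C τ * X + C ((-1) ^ (m + 2) * D), by monicity!; omega, hd, ?_,
    fun l => by simpa using hτ l⟩
  rw [dd, hd]
  simp only [coeff_add, coeff_sub, coeff_X_pow, mul_coeff_zero, coeff_X_zero, coeff_C_zero]
  rw [if_neg (by omega), mul_zero, sub_zero, zero_add, ← mul_assoc, ← mul_pow]
  simp

end Cfsg.Agent.Cl.Ore
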