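import Mathlib
import Cfsg.Agent.Cl.OreA

/-! Block constructions for writing a matrix as a commutator. -/

set_option autoImplicit false

open Matrix Polynomial Sum Module

namespace Cfsg.Agent.Cl.Ore

open Cls

variable {F : Type*} [Field F]

/-- There are `g`, `X` with elementary divisors `s` for `g`, `a` for `X`, `b` for `X g`, and
`det X = D`. -/
def Tr (s a b : Multiset F[X]) (D : F) : Prop :=
  ∃ (ι : Type) (_ : Fintype ι) (_ : DecidableEq ι) (g Y : Matrix ι ι F),
    edM g = s ∧ edM Y = a ∧ edM (Y * g) = b ∧ Y.det = D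

theorem Tr.add {s a b s' a' b' : Multiset F[X]} {D D' : F} (h : Tr s a b D) (h' : Tr s' a' b' D') :
    Tr (s + s') (a + a') (b + b') (D * D') := by
  obtain ⟨ι, _, _, g, Y, rfl, rfl, rfl, rfl⟩ := h
  obtain ⟨κ, _, _, g', Y', rfl, rfl, rfl, rfl⟩ := h'
  refine ⟨ι ⊕ κ, inferInstance, inferInstance, fromBlocks g 0 0 g', fromBlocks Y 0 0 Y',
    edM_fromBlocks _ _, edM_fromBlocks _ _, ?_, det_fromBlocks_zero₂₁ _ _ _⟩
  rw [fromBlocks_multiply, ← edM_fromBlocks]
  simp

theorem tr_zero : Tr (0 : Multiset F[X]) 0 0 1 := by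
  have h : ∀ A : Matrix Empty Empty F, edM A = 0 := fun A => (ed_eq_zero_iff _).2 (by simp)
  exact ⟨Empty, inferInstance, inferInstance, 1, 1, h _, h _, h _, det_one⟩

theorem Tr.transfer {n : Type*} [Fintype n] [DecidableEq n] {g : Matrix n n F}
    {a b : Multiset F[X]} {D : F} (h : Tr (edM g) a b D) :
    ∃ Y : Matrix n n F, edM Y = a ∧ edM (Y * g) = b ∧ Y.det = D := by
  obtain ⟨ι, _, _, g', Y, e, rfl, rfl, rfl⟩ := h
  have hc : Fintype.card ι = Fintype.card n := by
    rw [← sum_natDegree_edM g', e, sum_natDegree_edM]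
  let σ := Fintype.equivOfCardEq hc
  obtain ⟨c, hc⟩ := isConj_iff_exists_unit.1 (isConj_iff_edM_eq.2 ((edM_reindex σ g').trans e))
  have conj : ∀ A : Matrix n n F, edM (c * A * (c⁻¹ : (Matrix n n F)ˣ) : Matrix n n F) = edM A :=
    fun A => (isConj_iff_edM_eq.1 (isConj_iff_exists_unit.2 ⟨c, rfl⟩)).symm
  refine ⟨c * reindex σ σ Y * (c⁻¹ : (Matrix n n F)ˣ), by rw [conj, edM_reindex], ?_, ?_⟩
  · have : c * reindex σ σ Y * (c⁻¹ : (Matrix n n F)ˣ) * g =
        c * reindex σ σ (Y * g') * (c⁻¹ : (Matrix n n F)ˣ) := by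
      rw [← hc]
      simp only [reindex_apply, ← Matrix.submatrix_mul_equiv Y g' σ.symm σ.symm σ.symm,
        Matrix.mul_assoc, Units.inv_mul_cancel_left]
    rw [this, conj, edM_reindex]
  · rw [det_mul, det_mul, mul_right_comm, ← det_mul, Units.mul_inv, det_one, one_mul,
      det_reindex_self]

variable {ι κ : Type} [Fintype ι] [DecidableEq ι] [Fintype κ] [DecidableEq κ]

theorem tr_block {M M' K : Matrix ι ι F} (hK : IsUnit K.det) (e : M * K = M') (B : Matrix ι κ F)
    (C : Matrix κ ι F) (E A : Matrix κ κ F) (h1 : IsCoprime M.charpoly A.charpoly)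
    (h2 : IsCoprime M'.charpoly (A * (E - C * K⁻¹ * B)).charpoly) :
    Tr (edM (fromBlocks K B C E)) (edM M + edM A) (edM M' + edM (A * (E - C * K⁻¹ * B)))
      (M.det * A.det) := by
  refine ⟨ι ⊕ κ, inferInstance, inferInstance, _, fromBlocks M 0 (-(A * C * K⁻¹)) A, rfl,
    edM_lower h1 _, ?_, det_fromBlocks_zero₁₂ _ _ _⟩
  rw [← edM_upper h2 (M * B), fromBlocks_multiply, e]
  congr 2
  · simp
  · simp
  · rw [Matrix.neg_mul, Matrix.mul_assoc _ K⁻¹, Matrix.nonsing_inv_mul K hK]; simp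
  · simp only [Matrix.neg_mul, Matrix.mul_sub, Matrix.mul_assoc]; abel

theorem charpoly_unit (A : Matrix Unit Unit F) : A.charpoly = X - C (A () ()) := by
  rw [charpoly_eq_prod_edM, edM_unit, Multiset.prod_singleton]

theorem tr_block_unit {M M' K : Matrix ι ι F} {χ : F[X]} (hχ : χ.Monic) (hM : IsCyc M χ)
    (hM' : IsCyc M' χ) (hK : K.det = 1) (e : M * K = M') (B : Matrix ι Unit F)
    (R : Matrix Unit ι F) (E : Matrix Unit Unit F) {l' l : F}
    (hl : l = l' * (fromBlocks K B R E).det) (h1 : χ.eval l' ≠ 0) (h2 : χ.eval l ≠ 0) :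
    Tr (edM (fromBlocks K B R E)) (edM M + {X - C l'}) (edM M + {X - C l}) (dd χ * l') := by
  have hu : IsUnit K.det := by rw [hK]; exact isUnit_one
  rw [det_schur hu, hK, one_mul, det_unique] at hl
  have hA : ((Matrix.of fun _ _ => l' : Matrix Unit Unit F) * (E - R * K⁻¹ * B)) () () = l := by
    rw [hl, Matrix.mul_apply]; simp
  have := tr_block hu e B R E (Matrix.of fun _ _ => l')
    (by rw [hM.charpoly hχ, charpoly_unit]; exact isCoprime_X_sub_C h1)
    (by rw [hM'.charpoly hχ, charpoly_unit, hA]; exact isCoprime_X_sub_C h2)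
  rwa [edM_unit, edM_unit, hA, hM'.edM_eq hM, hM.det hχ, det_unique] at this

/-- Cyclic blocks. -/
theorem tr_cyc {n : Type*} [Fintype n] [DecidableEq n] {g : Matrix n n F} {f χ : F[X]}
    (hg : IsCyc g f) (hf : f.Monic) (hχ : χ.Monic) (h0 : χ.coeff 0 ≠ 0) (hm : 0 < χ.natDegree)
    (hd : f.natDegree = χ.natDegree + 1) {l' : F} (h1 : χ.eval l' ≠ 0)
    (h2 : χ.eval (l' * dd f) ≠ 0) : ∃ s, (∀ (B : Matrix (Fin χ.natDegree) (Fin χ.natDegree) F),
      IsCyc B χ → edM B = s) ∧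
      Tr (edM g) (s + {X - C l'}) (s + {X - C (l' * dd f)}) (dd χ * l') := by
  obtain ⟨M, M', K, u, hM, hM', e, hK, hu⟩ := exists_pair (ι := Fin χ.natDegree) hχ h0 (by simp)
    (by simpa using hm)
  obtain ⟨θ, hθ⟩ := hu.exists_kd
  obtain ⟨b, E, hb⟩ := hθ.exists_border (by simpa using hm) hf (by simpa using hd)
  refine ⟨edM M, fun B hB => hB.edM_eq hM, ?_⟩
  rw [hg.edM_eq hb]
  exact tr_block_unit hχ hM hM' hK e _ _ _ (by rw [hb.det hf]) h1 h2

theorem exists_dot_inv {K : Matrix ι ι F} {u θ : ι → F} (h : KD K u θ) (hK : IsUnit K.det)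
    (hn : 0 < Fintype.card ι) (c : F) : ∃ b : ι → F, θ ⬝ᵥ (K⁻¹ *ᵥ b) = c := by
  obtain ⟨k, hk⟩ : ∃ m, Fintype.card ι = m + 1 := ⟨_, (Nat.succ_pred_eq_of_pos hn).symm⟩
  refine ⟨c • K *ᵥ (K ^ k *ᵥ u), ?_⟩
  rw [Matrix.mulVec_smul, Matrix.mulVec_mulVec, Matrix.nonsing_inv_mul K hK, Matrix.one_mulVec,
    dotProduct_smul, h.2 k (by omega), if_pos hk.symm, smul_eq_mul, mul_one]

/-- Cyclic blocks, two steps. -/
theorem tr_cyc_two {n : Type*} [Fintype n] [DecidableEq n] {g : Matrix n n F} {f χ : F[X]}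
    (hg : IsCyc g f) (hf : f.Monic) (hχ : χ.Monic) (h0 : χ.coeff 0 ≠ 0) (hm : 0 < χ.natDegree)
    (hd : f.natDegree = χ.natDegree + 2) {μ : F} (hμ : μ ≠ 0) (h1 : χ.eval μ ≠ 0)
    (h2 : χ.eval (μ * dd f) ≠ 0) :
    ∃ s, Tr (edM g) (s + {(X - C μ) ^ 2}) (s + {X - C μ, X - C (μ * dd f)}) (dd χ * μ ^ 2) := by
  have hn : 0 < Fintype.card (Fin χ.natDegree) := by simpa using hm
  obtain ⟨M, M', K, u, hM, hM', e, hK, hu⟩ := exists_pair (ι := Fin χ.natDegree) hχ h0 (by simp) hn
  have hKu : IsUnit K.det := by rw [hK]; exact isUnit_one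
  obtain ⟨θ, hθ⟩ := hu.exists_kd
  obtain ⟨b, hb⟩ := exists_dot_inv hθ hKu hn (-f.nextCoeff - K.trace - 1 - dd f)
  obtain ⟨b', E', hc⟩ := (hθ.border hn (Matrix.of fun i _ => b i)
    (Matrix.of fun _ _ => 1 + θ ⬝ᵥ (K⁻¹ *ᵥ b))).exists_border (by simp) hf (by simpa using hd)
  set g' := fromBlocks (fromBlocks K (Matrix.of fun i _ => b i) (Matrix.of fun _ => θ)
    (Matrix.of fun _ _ => 1 + θ ⬝ᵥ (K⁻¹ *ᵥ b))) b' (Matrix.of fun _ => Pi.single (inr ()) 1) E'
    with hg'
  let B : Matrix (Fin χ.natDegree) (Unit ⊕ Unit) F :=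
    Matrix.of fun i => Sum.elim (fun _ => b i) fun _ => b' (inl i) ()
  let R : Matrix (Unit ⊕ Unit) (Fin χ.natDegree) F := Matrix.of (Sum.elim (fun _ => θ) fun _ => 0)
  let E : Matrix (Unit ⊕ Unit) (Unit ⊕ Unit) F := fromBlocks
    (Matrix.of fun _ _ => 1 + θ ⬝ᵥ (K⁻¹ *ᵥ b)) (Matrix.of fun _ _ => b' (inr ()) ())
    (Matrix.of fun _ _ => 1) E'
  have hre : reindex (Equiv.sumAssoc _ _ _) (Equiv.sumAssoc _ _ _) g' = fromBlocks K B R E := by
    ext (i | i | i) (j | j | j) <;> simp [hg', B, R, E]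
  have hdet : (E - R * K⁻¹ * B).det = dd f := by
    rw [← hc.det hf, ← det_reindex_self (Equiv.sumAssoc _ _ _), hre, det_schur hKu, hK, one_mul]
  have htr : E' () () = dd f := by
    have : g'.trace = -f.nextCoeff := by
      rw [Matrix.trace_eq_neg_charpoly_nextCoeff, hc.charpoly hf]
    rw [hg', Matrix.trace, Fintype.sum_sum_type, Fintype.sum_sum_type] at this
    simp only [diag_apply, fromBlocks_apply₁₁, fromBlocks_apply₂₂, Finset.univ_unique,
      Finset.sum_singleton, of_apply, hb] at this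
    rw [Matrix.trace] at this
    simp only [diag_apply] at this
    linear_combination this
  have e11 : (R * K⁻¹ * B) (inl ()) (inl ()) = θ ⬝ᵥ (K⁻¹ *ᵥ b) := by
    rw [Matrix.mul_assoc, Matrix.mul_apply]; rfl
  have e21 : ∀ j, (R * K⁻¹ * B) (inr ()) j = 0 := fun j => by
    rw [Matrix.mul_assoc, Matrix.mul_apply]; simp [R]
  set D := E - R * K⁻¹ * B with hD
  have d11 : D (inl ()) (inl ()) = 1 := by rw [hD, Matrix.sub_apply, e11]; simp [E]
  have d21 : D (inr ()) (inl ()) = 1 := by rw [hD, Matrix.sub_apply, e21]; simp [E]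
  have d22 : D (inr ()) (inr ()) = dd f := by rw [hD, Matrix.sub_apply, e21]; simp [E, htr]
  have d12 : D (inl ()) (inr ()) = 0 := by
    rw [← det_reindex_self ((Equiv.sumCongr finOneEquiv.symm finOneEquiv.symm).trans
      finSumFinEquiv), det_fin_two] at hdet
    change D (inl ()) (inl ()) * D (inr ()) (inr ()) - D (inl ()) (inr ()) * D (inr ()) (inl ()) =
      _ at hdet
    rw [d11, d21, d22] at hdet
    linear_combination -hdet
  let A : Matrix (Unit ⊕ Unit) (Unit ⊕ Unit) F := fromBlocks (Matrix.of fun _ _ => μ) 0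
    (Matrix.of fun _ _ => -μ) (Matrix.of fun _ _ => μ)
  have hAD : A * D = fromBlocks (Matrix.of fun _ _ => μ) 0 0 (Matrix.of fun _ _ => μ * dd f) := by
    ext (i | i) (j | j) <;> simp [A, Matrix.mul_apply, d11, d12, d21, d22]
  have hA : edM A = {(X - C μ) ^ 2} := by
    have : edM A = jt μ {Fintype.card (Unit ⊕ Unit)} := by
      refine edM_eq_of_pow_ne_zero (k := 2) ?_ ?_
      · rw [aeval_X_sub_C', sq]
        ext (i | i) (j | j) <;> simp [A, Matrix.mul_apply]
      · rw [aeval_X_sub_C']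
        intro h
        have := congrFun (congrFun h (inr ())) (inl ())
        simp [A, hμ] at this
    rw [this]; rfl
  have hAD' : edM (A * D) = {X - C μ, X - C (μ * dd f)} := by
    rw [hAD, edM_fromBlocks, edM_unit, edM_unit]; rfl
  have := tr_block hKu e B R E A
    (by rw [hM.charpoly hχ, charpoly_eq_prod_edM, hA, Multiset.prod_singleton]
        exact (isCoprime_X_sub_C h1).pow_right)
    (by rw [hM'.charpoly hχ, charpoly_eq_prod_edM, hAD']
        simpa using (isCoprime_X_sub_C h1).mul_right (isCoprime_X_sub_C h2))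
  rw [← hre, edM_reindex, ← hg.edM_eq hc, hA, hAD', hM'.edM_eq hM, hM.det hχ] at this
  refine ⟨edM M, ?_⟩
  convert this using 2
  simp [A, det_fromBlocks_zero₁₂, sq]

theorem quad_monic (τ μ : F) : (X ^ 2 - C τ * X + C μ : F[X]).Monic := by monicity!

theorem dd_quad (τ μ : F) : dd (X ^ 2 - C τ * X + C μ : F[X]) = μ := by
  have hd : (X ^ 2 - C τ * X + C μ : F[X]).natDegree = 2 := by compute_degree!
  simp [dd, hd]

/-- A scalar times a pseudo-reflection, in dimension three. -/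
theorem tr_three {g : Matrix (Fin 2) (Fin 2) F} {a b τ μ l' : F} (ha : a ≠ 0)
    (hg : IsCyc g ((X - C a) * (X - C b))) (h : ∀ l : F, l ^ 2 - τ * l + μ ≠ 0) :
    ∃ s, Tr (edM g + {X - C a}) (s + {X - C l'}) (s + {X - C (l' * (a * a * b))}) (μ * l') := by
  set α := a⁻¹ - a with hα
  set β := τ * (1 - a) with hβ
  set k := b - a - α with hk
  let K : Matrix (Fin 2) (Fin 2) F := !![a, β; 0, a + α]
  let B : Matrix (Fin 2) Unit F := Matrix.of ![fun _ => β * k, fun _ => α * k]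
  let R : Matrix Unit (Fin 2) F := Matrix.of fun _ => ![0, 1]
  let E : Matrix Unit Unit F := Matrix.of fun _ _ => a + k
  have hc : IsCyc !![0, -(a * b); 1, a + b] ((X - C a) * (X - C b)) := by
    have := isCyc_two (A := !![0, -(a * b); 1, a + b]) (τ := a + b) (μ := a * b) (by simp) (by simp)
      (by simp)
    convert this using 1
    simp only [map_add, map_mul]; ring
  have hP : IsUnit (fromBlocks !![0, β; 1, a + α] (Matrix.of ![fun _ : Unit => 1, fun _ => 0])
      (Matrix.of fun (_ : Unit) => ![0, 1]) (0 : Matrix Unit Unit F)) := by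
    refine IsUnit.of_mul_eq_one (fromBlocks !![0, 1; 0, 0]
      (Matrix.of ![fun _ : Unit => -(a + α), fun _ => 1]) (Matrix.of fun (_ : Unit) => ![1, 0])
      (Matrix.of fun _ _ => -β)) ?_
    rw [fromBlocks_multiply, ← fromBlocks_one]
    congr 1 <;> ext i j <;> fin_cases i <;> fin_cases j <;>
      simp [Matrix.mul_apply, vecMul, dotProduct]
  have hcon : edM (fromBlocks K B R E) = edM (fromBlocks !![0, -(a * b); 1, a + b] 0 0
      (Matrix.of fun (_ _ : Unit) => a)) := by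
    refine edM_eq_of_mul hP ?_
    rw [fromBlocks_multiply, fromBlocks_multiply]
    congr 1 <;> ext i j <;> fin_cases i <;> fin_cases j <;>
      simp [K, B, R, E, Matrix.mul_apply, hk, vecMul, dotProduct] <;> ring
  have hdet : (fromBlocks K B R E).det = a * a * b := by
    rw [det_eq_dd, charpoly_eq_prod_edM, hcon, ← charpoly_eq_prod_edM, ← det_eq_dd,
      det_fromBlocks_zero₂₁, det_fin_two, det_unique]
    simp; ring
  have hM := isCyc_two (A := !![τ, -μ; 1, 0]) (τ := τ) (μ := μ) (by simp) (by simp) (by simp)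
  have hM' := isCyc_two (A := !![τ, -μ; 1, 0] * K) (τ := τ) (μ := μ) (by simp [K, ha])
    (by simp [K, hβ]; ring) (by simp [K, hα]; field_simp; ring)
  have := tr_block_unit (quad_monic τ μ) hM hM' (K := K)
    (by simp [K, det_fin_two, hα, ha]) rfl B R E (l' := l') rfl (by simpa using h _)
    (by simpa using h _)
  rw [hcon, edM_fromBlocks, edM_unit, ← hg.edM_eq hc, hdet, dd_quad] at this
  exact ⟨_, this⟩

/-- Two equal cyclic blocks of size two. -/
theorem tr_four {g : Matrix (Fin 2) (Fin 2) F} {σ d τ μ l' m : F}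
    (hg : IsCyc g (X ^ 2 - C σ * X + C d)) (hd : d ≠ 0) (h : ∀ l : F, l ^ 2 - τ * l + μ ≠ 0)
    (hm : m ≠ 0) (h1 : l' ≠ m) (h2 : l' * (d * d) ≠ m) :
    ∃ s, Tr (edM g + edM g) (s + {X - C l'}) (s + {X - C (l' * (d * d))}) (μ * (m * l')) := by
  have hμ : μ ≠ 0 := by simpa using h 0
  set c := τ - 1 - μ with hc
  let K : Matrix (Fin 2) (Fin 2) F := !![(τ + μ) / μ, (τ * c + μ * (τ - 1)) / μ; -1 / μ, -c / μ]
  let K' : Matrix (Fin 2) (Fin 2) F := !![-c / μ, -(τ * c + μ * (τ - 1)) / μ; 1 / μ, (τ + μ) / μ]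
  have hKK : K * K' = 1 := by
    ext i j
    fin_cases i <;> fin_cases j <;> simp [K, K', hc] <;> field_simp <;> ring
  have hK : K.det = 1 := by
    simp [K, det_fin_two, hc]; field_simp; ring
  have hKu : IsUnit K.det := by rw [hK]; exact isUnit_one
  have hinv : K⁻¹ = K' := Matrix.inv_eq_right_inv hKK
  have hM := isCyc_two (A := !![0, -μ; 1, τ]) (τ := τ) (μ := μ) (by simp) (by simp) (by simp)
  have hM' := isCyc_two (A := !![1, c; 1, τ - 1]) (τ := τ) (μ := μ) (by simp) (by simp)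
    (by simp [hc])
  have e : !![0, -μ; 1, τ] * K = !![1, c; 1, τ - 1] := by
    ext i j
    fin_cases i <;> fin_cases j <;> simp [K] <;> field_simp <;> ring
  have hD : σ • (1 : Matrix (Fin 2) (Fin 2) F) - K - 1 * K⁻¹ * -(K * K - σ • K + d • 1) = d • K' := by
    rw [← hinv]
    simp only [Matrix.one_mul, Matrix.mul_neg, Matrix.mul_add, Matrix.mul_sub, ← Matrix.mul_assoc,
      Matrix.mul_smul, Matrix.nonsing_inv_mul K hKu, Matrix.mul_one]
    abel
  have hDc := (kry_two (A := d • K') (by simp [K', hd, hμ])).isCyc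
  have hdd : dd (d • K').charpoly = d * d := by
    have : K'.det = 1 := by
      have := congrArg det hKK
      rwa [det_mul, hK, one_mul, det_one] at this
    rw [← det_eq_dd, det_smul, this]; simp [sq]
  obtain ⟨s, hs, ht⟩ := tr_cyc hDc (charpoly_monic _) (monic_X_sub_C m) (by simpa using hm)
    (by simp) (by simp) (l' := l') (by simpa [sub_eq_zero] using h1)
    (by simpa [sub_eq_zero, hdd] using h2)
  obtain ⟨B₀, hB₀⟩ := exists_isCyc (ι := Fin (X - C m).natDegree) (X_sub_C_ne_zero m) (by simp)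
  rw [← hs B₀ hB₀, hB₀.edM_pp (isPP_of_irreducible (monic_X_sub_C m) (irreducible_X_sub_C m)),
    hdd, dd_X_sub_C] at ht
  obtain ⟨A, a1, a2, a3⟩ := ht.transfer
  have cop : ∀ x : F, IsCoprime (X ^ 2 - C τ * X + C μ) (X - C x) := fun x =>
    isCoprime_X_sub_C (by simpa using h x)
  clear_value K K'
  have := tr_block hKu e (-(K * K - σ • K + d • 1)) 1 (σ • 1 - K) A
    (by rw [hM.charpoly (quad_monic _ _), charpoly_eq_prod_edM, a1, Multiset.prod_add,
          Multiset.prod_singleton, Multiset.prod_singleton]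
        exact (cop _).mul_right (cop _))
    (by rw [hM'.charpoly (quad_monic _ _), hD, charpoly_eq_prod_edM, a2, Multiset.prod_add,
          Multiset.prod_singleton, Multiset.prod_singleton]
        exact (cop _).mul_right (cop _))
  have hC := isCyc_two (A := !![0, -d; 1, σ]) (τ := σ) (μ := d) (by simp) (by simp) (by simp)
  have h0 : edM (fromBlocks K (-(K * K - σ • K + d • 1)) 1 (σ • 1 - K)) = edM g + edM g := by
    rw [hg.edM_eq hC, ← edM_fromBlocks, 
      ← edM_submatrix (Equiv.swap (inl 1) (inr 0)) (fromBlocks !![0, -d; 1, σ] 0 0 _)]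
    refine (edM_eq_of_mul (P := fromBlocks 1 (-K) 0 1) ?_ ?_).symm
    · rw [Matrix.isUnit_iff_isUnit_det, det_fromBlocks_zero₂₁]; simp
    · have : (fromBlocks !![0, -d; 1, σ] 0 0 !![0, -d; 1, σ]).submatrix
          (Equiv.swap (inl 1) (inr 0)) (Equiv.swap (inl 1) (inr 0)) =
          fromBlocks 0 (-(d • 1)) 1 (σ • (1 : Matrix (Fin 2) (Fin 2) F)) := by
        ext (i | i) (j | j) <;> fin_cases i <;> fin_cases j <;> simp [Equiv.swap_apply_def]
      rw [this, fromBlocks_multiply, fromBlocks_multiply]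
      congr 1
      · simp
      · simp only [Matrix.zero_mul, Matrix.mul_one, Matrix.one_mul, Matrix.neg_mul,
          Matrix.mul_sub, Matrix.mul_smul, smul_neg]
        abel
      · simp
      · simp; abel
  rw [h0, hD, a1, a2, a3, hM'.edM_eq hM, hM.det (quad_monic _ _), dd_quad, ← add_assoc,
    ← add_assoc] at this
  exact ⟨_, this⟩

/-- Scalar blocks. -/
theorem tr_scalar {ζ : F} {r : ℕ} (hr : 0 < r) (hζ : ζ ^ r = 1) (hr' : (r : F) ≠ 0) {D : F}
    (hD : D ≠ 0) : ∃ a, Tr (Multiset.replicate r (X - C ζ)) a a D ∧ ∃ P ∈ a, Irreducible P := by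
  set k := (-1) ^ (r + 1) * D with hk
  have hk0 : k ≠ 0 := mul_ne_zero (pow_ne_zero _ (neg_ne_zero.2 one_ne_zero)) hD
  have hm : (X ^ r - C k).Monic := monic_X_pow_sub_C k hr.ne'
  have hdeg : (X ^ r - C k).natDegree = Fintype.card (Fin r) := by simp
  obtain ⟨Y, hY⟩ := exists_isCyc (ι := Fin r) hm.ne_zero hdeg
  obtain ⟨u, hu⟩ := hY.exists_kry hm
  have hζ0 : ζ ≠ 0 := by
    rintro rfl
    simp [hr.ne'] at hζ
  have hYr : Y ^ r = k • 1 := by
    have := Y.aeval_self_charpoly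
    rw [hY.charpoly hm, map_sub, map_pow, aeval_X, aeval_C, sub_eq_zero] at this
    rw [this, Algebra.algebraMap_eq_smul_one]
  have hZ : IsCyc (ζ • Y) (X ^ r - C k) := by
    refine isCyc_of_kry (u := u) (fun S hS => hu S fun j hj => ?_) hm hdeg ?_
    · have := S.smul_mem (ζ ^ j)⁻¹ (hS j hj)
      rwa [_root_.smul_pow, Matrix.smul_mulVec, smul_smul, inv_mul_cancel₀ (pow_ne_zero _ hζ0),
        one_smul] at this
    · rw [map_sub, map_pow, aeval_X, aeval_C, _root_.smul_pow, hζ, one_smul, hYr,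
        Algebra.algebraMap_eq_smul_one, sub_self, Matrix.zero_mulVec]
  refine ⟨edM Y, ⟨Fin r, inferInstance, inferInstance, ζ • 1, Y, ?_, rfl, ?_, ?_⟩, ?_⟩
  · rw [edM_smul_one]; simp [jt]
  · rw [Matrix.mul_smul, Matrix.mul_one, hZ.edM_eq hY]
  · rw [hY.det hm, dd, hdeg, Fintype.card_fin, coeff_sub, coeff_X_pow, if_neg hr.ne, coeff_C_zero,
      hk, pow_succ]
    have : ((-1 : F) ^ r) * (-1) ^ r = 1 := by rw [← mul_pow]; simp
    linear_combination D * this
  · obtain ⟨P, hP⟩ := Multiset.exists_mem_of_ne_zero (edM_ne_zero Y (by simpa using hr))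
    exact ⟨P, hP, isSS_of_pow_eq_smul hr' hk0 hYr P hP⟩

theorem edM_diag_two (x y : F) : edM !![x, 0; 0, y] = {X - C x, X - C y} := by
  have : !![x, 0; 0, y] = Matrix.diagonal ![x, y] := by
    ext i j; fin_cases i <;> fin_cases j <;> simp
  rw [this, edM_diagonal]; rfl

theorem edM_jordan_two {x y : F} (hy : y ≠ 0) : edM !![x, 0; y, x] = {(X - C x) ^ 2} := by
  have := isCyc_two (A := !![x, 0; y, x]) (τ := x + x) (μ := x * x) (by simpa using hy) (by simp)
    (by simp)
  refine IsCyc.edM_pp ?_ (isPP_pow (monic_X_sub_C x) (irreducible_X_sub_C x) two_pos)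
  convert this using 1
  simp only [map_add, map_mul]; ring

/-- A block of size two passing from `diag(x, y)` to a Jordan block. -/
theorem tr_token {g : Matrix (Fin 2) (Fin 2) F} {σ d x y : F}
    (hg : IsCyc g (X ^ 2 - C σ * X + C d)) (hx : x ≠ 0) (hy : y ≠ 0) (hd : y * d = x)
    (h : x = y → d = 1 ∧ σ = 2) (h' : x ≠ y → 1 - σ + d ≠ 0) :
    Tr (edM g) {X - C x, X - C y} {(X - C x) ^ 2} (x * y) := by
  by_cases e : x = y
  · obtain ⟨rfl, rfl⟩ := h e
    subst e
    have h1 := isCyc_two (A := !![(1 : F), 0; 1, 1]) (τ := 2) (μ := 1) (by simp) (by simp; ring)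
      (by simp)
    refine ⟨Fin 2, inferInstance, inferInstance, !![1, 0; 1, 1], !![x, 0; 0, x], h1.edM_eq hg,
      edM_diag_two _ _, ?_, by simp [det_fin_two]⟩
    rw [← edM_jordan_two hx]
    congr 1
    ext i j; fin_cases i <;> fin_cases j <;> simp
  · have h1 := isCyc_two (A := !![σ - 1, σ - 1 - d; 1, 1]) (τ := σ) (μ := d) (by simp) (by simp)
      (by simp)
    have hb : σ - 1 - d ≠ 0 := fun h0 => h' e (by linear_combination -h0)
    refine ⟨Fin 2, inferInstance, inferInstance, !![σ - 1, σ - 1 - d; 1, 1],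
      !![y, -y * (σ - 1 - d); 0, x], h1.edM_eq hg, ?_, ?_, by simp [det_fin_two, mul_comm]⟩
    · rw [← edM_diag_two]
      refine edM_eq_of_mul (P := !![-y * (σ - 1 - d), 1; x - y, 0]) ?_ ?_
      · rw [Matrix.isUnit_iff_isUnit_det]
        simp [det_fin_two, sub_eq_zero, Ne.symm e]
      · ext i j; fin_cases i <;> fin_cases j <;> simp <;> ring
    · rw [← edM_jordan_two hx]
      congr 1
      ext i j; fin_cases i <;> fin_cases j <;> simp
      linear_combination hd

end Cfsg.Agent.Cl.Ore
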