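import Mathlib
import Cfsg.Agent.Cl.OreB

/-! Every element of `SL_n(q)` is a commutator, apart from `SL₂(2)` and `SL₂(3)`. -/

set_option autoImplicit false

open Matrix Polynomial Sum Module

namespace Cfsg.Agent.Cl.Ore

open Cls

variable {F : Type*} [Field F]

/-- Blocks which pass on an arbitrary eigenvalue. -/
def Flex (s : Multiset F[X]) : Prop :=
  ∀ l' : F, l' ≠ 0 → ∃ l D a b, l ≠ 0 ∧ D ≠ 0 ∧ Tr s a b D ∧ a + {X - C l} = b + {X - C l'}

/-- Blocks which pass on an arbitrary eigenvalue, with arbitrary determinant. -/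
def DFlex (s : Multiset F[X]) : Prop :=
  ∀ l' : F, l' ≠ 0 → ∀ D : F, D ≠ 0 → ∃ l a b, l ≠ 0 ∧ Tr s a b D ∧
    a + {X - C l} = b + {X - C l'} ∧ ∃ P ∈ a, Irreducible P

/-- The final form. -/
def Done (s : Multiset F[X]) : Prop := ∃ a, Tr s a a 1 ∧ ∃ P ∈ a, Irreducible P

/-- Possible elementary divisors of an invertible matrix. -/
def OK (e : F[X]) : Prop := IsPP e ∧ e.coeff 0 ≠ 0

theorem DFlex.flex {s : Multiset F[X]} (h : DFlex s) : Flex s := fun l' hl => by
  obtain ⟨l, a, b, h1, h2, h3, -⟩ := h l' hl 1 one_ne_zero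
  exact ⟨l, 1, a, b, h1, one_ne_zero, h2, h3⟩

theorem bal_add {a b a' b' : Multiset F[X]} {x y z : F[X]} (h : a + {y} = b + {x})
    (h' : a' + {z} = b' + {y}) : a' + a + {z} = b' + b + {x} := by
  rw [add_right_comm, h', add_assoc, add_comm ({y} : Multiset F[X]) a, h, add_assoc]

theorem Flex.add {s t : Multiset F[X]} (h : Flex s) (h' : Flex t) : Flex (s + t) := fun l' hl => by
  obtain ⟨l, D, a, b, h1, h2, h3, h4⟩ := h' l' hl
  obtain ⟨l₂, D₂, a₂, b₂, k1, k2, k3, k4⟩ := h l h1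
  exact ⟨l₂, _, _, _, k1, mul_ne_zero k2 h2, k3.add h3, bal_add h4 k4⟩

theorem DFlex.add {s t : Multiset F[X]} (h : DFlex s) (h' : Flex t) : DFlex (s + t) :=
  fun l' hl D hD => by
  obtain ⟨l, D₁, a, b, h1, h2, h3, h4⟩ := h' l' hl
  obtain ⟨l₂, a₂, b₂, k1, k3, k4, P, hP, hP'⟩ := h l h1 (D / D₁) (div_ne_zero hD h2)
  refine ⟨l₂, _, _, k1, ?_, bal_add h4 k4, P, Multiset.mem_add.2 (Or.inl hP), hP'⟩
  have := k3.add h3
  rwa [div_mul_cancel₀ _ h2] at this

theorem flex_of_bal {s a : Multiset F[X]} {D : F} (h : Tr s a a D) (hD : D ≠ 0) : Flex s :=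
  fun l' hl => ⟨l', D, a, a, hl, hD, h, rfl⟩

theorem flex_zero : Flex (0 : Multiset F[X]) := flex_of_bal tr_zero one_ne_zero

theorem flex_of_forall {s : Multiset F[X]} (h : ∀ e ∈ s, Flex {e}) : Flex s := by
  induction s using Multiset.induction_on with
  | empty => exact flex_zero
  | cons e s ih =>
    exact (h e (Multiset.mem_cons_self _ _)).add (ih fun x hx => h x (Multiset.mem_cons_of_mem hx))

theorem det_eq_prod_dd {n : Type*} [Fintype n] [DecidableEq n] (A : Matrix n n F) :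
    A.det = ((edM A).map dd).prod := by
  have key : ∀ s : Multiset F[X], (∀ e ∈ s, e ≠ 0) → dd s.prod = (s.map dd).prod := fun s hs => by
    induction s using Multiset.induction_on with
    | empty => simp [dd]
    | cons e s ih =>
      have h' : ∀ x ∈ s, x ≠ 0 := fun x hx => hs x (Multiset.mem_cons_of_mem hx)
      rw [Multiset.prod_cons, Multiset.map_cons, Multiset.prod_cons,
        dd_mul (hs e (Multiset.mem_cons_self _ _)) (Multiset.prod_ne_zero fun h => h' 0 h rfl),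
        ih h']
  rw [det_eq_dd, charpoly_eq_prod_edM, key _ fun e he => (isPP_of_mem_edM he).ne_zero]

theorem DFlex.done {s : Multiset F[X]} (h : DFlex s) (hs : (s.map dd).prod = 1) : Done s := by
  obtain ⟨l, a, b, -, h2, h3, h4⟩ := h 1 one_ne_zero 1 one_ne_zero
  have : l = 1 := by
    obtain ⟨ι, _, _, g, Y, rfl, rfl, rfl, hY⟩ := h2
    have := congrArg (fun t => (t.map dd).prod) h3
    simp only [Multiset.map_add, Multiset.prod_add, Multiset.map_singleton,
      Multiset.prod_singleton, dd_X_sub_C, ← det_eq_prod_dd] at this hs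
    rwa [det_mul, hY, hs, one_mul, one_mul, one_mul] at this
  subst this
  obtain rfl := add_right_cancel h3
  exact ⟨a, h2, h4⟩

theorem isPP_lin (a : F) : IsPP (X - C a) :=
  isPP_of_irreducible (monic_X_sub_C a) (irreducible_X_sub_C a)

theorem isCoprime_lin {a b : F} (h : a ≠ b) : IsCoprime (X - C a) (X - C b) :=
  isCoprime_X_sub_C (by simpa [sub_eq_zero] using h.symm)

theorem flex_lin {a : F} (ha : a ≠ 0) : Flex {X - C a} := fun l' hl =>
  ⟨l' * a, l', {X - C l'}, {X - C (l' * a)}, mul_ne_zero hl ha, hl,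
    ⟨Unit, inferInstance, inferInstance, Matrix.of fun _ _ => a, Matrix.of fun _ _ => l',
      edM_unit _, edM_unit _, by rw [edM_unit]; simp [Matrix.mul_apply], by simp⟩, add_comm _ _⟩

theorem exists_cyc {f : F[X]} (hf : f.Monic) :
    ∃ g : Matrix (Fin f.natDegree) (Fin f.natDegree) F, IsCyc g f :=
  exists_isCyc hf.ne_zero (by simp)

theorem coeff_ne_of_rootless {χ : F[X]} (h : ∀ l, χ.eval l ≠ 0) : χ.coeff 0 ≠ 0 := by
  rw [coeff_zero_eq_eval_zero]; exact h 0

theorem eq_quad {e : F[X]} (he : e.Monic) (hd : e.natDegree = 2) :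
    e = X ^ 2 - C (-e.coeff 1) * X + C (e.coeff 0) := by
  conv_lhs => rw [he.as_sum, hd]
  simp [Finset.sum_range_succ]; ring

theorem eq_lin {e : F[X]} (he : e.Monic) (hd : e.natDegree = 1) : e = X - C (-e.coeff 0) := by
  conv_lhs => rw [he.eq_X_add_C hd]
  simp

theorem pp_cases {e e' : F[X]} (he : IsPP e) (he' : IsPP e') (h : ¬ IsCoprime e e') :
    ∃ (P : F[X]) (j k : ℕ), P.Monic ∧ Irreducible P ∧ 0 < j ∧ 0 < k ∧ P ^ j = e ∧ P ^ k = e' := by
  obtain ⟨P, j, p1, p2, p3, rfl⟩ := isPP_iff.1 he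
  obtain ⟨Q, k, q1, q2, q3, rfl⟩ := isPP_iff.1 he'
  refine ⟨P, j, k, p1, p2, p3, q3, rfl, ?_⟩
  by_contra hne
  refine h (IsCoprime.pow (p2.coprime_iff_not_dvd.2 fun hd => hne ?_))
  rw [eq_of_monic_of_associated p1 q1 (p2.associated_of_dvd q2 hd)]

section
variable {n : Type*} [Fintype n] [DecidableEq n] {g : Matrix n n F} {f : F[X]}

theorem flex_two (hg : IsCyc g f) (hf : f.Monic) (h0 : f.coeff 0 ≠ 0) (hd : f.natDegree = 2)
    (h : ∀ l' : F, l' ≠ 0 → ∃ μ : F, μ ≠ 0 ∧ l' ≠ μ ∧ l' * dd f ≠ μ) : Flex (edM g) :=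
  fun l' hl => by
  obtain ⟨μ, h1, h2, h3⟩ := h l' hl
  obtain ⟨s, -, hs⟩ := tr_cyc hg hf (monic_X_sub_C μ) (by simpa using h1) (by simp)
    (by simp [hd]) (l' := l') (by simpa [sub_eq_zero] using h2) (by simpa [sub_eq_zero] using h3)
  exact ⟨_, _, _, _, mul_ne_zero hl (dd_ne_zero h0), by rw [dd_X_sub_C]; exact mul_ne_zero h1 hl,
    hs, add_right_comm _ _ _⟩

theorem done_two (hg : IsCyc g f) (hf : f.Monic) (hd : f.natDegree = 2) (h1 : dd f = 1)
    (h : ∃ l : F, l ≠ 0 ∧ l ^ 2 ≠ 1) : Done (edM g) := by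
  obtain ⟨l, hl, hl2⟩ := h
  have hne : l ≠ l⁻¹ := fun e => hl2 (by rw [sq]; nth_rewrite 2 [e]; exact mul_inv_cancel₀ hl)
  obtain ⟨s, -, hs⟩ := tr_cyc hg hf (monic_X_sub_C l⁻¹) (by simpa using hl) (by simp)
    (by simp [hd]) (l' := l) (by simpa [sub_eq_zero] using hne)
    (by simpa [sub_eq_zero, h1] using hne)
  rw [h1, mul_one, dd_X_sub_C, inv_mul_cancel₀ hl] at hs
  exact ⟨_, hs, X - C l, by simp, irreducible_X_sub_C l⟩

variable [Finite F]

theorem dflex_cyc (hg : IsCyc g f) (hf : f.Monic) (h0 : f.coeff 0 ≠ 0) (hd : 3 ≤ f.natDegree) :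
    DFlex (edM g) := fun l' hl D hD => by
  obtain ⟨χ, c1, c2, c3, c4⟩ := exists_chi (m := f.natDegree - 1) (by omega) (div_ne_zero hD hl)
  obtain ⟨s, -, hs⟩ := tr_cyc hg hf c1 (coeff_ne_of_rootless c4) (by omega) (by omega) (c4 l')
    (c4 _)
  rw [c3, div_mul_cancel₀ _ hl] at hs
  exact ⟨_, _, _, mul_ne_zero hl (dd_ne_zero h0), hs, add_right_comm _ _ _, X - C l', by simp,
    irreducible_X_sub_C _⟩

end

variable [Finite F]

theorem dflex_single {e : F[X]} (he : OK e) (hd : 3 ≤ e.natDegree) : DFlex {e} := by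
  obtain ⟨g, hg⟩ := exists_cyc he.1.monic
  rw [← hg.edM_pp he.1]
  exact dflex_cyc hg he.1.monic he.2 hd

theorem dflex_pair {e e' : F[X]} (he : OK e) (he' : OK e') (h : IsCoprime e e')
    (hd : 3 ≤ e.natDegree + e'.natDegree) : DFlex {e, e'} := by
  obtain ⟨g, hg⟩ := exists_cyc (he.1.monic.mul he'.1.monic)
  rw [← hg.edM_pair he.1 he'.1 h]
  exact dflex_cyc hg (he.1.monic.mul he'.1.monic) (by rw [mul_coeff_zero]; exact mul_ne_zero he.2 he'.2)
    (by rwa [natDegree_mul he.1.ne_zero he'.1.ne_zero])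

theorem dflex_three {g : Matrix (Fin 2) (Fin 2) F} {a b : F} (ha : a ≠ 0) (hb : b ≠ 0)
    (hg : IsCyc g ((X - C a) * (X - C b))) : DFlex (edM g + {X - C a}) := fun l' hl D hD => by
  obtain ⟨τ, hτ⟩ := exists_rootless (m := 0) (div_ne_zero hD hl)
  obtain ⟨s, hs⟩ := tr_three ha hg (l' := l') hτ
  rw [div_mul_cancel₀ _ hl] at hs
  exact ⟨_, _, _, mul_ne_zero hl (mul_ne_zero (mul_ne_zero ha ha) hb), hs, add_right_comm _ _ _,
    X - C l', by simp, irreducible_X_sub_C _⟩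

omit [Finite F] in
theorem exists_cyc_two {f : F[X]} (hf : f.Monic) (hd : f.natDegree = 2) :
    ∃ g : Matrix (Fin 2) (Fin 2) F, IsCyc g f := exists_isCyc hf.ne_zero (by simp [hd])

theorem dflex_sq_lin {a : F} (ha : a ≠ 0) : DFlex {(X - C a) ^ 2, X - C a} := by
  obtain ⟨g, hg⟩ := exists_cyc_two ((monic_X_sub_C a).pow (n := 2)) (by simp)
  have := dflex_three ha ha (by rwa [← sq])
  rwa [hg.edM_pp (isPP_pow (monic_X_sub_C a) (irreducible_X_sub_C a) two_pos)] at this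

theorem dflex_lin_three {a b c : F} (ha : a ≠ 0) (hb : b ≠ 0) (hc : c ≠ 0) (h : a ≠ b) :
    DFlex {X - C a, X - C b, X - C c} := by
  have key : ∀ {a b : F}, a ≠ 0 → b ≠ 0 → a ≠ b → DFlex ({X - C a, X - C b} + {X - C a}) :=
    fun {a b} ha hb h => by
    obtain ⟨g, hg⟩ := exists_cyc_two ((monic_X_sub_C a).mul (monic_X_sub_C b))
      (by compute_degree!)
    have := dflex_three ha hb hg
    rwa [hg.edM_pair (isPP_lin a) (isPP_lin b) (isCoprime_lin h)] at this
  by_cases h1 : a = c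
  · subst h1
    exact key ha hb h
  by_cases h2 : b = c
  · subst h2
    have := key hb ha (Ne.symm h)
    rwa [Multiset.pair_comm] at this
  have hm := ((monic_X_sub_C a).mul (monic_X_sub_C b)).mul (monic_X_sub_C c)
  obtain ⟨g, hg⟩ := exists_cyc hm
  rw [← hg.edM_triple (isPP_lin a) (isPP_lin b) (isPP_lin c) (isCoprime_lin h) (isCoprime_lin h1)
    (isCoprime_lin h2)]
  exact dflex_cyc hg hm (by simp [ha, hb, hc]) (le_of_eq (by symm; compute_degree!))

theorem dflex_four {e : F[X]} (he : OK e) (hd : e.natDegree = 2)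
    (h : ∀ l' : F, l' ≠ 0 → ∃ m : F, m ≠ 0 ∧ l' ≠ m ∧ l' * (e.coeff 0 * e.coeff 0) ≠ m) :
    DFlex {e, e} := fun l' hl D hD => by
  obtain ⟨m, h1, h2, h3⟩ := h l' hl
  obtain ⟨g, hg⟩ := exists_cyc_two he.1.monic hd
  obtain ⟨τ, hτ⟩ := exists_rootless (m := 0) (div_ne_zero hD (mul_ne_zero h1 hl))
  obtain ⟨s, hs⟩ := tr_four (by rw [← eq_quad he.1.monic hd]; exact hg) he.2 hτ h1 h2 h3
  rw [div_mul_cancel₀ _ (mul_ne_zero h1 hl), hg.edM_pp he.1] at hs
  exact ⟨_, _, _, mul_ne_zero hl (mul_ne_zero he.2 he.2), hs, add_right_comm _ _ _,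
    X - C l', by simp, irreducible_X_sub_C _⟩

theorem dflex_scalar {ζ : F} {n : ℕ} (hn : 0 < n) (h : ζ ^ n = 1) :
    DFlex (Multiset.replicate n (X - C ζ)) := by
  have hζ : ζ ≠ 0 := by
    rintro rfl
    simp [hn.ne'] at h
  have hfin : IsOfFinOrder ζ := isOfFinOrder_iff_pow_eq_one.2 ⟨n, hn, h⟩
  have hle : orderOf ζ ≤ n := orderOf_le_of_pow_eq_one hn h
  have hr : (orderOf ζ : F) ≠ 0 := by
    cases nonempty_fintype F
    intro h0
    obtain ⟨k, hk⟩ := orderOf_dvd_of_pow_eq_one (FiniteField.pow_card_sub_one_eq_one ζ hζ)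
    have := congrArg (Nat.cast : ℕ → F) hk
    rw [Nat.cast_mul, h0, zero_mul, Nat.cast_sub Fintype.card_pos, FiniteField.cast_card_eq_zero]
      at this
    simp at this
  rw [← Nat.add_sub_cancel' hle, Multiset.replicate_add]
  refine DFlex.add (fun l' hl D hD => ?_) (flex_of_forall fun e he => ?_)
  · obtain ⟨a, h1, h2⟩ := tr_scalar hfin.orderOf_pos (pow_orderOf_eq_one ζ) hr hD
    exact ⟨l', a, a, hl, h1, rfl, h2⟩
  · rw [Multiset.eq_of_mem_replicate he]
    exact flex_lin hζ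

theorem dflex_token {e e' : F[X]} (he : OK e) (he' : OK e') (hd : e.natDegree = 2)
    (hd' : 4 ≤ e'.natDegree) (h1 : dd e' * e.coeff 0 = 1)
    (h2 : 1 = dd e' → e.coeff 0 = 1 ∧ -e.coeff 1 = 2) (h3 : 1 ≠ dd e' → e.eval 1 ≠ 0) :
    DFlex {e, e'} := fun l' hl D hD => by
  have h0 := dd_ne_zero he'.2
  obtain ⟨g, hg⟩ := exists_cyc_two he.1.monic hd
  obtain ⟨g', hg'⟩ := exists_cyc he'.1.monic
  obtain ⟨χ, c1, c2, c3, c4⟩ := exists_chi (m := e'.natDegree - 2) (by omega) (div_ne_zero hD h0)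
  obtain ⟨s, hs⟩ := tr_cyc_two hg' he'.1.monic c1 (coeff_ne_of_rootless c4) (by omega) (by omega)
    one_ne_zero (c4 _) (c4 _)
  have ht := tr_token (by rw [← eq_quad he.1.monic hd]; exact hg) one_ne_zero h0 h1 h2
    fun h => by
      have := h3 h
      rw [eq_quad he.1.monic hd] at this
      simpa using this
  have := ht.add hs
  rw [hg.edM_pp he.1, hg'.edM_pp he'.1, c3, one_mul, one_pow, mul_one,
    mul_div_cancel₀ _ h0] at this
  refine ⟨l', _, _, hl, this, ?_, X - C 1, by simp, irreducible_X_sub_C _⟩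
  congr 1
  abel

omit [Finite F] in
theorem OK.lin {a : F} (h : OK (X - C a)) : a ≠ 0 := by simpa using h.2

theorem flex_single {e : F[X]} (he : OK e) (h : e.natDegree = 2 →
    ∀ l' : F, l' ≠ 0 → ∃ μ : F, μ ≠ 0 ∧ l' ≠ μ ∧ l' * dd e ≠ μ) : Flex {e} := by
  have := he.1.natDegree_pos
  rcases (by omega : e.natDegree = 1 ∨ e.natDegree = 2 ∨ 3 ≤ e.natDegree) with h1 | h1 | h1
  · rw [eq_lin he.1.monic h1]
    exact flex_lin (neg_ne_zero.2 he.2)
  · obtain ⟨g, hg⟩ := exists_cyc he.1.monic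
    rw [← hg.edM_pp he.1]
    exact flex_two hg he.1.monic he.2 h1 (h h1)
  · exact (dflex_single he h1).flex

theorem done_of_flex {s : Multiset F[X]} (hs : ∀ e ∈ s, OK e) (hf : ∀ e ∈ s, Flex {e})
    (h4 : ∀ d l' : F, d ≠ 0 → l' ≠ 0 → ∃ m : F, m ≠ 0 ∧ l' ≠ m ∧ l' * (d * d) ≠ m)
    (hdet : (s.map dd).prod = 1) (hn : s ≠ 0)
    (h2 : (s.map natDegree).sum = 2 → ∃ l : F, l ≠ 0 ∧ l ^ 2 ≠ 1) : Done s := by
  have fin : ∀ t u, s = t + u → DFlex t → Done s := fun t u e ht => by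
    refine DFlex.done ?_ hdet
    rw [e]
    exact ht.add (flex_of_forall fun x hx => hf x (e ▸ Multiset.mem_add.2 (Or.inr hx)))
  by_cases h3 : ∃ e ∈ s, 3 ≤ e.natDegree
  · obtain ⟨e, he, hd⟩ := h3
    obtain ⟨t, rfl⟩ := Multiset.exists_cons_of_mem he
    exact fin {e} t rfl (dflex_single (hs e he) hd)
  push Not at h3
  by_cases h2' : ∃ e ∈ s, e.natDegree = 2
  · obtain ⟨e, he, hd⟩ := h2'
    obtain ⟨t, rfl⟩ := Multiset.exists_cons_of_mem he
    have oe := hs e he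
    by_cases ht : t = 0
    · subst ht
      obtain ⟨g, hg⟩ := exists_cyc oe.1.monic
      rw [Multiset.cons_zero, ← hg.edM_pp oe.1]
      exact done_two hg oe.1.monic hd (by simpa using hdet) (h2 (by simpa using hd))
    obtain ⟨e', he'⟩ := Multiset.exists_mem_of_ne_zero ht
    obtain ⟨u, rfl⟩ := Multiset.exists_cons_of_mem he'
    have oe' := hs e' (Multiset.mem_cons_of_mem he')
    have hd' := h3 e' (Multiset.mem_cons_of_mem he')
    refine fin {e, e'} u (by simp) ?_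
    by_cases hc : IsCoprime e e'
    · exact dflex_pair oe oe' hc (by have := oe'.1.natDegree_pos; omega)
    by_cases hee : e' = e
    · subst hee
      exact dflex_four oe hd fun l' hl => h4 _ l' oe.2 hl
    obtain ⟨P, j, k, p1, p2, hj, hk, rfl, rfl⟩ := pp_cases oe.1 oe'.1 hc
    rw [natDegree_pow] at hd hd'
    have hP := p2.natDegree_pos
    have hjk : k ≠ j := fun h => hee (by rw [h])
    have hj2 : j ≤ 2 := by nlinarith
    have hk2 : k ≤ 2 := by nlinarith
    obtain ⟨rfl, rfl, hP1⟩ : j = 2 ∧ k = 1 ∧ P.natDegree = 1 := by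
      interval_cases j <;> interval_cases k <;> omega
    rw [pow_one] at oe' ⊢
    rw [eq_lin p1 hP1]
    exact dflex_sq_lin (neg_ne_zero.2 oe'.2)
  push Not at h2'
  have lin : ∀ e ∈ s, ∃ a : F, e = X - C a := fun e he => ⟨_, eq_lin (hs e he).1.monic (by
    have := (hs e he).1.natDegree_pos
    have := h3 e he
    have := h2' e he
    omega)⟩
  obtain ⟨e, he⟩ := Multiset.exists_mem_of_ne_zero hn
  obtain ⟨a, rfl⟩ := lin e he
  by_cases hall : ∀ x ∈ s, x = X - C a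
  · have e := Multiset.eq_replicate_card.2 hall
    refine fin s 0 (add_zero s).symm ?_
    rw [e] at hdet ⊢
    refine dflex_scalar (Multiset.card_pos.2 hn) ?_
    simpa [dd_X_sub_C] using hdet
  push Not at hall
  obtain ⟨x, hx, hxa⟩ := hall
  obtain ⟨b, rfl⟩ := lin x hx
  have hab : a ≠ b := fun h => hxa (by rw [h])
  obtain ⟨t, rfl⟩ := Multiset.exists_cons_of_mem he
  obtain ⟨u, rfl⟩ := Multiset.exists_cons_of_mem ((Multiset.mem_cons.1 hx).resolve_left hxa)
  by_cases hu : u = 0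
  · subst hu
    have hm := (monic_X_sub_C a).mul (monic_X_sub_C b)
    obtain ⟨g, hg⟩ := exists_cyc hm
    have := done_two hg hm (by compute_degree!)
      (by rw [dd_mul (X_sub_C_ne_zero a) (X_sub_C_ne_zero b)]; simpa using hdet) (h2 (by simp))
    rwa [hg.edM_pair (isPP_lin a) (isPP_lin b) (isCoprime_lin hab)] at this
  obtain ⟨y, hy⟩ := Multiset.exists_mem_of_ne_zero hu
  obtain ⟨c, rfl⟩ := lin y (by simp [hy])
  obtain ⟨v, rfl⟩ := Multiset.exists_cons_of_mem hy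
  exact fin {X - C a, X - C b, X - C c} v (by simp)
    (dflex_lin_three (hs _ he).lin (hs _ hx).lin (hs _ (by simp)).lin hab)

theorem exists_avoid (h : 4 ≤ Nat.card F) (x y : F) : ∃ m : F, m ≠ 0 ∧ x ≠ m ∧ y ≠ m := by
  classical
  cases nonempty_fintype F
  by_contra hn
  push Not at hn
  have : (Finset.univ : Finset F) ⊆ {0, x, y} := fun c _ => by
    by_cases h0 : c = 0
    · simp [h0]
    by_cases h1 : x = c
    · simp [h1]
    · simp [hn c h0 h1]
  have h3 := (Finset.card_le_card this).trans Finset.card_le_three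
  rw [Finset.card_univ, ← Nat.card_eq_fintype_card] at h3
  omega

theorem done_four (h : 4 ≤ Nat.card F) {s : Multiset F[X]} (hs : ∀ e ∈ s, OK e)
    (hdet : (s.map dd).prod = 1) (hn : s ≠ 0) : Done s :=
  done_of_flex hs (fun e he => flex_single (hs e he) fun _ _ _ => exists_avoid h _ _)
    (fun _ _ _ _ => exists_avoid h _ _) hdet hn fun _ => by
      obtain ⟨l, h0, h1, h2⟩ := exists_avoid h 1 (-1)
      exact ⟨l, h0, fun e => by
        rcases mul_self_eq_one_iff.1 (sq l ▸ e) with e | e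
        exacts [h1 e.symm, h2 e.symm]⟩

section three
variable (h2 : (2 : F) ≠ 0) (hsq : ∀ x : F, x ≠ 0 → x * x = 1)
include h2 hsq

omit [Finite F] hsq in
theorem avoid_three {x : F} (hx : x ≠ 0) : ∃ m : F, m ≠ 0 ∧ x ≠ m ∧ x * 1 ≠ m := by
  have : x ≠ -x := fun e => mul_ne_zero h2 hx (by linear_combination e)
  exact ⟨-x, neg_ne_zero.2 hx, this, by rwa [mul_one]⟩

omit hsq in
theorem flex_three {e : F[X]} (he : OK e) (h : ¬ (e.natDegree = 2 ∧ dd e ≠ 1)) : Flex {e} :=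
  flex_single he fun hd l' hl => by
    rw [show dd e = 1 by by_contra h1; exact h ⟨hd, h1⟩]
    exact avoid_three h2 hl

theorem dflex_problem {e e' : F[X]} (he : OK e) (he' : OK e') (hd : e.natDegree = 2)
    (h1 : dd e ≠ 1) (h1' : dd e' ≠ 1) : DFlex {e, e'} := by
  have neg : ∀ x : F, x ≠ 0 → x ≠ 1 → x = -1 := fun x hx hx1 =>
    (mul_self_eq_one_iff.1 (hsq x hx)).resolve_left hx1
  by_cases hc : IsCoprime e e'
  · exact dflex_pair he he' hc (by have := he'.1.natDegree_pos; omega)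
  by_cases hee : e' = e
  · subst hee
    exact dflex_four he hd fun l' hl => by rw [hsq _ he.2]; exact avoid_three h2 hl
  have hde : dd e = e.coeff 0 := by simp [dd, hd]
  obtain ⟨P, j, k, p1, p2, hj, hk, rfl, rfl⟩ := pp_cases he.1 he'.1 hc
  have hd0 := hd
  rw [natDegree_pow] at hd
  have hP := p2.natDegree_pos
  have hj2 : j ≤ 2 := by nlinarith
  have hj1 : j = 1 := by
    by_contra hj1
    obtain rfl : j = 2 := by omega
    apply h1
    have h0 : P.coeff 0 ≠ 0 := fun h0 => he.2 (by rw [sq, mul_coeff_zero, h0, mul_zero])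
    rw [hde, sq, mul_coeff_zero, hsq _ h0]
  subst hj1
  rw [pow_one] at he hd0 hee h1 hde ⊢
  have hk2 : 2 ≤ k := by
    by_contra h
    obtain rfl : k = 1 := by omega
    exact hee (pow_one P)
  refine dflex_token he he' hd0 (by rw [natDegree_pow, hd0]; omega) ?_ (fun h => (h1' h.symm).elim)
    fun _ h => ?_
  · rw [← hde, neg _ (dd_ne_zero he.2) h1, neg _ (dd_ne_zero he'.2) h1']; ring
  · have := degree_eq_one_of_irreducible_of_root p2 h
    rw [degree_eq_natDegree p2.ne_zero, hd0] at this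
    exact absurd this (by decide)

theorem dflex_of_problem (n : ℕ) : ∀ s : Multiset F[X], s.card = n → (∀ e ∈ s, OK e) →
    (s.map dd).prod = 1 → (∃ e ∈ s, e.natDegree = 2 ∧ dd e ≠ 1) →
    (s.map natDegree).sum ≠ 2 ∧ DFlex s := by
  induction n using Nat.strong_induction_on with
  | _ n ih =>
  rintro s hn hs hdet ⟨e, he, hd, h1⟩
  obtain ⟨t, rfl⟩ := Multiset.exists_cons_of_mem he
  obtain ⟨e', he', h1'⟩ : ∃ e' ∈ t, dd e' ≠ 1 := by
    by_contra h
    push Not at h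
    rw [Multiset.map_cons, Multiset.prod_cons, Multiset.prod_eq_one (by simpa using h),
      mul_one] at hdet
    exact h1 hdet
  obtain ⟨u, rfl⟩ := Multiset.exists_cons_of_mem he'
  have oe := hs e he
  have oe' := hs e' (Multiset.mem_cons_of_mem he')
  have ou : ∀ x ∈ u, OK x := fun x hx => hs x (by simp [hx])
  refine ⟨by have := oe'.1.natDegree_pos; simp [hd]; omega, ?_⟩
  rw [show e ::ₘ e' ::ₘ u = {e, e'} + u by simp]
  refine (dflex_problem h2 hsq oe oe' hd h1 h1').add ?_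
  by_cases hu : ∃ x ∈ u, x.natDegree = 2 ∧ dd x ≠ 1
  · refine (ih u.card (by simp at hn; omega) u rfl ou ?_ hu).2.flex
    have neg : ∀ x : F, x ≠ 0 → x ≠ 1 → x = -1 := fun x hx hx1 =>
      (mul_self_eq_one_iff.1 (hsq x hx)).resolve_left hx1
    simp only [Multiset.map_cons, Multiset.prod_cons, neg _ (dd_ne_zero oe.2) h1,
      neg _ (dd_ne_zero oe'.2) h1'] at hdet
    linear_combination hdet
  · exact flex_of_forall fun x hx => flex_three h2 (ou x hx) fun h => hu ⟨x, hx, h⟩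

theorem done_three {s : Multiset F[X]} (hs : ∀ e ∈ s, OK e) (hdet : (s.map dd).prod = 1)
    (hn : s ≠ 0) (hn2 : (s.map natDegree).sum ≠ 2) : Done s := by
  by_cases hu : ∃ x ∈ s, x.natDegree = 2 ∧ dd x ≠ 1
  · exact (dflex_of_problem h2 hsq _ s rfl hs hdet hu).2.done hdet
  · exact done_of_flex hs (fun x hx => flex_three h2 (hs x hx) fun h => hu ⟨x, hx, h⟩)
      (fun d l' hd hl => by rw [hsq d hd]; exact avoid_three h2 hl) hdet hn fun h => (hn2 h).elim

end three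

theorem comm_of_isConj {G : Type*} [Group G] {g y : G} (h : IsConj y (y * g)) :
    ∃ a b : G, g = a * b * a⁻¹ * b⁻¹ := by
  obtain ⟨c, hc⟩ := isConj_iff.1 h
  exact ⟨y⁻¹, c, by rw [inv_inv, mul_assoc, mul_assoc, ← mul_assoc c, hc, inv_mul_cancel_left]⟩

theorem Done.comm {n : Type*} [Fintype n] [DecidableEq n] {g : SpecialLinearGroup n F}
    (h : Done (edM (g : Matrix n n F))) : ∃ a b : SpecialLinearGroup n F, g = a * b * a⁻¹ * b⁻¹ := by
  obtain ⟨a, h1, P, hP, hP'⟩ := h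
  obtain ⟨Y, y1, y2, y3⟩ := h1.transfer
  obtain ⟨y, rfl⟩ : ∃ y : SpecialLinearGroup n F, (y : Matrix n n F) = Y := ⟨⟨Y, y3⟩, rfl⟩
  exact comm_of_isConj (y := y) (isConj_SL_of_irreducible_mem hP' (y1 ▸ hP)
    (isConj_iff_edM_eq.2 (y1.trans y2.symm)))

omit [Finite F] in
theorem ok_of_mem {n : Type*} [Fintype n] [DecidableEq n] (g : SpecialLinearGroup n F) :
    ∀ e ∈ edM (g : Matrix n n F), OK e := fun e he =>
  ⟨isPP_of_mem_edM he, (isUnit_iff_edM _).1 ((Matrix.isUnit_iff_isUnit_det _).2 (by simp)) e he⟩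

end Cfsg.Agent.Cl.Ore
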