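import Mathlib
import Cfsg.Agent.Cl.OreC

/-! Commutators in `SL_n(2)`, and Ore's property for `SL_n(q)`. -/

set_option autoImplicit false

open Matrix Polynomial Sum Module

namespace Cfsg.Agent.Cl.Ore

open Cls

theorem edM_reg {F : Type*} [Field F] {n : Type*} [Fintype n] [DecidableEq n] {A : Matrix n n F}
    {k : ℕ} (hk : Fintype.card n = k + 1) (h : (A - 1) ^ (k + 1) = 0) (h' : (A - 1) ^ k ≠ 0) :
    edM A = {(X - C 1) ^ (k + 1)} := by
  rw [edM_eq_of_pow_ne_zero (c := 1) (k := k + 1) (by rwa [aeval_X_sub_C_one])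
    (by rwa [aeval_X_sub_C_one, hk]), hk]
  rfl

local notation "F2" => ZMod 2
local notation "J" => (X - C (1 : ZMod 2)) ^ 2

theorem flex_of_reg {n : Type} [Fintype n] [DecidableEq n] (g Y : Matrix n n F2) {k : ℕ}
    (hk : Fintype.card n = k + 1) (h : (Y - 1) ^ (k + 1) = 0) (h' : (Y - 1) ^ k ≠ 0)
    (e : (Y * g - 1) ^ (k + 1) = 0) (e' : (Y * g - 1) ^ k ≠ 0) : Flex (edM g) := by
  have := edM_reg hk h h'
  refine flex_of_bal ⟨n, inferInstance, inferInstance, g, Y, rfl, this, edM_reg hk e e', rfl⟩ ?_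
  rw [det_eq_prod_dd, this, Multiset.map_singleton, Multiset.prod_singleton]
  exact dd_ne_zero (by rw [coeff_zero_eq_eval_zero]; simp)

theorem edM_J : edM !![(1 : F2), 0; 1, 1] = {J} := edM_jordan_two one_ne_zero

theorem edM_J3 : edM !![(1 : F2), 0, 0; 1, 1, 0; 0, 1, 1] = {(X - C 1) ^ 3} :=
  edM_reg (k := 2) rfl (by decide) (by decide)

theorem flex_JJ : Flex {J, J} := by
  have := flex_of_reg (fromBlocks !![1, 0; 1, 1] 0 0 !![1, 0; 1, 1])
    (fromBlocks 1 !![0, 0; 1, 0] 1 1) (k := 3) rfl (by decide +kernel) (by decide +kernel)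
    (by decide +kernel) (by decide +kernel)
  rwa [edM_fromBlocks, edM_J] at this

theorem flex_JJ3 : Flex {J, (X - C 1) ^ 3} := by
  have := flex_of_reg (fromBlocks !![1, 0; 1, 1] 0 0 !![1, 0, 0; 1, 1, 0; 0, 1, 1])
    (fromBlocks 1 !![1, 0, 0; 0, 1, 0] !![0, 0; 1, 0; 0, 1] 1) (k := 4) rfl (by decide +kernel)
    (by decide +kernel) (by decide +kernel) (by decide +kernel)
  rwa [edM_fromBlocks, edM_J, edM_J3] at this

theorem flex_JJJ : Flex {J, J, J} := by
  have := flex_of_reg (fromBlocks !![1, 0; 1, 1] 0 0 (fromBlocks !![1, 0; 1, 1] 0 0 !![1, 0; 1, 1]))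
    (fromBlocks 1 (fromCols 0 !![0, 0; 1, 0]) (fromRows 1 0) (fromBlocks 1 0 1 1)) (k := 5) rfl
    (by decide +kernel) (by decide +kernel) (by decide +kernel) (by decide +kernel)
  rwa [edM_fromBlocks, edM_fromBlocks, edM_J] at this

theorem flex_omega {e : F2[X]} (he : OK e) (h : e = X ^ 2 - C 1 * X + C 1) : Flex {e} := by
  have h1 := isCyc_two (A := !![(0 : F2), 1; 1, 1]) (τ := 1) (μ := 1) (by decide) (by decide)
    (by decide)
  have h2 := isCyc_two (A := !![(1 : F2), 0; 1, 1]) (τ := 0) (μ := 1) (by decide) (by decide)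
    (by decide)
  have h3 := isCyc_two (A := !![(1 : F2), 0; 1, 1] * !![(0 : F2), 1; 1, 1]) (τ := 0) (μ := 1)
    (by decide) (by decide) (by decide)
  rw [← h] at h1
  exact flex_of_bal ⟨Fin 2, inferInstance, inferInstance, _, _, h1.edM_pp he.1, rfl, h3.edM_eq h2,
    rfl⟩ (by decide)

theorem f2_cases (x : F2) : x = 0 ∨ x = 1 := by revert x; decide

theorem f2_one {x : F2} (h : x ≠ 0) : x = 1 := (f2_cases x).resolve_left h

theorem J_eq : J = X ^ 2 - C 0 * X + C 1 := by
  have : (2 : F2[X]) = 0 := CharTwo.two_eq_zero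
  simp only [map_one, map_zero]
  linear_combination (-X) * this

theorem flex_not_J {e : F2[X]} (he : OK e) (h : e ≠ J) : Flex {e} := by
  by_cases hd : e.natDegree = 2
  · have := eq_quad he.1.monic hd
    rw [f2_one he.2] at this
    rcases f2_cases (-e.coeff 1) with h0 | h0 <;> rw [h0] at this
    · exact (h (this.trans J_eq.symm)).elim
    · exact flex_omega he this
  · exact flex_single he fun h => (hd h).elim

theorem ok_J : OK J := ⟨isPP_pow (monic_X_sub_C _) (irreducible_X_sub_C _) two_pos, by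
  rw [J_eq]; simp⟩

theorem natDegree_J : (J).natDegree = 2 := by rw [natDegree_pow, natDegree_X_sub_C]

theorem flex_J_pair {e : F2[X]} (he : OK e) : Flex {J, e} := by
  by_cases hc : IsCoprime J e
  · exact (dflex_pair ok_J he hc (by have := he.1.natDegree_pos; rw [natDegree_J]; omega)).flex
  obtain ⟨P, j, k, p1, p2, hj, hk, e1, rfl⟩ := pp_cases ok_J.1 he.1 hc
  obtain ⟨rfl, -⟩ := (pow_eq_pow_iff_of_irreducible p1 p2 (monic_X_sub_C 1) (irreducible_X_sub_C 1)
    hj).1 e1
  rcases (by omega : k = 1 ∨ k = 2 ∨ k = 3 ∨ 4 ≤ k) with rfl | rfl | rfl | h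
  · rw [pow_one]; exact (dflex_sq_lin one_ne_zero).flex
  · exact flex_JJ
  · exact flex_JJ3
  · have h1 := f2_one (dd_ne_zero he.2)
    refine (dflex_token ok_J he natDegree_J (by rwa [natDegree_pow, natDegree_X_sub_C, mul_one])
      (by rw [h1, f2_one ok_J.2, mul_one])
      (fun _ => ⟨f2_one ok_J.2, ?_⟩) fun h => (h h1.symm).elim).flex
    rw [J_eq]
    simp [coeff_one]
    rfl

theorem flex_two_elements (n : ℕ) : ∀ s : Multiset F2[X], s.card = n → (∀ e ∈ s, OK e) →
    s ≠ {J} → Flex s := by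
  induction n using Nat.strong_induction_on with
  | _ n ih =>
  intro s hn hs hJ
  by_cases h : J ∈ s
  swap
  · exact flex_of_forall fun e he => flex_not_J (hs e he) fun e' => h (e' ▸ he)
  obtain ⟨t, rfl⟩ := Multiset.exists_cons_of_mem h
  obtain ⟨e, he⟩ := Multiset.exists_mem_of_ne_zero (s := t) fun h0 => hJ (by simp [h0])
  obtain ⟨u, rfl⟩ := Multiset.exists_cons_of_mem he
  have oe := hs e (by simp)
  by_cases hu : u = {J}
  · subst hu
    by_cases he' : e = J
    · subst he'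
      exact flex_JJJ
    · rw [show J ::ₘ e ::ₘ {J} = {J, J} + {e} by rw [Multiset.cons_swap, add_comm]; rfl]
      exact flex_JJ.add (flex_not_J oe he')
  · rw [show J ::ₘ e ::ₘ u = {J, e} + u by simp]
    exact (flex_J_pair oe).add (ih u.card (by simp at hn; omega) u rfl
      (fun x hx => hs x (by simp [hx])) hu)

theorem comm_two {n : ℕ} (hn : n ≠ 2) (g : SpecialLinearGroup (Fin n) F2) :
    ∃ a b : SpecialLinearGroup (Fin n) F2, g = a * b * a⁻¹ * b⁻¹ := by
  obtain ⟨l, D, a, b, h1, h2, h3, h4⟩ := flex_two_elements _ _ rfl (ok_of_mem g) (fun h => by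
    have := sum_natDegree_edM (g : Matrix (Fin n) (Fin n) F2)
    rw [h, Multiset.map_singleton, Multiset.sum_singleton, natDegree_J, Fintype.card_fin] at this
    exact hn this.symm) 1 one_ne_zero
  rw [f2_one h1] at h4
  obtain rfl := add_right_cancel h4
  obtain ⟨Y, y1, y2, y3⟩ := h3.transfer
  obtain ⟨y, rfl⟩ : ∃ y : SpecialLinearGroup (Fin n) F2, (y : Matrix (Fin n) (Fin n) F2) = Y :=
    ⟨⟨Y, y3.trans (f2_one h2)⟩, rfl⟩
  obtain ⟨c, hc⟩ := isConj_iff_edM_eq.2 (y1.trans y2.symm)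
  obtain ⟨c', hc'⟩ : ∃ c' : SpecialLinearGroup (Fin n) F2, (c' : Matrix (Fin n) (Fin n) F2) = c :=
    ⟨⟨c, f2_one ((Matrix.isUnit_iff_isUnit_det _).1 c.isUnit).ne_zero⟩, rfl⟩
  refine comm_of_isConj (y := y) (isConj_iff.2 ⟨c', ?_⟩)
  rw [mul_inv_eq_iff_eq_mul]
  apply Subtype.ext
  change c'.1 * y.1 = y.1 * g.1 * c'.1
  rw [hc']
  exact hc

theorem sl_comm {F : Type*} [Field F] [Fintype F] (n : ℕ) (hn : 2 ≤ n)
    (hex : n = 2 → 4 ≤ Fintype.card F) (g : SpecialLinearGroup (Fin n) F) :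
    ∃ a b : SpecialLinearGroup (Fin n) F, g = a * b * a⁻¹ * b⁻¹ := by
  have hdet : ((edM (g : Matrix (Fin n) (Fin n) F)).map dd).prod = 1 := by
    rw [← det_eq_prod_dd, g.det_coe]
  have h0 : edM (g : Matrix (Fin n) (Fin n) F) ≠ 0 := edM_ne_zero _ (by simp; omega)
  have hq : 1 < Fintype.card F := Fintype.one_lt_card
  rcases (by omega : Fintype.card F = 2 ∨ Fintype.card F = 3 ∨ 4 ≤ Fintype.card F) with h | h | h
  · let σ : ZMod 2 ≃+* F := ZMod.ringEquivOfPrime F Nat.prime_two h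
    obtain ⟨a, b, e⟩ := comm_two (n := n) (fun h2 => by have := hex h2; omega)
      (SpecialLinearGroup.map (σ.symm : F →+* ZMod 2) g)
    refine ⟨SpecialLinearGroup.map (σ : ZMod 2 →+* F) a, SpecialLinearGroup.map (σ : ZMod 2 →+* F) b,
      ?_⟩
    rw [← map_inv, ← map_inv, ← map_mul, ← map_mul, ← map_mul, ← e]
    ext i j
    simp
  · refine Done.comm (done_three ?_ (fun x hx => ?_) (ok_of_mem g) hdet h0 ?_)
    · intro h2
      have h3 := FiniteField.cast_card_eq_zero F
      rw [h] at h3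
      exact one_ne_zero (α := F) (by push_cast at h3; linear_combination h3 - h2)
    · have := FiniteField.pow_card_sub_one_eq_one x hx
      rwa [h, sq] at this
    · rw [sum_natDegree_edM, Fintype.card_fin]
      intro h2
      have := hex h2
      omega
  · exact Done.comm (done_four (by rwa [Nat.card_eq_fintype_card]) (ok_of_mem g) hdet h0)

end Cfsg.Agent.Cl.Ore
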