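import Mathlib
import Cfsg.Agent.Cl.ClassSpOBlocks

/-! Symplectic isometries as products of two elements of opposite Siegel radicals: an isometry `g`
either has complementary isotropic `L, L'` with `(g - 1) L ≤ L'`, or has a Jordan block of odd
size for the eigenvalue `-1` (odd characteristic). -/

set_option autoImplicit false

namespace Cfsg.Agent.Cl.OreSp

open Module Cls Polynomial SpO

variable {F V : Type*} [Field F] [AddCommGroup V] [Module F V] {B : LinearMap.BilinForm F V}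
  {g k T : End F V}

/-- Totally isotropic subspaces. -/
def TI (B : LinearMap.BilinForm F V) (L : Submodule F V) : Prop := ∀ x ∈ L, ∀ y ∈ L, B x y = 0

/-- `U = L + L'` with `L`, `L'` isotropic and `(g - 1) L ≤ L'`. -/
def LU (B : LinearMap.BilinForm F V) (g : End F V) (U : Submodule F V) : Prop :=
  ∃ L L' : Submodule F V, L ⊔ L' = U ∧ TI B L ∧ TI B L' ∧ ∀ x ∈ L, g x - x ∈ L'

/-- `U = L + g L` with `L` isotropic for `B` and for `B ((g + g⁻¹) x) y`. -/
def Bi (B : LinearMap.BilinForm F V) (g : End F V) (U : Submodule F V) : Prop :=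
  ∃ L : Submodule F V, L ⊔ L.map g = U ∧ TI B L ∧ ∀ x ∈ L, ∀ y ∈ L, B (g x) y + B x (g y) = 0

theorem TI.sup {L M : Submodule F V} (hr : B.IsRefl) (hL : TI B L) (hM : TI B M)
    (h : ∀ x ∈ L, ∀ y ∈ M, B x y = 0) : TI B (L ⊔ M) := fun x hx y hy => by
  obtain ⟨a, ha, b, hb, rfl⟩ := Submodule.mem_sup.1 hx
  obtain ⟨c, hc, d, hd, rfl⟩ := Submodule.mem_sup.1 hy
  simp [hL a ha c hc, h a ha d hd, hr _ _ (h c hc b hb), hM b hb d hd]

theorem LU.sup {U U' : Submodule F V} (hr : B.IsRefl) (h : LU B g U) (h' : LU B g U')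
    (ho : ∀ x ∈ U, ∀ y ∈ U', B x y = 0) : LU B g (U ⊔ U') := by
  obtain ⟨L, L', rfl, h1, h2, h3⟩ := h
  obtain ⟨M, M', rfl, k1, k2, k3⟩ := h'
  refine ⟨L ⊔ M, L' ⊔ M', sup_sup_sup_comm _ _ _ _, h1.sup hr k1 fun x hx y hy =>
    ho x (Submodule.mem_sup_left hx) y (Submodule.mem_sup_left hy), h2.sup hr k2 fun x hx y hy =>
    ho x (Submodule.mem_sup_right hx) y (Submodule.mem_sup_right hy), fun x hx => ?_⟩
  obtain ⟨a, ha, b, hb, rfl⟩ := Submodule.mem_sup.1 hx
  rw [map_add, add_sub_add_comm]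
  exact Submodule.add_mem_sup (h3 a ha) (k3 b hb)

theorem LU.lift {U : Submodule F V} (hU : ∀ x ∈ U, g x ∈ U)
    (h : LU (B.restrict U) (g.restrict hU) ⊤) : LU B g U := by
  obtain ⟨L, L', e, h1, h2, h3⟩ := h
  refine ⟨L.map U.subtype, L'.map U.subtype, by
    rw [← Submodule.map_sup, e, Submodule.map_subtype_top], ?_, ?_, ?_⟩
  · rintro _ ⟨x, hx, rfl⟩ _ ⟨y, hy, rfl⟩
    exact h1 x hx y hy
  · rintro _ ⟨x, hx, rfl⟩ _ ⟨y, hy, rfl⟩
    exact h2 x hx y hy
  · rintro _ ⟨x, hx, rfl⟩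
    exact ⟨_, h3 x hx, rfl⟩

theorem sup_map_sub_one (L : Submodule F V) (g : End F V) : L ⊔ L.map (g - 1) = L ⊔ L.map g := by
  refine le_antisymm (sup_le le_sup_left ?_) (sup_le le_sup_left ?_)
  · rintro _ ⟨x, hx, rfl⟩
    exact sub_mem (Submodule.mem_sup_right ⟨x, hx, rfl⟩) (Submodule.mem_sup_left hx)
  · rintro _ ⟨x, hx, rfl⟩
    have : g x = x + (g - 1) x := by simp
    rw [this]
    exact Submodule.add_mem_sup hx ⟨x, hx, rfl⟩

theorem TI.map_sub_one {L : Submodule F V} (hg : IsIsom B g) (h1 : TI B L)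
    (h2 : ∀ x ∈ L, ∀ y ∈ L, B (g x) y + B x (g y) = 0) : TI B (L.map (g - 1)) := by
  rintro _ ⟨x, hx, rfl⟩ _ ⟨y, hy, rfl⟩
  simp only [LinearMap.sub_apply, Module.End.one_apply, map_sub, hg x y, h1 x hx y hy]
  linear_combination -h2 x hx y hy

theorem Bi.lu {U : Submodule F V} (hg : IsIsom B g) (h : Bi B g U) : LU B g U := by
  obtain ⟨L, rfl, h1, h2⟩ := h
  exact ⟨L, L.map (g - 1), sup_map_sub_one L g, h1, h1.map_sub_one hg h2, fun x hx => ⟨x, hx, rfl⟩⟩

theorem Bi.neg {U : Submodule F V} (h : Bi B g U) : Bi B (-g) U := by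
  obtain ⟨L, rfl, h1, h2⟩ := h
  refine ⟨L, by rw [Submodule.map_neg], h1, fun x hx y hy => ?_⟩
  simp only [LinearMap.neg_apply, map_neg]
  linear_combination -h2 x hx y hy

/-- The span of the vectors `T ^ i u`. -/
noncomputable def E (T : End F V) (u : V) : Submodule F V :=
  LinearMap.range (LinearMap.applyₗ u ∘ₗ (aeval T).toLinearMap)

theorem mem_E {u x : V} : x ∈ E T u ↔ ∃ p : F[X], aeval T p u = x := Iff.rfl

theorem aeval_mem_E (p : F[X]) (u : V) : aeval T p u ∈ E T u := ⟨p, rfl⟩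

theorem self_mem_E (T : End F V) (u : V) : u ∈ E T u := ⟨1, by simp⟩

theorem aeval_aeval (p q : F[X]) (u : V) : aeval T p (aeval T q u) = aeval T (p * q) u := by
  rw [map_mul]; rfl

theorem apply_mem_E {u x : V} (hx : x ∈ E T u) : T x ∈ E T u := by
  obtain ⟨p, rfl⟩ := mem_E.1 hx
  exact mem_E.2 ⟨X * p, by rw [← aeval_aeval, aeval_X]⟩

theorem aeval_mem {U : Submodule F V} (hU : ∀ x ∈ U, T x ∈ U) (p : F[X]) {u : V} (hu : u ∈ U) :
    aeval T p u ∈ U := by
  induction p using Polynomial.induction_on with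
  | C a => simpa using U.smul_mem a hu
  | add p q hp hq => simpa using add_mem hp hq
  | monomial n a ih =>
    rw [pow_succ', ← mul_assoc, mul_comm (C a), mul_assoc, ← aeval_aeval, aeval_X]
    exact hU _ ih

theorem E_le {U : Submodule F V} (hU : ∀ x ∈ U, T x ∈ U) {u : V} (hu : u ∈ U) : E T u ≤ U := by
  rintro _ ⟨p, rfl⟩
  exact aeval_mem hU p hu

theorem sa_aeval (hT : ∀ x y, B (T x) y = B x (T y)) (p : F[X]) :
    ∀ x y, B (aeval T p x) y = B x (aeval T p y) := by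
  induction p using Polynomial.induction_on with
  | C a => simp
  | add p q hp hq => simp [hp, hq]
  | monomial n a ih =>
    intro x y
    rw [pow_succ, ← mul_assoc, ← aeval_aeval, ih, aeval_X, hT, mul_comm _ X, ← aeval_aeval X,
      aeval_X]

theorem alt_aeval (hA : B.IsAlt) (hT : ∀ x y, B (T x) y = B x (T y)) (h1 : ∀ x, B x (T x) = 0)
    (p : F[X]) (x : V) : B x (aeval T p x) = 0 := by
  have key : ∀ n : ℕ, (∀ x, B x ((T ^ n) x) = 0) ∧ ∀ x, B x ((T ^ (n + 1)) x) = 0 := fun n => by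
    induction n with
    | zero => exact ⟨fun x => hA x, fun x => by simpa using h1 x⟩
    | succ n ih =>
      refine ⟨ih.2, fun x => ?_⟩
      rw [pow_succ', Module.End.mul_apply, ← hT, pow_succ, Module.End.mul_apply]
      exact ih.1 _
  induction p using Polynomial.induction_on' with
  | add p q hp hq => simp [hp, hq]
  | monomial n a => simp [aeval_monomial, (key n).1 x]

theorem commute_aeval {a : End F V} (h : Commute a T) (p : F[X]) : Commute a (aeval T p) := by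
  induction p using Polynomial.induction_on' with
  | add p q hp hq => rw [map_add]; exact hp.add_right hq
  | monomial n c =>
    rw [aeval_monomial]
    exact (Algebra.commute_algebraMap_right c a).mul_right (h.pow_right n)

/-- An isometry of an alternating form together with its inverse. -/
structure Set (B : LinearMap.BilinForm F V) (g k : End F V) : Prop where
  alt : B.IsAlt
  isom : IsIsom B g
  gk : g * k = 1
  kg : k * g = 1

/-- The `g`-submodule generated by `u`. -/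
noncomputable def Cyc (g k : End F V) (u : V) : Submodule F V :=
  E (g + k) u ⊔ (E (g + k) u).map g

namespace Set

variable (S : Set B g k)
include S

theorem gk_apply (x : V) : g (k x) = x := LinearMap.congr_fun S.gk x

theorem kg_apply (x : V) : k (g x) = x := LinearMap.congr_fun S.kg x

theorem move (x y : V) : B (g x) y = B x (k y) := by rw [← S.isom x, S.gk_apply]

theorem move' (x y : V) : B (k x) y = B x (g y) := by rw [← S.isom, S.gk_apply]

theorem isom' : IsIsom B k := fun x y => by rw [S.move', S.gk_apply]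

theorem symm : Set B k g := ⟨S.alt, S.isom', S.kg, S.gk⟩

theorem neg : Set B (-g) (-k) := ⟨S.alt, S.isom.neg, by simp [S.gk], by simp [S.kg]⟩

theorem refl : B.IsRefl := S.alt.isRefl

theorem comm : Commute g k := S.gk.trans S.kg.symm

theorem comm_T : Commute g (g + k) := (Commute.refl g).add_right S.comm

theorem comm_T' : Commute k (g + k) := S.comm.symm.add_right (Commute.refl k)

theorem sa (x y : V) : B ((g + k) x) y = B x ((g + k) y) := by
  simp [S.move, S.move', add_comm]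

theorem sap (p : F[X]) (x y : V) : B (aeval (g + k) p x) y = B x (aeval (g + k) p y) :=
  sa_aeval S.sa p x y

theorem altp (p : F[X]) (x : V) : B x (aeval (g + k) p x) = 0 :=
  alt_aeval S.alt S.sa (fun x => by
    rw [LinearMap.add_apply, map_add, ← S.move, ← S.alt.neg_eq, neg_add_cancel]) p x

theorem g_aeval (p : F[X]) (x : V) : g (aeval (g + k) p x) = aeval (g + k) p (g x) :=
  LinearMap.congr_fun (commute_aeval S.comm_T p).eq x

theorem ti_E (u : V) : TI B (E (g + k) u) := by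
  intro x hx y hy
  obtain ⟨p, rfl⟩ := mem_E.1 hx
  obtain ⟨q, rfl⟩ := mem_E.1 hy
  rw [S.sap, aeval_aeval, S.altp]

theorem skew {L : Submodule F V} (h : TI B L) (hT : ∀ x ∈ L, (g + k) x ∈ L) :
    ∀ x ∈ L, ∀ y ∈ L, B (g x) y + B x (g y) = 0 := fun x hx y hy => by
  rw [S.move, ← map_add, add_comm]
  exact h x hx _ (hT y hy)

theorem bi_cyc (u : V) : Bi B g (Cyc g k u) :=
  ⟨_, rfl, S.ti_E u, S.skew (S.ti_E u) fun _ => apply_mem_E⟩

theorem cyc_inv (u : V) : ∀ x ∈ Cyc g k u, g x ∈ Cyc g k u := fun x hx => by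
  obtain ⟨a, ha, _, ⟨b, hb, rfl⟩, rfl⟩ := Submodule.mem_sup.1 hx
  have : g (g b) = g ((g + k) b) - b := by simp [S.gk_apply]
  rw [map_add, this]
  exact add_mem (Submodule.mem_sup_right ⟨a, ha, rfl⟩)
    (sub_mem (Submodule.mem_sup_right ⟨_, apply_mem_E hb, rfl⟩) (Submodule.mem_sup_left hb))

omit S in
theorem self_mem_cyc (u : V) : u ∈ Cyc g k u := Submodule.mem_sup_left (self_mem_E _ u)

theorem inv_mem [FiniteDimensional F V] {U : Submodule F V} (hU : ∀ x ∈ U, g x ∈ U) :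
    ∀ x ∈ U, k x ∈ U := fun x hx => by
  have hi : Function.Injective (g.restrict hU) := fun a b h => Subtype.ext (by
    have := congrArg (fun z : U => k z) h
    simpa [LinearMap.restrict_apply, S.kg_apply] using this)
  obtain ⟨y, hy⟩ := LinearMap.injective_iff_surjective.1 hi ⟨x, hx⟩
  have : x = g y := (congrArg Subtype.val hy).symm
  rw [this, S.kg_apply]
  exact y.2

theorem cyc_le [FiniteDimensional F V] {U : Submodule F V} (hU : ∀ x ∈ U, g x ∈ U) {u : V}
    (hu : u ∈ U) : Cyc g k u ≤ U := by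
  have h := E_le (T := g + k) (fun x hx => add_mem (hU x hx) (S.inv_mem hU x hx)) hu
  refine sup_le h ?_
  rintro _ ⟨x, hx, rfl⟩
  exact hU _ (h hx)

end Set

theorem dvd_of_ell {P : F[X]} (hP : Irreducible P) {h : ℕ} (l : F[X] →ₗ[F] F)
    (h1 : ∀ c, l (P ^ (h + 1) * c) = 0) (h2 : l (P ^ h) ≠ 0) {c : F[X]} (hc : ∀ b, l (c * b) = 0) :
    P ^ (h + 1) ∣ c := by
  classical
  obtain ⟨j, hj, e⟩ := (dvd_prime_pow hP.prime (h + 1)).1 (EuclideanDomain.gcd_dvd_right c _)
  rcases hj.eq_or_lt with rfl | hj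
  · exact e.symm.dvd.trans (EuclideanDomain.gcd_dvd_left _ _)
  obtain ⟨d, hd⟩ := e.dvd.trans (pow_dvd_pow P (Nat.le_of_lt_succ hj))
  rw [hd, EuclideanDomain.gcd_eq_gcd_ab, add_mul, map_add, mul_assoc, mul_assoc, h1, hc,
    add_zero] at h2
  exact absurd rfl h2

theorem Set.cyc_nondeg (S : Set B g k) {P : F[X]} (hP : Irreducible P) {h : ℕ} {u : V}
    (h1 : aeval (g + k) (P ^ (h + 1)) u = 0) (h2 : B (aeval (g + k) (P ^ h) (g u)) u ≠ 0) :
    (B.restrict (Cyc g k u)).Nondegenerate := by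
  refine B.nondegenerate_restrict_of_disjoint_orthogonal S.refl (Submodule.disjoint_def.2 ?_)
  intro x hx ho
  obtain ⟨_, ⟨a, rfl⟩, _, ⟨_, ⟨b, rfl⟩, rfl⟩, rfl⟩ := Submodule.mem_sup.1 hx
  let l : F[X] →ₗ[F] F := B.flip u ∘ₗ LinearMap.applyₗ (g u) ∘ₗ (aeval (g + k)).toLinearMap
  have hl : ∀ p, l p = B (aeval (g + k) p (g u)) u := fun _ => rfl
  have h0 : ∀ c, aeval (g + k) (P ^ (h + 1) * c) u = 0 := fun c => by
    rw [mul_comm, ← aeval_aeval, h1, map_zero]
  have key : ∀ c, (∀ b, l (c * b) = 0) → aeval (g + k) c u = 0 := fun c hc => by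
    obtain ⟨d, rfl⟩ := dvd_of_ell hP l (fun c => by rw [hl, ← S.g_aeval, h0]; simp) h2 hc
    exact h0 d
  change aeval (g + k) a u + g (aeval (g + k) b u) = 0
  change aeval (g + k) a u + g (aeval (g + k) b u) ∈ _ at ho
  have hb : aeval (g + k) b u = 0 := key b fun c => by
    have := S.refl _ _ (ho (aeval (g + k) c u) (Submodule.mem_sup_left ⟨c, rfl⟩))
    rwa [map_add, LinearMap.add_apply, S.ti_E u _ (aeval_mem_E a u) _ (aeval_mem_E c u),
      zero_add, S.g_aeval,
      ← S.sap, aeval_aeval, mul_comm] at this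
  rw [hb, map_zero, add_zero] at ho ⊢
  exact key a fun c => by
    have := ho (g (aeval (g + k) c u)) (Submodule.mem_sup_right ⟨_, ⟨c, rfl⟩, rfl⟩)
    rwa [S.g_aeval, ← S.sap, aeval_aeval] at this

/-- A nonzero nondegenerate invariant subspace. -/
def Blk (B : LinearMap.BilinForm F V) (g : End F V) (U : Submodule F V) : Prop :=
  U ≠ ⊥ ∧ (∀ x ∈ U, g x ∈ U) ∧ (B.restrict U).Nondegenerate

theorem exists_top {π : End F V} {n : ℕ} {z : V} (hz : z ≠ 0) (h : (π ^ n) z = 0) :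
    ∃ (j : ℕ) (w : V), (∀ u, (π ^ n) u = 0 → (π ^ (j + 1)) u = 0) ∧ (π ^ n) w = 0 ∧
      (π ^ j) w ≠ 0 := by
  classical
  have hex : ∃ j, ∀ u, (π ^ n) u = 0 → (π ^ j) u = 0 := ⟨n, fun _ h => h⟩
  rcases h0 : Nat.find hex with _ | j
  · have := Nat.find_spec hex z h
    rw [h0] at this
    exact absurd this hz
  · have := Nat.find_min hex (m := j) (by omega)
    push Not at this
    obtain ⟨w, h1, h2⟩ := this
    exact ⟨j, w, fun u hu => by simpa only [h0] using Nat.find_spec hex u hu, h1, h2⟩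

variable [FiniteDimensional F V]

theorem exists_irreducible_ker [Nontrivial V] (T : End F V) :
    ∃ P : F[X], Irreducible P ∧ ∃ z, z ≠ 0 ∧ aeval T P z = 0 := by
  have hi : IsIntegral F T := Algebra.IsIntegral.isIntegral T
  obtain ⟨P, hP, ν, hν⟩ := exists_irreducible_of_natDegree_pos (minpoly.natDegree_pos hi)
  refine ⟨P, hP, by_contra fun h => ?_⟩
  push Not at h
  have h0 : aeval T ν = 0 := LinearMap.ext fun x => by_contra fun hx => h _ hx (by
    rw [aeval_aeval, ← hν, minpoly.aeval]; rfl)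
  have hν0 : ν ≠ 0 := by rintro rfl; exact minpoly.ne_zero hi (by rw [hν, mul_zero])
  have := natDegree_le_of_dvd (minpoly.dvd F T h0) hν0
  rw [hν, natDegree_mul hP.ne_zero hν0] at this
  have := hP.natDegree_pos
  omega

theorem Set.exists_cyc_blk [Nontrivial V] (S : Set B g k) (hB : B.Nondegenerate)
    (h1 : ∀ z, g z = z → z = 0) (h2 : ∀ z, g z = -z → z = 0) : ∃ U, Blk B g U ∧ Bi B g U := by
  obtain ⟨P, hP, z, hz, hz'⟩ := exists_irreducible_ker (g + k)
  set π := aeval (g + k) P with hπ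
  obtain ⟨n, hn⟩ : ∃ n, finrank F V = n + 1 := Nat.exists_eq_succ_of_ne_zero finrank_pos.ne'
  obtain ⟨j, w, hj, hw, hw'⟩ := exists_top (π := π) (n := finrank F V) hz (by
    rw [hn, pow_succ, Module.End.mul_apply, hz', map_zero])
  have hsa : ∀ i x y, B ((π ^ i) x) y = B x ((π ^ i) y) := fun i x y => by
    rw [hπ, ← map_pow, S.sap]
  have hc : ∀ i, Commute g (π ^ i) := fun i => (commute_aeval S.comm_T P).pow_right i
  have hc' : ∀ i, Commute k (π ^ i) := fun i => (commute_aeval S.comm_T' P).pow_right i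
  obtain ⟨u, hu, hu'⟩ : ∃ u, (π ^ finrank F V) u = 0 ∧ B ((π ^ j) (g u)) u ≠ 0 := by
    by_contra hne
    push Not at hne
    have key : g ((π ^ j) w) - k ((π ^ j) w) = 0 := hB.1 _ fun y => by
      obtain ⟨a, b, rfl⟩ := exists_add_of_isCompl (isCompl_fit (π + 1)) y
      have ha : (π ^ finrank F V) a = 0 := by simpa [fitK] using a.2
      obtain ⟨b', hb'⟩ : ∃ b', (π ^ finrank F V) b' = b := by simpa [fitR] using b.2
      have e1 := hne (w + a) (by simp [hw, ha])
      simp only [map_add, LinearMap.add_apply, hne w hw, hne a ha, zero_add, add_zero] at e1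
      have e2 : B ((π ^ j) (g a)) w = -B (k ((π ^ j) w)) a := by
        rw [hsa, S.move, S.alt.neg_eq]
      have e3 : (π ^ j) (g w) = g ((π ^ j) w) := (LinearMap.congr_fun (hc j).eq w).symm
      have e4 : (π ^ finrank F V) (g ((π ^ j) w) - k ((π ^ j) w)) = 0 := by
        rw [map_sub, ← Module.End.mul_apply, ← (hc _).eq, ← Module.End.mul_apply (π ^ _) k,
          ← (hc' _).eq, Module.End.mul_apply, Module.End.mul_apply, ← Module.End.mul_apply (π ^ _),
          pow_mul_comm π, Module.End.mul_apply, hw]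
        simp
      rw [map_add, ← hb', ← hsa, e4, map_sub, LinearMap.sub_apply]
      rw [e2, e3] at e1
      simp only [map_zero, LinearMap.zero_apply, add_zero]
      linear_combination e1
    have e : g (g ((π ^ j) w)) = (π ^ j) w := by rw [sub_eq_zero.1 key, S.gk_apply]
    exact hw' (h2 _ (eq_neg_of_add_eq_zero_left (h1 _ (by rw [map_add, e, add_comm]))))
  refine ⟨Cyc g k u, ⟨fun h0 => hu' ?_, S.cyc_inv u, S.cyc_nondeg hP (h := j) ?_ ?_⟩, S.bi_cyc u⟩
  · have := Set.self_mem_cyc (g := g) (k := k) u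
    rw [h0, Submodule.mem_bot] at this
    simp [this]
  · rw [map_pow]; exact hj u hu
  · rwa [map_pow]

omit [FiniteDimensional F V] in
theorem Set.parity (S : Set B g k) {H e : ℕ} {u x : V} (h1 : ((g - 1) ^ (H + 1)) u = 0)
    (h2 : ((g - 1) ^ H) u ≠ 0) (hx : x ∈ E (g + k) u) (he : ((g - 1) ^ e) x = ((g - 1) ^ H) u) :
    ∃ j, H = e + 2 * j := by
  obtain ⟨p, rfl⟩ := mem_E.1 hx
  have hp : p ≠ 0 := by rintro rfl; simp [h2.symm] at he
  obtain ⟨c, hc, hc'⟩ := exists_eq_pow_rootMultiplicity_mul_and_not_dvd p hp 2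
  set j := rootMultiplicity (2 : F) p
  have cN : Commute (g - 1) k := S.comm.sub_left (Commute.one_left k)
  have cT : Commute (g - 1) (aeval (g + k) c) :=
    commute_aeval (S.comm_T.sub_left (Commute.one_left _)) c
  have e1 : aeval (g + k) (X - C (2 : F)) = k * (g - 1) ^ 2 := by
    rw [map_sub, aeval_X, aeval_C, map_ofNat, sq, ← mul_assoc, mul_sub k, S.kg, mul_one, sub_mul,
      one_mul, mul_sub k, S.kg, mul_one, ← one_add_one_eq_two]
    abel
  have key : ∀ i, ((g - 1) ^ i) (aeval (g + k) p u) =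
      (k ^ j) (aeval (g + k) c (((g - 1) ^ (i + 2 * j)) u)) := fun i => by
    rw [hc, map_mul, map_pow, e1, (cN.symm.pow_right 2).mul_pow, ← pow_mul,
      ← Module.End.mul_apply, ← mul_assoc, ← mul_assoc, (cN.pow_pow i j).eq, mul_assoc (k ^ j),
      ← pow_add, mul_assoc, (cT.pow_left _).eq]
    rfl
  have hz : ∀ i, H < i → ((g - 1) ^ i) u = 0 := fun i hi => by
    obtain ⟨d, rfl⟩ := Nat.exists_eq_add_of_lt hi
    rw [show H + d + 1 = d + (H + 1) by ring, pow_add, Module.End.mul_apply, h1, map_zero]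
  rcases lt_trichotomy H (e + 2 * j) with h | h | h
  · rw [key, hz _ h, map_zero, map_zero] at he
    exact absurd he.symm h2
  · exact ⟨j, h⟩
  obtain ⟨d, hd⟩ := Nat.exists_eq_add_of_lt h
  have f1 := fixed_of_pow_succ h1
  have f2 : k (((g - 1) ^ H) u) = ((g - 1) ^ H) u := by rw [← f1, S.kg_apply, f1]
  have f3 := key (d + 1 + e)
  rw [pow_add, Module.End.mul_apply, he, ← Module.End.mul_apply, ← pow_add, hz _ (by omega),
    show d + 1 + e + 2 * j = H by omega, Module.End.aeval_apply_of_mem_apply_eq_smul (μ := 2)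
      (by rw [LinearMap.add_apply, f1, f2, two_smul]), map_smul, pow_apply_of_fixed f2] at f3
  exact absurd (smul_eq_zero.1 f3.symm) (not_or.2 ⟨fun h0 => hc' (dvd_iff_isRoot.2 h0), h2⟩)

theorem exists_sep (hB : B.Nondegenerate) (hg : IsIsom B g) {D : Submodule F V}
    (hD : D ≤ fitK g) {z : V} (hz : z ∈ fitK g) (h : z ∉ D) :
    ∃ v ∈ fitK g, (∀ x ∈ D, B x v = 0) ∧ B z v ≠ 0 := by
  obtain ⟨f, h1, h2⟩ := D.exists_dual_map_eq_bot_of_notMem h inferInstance
  obtain ⟨v, hv⟩ := (B.flip.toDual hB.flip).surjective f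
  obtain ⟨a, b, rfl⟩ := exists_add_of_isCompl (isCompl_fit g) v
  have key : ∀ x ∈ fitK g, B x a = f x := fun x hx => by
    rw [← hv, LinearMap.BilinForm.toDual_def]
    simp [hg.fit_orth hB x hx b b.2]
  refine ⟨a, a.2, fun x hx => ?_, by rwa [key z hz]⟩
  rw [key x (hD hx), ← Submodule.mem_bot F, ← h2]
  exact ⟨x, hx, rfl⟩

theorem nondeg_of_hom {W : Type*} [AddCommGroup W] [Module F W] (hB : B.Nondegenerate)
    (hA : B.IsAlt) (hg : IsIsom B g) {h : ℕ} (ι : W →ₗ[F] V)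
    (hι : ∀ w, ((g - 1) ^ (h + 1)) (ι w) = 0)
    (hβ : ∀ y, (∀ y', beta B g h (ι y) (ι y') = 0) → y = 0) {U : Submodule F V}
    (hU : ∀ x ∈ U, g x ∈ U) (h1 : ∀ w, ι w ∈ U)
    (h2 : ∀ U' : Submodule F V, (∀ x ∈ U', g x ∈ U') → (∀ w, ι w ∈ U') → U ≤ U') :
    (B.restrict U).Nondegenerate := by
  obtain ⟨U₁, U₂, k1, -, ι', hc, ho, k2, H⟩ := exists_hom_split hB (isEps_of_isAlt hA) hg ι hι hβ
  have : U = U₁ := le_antisymm (h2 _ k1 fun w => k2 w ▸ (ι' w).2) fun x hx => by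
    obtain ⟨w, hw⟩ := H.2.2 ⟨x, hx⟩
    have := congrArg Subtype.val hw
    rw [coe_phi_restrict, phi_apply] at this
    rw [← show _ = x from this]
    refine Submodule.sum_mem _ fun i _ => Module.End.pow_apply_mem_of_forall_mem _
      (fun y hy => sub_mem (hU y hy) hy) _ ?_
    rw [LinearMap.comp_apply, Submodule.subtype_apply, k2]
    exact h1 _
  exact this ▸ nondeg_left hB hA.isRefl hc ho

/-- The map `(a, b) ↦ a u + b v`. -/
def pairMap (F : Type*) [Field F] [Module F V] (u v : V) : F × F →ₗ[F] V :=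
  (LinearMap.toSpanSingleton F V u).coprod (LinearMap.toSpanSingleton F V v)

omit [FiniteDimensional F V] in
theorem pairMap_apply (u v : V) (y : F × F) : pairMap F u v y = y.1 • u + y.2 • v := rfl

omit [FiniteDimensional F V] in
theorem pair_sep (hA : B.IsAlt) (hg : IsIsom B g) {h : ℕ} {u v : V}
    (hu : ((g - 1) ^ (h + 1)) u = 0) (h1 : B (((g - 1) ^ h) u) u = 0)
    (h2 : B (((g - 1) ^ h) u) v ≠ 0) (y : F × F)
    (hy : ∀ y', beta B g h (pairMap F u v y) (pairMap F u v y') = 0) : y = 0 := by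
  have e := beta_swap (isEps_of_isAlt hA) hg hu v
  have a := hy (1, 0)
  have b := hy (0, 1)
  rw [← beta_apply] at h1 h2
  have h3 : beta B g h v u ≠ 0 := fun h0 => h2 (by rw [e, h0, mul_zero])
  simp only [pairMap_apply, map_add, map_smul, one_smul, zero_smul, add_zero, zero_add,
    LinearMap.add_apply, LinearMap.smul_apply, smul_eq_mul, h1, mul_zero, mul_eq_zero, h3,
    or_false] at a b
  rw [a, zero_mul, add_zero, mul_eq_zero, or_iff_left h2] at b
  exact Prod.ext b a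

theorem Set.blk_pair (S : Set B g k) (hB : B.Nondegenerate) {h : ℕ} {u v : V}
    (hu : ((g - 1) ^ (h + 1)) u = 0) (hv : ((g - 1) ^ (h + 1)) v = 0)
    (h1 : B (((g - 1) ^ h) u) u = 0) (h2 : B (((g - 1) ^ h) u) v ≠ 0) :
    Blk B g (Cyc g k u ⊔ Cyc g k v) := by
  have m1 : u ∈ Cyc g k u ⊔ Cyc g k v := Submodule.mem_sup_left (Set.self_mem_cyc u)
  have m2 : v ∈ Cyc g k u ⊔ Cyc g k v := Submodule.mem_sup_right (Set.self_mem_cyc v)
  have hi : ∀ x ∈ Cyc g k u ⊔ Cyc g k v, g x ∈ Cyc g k u ⊔ Cyc g k v := fun x hx => by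
    obtain ⟨a, ha, b, hb, rfl⟩ := Submodule.mem_sup.1 hx
    rw [map_add]
    exact Submodule.add_mem_sup (S.cyc_inv u a ha) (S.cyc_inv v b hb)
  refine ⟨fun h0 => h2 ?_, hi, nondeg_of_hom hB S.alt S.isom (pairMap F u v)
    (fun w => by simp [pairMap_apply, hu, hv]) (pair_sep S.alt S.isom hu h1 h2) hi
    (fun w => add_mem (Submodule.smul_mem _ _ m1) (Submodule.smul_mem _ _ m2)) fun U hU hw =>
      sup_le (S.cyc_le hU (by simpa [pairMap_apply] using hw (1, 0)))
        (S.cyc_le hU (by simpa [pairMap_apply] using hw (0, 1)))⟩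
  rw [h0, Submodule.mem_bot] at m2
  simp [m2]

theorem Set.blk_single (S : Set B g k) (hB : B.Nondegenerate) {h : ℕ} {u : V}
    (hu : ((g - 1) ^ (h + 1)) u = 0) (h1 : B (((g - 1) ^ h) u) u ≠ 0) : Blk B g (Cyc g k u) := by
  have m1 : u ∈ Cyc g k u := Set.self_mem_cyc u
  refine ⟨fun h0 => h1 ?_, S.cyc_inv u, nondeg_of_hom hB S.alt S.isom (h := h)
    (LinearMap.toSpanSingleton F V u) (fun w => by simp [hu]) (fun y hy => ?_) (S.cyc_inv u)
    (fun w => Submodule.smul_mem _ _ m1) fun U hU hw => S.cyc_le hU (by simpa using hw 1)⟩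
  · rw [h0, Submodule.mem_bot] at m1
    simp [m1]
  · simpa [beta_apply, h1] using hy 1

/-- A pair of Jordan blocks of odd size `h + 1` for the eigenvalue `1`. -/
def OddPair (B : LinearMap.BilinForm F V) (g : End F V) : Prop :=
  ∃ (h : ℕ) (u v : V), Even h ∧ ((g - 1) ^ (h + 1)) u = 0 ∧ ((g - 1) ^ (h + 1)) v = 0 ∧
    B (((g - 1) ^ h) u) v ≠ 0

theorem Set.exists_unip_blk (S : Set B g k) (hB : B.Nondegenerate) {z : V} (hz : z ≠ 0)
    (hz' : g z = z) : ∃ U, Blk B g U ∧ LU B g U ∧ (Bi B g U ∨ OddPair B g) := by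
  obtain ⟨H, u, hj, hu, hu'⟩ := exists_top (π := g - 1) (n := finrank F V) hz
    (mem_fitK_of_pow (k := 1) (by simp [hz']))
  have hK : ∀ u ∈ fitK g, E (g + k) u ≤ fitK g := fun u hu => E_le
    (fun x hx => add_mem (fitK_inv g x hx) (fitK_of_commute S.comm.symm x hx)) hu
  have hz : ((g - 1) ^ H) u ∈ fitK g := fitK_of_commute (((Commute.refl g).sub_left
    (Commute.one_left g)).pow_left H) u hu
  have hab : ∀ v, (∀ x ∈ E (g + k) u, B x v = 0) → ∀ x ∈ E (g + k) u, ∀ y ∈ E (g + k) v,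
      B x y = 0 := fun v hv x hx y hy => by
    obtain ⟨p, rfl⟩ := mem_E.1 hy
    rw [← S.sap]
    exact hv _ (aeval_mem (fun _ => apply_mem_E) p hx)
  rcases Nat.even_or_odd H with hH | hH
  · obtain ⟨v, hv, h1, h2⟩ := exists_sep hB S.isom (D := (E (g + k) u).map (g - 1)) (by
      rintro _ ⟨x, hx, rfl⟩
      exact sub_mem (fitK_inv g _ (hK u hu hx)) (hK u hu hx)) hz (by
      rintro ⟨x, hx, e⟩
      obtain ⟨j, hj⟩ := S.parity (e := 1) (hj u hu) hu' hx (by simpa using e)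
      obtain ⟨r, hr⟩ := hH
      omega)
    have h3 : ∀ x ∈ (E (g + k) u).map (g - 1), ∀ y ∈ E (g + k) v, B x y = 0 := by
      rintro _ ⟨x, hx, rfl⟩ y hy
      obtain ⟨p, rfl⟩ := mem_E.1 hy
      rw [← S.sap, ← Module.End.mul_apply,
        ← (commute_aeval (S.comm_T.sub_left (Commute.one_left _)) p).eq]
      exact h1 _ ⟨_, aeval_mem (fun _ => apply_mem_E) p hx, rfl⟩
    refine ⟨_, S.blk_pair hB (hj u hu) (hj v hv) (altAt_of_isAlt S.alt S.isom hH u (hj u hu)) h2,
      ⟨E (g + k) u ⊔ (E (g + k) v).map (k - 1), (E (g + k) u).map (g - 1) ⊔ E (g + k) v, ?_, ?_, ?_,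
      fun x hx => ?_⟩, Or.inr ⟨H, u, v, hH, hj u hu, hj v hv, h2⟩⟩
    · rw [sup_sup_sup_comm, sup_map_sub_one, sup_comm (Submodule.map _ _), sup_map_sub_one]
      congr 1
      refine le_antisymm (sup_le le_sup_left ?_) (sup_le le_sup_left ?_)
      · rintro _ ⟨x, hx, rfl⟩
        exact S.inv_mem (S.cyc_inv v) x (Submodule.mem_sup_left hx)
      · rintro _ ⟨x, hx, rfl⟩
        have : g x = (g + k) x - k x := by simp
        rw [this]
        exact sub_mem (Submodule.mem_sup_left (apply_mem_E hx)) (Submodule.mem_sup_right ⟨x, hx, rfl⟩)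
    · refine (S.ti_E u).sup S.refl ((S.ti_E v).map_sub_one S.isom' (S.symm.skew (S.ti_E v)
        fun _ hx => by rw [add_comm k]; exact apply_mem_E hx)) ?_
      rintro x hx _ ⟨y, hy, rfl⟩
      simpa [S.move] using h3 _ ⟨x, hx, rfl⟩ y hy
    · exact ((S.ti_E u).map_sub_one S.isom (S.skew (S.ti_E u) fun _ => apply_mem_E)).sup S.refl
        (S.ti_E v) h3
    · obtain ⟨a, ha, _, ⟨b, hb, rfl⟩, rfl⟩ := Submodule.mem_sup.1 hx
      have : g (a + (k - 1) b) - (a + (k - 1) b) = (g - 1) a + (b + b - (g + k) b) := by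
        simp [S.gk_apply]; abel
      rw [this]
      exact Submodule.add_mem_sup ⟨a, ha, rfl⟩ (sub_mem (add_mem hb hb) (apply_mem_E hb))
  by_cases h0 : B (((g - 1) ^ H) u) u = 0
  · obtain ⟨v, hv, h1, h2⟩ := exists_sep hB S.isom (hK u hu) hz (fun hx => by
      obtain ⟨j, hj⟩ := S.parity (e := 0) (hj u hu) hu' hx rfl
      obtain ⟨r, hr⟩ := hH
      omega)
    have h3 := (S.ti_E u).sup S.refl (S.ti_E v) (hab v h1)
    have h4 : Bi B g (Cyc g k u ⊔ Cyc g k v) := ⟨_, by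
      rw [Submodule.map_sup, sup_sup_sup_comm]; rfl, h3, S.skew h3 fun x hx => by
      obtain ⟨a, ha, b, hb, rfl⟩ := Submodule.mem_sup.1 hx
      rw [map_add]
      exact Submodule.add_mem_sup (apply_mem_E ha) (apply_mem_E hb)⟩
    exact ⟨_, S.blk_pair hB (hj u hu) (hj v hv) h0 h2, h4.lu S.isom, Or.inl h4⟩
  · exact ⟨_, S.blk_single hB (hj u hu) h0, (S.bi_cyc u).lu S.isom, Or.inl (S.bi_cyc u)⟩

theorem exists_set (hB : B.Nondegenerate) (hA : B.IsAlt) (hg : IsIsom B g) : ∃ k, Set B g k :=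
  ⟨_, hA, hg, mul_adj_self hB hg, adj_mul_self hB hg⟩

theorem exists_blk [Nontrivial V] (hB : B.Nondegenerate) (hA : B.IsAlt) (hg : IsIsom B g) :
    (∃ U, Blk B g U ∧ LU B g U) ∨ ((2 : F) ≠ 0 ∧ OddPair B (-g)) := by
  obtain ⟨k, S⟩ := exists_set hB hA hg
  by_cases h1 : ∀ z, g z = z → z = 0
  · by_cases h2 : ∀ z, g z = -z → z = 0
    · obtain ⟨U, hU, hU'⟩ := S.exists_cyc_blk hB h1 h2
      exact Or.inl ⟨U, hU, hU'.lu hg⟩
    push Not at h2
    obtain ⟨z, hz, hz'⟩ := h2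
    obtain ⟨U, hU, -, h | h⟩ := S.neg.exists_unip_blk hB hz' (by simp [hz])
    · exact Or.inl ⟨U, ⟨hU.1, fun x hx => by simpa using hU.2.1 x hx, hU.2.2⟩,
        Bi.lu hg (by simpa using h.neg)⟩
    · refine Or.inr ⟨fun h0 => hz' (h1 z ?_), h⟩
      rw [hz, neg_eq_iff_add_eq_zero, ← two_smul F, h0, zero_smul]
  push Not at h1
  obtain ⟨z, hz, hz'⟩ := h1
  obtain ⟨U, hU, hU', -⟩ := S.exists_unip_blk hB hz' hz
  exact Or.inl ⟨U, hU, hU'⟩

theorem lu_aux {F : Type*} [Field F] (n : ℕ) : ∀ {V : Type*} [AddCommGroup V] [Module F V]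
    [FiniteDimensional F V] {B : LinearMap.BilinForm F V} {g : End F V}, finrank F V = n →
    B.Nondegenerate → B.IsAlt → IsIsom B g → LU B g ⊤ ∨ ((2 : F) ≠ 0 ∧ OddPair B (-g)) := by
  induction n using Nat.strong_induction_on with
  | _ n ih =>
  intro V _ _ _ B g hn hB hA hg
  rcases subsingleton_or_nontrivial V with h0 | h0
  · exact Or.inl ⟨⊥, ⊥, Subsingleton.elim _ _, by simp [TI], by simp [TI], by simp⟩
  refine (exists_blk hB hA hg).elim (fun ⟨U, ⟨h1, h2, h3⟩, h4⟩ => ?_) Or.inr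
  have hc := LinearMap.BilinForm.isCompl_orthogonal_of_restrict_nondegenerate hA.isRefl h3
  have hi := orthogonal_inv hB hg h2
  have hd := Submodule.finrank_add_eq_of_isCompl hc
  have hp : finrank F U ≠ 0 := fun h => h1 (Submodule.finrank_eq_zero.1 h)
  refine (ih _ (by omega) rfl (nondeg_right hB hA.isRefl hc fun u hu w hw => hw u hu)
    (fun x => hA x) (hg.restrict hi)).imp (fun h => ?_) fun ⟨h, j, u, v, k1, k2, k3, k4⟩ => ?_
  · rw [← hc.sup_eq_top]
    exact h4.sup hA.isRefl (h.lift hi) fun u hu w hw => hw u hu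
  · have hi' : ∀ x ∈ B.orthogonal U, (-g) x ∈ B.orthogonal U := fun x hx => neg_mem (hi x hx)
    rw [← neg_restrict hi hi'] at k2 k3 k4
    refine ⟨h, j, u, v, k1, ?_, ?_, ?_⟩
    · rw [← coe_restrict_sub_one_pow hi', k2]; rfl
    · rw [← coe_restrict_sub_one_pow hi', k3]; rfl
    · rwa [← coe_restrict_sub_one_pow hi']

theorem lu_or_oddPair (hB : B.Nondegenerate) (hA : B.IsAlt) (hg : IsIsom B g) :
    LU B g ⊤ ∨ ((2 : F) ≠ 0 ∧ OddPair B (-g)) := lu_aux _ rfl hB hA hg

end Cfsg.Agent.Cl.OreSp
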