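import Mathlib
import Cfsg.Agent.Cl.OrthSpecTor

/-!
The Fitting decomposition of an isometry, and the comparison of element orders of the groups
`Ω₉`, `Sp₈`, `O₈⁻` and the affine group of `Ω₈⁻`.
-/

set_option autoImplicit false

namespace Cfsg.Agent.Cl.OS

open Polynomial Module QuadraticMap SpO Cls

universe u

section Spl

variable {F : Type*} [Field F] {V A B : Type*} [AddCommGroup V] [Module F V] [AddCommGroup A]
  [Module F A] [AddCommGroup B] [Module F B] {x : End F V} {y : End F A} {z : End F B}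

/-- `x` is the direct sum of `y` and `z`. -/
def Spl (x : End F V) (y : End F A) (z : End F B) : Prop :=
  ∃ e : (A × B) ≃ₗ[F] V, x = e.conj (y.prodMap z)

theorem Spl.neg (h : Spl x y z) : Spl (-x) (-y) (-z) := by
  obtain ⟨e, rfl⟩ := h
  exact ⟨e, by rw [← map_neg]; congr 1⟩

theorem neg_pow_eq_one {n : ℕ} (hn : Even n) (h : x ^ n = 1) : (-x) ^ n = 1 := by
  rw [hn.neg_pow, h]

theorem Spl.aeval_iff (h : Spl x y z) (P : F[X]) :
    aeval x P = 0 ↔ aeval y P = 0 ∧ aeval z P = 0 := by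
  obtain ⟨e, rfl⟩ := h
  have h1 : aeval (e.conj (y.prodMap z)) P = e.conj ((aeval y P).prodMap (aeval z P)) :=
    (aeval_algHom_apply (e.conjAlgEquiv F) _ P).trans (congrArg e.conj
      ((aeval_algHom_apply (LinearMap.prodMapAlgHom F A B) (y, z) P).trans
        (by rw [aeval_prod_apply]; rfl)))
  rw [h1, map_eq_zero_iff _ e.conj.injective]
  refine ⟨fun h => ⟨LinearMap.ext fun v => ?_, LinearMap.ext fun v => ?_⟩, fun h => ?_⟩
  · exact congrArg Prod.fst (LinearMap.congr_fun h (v, 0))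
  · exact congrArg Prod.snd (LinearMap.congr_fun h (0, v))
  · rw [h.1, h.2, LinearMap.prodMap_zero]

theorem Spl.pow_iff (h : Spl x y z) (n : ℕ) : x ^ n = 1 ↔ y ^ n = 1 ∧ z ^ n = 1 := by
  have := h.aeval_iff (X ^ n - 1)
  rwa [map_sub, map_sub, map_sub, map_one, map_one, map_one, aeval_X_pow, aeval_X_pow,
    aeval_X_pow, sub_eq_zero, sub_eq_zero, sub_eq_zero] at this

theorem Spl.sum_iff (h : Spl x y z) (n : ℕ) : ∑ i ∈ Finset.range n, x ^ i = 0 ↔
    ∑ i ∈ Finset.range n, y ^ i = 0 ∧ ∑ i ∈ Finset.range n, z ^ i = 0 := by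
  simpa using h.aeval_iff (∑ i ∈ Finset.range n, X ^ i)

variable [FiniteDimensional F V] [FiniteDimensional F A] [FiniteDimensional F B]

omit [FiniteDimensional F V] in
theorem Spl.finrank_eq (h : Spl x y z) : finrank F A + finrank F B = finrank F V := by
  obtain ⟨e, -⟩ := h
  rw [← e.finrank_eq, finrank_prod]

theorem Spl.evs_eq (h : Spl x y z) (K : Type*) [Field K] [Algebra F K] :
    evs K x = evs K y + evs K z := by
  obtain ⟨e, rfl⟩ := h
  rw [evs_conj, evs_prodMap]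

omit [FiniteDimensional F A] [FiniteDimensional F B] in
theorem ne_of_isUnit {K : Type*} [Field K] [Algebra F K] [IsAlgClosed K] (h : IsUnit (x - 1))
    {ν : K} (hν : ν ∈ evs K x) : ν ≠ 1 := by
  have h1 : ν - 1 ∈ evs K (x - 1) := by
    have := evs_aeval (K := K) x (X - 1)
    rw [map_sub, aeval_X, map_one] at this
    exact this ▸ Multiset.mem_map.2 ⟨ν, hν, by simp⟩
  exact sub_ne_zero.1 (ne_zero_of_mem_evs h h1)

end Spl

section Fit

variable {F : Type*} [Field F] [Finite F] {V : Type*} [AddCommGroup V] [Module F V]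
  [FiniteDimensional F V] {Q : QuadraticForm F V}

theorem exists_fit (hQ : (polarBilin Q).Nondegenerate) (g : OG Q) :
    ∃ (A B : Submodule F V) (hA : (polarBilin (Q.restrict A)).Nondegenerate)
      (hB : (polarBilin (Q.restrict B)).Nondegenerate) (a : OG (Q.restrict A))
      (b : OG (Q.restrict B)), Spl (specO Q g) (specO _ a) (specO _ b) ∧
      dickson hQ g = dickson hA a * dickson hB b ∧ ospin hQ g = ospin hA a * ospin hB b ∧
      (specO _ a - 1) ^ finrank F A = 0 ∧ IsUnit (specO _ b - 1) := by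
  have hg := isIsom_specO g
  have hA : (polarBilin (Q.restrict (fitK (specO Q g)))).Nondegenerate :=
    hg.nondeg_fitK hQ (isEps_polar Q).isRefl
  have hB : (polarBilin (Q.restrict (fitR (specO Q g)))).Nondegenerate :=
    hg.nondeg_fitR hQ (isEps_polar Q).isRefl
  obtain ⟨a, ha⟩ := exists_OG_of_isom hA (g := onK (specO Q g)) fun v => OG.map_app g v
  obtain ⟨b, hb⟩ := exists_OG_of_isom hB (g := onR (specO Q g)) fun v => OG.map_app g v
  let e := Submodule.prodEquivOfIsCompl _ _ (isCompl_fit (specO Q g))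
  have he : ∀ v, Q (e v) = (Q.restrict _).prod (Q.restrict _) v := fun v => by
    rw [Submodule.coe_prodEquivOfIsCompl', o_qadd,
      show polar Q _ _ = 0 from hg.fit_orth hQ _ v.1.2 _ v.2.2, add_zero]
    rfl
  have h1 : g = OG.congr e he (OG.prod a b) := OG.ext fun v => by
    obtain ⟨w, rfl⟩ := e.surjective v
    rw [OG.congr_app, e.symm_apply_apply, OG.prod_app, ← specO_apply, ← specO_apply,
      ← specO_apply, ha, hb, Submodule.coe_prodEquivOfIsCompl', map_add]
    rfl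
  refine ⟨_, _, hA, hB, a, b, ⟨e, congrArg (specO Q) h1⟩, ?_, ?_, ?_, hb ▸ isUnit_onR_sub_one _⟩
  · rw [← dickson_prod hA hB (o_prod_nondeg hA hB), ← dickson_congr _ hQ e he, ← h1]
  · rw [← ospin_prod hA hB (o_prod_nondeg hA hB), ← ospin_congr _ hQ e he, ← h1]
  · rw [ha, ← LinearMap.ker_eq_top, ← top_le_iff]
    exact le_of_eq_of_le (LinearMap.ker_eq_top.2 (onK_sub_one_pow _)).symm
      (Module.End.ker_pow_le_ker_pow_finrank _ _)

omit [FiniteDimensional F V] in
theorem unip_eq_one (h2 : (2 : F) ≠ 0) (χ : OG Q →* ℤˣ) {a : OG Q} {k : ℕ}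
    (h : (specO Q a - 1) ^ k = 0) : χ a = 1 := by
  obtain ⟨p, _⟩ := CharP.exists F
  have hp := Fact.mk (CharP.char_is_prime F p)
  have h1 : a ^ p ^ k = 1 := specO_injective (by
    rw [map_pow, map_one]
    exact pow_eq_one_of_pd (p := p) h fun t ht =>
      pow_dvd_pow p ((Nat.lt_pow_self hp.1.one_lt).trans ht))
  exact spec_eq_one_of_odd ((hp.1.odd_of_ne_two (by
    rintro rfl; exact h2 CharTwo.two_eq_zero)).pow (n := k)) (by rw [← map_pow, h1, map_one])
    (Int.units_mul_self _)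

omit [Finite F] in
theorem pow_eq_zero_of_dickson (hQ : (polarBilin Q).Nondegenerate) {a : OG Q} {c : ℕ}
    (hd : finrank F V = 2 * c + 2) (h1 : dickson hQ a = 1)
    (h : (specO Q a - 1) ^ finrank F V = 0) : (specO Q a - 1) ^ (2 * c + 1) = 0 := by
  refine pow_eq_zero_of_ker ⟨_, h⟩ ?_
  have h2 := orank_add_finrank_ofix a
  have h3 := (dickson_eq_one_iff hQ a).1 h1
  have h4 : finrank F (ofix a) ≠ 0 := fun h4 => by
    have : Nontrivial V := Module.nontrivial_of_finrank_pos (R := F) (by omega)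
    have h5 : IsUnit (specO Q a - 1) := (LinearMap.isUnit_iff_ker_eq_bot _).2
      (Submodule.finrank_eq_zero.1 h4)
    exact (h5.pow _).ne_zero h
  change _ ≤ _ + finrank F (ofix a)
  obtain ⟨r, hr⟩ := h3
  omega

omit [Finite F] in
theorem even_of_dickson (hQ : (polarBilin Q).Nondegenerate) {b : OG Q} (h1 : dickson hQ b = 1)
    (h : IsUnit (specO Q b - 1)) : ∃ r, finrank F V = 2 * r := by
  rw [dickson_of_isUnit hQ h, neg_one_pow_eq_one_iff_even (by decide)] at h1
  exact h1.two_dvd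

omit [Finite F] in
theorem even_of_two (h2 : (2 : F) = 0) (hQ : (polarBilin Q).Nondegenerate) :
    ∃ r, finrank F V = 2 * r :=
  (sp_even_finrank hQ fun v => (o_polar_self Q v).trans (by rw [h2, zero_mul])).two_dvd

omit [Finite F] [FiniteDimensional F V] in
theorem specO_neg (g : OG Q) : specO Q (OG.negOne Q * g) = -specO Q g := rfl

omit [Finite F] [FiniteDimensional F V] in
theorem specO_pow_eq_one {g : OG Q} {n : ℕ} (h : orderOf g ∣ n) : specO Q g ^ n = 1 := by
  rw [← map_pow, orderOf_dvd_iff_pow_eq_one.1 h, map_one]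

end Fit

section Main

variable {F : Type u} [Field F] [Fintype F] {V : Type u} [AddCommGroup V] [Module F V]
  [FiniteDimensional F V] {Q : QuadraticForm F V} (p : ℕ) [Fact p.Prime] [CharP F p]

omit [Fintype F] in
theorem odd_char (h2 : (2 : F) ≠ 0) : Odd p :=
  (Fact.out : p.Prime).odd_of_ne_two (by rintro rfl; exact h2 CharTwo.two_eq_zero)

theorem cov_fpf (h2 : (2 : F) ≠ 0) (hQ : (polarBilin Q).Nondegenerate) (hd : finrank F V = 8)
    {g : OG Q} (h1 : dickson hQ g = 1) (h3 : ospin hQ g = 1) (hu : IsUnit (specO Q g - 1)) :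
    Cov F p fun n => specO Q g ^ n = 1 := by
  classical
  obtain ⟨A, B, hA, hB, a, b, hs, h4, -, h5, h6⟩ := exists_fit hQ (OG.negOne Q * g)
  rw [map_mul, h1, dickson_negOne hQ h2, hd, unip_eq_one h2 _ h5, one_mul] at h4
  obtain ⟨r, hr⟩ := even_of_dickson hB h4.symm h6
  have h7 := hs.finrank_eq
  have h8 : dickson hB (OG.negOne _ * b) = 1 := by
    rw [map_mul, dickson_negOne hB h2, hr, ← h4, pow_mul, neg_one_sq, one_pow]; rfl
  have h9 := hs.neg
  rw [specO_neg, neg_neg, ← specO_neg b] at h9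
  have hp := odd_char p h2
  by_cases hr2 : r ≤ 2
  · obtain ⟨c, hc⟩ : ∃ c, r + 1 + (1 + c) = 4 := ⟨2 - r, by omega⟩
    obtain ⟨ε, h10⟩ := tb_of hB hr (OG.negOne _ * b)
    obtain ⟨δ, h11⟩ := tb_neg h2 (ospin hB (OG.negOne _ * b))
    have h12 := (h10.prod h11).prod (tb_unip_odd h2 (-(ε * δ)) c)
    rw [hc, h8] at h12
    refine ⟨_, _, by simpa using h12, fun n hn hn' => (h9.pow_iff n).2 ⟨?_,
      specO_pow_eq_one ((Nat.dvd_lcm_left ..).trans hn)⟩⟩
    exact neg_pow_eq_one (even_iff_two_dvd.2 ((Nat.dvd_lcm_right ..).trans hn))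
      (pow_eq_one_of_pd (pow_eq_zero_of_dickson hA (c := c + 1) (by omega)
        (unip_eq_one h2 _ h5) h5) (PD.succ_odd hp hn'))
  · have h10 := h9.evs_eq (AlgebraicClosure F)
    refine (cov_core p (evs_map_frob (K := AlgebraicClosure F) _)
      (evs_specO_map hB (OG.negOne _ * b)) (fun ν hν h => ?_)
      (by rw [evs_card]; omega) fun _ μ t ht hμ hμ' hR => ?_).mono fun n hn => ?_
    · have h11 : ν ≠ 1 := ne_of_isUnit hu (h10 ▸ Multiset.mem_add.2 (.inr hν))
      have h12 : -ν ≠ 1 := ne_of_isUnit h6 (by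
        have := evs_aeval (K := AlgebraicClosure F) (specO _ (OG.negOne _ * b)) (-X)
        rw [map_neg, aeval_X, specO_neg, neg_neg] at this
        exact this ▸ Multiset.mem_map.2 ⟨ν, hν, by simp⟩)
      have h0 := ne_zero_of_mem_evs ((Group.isUnit _).map _) hν
      rcases mul_self_eq_one_iff.1 ((mul_eq_one_iff_eq_inv₀ h0).2 h) with h | h
      · exact h11 h
      · exact h12 (by rw [h, neg_neg])
    · have h11 := congrArg Multiset.card hR
      rw [evs_card, card_specPM] at h11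
      rw [Multiset.card_eq_zero.1 (by rw [evs_card]; omega : (evs _ (-specO _ a)).card = 0),
        zero_add, hR] at h10
      exact (spec_ospin_orbit h2 hQ (k := 0) (by rintro rfl; simp at hμ) ht hμ'
        (by simpa using h10)).1 h3
    · obtain ⟨h11, ⟨k, h12, h13⟩, h14⟩ := hn
      refine (h9.pow_iff n).2 ⟨?_, pow_eq_one_of_evs_pd h11 h12 h13⟩
      by_cases hr3 : r = 3
      · have h15 := pow_eq_zero_of_dickson hA (c := 0) (by omega) (unip_eq_one h2 _ h5) h5
        refine neg_pow_eq_one (h14 h2 (by rw [evs_card]; omega)) ?_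
        rw [sub_eq_zero.1 ((pow_one _).symm.trans h15), one_pow]
      · have : Subsingleton A := Module.finrank_zero_iff.1 (by omega : finrank F A = 0)
        exact Subsingleton.elim _ _

theorem cov_odd (h2 : (2 : F) ≠ 0) (hQ : (polarBilin Q).Nondegenerate) (hd : finrank F V = 9)
    {g : OG Q} (h1 : dickson hQ g = 1) (h3 : ospin hQ g = 1) :
    Cov F p fun n => specO Q g ^ n = 1 := by
  obtain ⟨A, B, hA, hB, a, b, hs, h4, h7, h5, h6⟩ := exists_fit hQ g
  rw [h1, unip_eq_one h2 _ h5, one_mul] at h4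
  rw [h3, unip_eq_one h2 _ h5, one_mul] at h7
  obtain ⟨r, hr⟩ := even_of_dickson hB h4.symm h6
  have h8 := hs.finrank_eq
  by_cases hr4 : r = 4
  · refine (cov_fpf p h2 hB (by omega) h4.symm h7.symm h6).mono fun n hn =>
      (hs.pow_iff n).2 ⟨?_, hn⟩
    rw [show finrank F A = 1 by omega, pow_one] at h5
    rw [sub_eq_zero.1 h5, one_pow]
  · obtain ⟨c, hc⟩ : ∃ c, r + (1 + c) = 4 := ⟨3 - r, by omega⟩
    obtain ⟨ε, h10⟩ := tb_of hB hr b
    have h12 := h10.prod (tb_unip_odd h2 (-ε) c)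
    rw [hc, ← h4, ← h7] at h12
    refine ⟨_, _, by simpa using h12, fun n hn hn' => (hs.pow_iff n).2 ⟨?_, specO_pow_eq_one hn⟩⟩
    rw [show finrank F A = 2 * (c + 1) + 1 by omega] at h5
    exact pow_eq_one_of_pd h5 (PD.succ_odd (odd_char p h2) hn')

theorem cov_two [CharP F 2] (hQ : (polarBilin Q).Nondegenerate) (hd : finrank F V = 8)
    (g : OG Q) : Cov F 2 fun n => specO Q g ^ n = 1 := by
  classical
  have h2 : (2 : F) = 0 := CharTwo.two_eq_zero
  obtain ⟨A, B, hA, hB, a, b, hs, -, -, h5, h6⟩ := exists_fit hQ g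
  obtain ⟨r, hr⟩ := even_of_two h2 hB
  have h8 := hs.finrank_eq
  obtain ⟨ε, h10⟩ := tb_of hB hr b
  rw [dickson_of_isUnit hB h6, hr, pow_mul, ospin_of_two_eq_zero hB h2] at h10
  by_cases hr4 : r = 4
  · refine (cov_core 2 (evs_map_frob (K := AlgebraicClosure F) _) (evs_specO_map hB b)
      (fun ν hν h => ne_of_isUnit h6 hν ?_) (by rw [evs_card]; omega)
      fun h => absurd h2 h).mono fun n hn => (hs.pow_iff n).2 ⟨?_, ?_⟩
    · have h0 := ne_zero_of_mem_evs ((Group.isUnit _).map _) hν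
      exact spec_eq_one_of_pow_char_pow 2 (b := 1) (by
        rw [pow_one, pow_two, mul_eq_one_iff_eq_inv₀ h0, ← h])
    · have : Subsingleton A := Module.finrank_zero_iff.1 (by omega : finrank F A = 0)
      exact Subsingleton.elim _ _
    · obtain ⟨h11, ⟨k, h12, h13⟩, -⟩ := hn
      exact pow_eq_one_of_evs_pd h11 h12 h13
  by_cases hr3 : r = 3
  · have h12 := h10.prod (tb_id (-ε))
    rw [show finrank F A = 2 by omega] at h5
    exact ⟨_, _, by simpa [hr3] using h12, fun n hn hn' =>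
      (hs.pow_iff n).2 ⟨pow_eq_one_of_pd h5 hn', specO_pow_eq_one hn⟩⟩
  · obtain ⟨c, hc⟩ : ∃ c, r + (2 + c) = 4 := ⟨2 - r, by omega⟩
    have h12 := h10.prod (tb_unip_two' h2 (-ε) c)
    rw [show finrank F A = 2 * (c + 1) + 2 by omega] at h5
    exact ⟨_, 2 * c + 2, by simpa [hc] using h12, fun n hn hn' => (hs.pow_iff n).2
      ⟨pow_eq_one_of_pd h5 (PD.succ_two c.succ_pos hn'), specO_pow_eq_one hn⟩⟩

theorem Cov.exists_ak {P : ℕ → Prop} (h : Cov F p P) (hQ : (polarBilin Q).Nondegenerate)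
    (h' : OTy Q 4 (-1)) : ∃ g ∈ commutator (OG Q), ∃ v, ∀ n, AK (specO Q g) v n → P n := by
  obtain ⟨N, j, h1, h2⟩ := h
  obtain ⟨g, h3, h4, h5, h6⟩ := h1.blk hQ h'
  obtain ⟨v, hv⟩ := h6.exists_ak (p := p)
  exact ⟨g, (mem_commutator_OG_iff hQ (not_oExc_of_finrank (by rw [h'.1]; decide)) g).2 ⟨h3, h4⟩,
    v, fun n hn => h2 n (h5.trans (orderOf_specO g ▸ orderOf_dvd_of_pow_eq_one hn.1)) (hv n hn.2)⟩

include p in
theorem exists_omega_nine (h2 : (2 : F) ≠ 0) (hQ : (polarBilin Q).Nondegenerate)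
    (hd : finrank F V = 8) {g : OG Q} (hg : g ∈ commutator (OG Q)) :
    ∃ h ∈ commutator (OG (quad_odd 4 F)),
      ∑ i ∈ Finset.range (orderOf h), specO Q g ^ i = 0 := by
  obtain ⟨h1, h3⟩ := (mem_commutator_OG_iff hQ (not_oExc_of_two_ne_zero h2) g).1 hg
  obtain ⟨A, B, hA, hB, a, b, hs, h4, h7, h5, h6⟩ := exists_fit hQ g
  rw [h1, unip_eq_one h2 _ h5, one_mul] at h4
  rw [h3, unip_eq_one h2 _ h5, one_mul] at h7
  obtain ⟨r, hr⟩ := even_of_dickson hB h4.symm h6
  have h8 := hs.finrank_eq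
  obtain ⟨U, _, _, _, P, hP, h9, h10⟩ := exists_unip_odd h2 (4 - r)
  obtain ⟨k, h11, h12, h13, h14⟩ :=
    Blk.prod (hQ := hB) ⟨b, h4.symm, h7.symm, dvd_rfl, ch_zero _⟩ h10.blk
  obtain ⟨h, h15, h16⟩ := spec_exists_congr_odd (n := 4) (o_prod_nondeg hB hP)
    (by rw [finrank_prod]; omega)
    ((mem_commutator_OG_iff _ (not_oExc_of_two_ne_zero h2) k).2 ⟨h11, h12⟩)
  refine ⟨h, h15, h16 ▸ (hs.sum_iff _).2 ⟨sum_eq_zero_of_pd (p := p) h5 ?_,
    sum_eq_zero_of_isUnit h6 (specO_pow_eq_one ((Nat.dvd_lcm_left ..).trans h13))⟩⟩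
  exact (h14.pd (specO_pow_eq_one dvd_rfl)).mono (by omega)

theorem exists_o_two [CharP F 2] (hQ : (polarBilin Q).Nondegenerate) (h' : OTy Q 4 (-1))
    {g : OG Q} (hg : dickson hQ g = 1) :
    ∃ h : OG Q, ∑ i ∈ Finset.range (orderOf h), specO Q g ^ i = 0 := by
  have h2 : (2 : F) = 0 := CharTwo.two_eq_zero
  obtain ⟨A, B, hA, hB, a, b, hs, h4, -, h5, h6⟩ := exists_fit hQ g
  obtain ⟨r, hr⟩ := even_of_two h2 hB
  have h8 := hs.finrank_eq
  have hd := h'.1
  by_cases hr4 : r = 4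
  · have : Subsingleton A := Module.finrank_zero_iff.1 (by omega : finrank F A = 0)
    exact ⟨g, (hs.sum_iff _).2 ⟨Subsingleton.elim _ _,
      sum_eq_zero_of_isUnit h6 ((hs.pow_iff _).1 (specO_pow_eq_one dvd_rfl)).2⟩⟩
  · obtain ⟨c, hc⟩ : ∃ c, r + (1 + c) = 3 + 1 := ⟨3 - r, by omega⟩
    obtain ⟨ε, h10⟩ := tb_of hB hr b
    have h12 := h10.prod (tb_unip_two h2 (-ε) c)
    rw [hc, mul_neg, Int.units_mul_self] at h12
    obtain ⟨k, -, -, h13, h14⟩ := h12.blk hQ h'
    rw [hg, dickson_of_isUnit hB h6, hr, pow_mul, neg_one_sq, one_pow, mul_one] at h4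
    exact ⟨k, (hs.sum_iff _).2 ⟨sum_eq_zero_of_pd (p := 2)
      (pow_eq_zero_of_dickson hA (c := c) (by omega) h4.symm h5) (h14.pd (specO_pow_eq_one dvd_rfl)),
      sum_eq_zero_of_isUnit h6 (specO_pow_eq_one ((Nat.dvd_lcm_left ..).trans h13))⟩⟩

end Main

end Cfsg.Agent.Cl.OS
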