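import Mathlib
import Cfsg.Agent.Cl.OrthSpecFit
import Cfsg.Agent.Cl.SpecAffine
import Cfsg.Agent.Cl.ClassSpOMisc

/-!
The affine group `V ⋊ Ω(V)` and the spectra of `Ω₉`, `Sp₈`, `O₈⁻`.
-/

set_option autoImplicit false

namespace Cfsg.Agent.Cl.OS

open Polynomial Module QuadraticMap SpO Cls

universe u

section Aff

variable {F : Type*} [Field F] {ι : Type} [Fintype ι] [DecidableEq ι]

/-- The natural action of `Ω` on the underlying space. -/
abbrev affAct (P : QuadraticForm F (ι → F)) : Omega F ⇑P →* MulAut (Multiplicative (ι → F)) :=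
  (MulAutMultiplicative (ι → F)).symm.toMonoidHom.comp
    ((DistribMulAction.toAddAut (LinearMap.GeneralLinearGroup F (ι → F)) (ι → F)).comp
      (Matrix.GeneralLinearGroup.toLin.toMonoidHom.comp
        ((isometryGroup F ⇑P).subtype.comp (Omega F ⇑P).subtype)))

/-- The affine group of `Ω`. -/
abbrev Aff (P : QuadraticForm F (ι → F)) := Multiplicative (ι → F) ⋊[affAct P] Omega F ⇑P

variable {P : QuadraticForm F (ι → F)}

theorem aff_pow_eq_one_iff (x : Aff P) (n : ℕ) :
    x ^ n = 1 ↔ AK (specO P (omatEquiv P x.right)) x.left.toAdd n := by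
  rw [spec_affine_pow ((specO P).comp ((omatEquiv P).toMonoidHom.comp (Omega F ⇑P).subtype))
    (affAct P) (fun _ _ => rfl), SemidirectProduct.ext_iff, and_comm]
  refine and_congr ?_ ofAdd_eq_one
  rw [← map_pow, map_eq_one_iff _ specO_injective, ← map_pow, map_eq_one_iff _ (MulEquiv.injective _),
    ← Subgroup.coe_pow, OneMemClass.coe_eq_one]
  rfl

theorem aff_dvd (x : Aff P) {n : ℕ}
    (h : ∑ i ∈ Finset.range n, specO P (omatEquiv P x.right) ^ i = 0) : orderOf x ∣ n :=
  orderOf_dvd_of_pow_eq_one ((aff_pow_eq_one_iff x n).2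
    ⟨by rw [← sub_eq_zero, ← geom_sum_mul, h, zero_mul], by rw [h]; rfl⟩)

theorem aff_right_mem (x : Aff P) : omatEquiv P x.right ∈ commutator (OG P) :=
  (omatEquiv_mem_commutator_iff _).2 x.right.2

theorem exists_aff {g : OG P} (hg : g ∈ commutator (OG P)) (v : ι → F) :
    ∃ x : Aff P, AK (specO P g) v (orderOf x) := by
  obtain ⟨g, rfl⟩ := (omatEquiv _).surjective g
  let x : Aff P := ⟨Multiplicative.ofAdd v, ⟨g, (omatEquiv_mem_commutator_iff _).1 hg⟩⟩
  exact ⟨x, (aff_pow_eq_one_iff x _).1 (pow_orderOf_eq_one x)⟩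

instance [Finite F] : Finite (Aff P) := Finite.of_equiv _ SemidirectProduct.equivProd.symm

end Aff

variable {F : Type u} [Field F] [Fintype F] {a b : F}
  (hab : ∀ z₁ z₂ : F, z₁ ^ 2 + a * z₁ * z₂ + b * z₂ ^ 2 = 0 → z₁ = 0 ∧ z₂ = 0)
include hab

theorem Cov.exists_aff {p : ℕ} [Fact p.Prime] [CharP F p] {P : ℕ → Prop} (h : Cov F p P) :
    ∃ x : Aff (quad_minus 3 F a b), P (orderOf x) := by
  obtain ⟨g, hg, v, hv⟩ := h.exists_ak p (o_minus_nondeg hab) (oTy_minus hab 3)
  exact (OS.exists_aff hg v).imp fun _ => hv _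

theorem spec_omega_nine (h2 : (2 : F) ≠ 0) :
    Set.range (orderOf : POmega F (quadFormOdd 4 F) → ℕ) =
      Set.range (orderOf : Aff (quad_minus 3 F a b) → ℕ) := by
  obtain ⟨p, _⟩ := CharP.exists F
  have hp := Fact.mk (CharP.char_is_prime F p)
  ext N
  rw [specOm_iff h2 (by decide)]
  constructor
  · rintro ⟨g, hg, hN⟩
    obtain ⟨h1, h3⟩ := (mem_commutator_OG_iff (quad_odd_nondeg h2)
      (not_oExc_of_two_ne_zero h2) g).1 hg
    obtain ⟨x, hx⟩ := (cov_odd p h2 _ o_finrank_odd h1 h3).exists_aff hab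
    exact spec_mem_of_dvd x (hN.trans (orderOf_specO g ▸ orderOf_dvd_of_pow_eq_one hx))
  · rintro ⟨x, rfl⟩
    obtain ⟨h, h1, h3⟩ := exists_omega_nine p h2 (o_minus_nondeg hab) o_finrank_minus
      (aff_right_mem x)
    exact ⟨h, h1, aff_dvd x h3⟩

variable [CharP F 2]

theorem spec_sp_subset_aff : Set.range (orderOf : PSp 4 F → ℕ) ⊆
    Set.range (orderOf : Aff (quad_minus 3 F a b) → ℕ) := by
  refine spec_subset_of_dvd fun x => ?_
  induction x using QuotientGroup.induction_on with | H g => ?_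
  have h0 : ∀ u v, polar (quad_plus 4 F) u v = spB 4 F u v := fun u v => by
    rw [o_polar_plus, spB_eq_sum]
    exact Finset.sum_congr rfl fun i _ => by rw [CharTwo.sub_eq_add]; ring
  obtain ⟨Q, h1, h3⟩ := exists_quad_of_isometry (quad_plus 4 F) (specSp F 4 g) fun u v => by
    rw [h0, h0, specSp_isometry]
  have hQ : (polarBilin Q).Nondegenerate := o_nondeg_of fun x hx =>
    o_eq_zero quad_plus_nondeg fun y => (h1 x y).symm.trans (hx y)
  obtain ⟨k, hk⟩ := exists_OG_of_isom hQ h3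
  obtain ⟨y, hy⟩ := (cov_two hQ o_finrank_plus k).exists_aff hab
  exact ⟨y, (specSp_orderOf_dvd_iff g _).2 (.inl (hk ▸ hy))⟩

theorem spec_aff_subset_o : Set.range (orderOf : Aff (quad_minus 3 F a b) → ℕ) ⊆
    Set.range (orderOf : isometryGroup F ⇑(quad_minus 3 F a b) → ℕ) := by
  refine spec_subset_of_dvd fun x => ?_
  obtain ⟨h, h1⟩ := exists_o_two (o_minus_nondeg hab) (oTy_minus hab 3)
    (Abelianization.commutator_subset_ker (dickson _) (aff_right_mem x))
  exact ⟨(omatEquiv (quad_minus 3 F a b)).symm h, by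
    rw [MulEquiv.orderOf_eq]; exact aff_dvd x h1⟩

theorem spec_o_subset_sp :
    Set.range (orderOf : isometryGroup F ⇑(quad_minus 3 F a b) → ℕ) ⊆
      Set.range (orderOf : PSp 4 F → ℕ) := by
  refine spec_subset_of_dvd fun x => ?_
  obtain ⟨g, e, h⟩ := exists_specSp_conj (n := 4) (o_minus_nondeg (m := 3) hab)
    (fun v => (o_polar_self _ v).trans (by rw [CharTwo.two_eq_zero, zero_mul])) o_finrank_minus
    (specO_isometry (omatEquiv (quad_minus 3 F a b) x))
  refine ⟨g, ?_⟩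
  have h1 := (specSp_orderOf_dvd_iff g _).1 dvd_rfl
  rw [show (-1 : End F (Fin 4 ⊕ Fin 4 → F)) = 1 by
    rw [← map_one (algebraMap F _), ← map_neg, CharTwo.neg_eq], or_self, h,
    ← map_one (algebraMap F _), spec_conj_pow_eq_iff, map_one] at h1
  rw [← (omatEquiv (quad_minus 3 F a b)).orderOf_eq, ← orderOf_specO]
  exact orderOf_dvd_of_pow_eq_one h1

theorem spec_sp_eight_eq_o : Set.range (orderOf : PSp 4 F → ℕ) =
    Set.range (orderOf : isometryGroup F ⇑(quad_minus 3 F a b) → ℕ) :=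
  ((spec_sp_subset_aff hab).trans (spec_aff_subset_o hab)).antisymm (spec_o_subset_sp hab)

theorem spec_sp_eight_eq_aff : Set.range (orderOf : PSp 4 F → ℕ) =
    Set.range (orderOf : Aff (quad_minus 3 F a b) → ℕ) :=
  (spec_sp_subset_aff hab).antisymm ((spec_aff_subset_o hab).trans (spec_o_subset_sp hab))

end Cfsg.Agent.Cl.OS
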