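import Mathlib
import Cfsg.Agent.Cl.PSL2Finite
import Cfsg.Agent.Cl.Transport
import Cfsg.Agent.GT.Fitting

/-!
# Groups between `PSL_n(q)` and `PGL_n(q)` have no nilpotent minimal cover
-/

set_option autoImplicit false

namespace Cfsg.Agent.Cl.L2

open Matrix MulAction
open scoped MatrixGroups LinearAlgebra.Projectivization

section general

variable {G H X : Type*} [Group G] [Group H] [MulAction H X]

/-- A cover of a group by proper subgroups. -/
def IsCov (𝓐 : Finset (Subgroup G)) : Prop := (∀ A ∈ 𝓐, A ≠ ⊤) ∧ ∀ g : G, ∃ A ∈ 𝓐, g ∈ A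

/-- A nilpotent group fixes the unique fixed point (in an invariant set) of any of its elements. -/
lemma fix_of_nilpotent (φ : G →* H) {A : Subgroup G} (hA : Group.IsNilpotent A) {S : Set X}
    (hS : ∀ g ∈ A, ∀ y ∈ S, φ g • y ∈ S) {x : G} (hx : x ∈ A) {P : X} (hP : P ∈ S) (h1 : φ x • P = P)
    (h2 : ∀ Q ∈ S, φ x • Q = Q → Q = P) {g : G} (hg : g ∈ A) : φ g • P = P := by
  let K : Subgroup A := (stabilizer H P).comap (φ.comp A.subtype)
  have : K = ⊤ := normalizerCondition_iff_only_full_group_self_normalizing.1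
    Group.normalizerCondition_of_isNilpotent K (le_antisymm (fun n hn => ?_) Subgroup.le_normalizer)
  · exact this.ge (Subgroup.mem_top (⟨g, hg⟩ : A))
  have h3 : φ ((n : G)⁻¹ * x * n) • P = P :=
    (Subgroup.mem_normalizer_iff''.1 hn ⟨x, hx⟩).1 h1
  refine h2 _ (hS _ n.2 _ hP) ?_
  rw [map_mul, map_mul, map_inv, mul_smul, mul_smul, inv_smul_eq_iff] at h3
  exact h3

lemma IsCov.not_two {𝓐 : Finset (Subgroup G)} (h : IsCov 𝓐) (hm : ∀ 𝓑 : Finset (Subgroup G), IsCov 𝓑 → 𝓐.card ≤ 𝓑.card)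
    {A B M : Subgroup G} (hA : A ∈ 𝓐) (hB : B ∈ 𝓐) (hAB : A ≠ B) (hM : M ≠ ⊤) (h1 : A ≤ M)
    (h2 : B ≤ M) : False := by
  classical
  have hB' : B ∈ 𝓐.erase A := Finset.mem_erase.2 ⟨hAB.symm, hB⟩
  have := hm (insert M ((𝓐.erase A).erase B)) ⟨fun C hC => ?_, fun g => ?_⟩
  · have h3 := Finset.card_insert_le M ((𝓐.erase A).erase B)
    have h4 := Finset.card_erase_add_one hA
    have h5 := Finset.card_erase_add_one hB'
    omega
  · rcases Finset.mem_insert.1 hC with rfl | hC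
    exacts [hM, h.1 C (Finset.mem_of_mem_erase (Finset.mem_of_mem_erase hC))]
  · obtain ⟨C, hC, hg⟩ := h.2 g
    by_cases e : C = A
    · exact ⟨M, by simp, h1 (e ▸ hg)⟩
    by_cases e' : C = B
    · exact ⟨M, by simp, h2 (e' ▸ hg)⟩
    · exact ⟨C, by simp [e, e', hC], hg⟩

end general

variable {F : Type*} [Field F]

section big

variable {m : ℕ}

/-- A regular unipotent element. -/
def jord (F : Type*) [Field F] (m : ℕ) : SpecialLinearGroup (Fin (m + 1)) F :=
  ⟨of fun i j => if j = i ∨ (j : ℕ) = i + 1 then 1 else 0, by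
    rw [det_of_isUpperTriangular]
    · simp
    · intro i j hij
      exact if_neg (by simp only [Fin.ext_iff]; have : (j : ℕ) < i := hij; omega)⟩

lemma jord_castSucc (v : Fin (m + 1) → F) (i : Fin m) :
    ((jord F m).1 *ᵥ v) i.castSucc = v i.castSucc + v i.succ := by
  rw [mulVec, dotProduct, Finset.sum_eq_add i.castSucc i.succ (Fin.castSucc_lt_succ (i := i)).ne]
  · simp [jord]
  · intro j _ h
    simp only [Ne, Fin.ext_iff, Fin.val_succ, Fin.val_castSucc] at h
    simp [jord, Fin.ext_iff, h]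
  all_goals simp

lemma jord_last (v : Fin (m + 1) → F) : ((jord F m).1 *ᵥ v) (Fin.last m) = v (Fin.last m) := by
  rw [mulVec, dotProduct, Finset.sum_eq_single (Fin.last m)]
  · simp [jord]
  · intro j _ h
    have := j.2
    simp [jord, h, show (j : ℕ) ≠ m + 1 by omega]
  · simp

lemma jordT_succ (v : Fin (m + 1) → F) (i : Fin m) :
    ((jord F m).1ᵀ *ᵥ v) i.succ = v i.castSucc + v i.succ := by
  rw [mulVec, dotProduct, Finset.sum_eq_add i.castSucc i.succ (Fin.castSucc_lt_succ (i := i)).ne]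
  · simp [jord]
  · intro j _ h
    simp only [Ne, Fin.ext_iff, Fin.val_succ, Fin.val_castSucc] at h
    simp [jord, Fin.ext_iff, Ne.symm h.1, Ne.symm h.2]
  all_goals simp

lemma jordT_zero (v : Fin (m + 1) → F) : ((jord F m).1ᵀ *ᵥ v) 0 = v 0 := by
  rw [mulVec, dotProduct, Finset.sum_eq_single 0]
  · simp [jord]
  · intro j _ h
    simp [jord, Ne.symm h]
  · simp

/-- A coordinate point. -/
def cpt (F : Type*) [Field F] (i : Fin (m + 1)) : ℙ F (Fin (m + 1) → F) :=
  Projectivization.mk F (Pi.single i 1) (by simp)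

lemma mk_eq_cpt {v : Fin (m + 1) → F} (hv : v ≠ 0) {i : Fin (m + 1)} :
    Projectivization.mk F v hv = cpt F i ↔ ∀ j, j ≠ i → v j = 0 := by
  rw [cpt, Projectivization.mk_eq_mk_iff']
  refine ⟨fun ⟨a, h⟩ j hj => by simp [← h, hj], fun h => ⟨v i, ?_⟩⟩
  ext j
  by_cases hj : j = i
  · simp [hj]
  · simp [hj, h j hj]

lemma jord_fix (Q : ℙ F (Fin (m + 1) → F)) :
    SpecialLinearGroup.toPGL (jord F m) • Q = Q ↔ Q = cpt F 0 := by
  induction Q using Projectivization.ind with | _ v hv => ?_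
  rw [mk_eq_cpt, MonoidHom.comp_apply, Projectivization.PGL.mk_smul_mk, Projectivization.mk_eq_mk_iff']
  show (∃ a : F, a • v = (jord F m).1 *ᵥ v) ↔ _
  refine ⟨fun ⟨a, h⟩ j hj => ?_, fun h => ⟨1, ?_⟩⟩
  · have h1 := fun i : Fin m => (congrFun h i.castSucc).trans (jord_castSucc v i)
    have h2 := (congrFun h _).trans (jord_last v)
    simp only [Pi.smul_apply, smul_eq_mul] at h1 h2
    by_cases ha : a = 1
    · obtain ⟨i, rfl⟩ := Fin.exists_succ_eq.2 hj
      simpa [ha] using h1 i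
    · refine absurd (funext fun i => ?_) hv
      induction i using Fin.reverseInduction with
      | last => exact (mul_left_eq_self₀.1 h2).resolve_left ha
      | cast i ih => exact (mul_left_eq_self₀.1 (by simpa [show v i.succ = 0 from ih] using h1 i)).resolve_left ha
  · ext i
    induction i using Fin.lastCases with
    | last => simp [jord_last]
    | cast i => simp [jord_castSucc, h _ (Fin.succ_ne_zero i)]

/-- The inverse transpose automorphism. -/
noncomputable def pglT (F : Type*) [Field F] (n : ℕ) : PGL(Fin n, F) →* PGL(Fin n, F) :=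
  (centerQuotCongr (glInvTranspose (Fin n) F)).toMonoidHom

lemma pglT_inv_mk {n : ℕ} (g : GL (Fin n) F) {v : Fin n → F} (hv : v ≠ 0) : ∃ h,
    (pglT F n (ProjGenLinGroup.mk g))⁻¹ • Projectivization.mk F v hv =
      Projectivization.mk F (g.1ᵀ *ᵥ v) h := by
  have : (pglT F n (ProjGenLinGroup.mk g))⁻¹ = ProjGenLinGroup.mk (glInvTranspose (Fin n) F g)⁻¹ := by
    rw [map_inv]; rfl
  rw [this, Projectivization.PGL.mk_smul_mk, ← coe_glInvTranspose_inv]
  exact ⟨_, rfl⟩

lemma jordT_fix (Q : ℙ F (Fin (m + 1) → F)) :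
    pglT F _ (SpecialLinearGroup.toPGL (jord F m)) • Q = Q ↔ Q = cpt F (Fin.last m) := by
  induction Q using Projectivization.ind with | _ v hv => ?_
  obtain ⟨h0, e⟩ := pglT_inv_mk (SpecialLinearGroup.toGL (jord F m)) hv
  rw [mk_eq_cpt, MonoidHom.comp_apply, smul_eq_iff_eq_inv_smul, e, eq_comm,
    Projectivization.mk_eq_mk_iff']
  show (∃ a : F, a • v = (jord F m).1ᵀ *ᵥ v) ↔ _
  refine ⟨fun ⟨a, h⟩ j hj => ?_, fun h => ⟨1, ?_⟩⟩
  · have h1 := fun i : Fin m => (congrFun h i.succ).trans (jordT_succ v i)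
    have h2 := (congrFun h _).trans (jordT_zero v)
    simp only [Pi.smul_apply, smul_eq_mul] at h1 h2
    by_cases ha : a = 1
    · obtain ⟨i, rfl⟩ := Fin.exists_castSucc_eq.2 hj
      simpa [ha] using h1 i
    · refine absurd (funext fun i => ?_) hv
      induction i using Fin.induction with
      | zero => exact (mul_left_eq_self₀.1 h2).resolve_left ha
      | succ i ih => exact (mul_left_eq_self₀.1 (by simpa [show v i.castSucc = 0 from ih] using h1 i)).resolve_left ha
  · ext i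
    induction i using Fin.cases with
    | zero => simp [jordT_zero]
    | succ i => simp [jordT_succ, h _ (Fin.castSucc_ne_last i)]

theorem no_cover_big (hm : 2 ≤ m) {G : Subgroup PGL(Fin (m + 1), F)}
    (hG : ∀ s : SL(m + 1, F), SpecialLinearGroup.toPGL s ∈ G) {𝓐 : Finset (Subgroup G)}
    (h : IsCov 𝓐) (hmin : ∀ 𝓑 : Finset (Subgroup G), IsCov 𝓑 → 𝓐.card ≤ 𝓑.card)
    (hn : ∀ A ∈ 𝓐, Group.IsNilpotent A) : False := by
  let k : Fin (m + 1) := ⟨1, by omega⟩
  have k0 : k ≠ 0 := by simp [k, Fin.ext_iff]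
  have kl : Fin.last m ≠ k := by simp only [k, Ne, Fin.ext_iff, Fin.val_last]; omega
  let x : G := ⟨_, hG (jord F m)⟩
  let s : G := ⟨_, hG (SpecialLinearGroup.transvection kl 1)⟩
  have s0 : s.1 • cpt F (0 : Fin (m + 1)) = cpt F 0 := by
    refine (mk_eq_cpt _).2 fun j _ => ?_
    show ((SpecialLinearGroup.transvection kl (1 : F)).1 *ᵥ Pi.single 0 1) j = 0
    simp [SpecialLinearGroup.transvection_coe, one_apply, *]
  have sl : (pglT F _ s.1)⁻¹ • cpt F (Fin.last m) ≠ cpt F (Fin.last m) := fun e => by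
    obtain ⟨h0, e'⟩ := pglT_inv_mk (SpecialLinearGroup.toGL (SpecialLinearGroup.transvection kl 1))
      (v := Pi.single (Fin.last m) (1 : F)) (by simp)
    have := (mk_eq_cpt _).1 (e'.symm.trans e) k kl.symm
    simp [SpecialLinearGroup.transvection_coe, one_apply, kl.symm] at this
  obtain ⟨A, hA, hx⟩ := h.2 x
  obtain ⟨B, hB, hy⟩ := h.2 (s * x * s⁻¹)
  refine h.not_two hmin hA hB (M := stabilizer G (cpt F (0 : Fin (m + 1)))) ?_ (fun e => ?_)
    (fun g hg => fix_of_nilpotent G.subtype (hn A hA) (S := Set.univ) (by simp) hx trivial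
      ((jord_fix _).2 rfl) (fun Q _ => (jord_fix Q).1) hg)
    (fun g hg => fix_of_nilpotent G.subtype (hn B hB) (S := Set.univ) (by simp) hy trivial
      ?_ (fun Q _ hQ => ?_) hg)
  · rintro rfl
    have := fix_of_nilpotent ((pglT F _).comp G.subtype) (hn A hA) (S := Set.univ) (by simp) hx trivial
      ((jordT_fix _).2 rfl) (fun Q _ => (jordT_fix Q).1) hy
    rw [map_mul, map_mul, map_inv, mul_smul, mul_smul, smul_eq_iff_eq_inv_smul] at this
    exact sl ((jordT_fix _).1 this)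
  · have : (⟨_, hG (SpecialLinearGroup.transvection k0 1)⟩ : G) ∈
        stabilizer G (cpt F (0 : Fin (m + 1))) :=
      e ▸ Subgroup.mem_top _
    have : ((SpecialLinearGroup.transvection k0 (1 : F)).1 *ᵥ Pi.single 0 1) k = 0 :=
      (mk_eq_cpt _).1 this k k0
    simp [SpecialLinearGroup.transvection_coe, one_apply, k0] at this
  · rw [map_mul, map_mul, map_inv, mul_smul, mul_smul, smul_eq_iff_eq_inv_smul]
    exact (jord_fix _).2 (inv_smul_eq_iff.2 s0.symm)
  · rw [map_mul, map_mul, map_inv, mul_smul, mul_smul, smul_eq_iff_eq_inv_smul] at hQ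
    exact (inv_smul_eq_iff.1 ((jord_fix _).1 hQ)).trans s0

end big

variable [Finite F]

lemma exists_coprime_exp : ∃ a b : ℕ, a.Coprime b ∧ Nat.card F - 1 ∣ 2 * a ∧ Nat.card F + 1 ∣ 2 * b := by
  have := two_le_card (F := F)
  rcases Nat.even_or_odd' (Nat.card F) with ⟨k, e | e⟩
  · refine ⟨_, _, ?_, dvd_mul_left _ _, dvd_mul_left _ _⟩
    rw [show Nat.card F + 1 = 2 + (Nat.card F - 1) by omega, Nat.coprime_add_self_right,
      Nat.coprime_two_right]
    exact ⟨k - 1, by omega⟩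
  · exact ⟨k, k + 1, by simp, by rw [e]; simp, ⟨1, by omega⟩⟩

theorem no_cover_two (h4 : 4 ≤ Nat.card F) {G : Subgroup PGL(2, F)} (hG : psl F ≤ G)
    {𝓐 : Finset (Subgroup G)} (h : IsCov 𝓐)
    (hmin : ∀ 𝓑 : Finset (Subgroup G), IsCov 𝓑 → 𝓐.card ≤ 𝓑.card)
    (hn : ∀ A ∈ 𝓐, Group.IsNilpotent A) : False := by
  classical
  have : Finite (P1 F) := Nat.finite_of_card_ne_zero (by rw [card_P1]; omega)
  have := Fintype.ofFinite (P1 F)
  have := Fintype.ofFinite F
  have hu : ∀ P : P1 F, ∃ u : G, ∀ Q, u.1 • Q = Q ↔ Q = P := fun P => by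
    have : Nontrivial (uni P) := Finite.one_lt_card_iff_nontrivial.1 (by rw [card_uni]; omega)
    obtain ⟨u, hu⟩ := exists_ne (1 : uni P)
    exact ⟨⟨u, hG (uni_le_psl P u.2)⟩, fun Q => ⟨fun e =>
      eq_of_unip_fix (fun e => hu (Subtype.ext e)) u.2.2 e u.2.1, fun e => e ▸ u.2.1⟩⟩
  choose u hu using hu
  choose A hA hAu using fun P => h.2 (u P)
  have fA : ∀ P, ∀ g ∈ A P, g.1 • P = P := fun P g hg => fix_of_nilpotent G.subtype (hn _ (hA P))
    (S := Set.univ) (by simp) (hAu P) trivial ((hu P P).2 rfl) (fun Q _ => (hu P Q).1) hg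
  have iA : Function.Injective A := fun P Q e => ((hu P Q).1 (fA Q _ (e ▸ hAu P))).symm
  obtain ⟨c, hc⟩ := IsCyclic.exists_ofOrder_eq_natCard (α := Fˣ)
  rw [Nat.card_units] at hc
  have y1 : diagHom (c ^ 2) ≠ (1 : PGL(2, F)) := fun e => by
    have := orderOf_dvd_of_pow_eq_one ((map_eq_one_iff _ diagHom_injective).1 e)
    have := Nat.le_of_dvd two_pos this
    omega
  let y : G := ⟨diagHom (c ^ 2), hG (by rw [sq, map_mul]; exact mul_self_mem_psl _)⟩
  have yi : y.1 • (inf : P1 F) = inf := aff_smul_inf (c ^ 2).ne_zero 0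
  have y0 : y.1 • pt (0 : F) = pt 0 := (aff_smul_pt (c ^ 2).ne_zero 0 0).trans (by simp)
  obtain ⟨B, hB, hy⟩ := h.2 y
  let 𝓒 := 𝓐.filter fun C => ∃ t ∈ C, t.1 ^ (Nat.card F + 1) = 1 ∧ ∀ P : P1 F, (t * t).1 • P ≠ P
  have B1 : B ∉ Finset.univ.image A := fun hB' => by
    obtain ⟨P, -, rfl⟩ := Finset.mem_image.1 hB'
    have key : ∀ Q, Q ≠ P → y.1 • Q = Q → False := fun Q hQ hQ' =>
      hQ ((hu P Q).1 (fix_of_nilpotent G.subtype (hn _ hB) (S := {R | R ≠ P})
        (fun g hg R hR e => hR (smul_left_cancel g.1 (e.trans (fA P g hg).symm))) hy hQ hQ'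
        (fun R hR e => (eq_or_eq_of_fix y1 hQ hQ' (fA P y hy) e).resolve_right hR) (hAu P)))
    by_cases e : inf = P
    · exact key _ (e ▸ pt_ne_inf 0) y0
    · exact key _ e yi
  have B2 : B ∉ 𝓒 := fun hB' => by
    obtain ⟨t, ht, t1, t2⟩ := (Finset.mem_filter.1 hB').2
    obtain ⟨a, b, hab, ha, hb⟩ := exists_coprime_exp (F := F)
    have o1 : orderOf y ∣ a := orderOf_dvd_of_pow_eq_one (Subtype.ext (by
      show diagHom (c ^ 2) ^ a = 1
      rw [← map_pow, ← pow_mul, orderOf_dvd_iff_pow_eq_one.1 (hc ▸ ha), map_one]))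
    have o2 : orderOf (t * t) ∣ b := orderOf_dvd_of_pow_eq_one (Subtype.ext (by
      obtain ⟨k, hk⟩ := hb
      show (t.1 * t.1) ^ b = 1
      rw [← sq, ← pow_mul, hk, pow_mul, t1, one_pow]))
    have := hn B hB
    have hcm : (t * t).1 * y.1 = y.1 * (t * t).1 := congrArg Subtype.val
      (GT.commute_of_coprime_of_isNilpotent (B.mul_mem ht ht) hy
        ((hab.coprime_dvd_left o1).coprime_dvd_right o2).symm).eq
    have ty := tau_ne_four_of_two_fix y1 (inf_ne_pt 0) yi y0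
    have n1 := mem_ntor_of_comm y1 hcm
    have n2 : (t * t).1 ∉ tor y.1 := fun e => t2 _ (smul_eq_of_mem_tor y1 e yi)
    have e1 := conj_eq_inv_of_mem_ntor ty n1 n2 (self_mem_tor _)
    rw [hcm, mul_inv_cancel_right] at e1
    have e2 : orderOf y.1 = 2 := orderOf_eq_prime (by rw [sq]; exact mul_eq_one_iff_eq_inv.2 e1) y1
    rw [← Subgroup.orderOf_coe, orderOf_of_mem_ntor ty n1 n2] at o2
    rw [← Subgroup.orderOf_coe, e2] at o1
    exact absurd ((hab.coprime_dvd_left o1).coprime_dvd_right o2) (by norm_num)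
  have D : Disjoint (Finset.univ.image A) 𝓒 := Finset.disjoint_left.2 fun C h1 h2 => by
    obtain ⟨P, -, rfl⟩ := Finset.mem_image.1 h1
    obtain ⟨t, ht, -, t2⟩ := (Finset.mem_filter.1 h2).2
    exact t2 P (fA P _ (mul_mem ht ht))
  have c1 := Finset.card_le_card (show insert B (Finset.univ.image A ∪ 𝓒) ⊆ 𝓐 from
    Finset.insert_subset hB (Finset.union_subset (Finset.image_subset_iff.2 fun P _ => hA P)
      (Finset.filter_subset _ _)))
  rw [Finset.card_insert_of_notMem (by simp only [Finset.mem_union]; tauto),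
    Finset.card_union_of_disjoint D, Finset.card_image_of_injective _ iA] at c1
  have c2 := hmin (Finset.univ.image (fun P : P1 F => stabilizer G P) ∪ 𝓒) ⟨fun C hC => ?_, fun g => ?_⟩
  · have := Finset.card_union_le (Finset.univ.image (fun P : P1 F => stabilizer G P)) 𝓒
    have := Finset.card_image_le (s := Finset.univ) (f := fun P : P1 F => stabilizer G P)
    omega
  · rcases Finset.mem_union.1 hC with hC | hC
    · obtain ⟨P, -, rfl⟩ := Finset.mem_image.1 hC
      obtain ⟨Q, hQ, -⟩ := exists_third P P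
      exact fun e => hQ ((hu Q P).1 (e.ge (Subgroup.mem_top (u Q))))
    · exact h.1 C (Finset.mem_filter.1 hC).1
  by_cases hg : ∃ P : P1 F, g.1 • P = P
  · obtain ⟨P, hP⟩ := hg
    exact ⟨_, Finset.mem_union_left _ (Finset.mem_image_of_mem _ (Finset.mem_univ P)), hP⟩
  push Not at hg
  have tg := tau_ne_four_of_nofix hg
  have ct := card_tor_of_nofix hg
  have := isCyclic_of_le_tor tg (T := tor g.1 ⊓ G) inf_le_left
  obtain ⟨t, ht⟩ := IsCyclic.exists_generator (α := ↥(tor g.1 ⊓ G))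
  have := isCyclic_tor tg
  obtain ⟨r, hr⟩ := IsCyclic.exists_ofOrder_eq_natCard (α := tor g.1)
  have t1 : t.1 * t.1 ≠ 1 := fun e => by
    obtain ⟨k, hk⟩ := ht ⟨r.1 * r.1, mul_mem r.2 r.2, hG (mul_self_mem_psl _)⟩
    have hk' : t.1 ^ k = r.1 * r.1 := congrArg Subtype.val hk
    have : r ^ 4 = 1 := Subtype.ext (by
      show r.1 ^ 4 = 1
      rw [show r.1 ^ 4 = r.1 * r.1 * (r.1 * r.1) by simp [pow_succ, mul_assoc], ← hk', ← (Commute.refl _).mul_zpow, e,
        _root_.one_zpow])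
    have := Nat.le_of_dvd (by norm_num) (orderOf_dvd_of_pow_eq_one this)
    omega
  obtain ⟨C, hC, htC⟩ := h.2 ⟨t.1, t.2.2⟩
  refine ⟨C, Finset.mem_union_right _ (Finset.mem_filter.2 ⟨hC, _, htC, ?_, fun P e => hg P ?_⟩), ?_⟩
  · exact congrArg Subtype.val (ct ▸ pow_card_eq_one' (x := (⟨t.1, t.2.1⟩ : tor g.1)))
  · exact (smul_eq_iff_of_mem_tor (ne_one_of_tau tg) (mul_mem t.2.1 t.2.1) t1).1 e
  · obtain ⟨k, hk⟩ := ht ⟨g.1, self_mem_tor _, g.2⟩
    have : (⟨t.1, t.2.2⟩ : G) ^ k = g := Subtype.ext (congrArg Subtype.val hk :)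
    exact this ▸ zpow_mem htC k

end Cfsg.Agent.Cl.L2
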