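import Mathlib
import Cfsg.Agent.Cl.PSL2Solub

/-! # Redundant Sylow subgroups of `PSL₂(q)` and `SL₂(q)` -/

set_option autoImplicit false

open Matrix MulAction
open scoped MatrixGroups LinearAlgebra.Projectivization

namespace Cfsg.Agent.Cl.L2

section abstract
variable {G : Type*} [Group G] {p : ℕ}

/-- `G` has a redundant Sylow `p`-subgroup. -/
def Redundant (p : ℕ) (G : Type*) [Group G] : Prop :=
  ∃ Q : Sylow p G, ∀ x : G, (∃ k : ℕ, orderOf x = p ^ k) → ∃ P : Sylow p G, P ≠ Q ∧ x ∈ P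

lemma isPGroup_zpowers {x : G} (h : ∃ k : ℕ, orderOf x = p ^ k) : IsPGroup p (Subgroup.zpowers x) :=
  h.elim fun _ h => IsPGroup.of_card ((Nat.card_zpowers x).trans h)

lemma exists_orderOf_of_mem [Fact p.Prime] {P : Subgroup G} (hP : IsPGroup p P) {x : G} (h : x ∈ P) :
    ∃ k : ℕ, orderOf x = p ^ k :=
  (IsPGroup.iff_orderOf.1 hP ⟨x, h⟩).imp fun _ e => (Subgroup.orderOf_mk x h).symm.trans e

lemma mem_sylow_of_mem_normalizer {P : Sylow p G} {x : G} (h : ∃ k : ℕ, orderOf x = p ^ k)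
    (hx : x ∈ Subgroup.normalizer ((P : Subgroup G) : Set G)) : x ∈ P :=
  (((isPGroup_zpowers h).inf_normalizer_sylow P).le ⟨Subgroup.mem_zpowers x, hx⟩).2

lemma not_redundant [Fact p.Prime] (h : ∀ Q : Sylow p G, ∃ x ∈ Q, ∀ P : Sylow p G, x ∈ P →
    (Q : Subgroup G) ≤ P ∨ (P : Subgroup G) ≤ Q) : ¬ Redundant p G := by
  rintro ⟨Q, hQ⟩
  obtain ⟨x, hx, h⟩ := h Q
  obtain ⟨P, h1, h2⟩ := hQ x (exists_orderOf_of_mem Q.2 hx)
  exact h1 (Sylow.ext ((h P h2).elim (Q.3 P.2) fun h => (P.3 Q.2 h).symm))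

lemma redundant_of_two (h : ∀ x : G, (∃ k : ℕ, orderOf x = p ^ k) →
    ∃ P P' : Sylow p G, P ≠ P' ∧ x ∈ P ∧ x ∈ P') : Redundant p G := by
  obtain ⟨Q⟩ : Nonempty (Sylow p G) := inferInstance
  refine ⟨Q, fun x hx => ?_⟩
  obtain ⟨P, P', h1, h2, h3⟩ := h x hx
  by_cases e : P = Q
  exacts [⟨P', fun e' => h1 (e.trans e'.symm), h3⟩, ⟨P, e, h2⟩]

lemma exists_mem_center_of_isPGroup [Finite G] [Fact p.Prime] {Q : Subgroup G} (hQ : IsPGroup p Q)
    (h : Q ≠ ⊥) : ∃ z ∈ Q, orderOf z = p ∧ Q ≤ Subgroup.centralizer {z} := by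
  have := (Subgroup.nontrivial_iff_ne_bot Q).2 h
  have := hQ.center_nontrivial
  obtain ⟨k, hk, e⟩ := (hQ.to_subgroup (Subgroup.center Q)).nontrivial_iff_card.1 this
  obtain ⟨z, hz⟩ := exists_prime_orderOf_dvd_card' (G := Subgroup.center Q) p
    (e ▸ dvd_pow_self p hk.ne')
  exact ⟨z, z.1.2, by rw [Subgroup.orderOf_coe, Subgroup.orderOf_coe, hz], fun y hy =>
    Subgroup.mem_centralizer_singleton_iff.2
      (congrArg Subtype.val (Subgroup.mem_center_iff.1 z.2 ⟨y, hy⟩))⟩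

/-- Redundancy is invariant under central quotients. -/
lemma redundant_iff_of_central {G' : Type*} [Group G'] [Finite G] [Fact p.Prime] {f : G →* G'}
    (hf : Function.Surjective f) (hk : f.ker ≤ Subgroup.center G) :
    Redundant p G ↔ Redundant p G' := by
  have mem : ∀ (P : Sylow p G) (x : G), (∃ k : ℕ, orderOf x = p ^ k) →
      f x ∈ P.mapSurjective hf → x ∈ P := by
    rintro P x hx ⟨y, hy, e⟩
    refine mem_sylow_of_mem_normalizer hx ?_
    rw [← mul_inv_cancel_left y x]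
    exact mul_mem (Subgroup.le_normalizer hy) (Subgroup.center_le_normalizer _
      (hk (by rw [MonoidHom.mem_ker, map_mul, map_inv, e, inv_mul_cancel])))
  constructor
  · rintro ⟨Q, hQ⟩
    refine ⟨Q.mapSurjective hf, fun x hx => ?_⟩
    obtain ⟨R, hR⟩ := (isPGroup_zpowers hx).exists_le_sylow
    obtain ⟨R, rfl⟩ := Sylow.mapSurjective_surjective hf p R
    obtain ⟨y, hy, rfl⟩ := hR (Subgroup.mem_zpowers x)
    obtain ⟨P, h1, h2⟩ := hQ y (exists_orderOf_of_mem R.2 hy)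
    exact ⟨P.mapSurjective hf, fun e => h1 (Sylow.ext (P.3 Q.2 fun z hz =>
      mem Q z (exists_orderOf_of_mem P.2 hz) (e ▸ ⟨z, hz, rfl⟩)).symm), ⟨y, h2, rfl⟩⟩
  · rintro ⟨Q, hQ⟩
    obtain ⟨Q, rfl⟩ := Sylow.mapSurjective_surjective hf p Q
    refine ⟨Q, fun x hx => ?_⟩
    obtain ⟨P, h1, h2⟩ := hQ (f x) (exists_orderOf_of_mem ((isPGroup_zpowers hx).map f)
      ⟨x, Subgroup.mem_zpowers x, rfl⟩)
    obtain ⟨P, rfl⟩ := Sylow.mapSurjective_surjective hf p P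
    exact ⟨P, fun e => h1 (by rw [e]), mem P x hx h2⟩

end abstract

variable {F : Type*} [Field F] [Finite F]

lemma tauS_ne_four_of_not_char {p : ℕ} (hp : p.Prime) (h : ¬ CharP F p) {x : PSL(2, F)} (h1 : x ≠ 1)
    (hx : ∃ k : ℕ, orderOf x = p ^ k) : tau (emb x) ≠ 4 := fun ht => by
  obtain ⟨r, hr, _⟩ := exists_char (F := F)
  have := Fact.mk hr
  obtain ⟨z, hz⟩ := exists_mem_uniS ht
  obtain ⟨k, hk⟩ := hx
  rw [orderOf_of_mem_uniS r hz h1] at hk
  exact h ((Nat.prime_dvd_prime_iff_eq hr hp).1 (hr.dvd_of_dvd_pow hk.dvd) ▸ ‹CharP F r›)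

lemma not_redundant_char (p : ℕ) [Fact p.Prime] [CharP F p] : ¬ Redundant p PSL(2, F) :=
  not_redundant fun Q => by
    obtain ⟨z, hz⟩ := exists_sylow_eq_uniS p Q
    obtain ⟨u, hu, h1⟩ := exists_ne_one_mem_uniS z
    refine ⟨u, hz.ge hu, fun P hP => Or.inl ?_⟩
    obtain ⟨w, hw⟩ := exists_sylow_eq_uniS p P
    rw [hz, hw, eq_of_mem_uniS h1 hu (uniS_le_stabilizer w (hw.le hP))]

lemma not_redundant_odd (p : ℕ) [hp : Fact p.Prime] (h : ¬ CharP F p) (h2 : p ≠ 2) :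
    ¬ Redundant p PSL(2, F) :=
  not_redundant fun Q => by
    by_cases hQ : (Q : Subgroup PSL(2, F)) = ⊥
    · exact ⟨1, one_mem _, fun P _ => Or.inl (hQ ▸ bot_le)⟩
    obtain ⟨z, -, ho, hz⟩ := exists_mem_center_of_isPGroup Q.2 hQ
    have h1 : z ≠ 1 := by rintro rfl; exact hp.out.one_lt.ne (orderOf_one.symm.trans ho)
    rw [centralizer_eq_torS_of_orderOf h1 (ho ▸ h2)] at hz
    obtain ⟨x, hx⟩ := (isCyclic_of_le_torS (tauS_ne_four_of_not_char hp.out h h1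
      ⟨1, ho.trans (pow_one p).symm⟩) hz).exists_generator
    refine ⟨x, x.2, fun P hP => Or.inl fun y hy => ?_⟩
    obtain ⟨n, hn⟩ := hx ⟨y, hy⟩
    rw [← show (x : PSL(2, F)) ^ n = y from congrArg Subtype.val hn]
    exact zpow_mem hP n

lemma not_redundant_two (h2 : (2 : F) ≠ 0) {k : ℕ}
    (h : Nat.card F + 1 = 2 ^ k ∨ Nat.card F = 2 ^ k + 1) : ¬ Redundant 2 PSL(2, F) := by
  have key : ∀ Q : Sylow 2 PSL(2, F), (Q : Subgroup PSL(2, F)) ≠ ⊥ →
      ∃ w, tau (emb w) ≠ 4 ∧ (Q : Subgroup PSL(2, F)) = ntorS w := fun Q hQ => by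
    obtain ⟨w, -, ho, hw⟩ := exists_mem_center_of_isPGroup Q.2 hQ
    have ht := tauS_ne_four_of_orderOf_two h2 ho
    rw [centralizer_eq_ntorS_of_orderOf h2 ho] at hw
    refine ⟨w, ht, (Q.3 ?_ hw).symm⟩
    have h1 := card_torS_of_orderOf_two h2 ho
    have h3 := two_le_card (F := F)
    by_cases h4 : Nat.card F = 3
    · exact IsPGroup.of_card (n := 2) (by rw [card_ntorS ht]; omega)
    refine IsPGroup.of_card (n := k) ?_
    rw [card_ntorS ht]
    rcases k with _ | _ | k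
    · omega
    · omega
    · rw [pow_succ, pow_succ] at h ⊢; omega
  refine not_redundant fun Q => ?_
  by_cases hQ : (Q : Subgroup PSL(2, F)) = ⊥
  · exact ⟨1, one_mem _, fun P _ => Or.inl (hQ ▸ bot_le)⟩
  obtain ⟨w, ht, hw⟩ := key Q hQ
  obtain ⟨x, h1, hx, -, ho, -, e⟩ := exists_gen_torS ht
  refine ⟨x, hw.ge (e ▸ torS_le_ntorS x (self_mem_torS x)), fun P hP => Or.inr ?_⟩
  obtain ⟨v, ht', hv⟩ := key P fun h => h1 (Subgroup.mem_bot.1 (h.le hP))
  rw [hw, ← e]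
  by_cases h3 : orderOf x = 2
  · have hc : Nat.card (P : Subgroup PSL(2, F)) = 2 ^ 2 := by
      rw [Nat.card_congr (Sylow.equiv P Q).toEquiv, hw, card_ntorS ht, ← ho, h3]; rfl
    rw [← centralizer_eq_ntorS_of_orderOf h2 h3]
    exact fun y hy => Subgroup.mem_centralizer_singleton_iff.2 (congrArg Subtype.val
      ((IsPGroup.isMulCommutative_of_card_eq_prime_sq hc).1.1 ⟨y, hy⟩ ⟨x, hP⟩))
  · rw [hv, ntorS_eq_of_mem (ne_one_of_tauS ht') (mem_torS_of_orderOf ht' (hv.le hP) h3) h1]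

lemma redundant_two (h2 : (2 : F) ≠ 0) (h : ¬ ∃ k, Nat.card F + 1 = 2 ^ k)
    (h' : ¬ ∃ k, Nat.card F = 2 ^ k + 1) : Redundant 2 PSL(2, F) := by
  have hc : ¬ CharP F 2 := fun _ => h2 (two_eq_zero_iff_ringChar.2 (ringChar.eq F 2))
  have key : ∀ x : PSL(2, F), x ≠ 1 → (∃ k : ℕ, orderOf x = 2 ^ k) →
      ∃ P P' : Sylow 2 PSL(2, F), P ≠ P' ∧ x ∈ P ∧ x ∈ P' := fun x h1 hx => by
    have ht := tauS_ne_four_of_not_char Nat.prime_two hc h1 hx
    obtain ⟨s, hs, hs'⟩ := exists_mem_ntorS_not_mem ht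
    obtain ⟨P, hP⟩ := ((isPGroup_zpowers hx).to_sup_of_normal_left'
      (isPGroup_zpowers ⟨1, orderOf_of_mem_ntorS ht hs hs'⟩)
      (by rw [normalizer_zpowers ht]; exact Subgroup.zpowers_le.2 hs)).exists_le_sylow
    have m1 : x ∈ P := hP (Subgroup.mem_sup_left (Subgroup.mem_zpowers x))
    have m2 : s ∈ P := hP (Subgroup.mem_sup_right (Subgroup.mem_zpowers s))
    have h3 := card_torS_mul_or ht
    have h4 := two_le_card (F := F)
    rw [gcd_of_two_ne_zero h2] at h3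
    obtain ⟨r, hr, h5, h6⟩ := (Nat.card (torS x)).eq_two_pow_or_exists_odd_prime_and_dvd.resolve_left
      fun ⟨k, hk⟩ => h3.elim (fun e => h' ⟨k + 1, by rw [pow_succ, ← hk]; omega⟩)
        fun e => h ⟨k + 1, by rw [pow_succ, ← hk, e]⟩
    have := Fact.mk hr
    obtain ⟨⟨t, m3⟩, ho⟩ := exists_prime_orderOf_dvd_card' r h5
    rw [Subgroup.orderOf_mk] at ho
    refine ⟨P, t • P, fun e => ?_, m1, ?_⟩
    · have m4 : t * s * t⁻¹ ∈ P := e ▸ Subgroup.smul_mem_pointwise_smul s (MulAut.conj t) _ m2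
      have m5 := mul_mem m4 (inv_mem m2)
      rw [mul_assoc t, mul_assoc t, conj_eq_inv_of_mem_ntorS ht hs hs' (inv_mem m3), inv_inv,
        ← sq] at m5
      obtain ⟨k, hk⟩ := exists_orderOf_of_mem P.2 m5
      rw [Nat.Coprime.orderOf_pow (by rw [ho]; exact h6.coprime_two_right), ho] at hk
      exact hr.one_lt.ne' ((Nat.coprime_self _).1 (by
        nth_rewrite 2 [hk]; exact h6.coprime_two_right.pow_right k))
    · have := Subgroup.smul_mem_pointwise_smul x (MulAut.conj t) _ m1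
      rwa [MulAut.smul_def, MulAut.conj_apply, ← comm_of_mem_torS m3, mul_inv_cancel_right] at this
  refine redundant_of_two fun x hx => ?_
  by_cases h1 : x = 1
  · obtain ⟨V, hV⟩ := exists_kleinS h2
    obtain ⟨y, hy⟩ := exists_prime_orderOf_dvd_card' (G := V) 2 (by rw [hV.card_four]; norm_num)
    rw [← Subgroup.orderOf_coe] at hy
    obtain ⟨P, P', h, -⟩ := key y (fun e => by rw [e, orderOf_one] at hy; omega) ⟨1, hy⟩
    exact ⟨P, P', h, h1 ▸ one_mem _, h1 ▸ one_mem _⟩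
  · exact key x h1 hx

theorem redundant_PSL_iff (p : ℕ) [Fact p.Prime] : Redundant p PSL(2, F) ↔
    (p = 2 ∧ (¬ ∃ k : ℕ, Nat.card F + 1 = 2 ^ k) ∧ (¬ ∃ k : ℕ, Nat.card F = 2 ^ k) ∧
      ¬ ∃ k : ℕ, Nat.card F = 2 ^ k + 1) := by
  refine ⟨fun h => ?_, ?_⟩
  · have hc : ¬ CharP F p := fun _ => not_redundant_char p h
    obtain rfl : p = 2 := by_contra fun h2 => not_redundant_odd p hc h2 h
    have h2 : (2 : F) ≠ 0 := fun h2 => hc (ringChar.of_eq (two_eq_zero_iff_ringChar.1 h2))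
    exact ⟨rfl, fun ⟨k, e⟩ => not_redundant_two h2 (Or.inl e) h, fun ⟨k, e⟩ => hc (charP_of_card e),
      fun ⟨k, e⟩ => not_redundant_two h2 (Or.inr e) h⟩
  · rintro ⟨rfl, h1, h3, h4⟩
    refine redundant_two (fun h2 => h3 ?_) h1 h4
    have : CharP F 2 := ringChar.of_eq (two_eq_zero_iff_ringChar.1 h2)
    exact (exists_card_eq_prime_pow 2).imp fun _ h => h.2

end Cfsg.Agent.Cl.L2
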