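import Mathlib

/-! Planes in an algebra with involution (abstract non-degenerate planes of a symplectic space). -/

set_option autoImplicit false

namespace Cfsg.Agent.Cl.Pln

/-- The involution is linear. -/
class StarLin (F A : Type*) [Star A] [SMul F A] : Prop where
  star_smul : ∀ (c : F) (a : A), star (c • a) = c • star a

variable {F A : Type*} [Field F] [Ring A] [StarRing A] [Algebra F A]

variable (F) in
/-- A self-adjoint idempotent whose corner algebra is a quaternion algebra. -/
structure Pl (π : A) : Prop where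
  st : star π = π
  id : π * π = π
  ne : π ≠ 0
  tr : ∀ a : A, ∃ t : F, π * (a + star a) * π = t • π

theorem su (g : unitary A) : star (g : A) * g = 1 := Unitary.star_mul_self_of_mem g.2
theorem us (g : unitary A) : (g : A) * star (g : A) = 1 := Unitary.mul_star_self_of_mem g.2
theorem su' (g : unitary A) (a : A) : star (g : A) * (g * a) = a := by
  rw [← mul_assoc, su, one_mul]
theorem us' (g : unitary A) (a : A) : (g : A) * (star (g : A) * a) = a := by
  rw [← mul_assoc, us, one_mul]
theorem coe_inv' (g : unitary A) : ((g⁻¹ : unitary A) : A) = star (g : A) := rfl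

namespace Pl

variable {π ρ : A}

theorem id' (h : Pl F π) (a : A) : π * (π * a) = π * a := by rw [← mul_assoc, h.id]

theorem inj (h : Pl F π) {c d : F} (e : c • π = d • π) : c = d := smul_left_injective F h.ne e

theorem conj (h : Pl F π) (g : unitary A) : Pl F ((g : A) * π * star (g : A)) where
  st := by simp only [star_mul, star_star, h.st, mul_assoc]
  id := by simp only [mul_assoc, su', h.id']
  ne := fun e => h.ne (by
    have := congrArg (fun x => star (g : A) * x * g) e
    simpa only [mul_assoc, su', su, mul_one, mul_zero, zero_mul] using this)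
  tr a := by
    obtain ⟨t, ht⟩ := h.tr (star (g : A) * a * g)
    refine ⟨t, ?_⟩
    have := congrArg (fun x => (g : A) * x * star (g : A)) ht
    simp only [star_mul, star_star, mul_smul_comm, smul_mul_assoc] at this
    rw [← this]; noncomm_ring

theorem sc (h : Pl F π) (h2 : (2 : F) ≠ 0) {a : A} (ha : star a = a) :
    ∃ c : F, π * a * π = c • π := by
  obtain ⟨t, ht⟩ := h.tr a
  refine ⟨t / 2, smul_right_injective A h2 ?_⟩
  simp only [smul_smul, mul_div_cancel₀ _ h2]
  rw [← ht, ha, two_smul]; noncomm_ring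

theorem eq_of_le (h : Pl F π) (h' : Pl F ρ) (h2 : (2 : F) ≠ 0) (e : π * ρ = ρ) : ρ = π := by
  have e' : ρ * π = ρ := by simpa only [star_mul, h.st, h'.st] using congrArg star e
  obtain ⟨c, hc⟩ := h.sc h2 h'.st
  rw [e, e'] at hc
  have h1 : (c * c) • π = c • π := by
    have := h'.id
    rw [hc, smul_mul_smul_comm, h.id] at this; exact this
  have h3 : c ≠ 0 := fun e => h'.ne (by rw [hc, e, zero_smul])
  have h4 : c = 1 := mul_left_cancel₀ h3 (by rw [h.inj h1, mul_one])
  rw [hc, h4, one_smul]

theorem symm (h : Pl F π) (h' : Pl F ρ) (h2 : (2 : F) ≠ 0) {c : F} (e : π * ρ * π = c • π) :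
    ρ * π * ρ = c • ρ := by
  obtain ⟨d, hd⟩ := h'.sc h2 h.st
  by_cases h0 : π * ρ = 0
  · have h1 : c = 0 := h.inj (by rw [← e, h0, zero_mul, zero_smul])
    rw [mul_assoc, h0, h1, mul_zero, zero_smul]
  · have h1 : c • (π * ρ) = d • (π * ρ) := by
      have h3 : π * ρ * π * ρ = π * (ρ * π * ρ) := by simp only [mul_assoc]
      rw [e, hd] at h3
      simpa only [smul_mul_assoc, mul_smul_comm] using h3
    rw [hd, smul_left_injective F h0 h1]

variable [StarLin F A]

/-- The orthogonal complement of `π` in the span of `π` and `ρ`. -/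
theorem compl (h : Pl F π) (h' : Pl F ρ) (h2 : (2 : F) ≠ 0) {c : F} (e : π * ρ * π = c • π)
    (hc : c ≠ 1) : ∃ π' : A, Pl F π' ∧ π * π' = 0 ∧ (π + π') * ρ = ρ := by
  have e' := h.symm h' h2 e
  have hc' : (1 - c) ≠ 0 := sub_ne_zero.2 hc.symm
  have k1 : ρ * (1 - π) * ρ = (1 - c) • ρ := by
    rw [mul_sub, sub_mul, mul_one, h'.id, e', sub_smul, one_smul]
  have k2 : (1 - π) * (1 - π) = 1 - π := by
    rw [mul_sub, sub_mul, sub_mul, mul_one, one_mul, mul_one, h.id]; abel
  have k3 : ∀ a, (1 - π) * ((1 - π) * a) = (1 - π) * a := fun a => by rw [← mul_assoc, k2]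
  have k4 : ∀ a, ρ * ((1 - π) * (ρ * a)) = (1 - c) • (ρ * a) := fun a => by
    rw [← mul_assoc, ← mul_assoc, k1, smul_mul_assoc]
  refine ⟨(1 - c)⁻¹ • ((1 - π) * ρ * (1 - π)), ⟨?_, ?_, fun h0 => ?_, fun a => ?_⟩, ?_, ?_⟩
  · simp only [StarLin.star_smul, star_mul, star_sub, star_one, h.st, h'.st, mul_assoc]
  · simp only [smul_mul_assoc, mul_smul_comm, mul_assoc, k3, k4, smul_smul]
    rw [inv_mul_cancel₀ hc', mul_one]
  · have h3 : (1 - π) * ρ * (1 - π) = 0 := (smul_eq_zero.1 h0).resolve_left (inv_ne_zero hc')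
    have h4 : ρ * ((1 - π) * ρ * (1 - π)) * ρ = ((1 - c) * (1 - c)) • ρ := by
      simp only [mul_assoc, k4, smul_mul_assoc]
      rw [← mul_assoc, k1, smul_smul]
    rw [h3, mul_zero, zero_mul] at h4
    exact mul_ne_zero hc' hc' (h'.inj (by rw [← h4, zero_smul]))
  · obtain ⟨t, ht⟩ := h'.tr ((1 - π) * a * (1 - π))
    refine ⟨(1 - c)⁻¹ * t, ?_⟩
    have := congrArg (fun x => (1 - π) * x * (1 - π)) ht
    simp only [star_mul, star_sub, star_one, h.st, mul_smul_comm, smul_mul_assoc] at this
    simp only [smul_mul_assoc, mul_smul_comm, smul_smul]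
    rw [show (1 - c)⁻¹ * t * (1 - c)⁻¹ = (1 - c)⁻¹ * (1 - c)⁻¹ * t by ring, mul_smul _ t, ← this]
    congr 1; noncomm_ring
  · rw [mul_smul_comm, ← mul_assoc, ← mul_assoc, mul_sub π, mul_one, h.id, sub_self, zero_mul,
      zero_mul, smul_zero]
  · rw [add_mul, smul_mul_assoc, mul_assoc, mul_assoc, ← mul_assoc ρ, k1, mul_smul_comm, smul_smul,
      inv_mul_cancel₀ hc', one_smul]
    noncomm_ring

end Pl

/-- `x` acts trivially on the complement of `e`. -/
def Sup (e : A) (x : unitary A) : Prop := (1 - e) * x = 1 - e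

theorem Sup.right {e : A} (he : star e = e) {x : unitary A} (h : Sup e x) :
    (x : A) * (1 - e) = 1 - e := by
  have := congrArg (fun y => (x : A) * star y) h
  simp only [star_mul, star_sub, star_one, he, us'] at this
  exact this.symm

theorem Sup.comm {e : A} (he : star e = e) {x : unitary A} (h : Sup e x) :
    e * x = x * e := by
  have h1 := h.right he
  have h2 : (1 - e) * (x : A) = 1 - e := h
  rw [mul_sub, mul_one] at h1; rw [sub_mul, one_mul] at h2
  have := h1.trans h2.symm
  exact (sub_right_inj.1 this).symm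

/-- The elements supported on `e`. -/
def supG (e : A) : Subgroup (unitary A) where
  carrier := {x | Sup e x}
  one_mem' := by simp [Sup]
  mul_mem' := fun {a b} ha hb => by
    change (1 - e) * ((a : A) * b) = 1 - e
    rw [← mul_assoc, ha, hb]
  inv_mem' := fun {a} ha => by
    change (1 - e) * star (a : A) = 1 - e
    have : (1 - e) * (a : A) = 1 - e := ha
    conv_lhs => rw [← this, mul_assoc, us, mul_one]

/-- Generators of a quaternion group supported on the plane `π`. -/
structure QP (π : A) (u v : unitary A) : Prop where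
  su : Sup π u
  sv : Sup π v
  uu : (u : A) * u = 1 - 2 * π
  vv : (v : A) * v = 1 - 2 * π
  uv : (u : A) * v * π = -((v : A) * u * π)

theorem QP.conj {π : A} {u v : unitary A} (h : QP π u v) (g : unitary A) :
    QP ((g : A) * π * star (g : A)) (g * u * g⁻¹) (g * v * g⁻¹) := by
  have k : ∀ {x : unitary A}, Sup π x → Sup ((g : A) * π * star (g : A)) (g * x * g⁻¹) :=
    fun {x} hx => by
      have := congrArg (fun y => (g : A) * y * star (g : A)) hx
      simp only [Sup, Submonoid.coe_mul, coe_inv', mul_sub, sub_mul, mul_assoc, su', mul_one,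
        one_mul, us] at this ⊢
      exact this
  have k2 : ∀ {x : unitary A}, (x : A) * x = 1 - 2 * π →
      ((g * x * g⁻¹ : unitary A) : A) * (g * x * g⁻¹ : unitary A) =
        1 - 2 * ((g : A) * π * star (g : A)) := fun {x} hx => by
    have := congrArg (fun y => (g : A) * y * star (g : A)) hx
    simp only [Submonoid.coe_mul, coe_inv', mul_sub, sub_mul, mul_assoc, su', mul_one,
        us, two_mul, mul_add, add_mul] at this ⊢
    exact this
  refine ⟨k h.su, k h.sv, k2 h.uu, k2 h.vv, ?_⟩
  have := congrArg (fun y => (g : A) * y * star (g : A)) h.uv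
  simp only [Submonoid.coe_mul, coe_inv', mul_assoc, su', mul_neg, neg_mul] at this ⊢
  exact this

section Quad

variable {π : A} {u : unitary A}

/-- `u` is a square root of the involution of `π`. -/
theorem sq_pi (h : Pl F π) (hu : (u : A) * u = 1 - 2 * π) : (u : A) * (u * π) = -π := by
  rw [← mul_assoc, hu, sub_mul, mul_assoc, h.id]; noncomm_ring

theorem star_pi (h : Pl F π) (hu : (u : A) * u = 1 - 2 * π) : star (u : A) * π = -(u * π) := by
  have := congrArg (fun y => star (u : A) * y) (sq_pi h hu)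
  simp only [su', mul_neg] at this
  rw [this, neg_neg]

end Quad

/-- A quaternion basis of the corner algebra. -/
structure QB (π I J : A) : Prop where
  lI : π * I = I
  rI : I * π = I
  lJ : π * J = J
  rJ : J * π = J
  II : I * I = -π
  JJ : J * J = -π
  JI : J * I = -(I * J)
  sI : star I = -I
  sJ : star J = -J

theorem QP.qb {π : A} {u v : unitary A} (h : QP π u v) (hπ : Pl F π) :
    QB π ((u : A) * π) ((v : A) * π) := by
  have cu := h.su.comm hπ.st
  have cv := h.sv.comm hπ.st
  have cu' : ∀ a, π * ((u : A) * a) = u * (π * a) := fun a => by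
    rw [← mul_assoc, cu, mul_assoc]
  have cv' : ∀ a, π * ((v : A) * a) = v * (π * a) := fun a => by
    rw [← mul_assoc, cv, mul_assoc]
  have hs : ∀ {x : unitary A}, π * (x : A) = x * π → (x : A) * x = 1 - 2 * π →
      star ((x : A) * π) = -(x * π) := fun {x} c hx => by
    rw [← c, star_mul, hπ.st, star_pi hπ hx, c]
  refine ⟨?_, ?_, ?_, ?_, ?_, ?_, ?_, hs cu h.uu, hs cv h.vv⟩
  · rw [cu', hπ.id]
  · rw [mul_assoc, hπ.id]
  · rw [cv', hπ.id]
  · rw [mul_assoc, hπ.id]
  · rw [mul_assoc, cu', hπ.id, sq_pi hπ h.uu]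
  · rw [mul_assoc, cv', hπ.id, sq_pi hπ h.vv]
  · rw [mul_assoc, mul_assoc, cu', cv', hπ.id, ← mul_assoc, ← mul_assoc, h.uv, neg_neg]

namespace QB

variable {π I J : A}

theorem II' (h : QB π I J) (a : A) : I * (I * a) = -(π * a) := by rw [← mul_assoc, h.II, neg_mul]
theorem JJ' (h : QB π I J) (a : A) : J * (J * a) = -(π * a) := by rw [← mul_assoc, h.JJ, neg_mul]
theorem JI' (h : QB π I J) (a : A) : J * (I * a) = -(I * (J * a)) := by
  rw [← mul_assoc, h.JI, neg_mul, mul_assoc]
theorem lI' (h : QB π I J) (a : A) : π * (I * a) = I * a := by rw [← mul_assoc, h.lI]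
theorem lJ' (h : QB π I J) (a : A) : π * (J * a) = J * a := by rw [← mul_assoc, h.lJ]
theorem rI' (h : QB π I J) (a : A) : I * (π * a) = I * a := by rw [← mul_assoc, h.rI]
theorem rJ' (h : QB π I J) (a : A) : J * (π * a) = J * a := by rw [← mul_assoc, h.rJ]

theorem KK (h : QB π I J) : I * J * (I * J) = -π := by
  have := h.II' π
  rw [h.rI, h.II, neg_inj] at this
  rw [mul_assoc, h.JI', mul_neg, h.II', h.JJ, mul_neg, neg_neg, ← this]

theorem sK (h : QB π I J) : star (I * J) = -(I * J) := by
  rw [star_mul, h.sI, h.sJ, neg_mul_neg, h.JI]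

omit [StarRing A] in
theorem two_cancel (h2 : (2 : F) ≠ 0) {a : A} (h : a = -a) : a = 0 := by
  have : (2 : F) • a = 0 := by rw [two_smul]; exact add_eq_zero_iff_eq_neg.2 h
  exact (smul_eq_zero.1 this).resolve_left h2

/-- An element anticommuting with `I`, `J`, `I * J` vanishes. -/
theorem eq_zero_of_anti (h : QB π I J) (h2 : (2 : F) ≠ 0) {f : A} (hf : f * π = f)
    (h1 : f * I = -(I * f)) (h3 : f * J = -(J * f)) (h4 : f * (I * J) = -(I * J * f)) : f = 0 := by
  have k : f * (I * J) = I * J * f := by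
    rw [← mul_assoc, h1, neg_mul, mul_assoc, h3, mul_neg, neg_neg, mul_assoc]
  have k1 : f * (I * J) = 0 := two_cancel h2 (by conv_lhs => rw [h4, ← k])
  have k2 := congrArg (· * (I * J)) k1
  simp only [zero_mul] at k2
  rw [mul_assoc, h.KK, mul_neg, hf, neg_eq_zero] at k2
  exact k2

/-- The trace form is non-degenerate. -/
theorem eq_zero_of_tr (h : QB π I J) (h2 : (2 : F) ≠ 0) {f : A} (hf : f * π = f)
    (h0 : star f = -f) (h1 : star (f * I) = -(f * I)) (h3 : star (f * J) = -(f * J))
    (h4 : star (f * (I * J)) = -(f * (I * J))) : f = 0 := by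
  rw [star_mul, h.sI, h0, neg_mul_neg] at h1
  rw [star_mul, h.sJ, h0, neg_mul_neg] at h3
  rw [star_mul, h.sK, h0, neg_mul_neg] at h4
  exact h.eq_zero_of_anti h2 hf (by rw [h1, neg_neg]) (by rw [h3, neg_neg]) (by rw [h4, neg_neg])

end QB

end Cfsg.Agent.Cl.Pln
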