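import Mathlib
import Cfsg.Agent.Cl.PlnAlg

/-! Odd-order subgroups of `Sp₄` normalised by a quaternion group supported on a plane. -/

set_option autoImplicit false

namespace Cfsg.Agent.Cl.Pln

variable {F A : Type*} [Field F] [Ring A] [StarRing A] [Algebra F A]

variable (F) in
/-- Two orthogonal planes. -/
structure Two (π π' : A) : Prop where
  p : Pl F π
  q : Pl F π'
  pq : π * π' = 0

/-- Block form of an element inverted by the involution of `π`. -/
structure Blk (π π' x : A) (μ : F) (β : A) : Prop where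
  l : π * β = β
  r : β * π' = β
  eq : x = 1 - (π + π') + μ • (π + π') + β - star β

namespace Two

variable {π π' : A}

theorem qp (h : Two F π π') : π' * π = 0 := by
  simpa only [star_mul, h.p.st, h.q.st, star_zero] using congrArg star h.pq

theorem pq' (h : Two F π π') (a : A) : π * (π' * a) = 0 := by rw [← mul_assoc, h.pq, zero_mul]
theorem qp' (h : Two F π π') (a : A) : π' * (π * a) = 0 := by rw [← mul_assoc, h.qp, zero_mul]

theorem st (h : Two F π π') : star (π + π') = π + π' := by rw [star_add, h.p.st, h.q.st]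

theorem ee (h : Two F π π') : (π + π') * (π + π') = π + π' := by
  simp only [mul_add, add_mul, h.p.id, h.q.id, h.pq, h.qp, add_zero, zero_add]

theorem decomp (h : Two F π π') {x : unitary A} (hx : Sup (π + π') x) :
    (x : A) = 1 - (π + π') + (π * x * π + π * x * π' + π' * x * π + π' * x * π') := by
  have h1 : (1 - (π + π')) * (x : A) = 1 - (π + π') := hx
  have h2 := hx.comm h.st
  have h3 : (π + π') * x * (π + π') = (π + π') * x := by rw [mul_assoc, ← h2, ← mul_assoc, h.ee]
  rw [← h1]
  have : π * x * π + π * x * π' + π' * x * π + π' * x * π' = (π + π') * x * (π + π') := by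
    noncomm_ring
  rw [this, h3]; noncomm_ring

theorem fix (h : Two F π π') {u : unitary A} (hu : Sup π u) : (u : A) * π' = π' := by
  have := congrArg (· * π') (hu.right h.p.st)
  simpa only [mul_assoc, sub_mul, one_mul, h.pq, sub_zero] using this

theorem fix' (h : Two F π π') {u : unitary A} (hu : Sup π u) : π' * star (u : A) = π' := by
  simpa only [star_mul, h.q.st] using congrArg star (h.fix hu)

theorem sup (h : Two F π π') {u : unitary A} (hu : Sup π u) : Sup (π + π') u := by
  have h1 : (1 - π) * (u : A) = 1 - π := hu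
  have h2 : π' * (u : A) = π' := by
    have := congrArg (π' * ·) h1
    simpa only [← mul_assoc, mul_sub, mul_one, h.qp, sub_zero] using this
  change (1 - (π + π')) * (u : A) = _
  rw [← sub_sub, sub_mul, h1, h2]

end Two

namespace Blk

variable {π π' x β : A} {μ : F}

theorem l0 (h : Two F π π') (b : Blk π π' x μ β) : π' * β = 0 := by rw [← b.l, h.qp']
theorem r0 (h : Two F π π') (b : Blk π π' x μ β) : β * π = 0 := by
  rw [← b.r, mul_assoc, h.qp, mul_zero]
theorem sl (h : Two F π π') (b : Blk π π' x μ β) : π' * star β = star β := by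
  simpa only [star_mul, h.q.st] using congrArg star b.r
theorem sr (h : Two F π π') (b : Blk π π' x μ β) : star β * π = star β := by
  simpa only [star_mul, h.p.st] using congrArg star b.l
theorem sl0 (h : Two F π π') (b : Blk π π' x μ β) : π * star β = 0 := by rw [← b.sl h, h.pq']
theorem sr0 (h : Two F π π') (b : Blk π π' x μ β) : star β * π' = 0 := by
  rw [← b.sr h, mul_assoc, h.pq, mul_zero]

theorem px (h : Two F π π') (b : Blk π π' x μ β) : π * x = μ • π + β := by
  conv_lhs => rw [b.eq]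
  simp only [mul_add, mul_sub, mul_smul_comm, mul_one, h.p.id, h.pq, b.l, b.sl0 h]
  simp

theorem xp (h : Two F π π') (b : Blk π π' x μ β) : x * π = μ • π - star β := by
  conv_lhs => rw [b.eq]
  simp only [add_mul, sub_mul, smul_mul_assoc, one_mul, h.p.id, h.qp, b.r0 h, b.sr h]
  simp

theorem beta (h : Two F π π') (b : Blk π π' x μ β) : π * x * π' = β := by
  rw [b.px h, add_mul, smul_mul_assoc, h.pq, smul_zero, zero_add, b.r]

theorem comm (h : Two F π π') (b : Blk π π' x μ β) {x' β' : A} {μ' : F} (b' : Blk π π' x' μ' β')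
    (c : x * x' = x' * x) : β * star β' = β' * star β := by
  have k : ∀ {x β x' β' : A} {μ μ' : F}, Blk π π' x μ β → Blk π π' x' μ' β' →
      π * (x * x') * π = (μ * μ') • π - β * star β' := fun {x β x' β' μ μ'} b b' => by
    rw [← mul_assoc, mul_assoc, b.px h, b'.xp h]
    simp only [add_mul, mul_sub, smul_mul_assoc, mul_smul_comm, h.p.id, b.r0 h, b'.sl0 h,
      smul_zero, smul_smul, add_zero, zero_add, mul_comm μ' μ]
  have := k b b'
  rw [c, k b' b, mul_comm μ' μ, sub_right_inj] at this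
  exact this.symm

theorem conj (h : Two F π π') (b : Blk π π' x μ β) {u : unitary A} (hu : Sup π u) :
    Blk π π' ((u : A) * x * star (u : A)) μ (u * β) := by
  have c := hu.comm h.p.st
  have f1 := h.fix hu
  have f2 := h.fix' hu
  refine ⟨by rw [← mul_assoc, c, mul_assoc, b.l], by rw [mul_assoc, b.r], ?_⟩
  have k1 : (u : A) * π * star (u : A) = π := by rw [← c, mul_assoc, us, mul_one]
  have k2 : (u : A) * π' * star (u : A) = π' := by rw [f1, f2]
  have k3 : β * star (u : A) = β := by rw [← b.r, mul_assoc, f2]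
  have k4 : (u : A) * star β = star β := by rw [← b.sl h, ← mul_assoc, f1]
  conv_lhs => rw [b.eq]
  simp only [mul_add, mul_sub, add_mul, sub_mul, mul_smul_comm, smul_mul_assoc, mul_one, us, k1,
    k2, star_mul, k4]
  rw [mul_assoc _ β, k3]

end Blk

omit [StarRing A] in
theorem one_add_pow {N : A} (hN : N * N = 0) (n : ℕ) : (1 + N) ^ n = 1 + n • N := by
  induction n with
  | zero => simp
  | succ n ih =>
    rw [pow_succ, ih, add_mul, mul_add, mul_add, smul_mul_assoc, smul_mul_assoc, hN, succ_nsmul]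
    simp only [mul_one, one_mul, smul_zero, add_zero]; abel

theorem eq_one_of_sq {G : Type*} [Group G] {x : G} {n : ℕ} (hn : Odd n) (h : x ^ n = 1)
    (h2 : x * x = 1) : x = 1 := by
  obtain ⟨k, rfl⟩ := hn
  rwa [pow_succ, pow_mul, sq, h2, one_pow, one_mul] at h

variable [StarLin F A] {π π' : A}

theorem Two.exists_blk (h : Two F π π') (h2 : (2 : F) ≠ 0) {x z : unitary A}
    (hz : (z : A) = 1 - 2 * π) (hx : Sup (π + π') x) (hi : z * x * z = x⁻¹) {n : ℕ} (hn : Odd n)
    (hF : (n : F) ≠ 0) (hxn : x ^ n = 1) (h1 : x ≠ 1) :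
    ∃ (μ δ : F) (β : A), Blk π π' x μ β ∧ δ ≠ 0 ∧ β * star β = δ • π ∧ star β * β = δ • π' := by
  have hs : star (x : A) = (1 - 2 * π) * x * (1 - 2 * π) := by
    rw [← hz, ← coe_inv', ← hi]; rfl
  have z1 : π * (1 - 2 * π) = -π := by rw [two_mul, mul_sub, mul_add, h.p.id]; noncomm_ring
  have z2 : (1 - 2 * π) * π = -π := by rw [two_mul, sub_mul, add_mul, h.p.id]; noncomm_ring
  have z3 : π' * (1 - 2 * π) = π' := by rw [two_mul, mul_sub, mul_add, h.qp]; noncomm_ring
  have z4 : (1 - 2 * π) * π' = π' := by rw [two_mul, sub_mul, add_mul, h.pq]; noncomm_ring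
  have e : ∀ a b : A, a * star (x : A) * b = (a * (1 - 2 * π)) * x * ((1 - 2 * π) * b) :=
    fun a b => by rw [hs]; simp only [mul_assoc]
  obtain ⟨μ, hμ⟩ := h.p.sc h2 (a := π * x * π) (by
    rw [star_mul, star_mul, h.p.st, ← mul_assoc, e, z1, z2]; noncomm_ring)
  obtain ⟨ν, hν⟩ := h.q.sc h2 (a := π' * x * π') (by
    rw [star_mul, star_mul, h.q.st, ← mul_assoc, e, z3, z4])
  simp only [mul_assoc, h.p.id', h.q.id', h.p.id, h.q.id] at hμ hν
  rw [← mul_assoc] at hμ hν
  obtain ⟨β, hβ⟩ : ∃ β, β = π * x * π' := ⟨_, rfl⟩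
  have hγ : π' * x * π = -star β := by
    rw [hβ, star_mul, star_mul, h.p.st, h.q.st, ← mul_assoc, e, z3, z2]; noncomm_ring
  have l : π * β = β := by rw [hβ, mul_assoc, h.p.id']
  have r : β * π' = β := by rw [hβ, mul_assoc, h.q.id]
  have b0 : Blk π π' (1 - (π + π') + (0 : F) • (π + π') + β - star β) (0 : F) β := ⟨l, r, rfl⟩
  have l0 := b0.l0 h
  have r0 := b0.r0 h
  have sl := b0.sl h
  have sr := b0.sr h
  have sl0 := b0.sl0 h
  have sr0 := b0.sr0 h
  have d := h.decomp hx
  rw [hμ, hν, ← hβ, hγ] at d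
  have px : π * x = μ • π + β := by
    conv_lhs => rw [d]
    simp only [mul_add, mul_sub, mul_smul_comm, mul_one, h.p.id, h.pq, l, sl0, mul_neg]
    simp
  have qx : π' * x = ν • π' - star β := by
    conv_lhs => rw [d]
    simp only [mul_add, mul_sub, mul_smul_comm, mul_one, h.q.id, h.qp, l0, sl, mul_neg]
    simp only [smul_zero, add_zero, zero_add, sub_self]; abel
  have U : ∀ a b : A, star b = b → (a * x) * star (b * (x : A)) = a * b := fun a b hb => by
    rw [star_mul, hb, mul_assoc, us']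
  have U1 := U π π h.p.st
  have U2 := U π π' h.q.st
  have U3 := U π' π' h.q.st
  rw [px] at U1 U2; rw [qx] at U2 U3
  simp only [star_add, star_sub, StarLin.star_smul, h.p.st, h.q.st, star_star, add_mul, mul_add,
    mul_sub, sub_mul, smul_mul_assoc, mul_smul_comm, h.p.id, h.q.id, h.pq, l, r, r0, l0, sl0, sr0,
    smul_zero, add_zero, zero_add, smul_smul, sub_zero, zero_sub] at U1 U2 U3
  have bb : β * β = 0 := by rw [← congrArg (β * ·) l, ← mul_assoc, r0, zero_mul]
  have ss : star β * star β = 0 := by rw [← star_mul, bb, star_zero]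
  rw [bb, add_zero] at U2
  have V1 : β * star β = (1 - μ * μ) • π := by rw [sub_smul, one_smul, eq_sub_iff_add_eq', U1]
  have V3 : star β * β = (1 - ν * ν) • π' := by
    rw [sub_smul, one_smul, eq_sub_iff_add_eq', ← sub_neg_eq_add, U3]
  have sq : β = 0 → μ * μ = 1 → ν * ν = 1 → False := fun hb a1 a2 => h1 (eq_one_of_sq hn hxn (by
    ext1
    change (x : A) * x = 1
    rw [d, hb]
    simp only [star_zero, neg_zero, add_zero, mul_add, add_mul, mul_sub, sub_mul, mul_one, one_mul,
      smul_mul_assoc, mul_smul_comm, h.p.id, h.q.id, h.pq, h.qp, smul_zero, smul_smul, a1, a2,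
      one_smul, zero_add, smul_add, smul_sub]
    abel))
  have hb : β ≠ 0 := fun hb => by
    rw [hb, zero_mul] at V1; rw [hb, mul_zero] at V3
    exact sq hb (sub_eq_zero.1 (h.p.inj (V1.symm.trans (zero_smul _ _).symm))).symm
      (sub_eq_zero.1 (h.q.inj (V3.symm.trans (zero_smul _ _).symm))).symm
  have hμν : ν = μ := smul_left_injective F hb (sub_eq_zero.1 U2)
  subst hμν
  have B : Blk π π' x ν β := ⟨l, r, by rw [d, smul_add]; abel⟩
  refine ⟨ν, 1 - ν * ν, β, B, fun hδ => hb ?_, V1, V3⟩
  rw [hδ, zero_smul] at V1 V3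
  have a1 : ν * ν = 1 := (sub_eq_zero.1 hδ).symm
  have hν0 : ν ≠ 0 := fun e => by rw [e, mul_zero] at a1; exact zero_ne_one a1
  have JJ : (β - star β) * (β - star β) = 0 := by
    simp only [mul_sub, sub_mul, bb, ss, V1, V3, sub_self]
  have xx : (x : A) * x = 1 + (2 * ν) • (β - star β) := by
    rw [B.eq]
    simp only [mul_add, add_mul, mul_sub, sub_mul, mul_one, one_mul, smul_add,
      smul_mul_assoc, mul_smul_comm, h.p.id, h.q.id, h.pq, h.qp, smul_zero, smul_smul, a1,
      one_smul, zero_add, add_zero, l, r, l0, r0, sl, sr, sl0, sr0, bb, ss, V1, V3, two_mul,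
      add_smul, smul_sub]
    abel
  have k : ((x : A) * x) ^ n = 1 := by
    rw [← _root_.sq, ← pow_mul, mul_comm, pow_mul, ← SubmonoidClass.coe_pow, hxn]; simp
  rw [xx, one_add_pow (by rw [smul_mul_smul_comm, JJ, smul_zero]), add_eq_left,
    ← Nat.cast_smul_eq_nsmul F, smul_smul, smul_eq_zero] at k
  have k' := k.resolve_left (mul_ne_zero hF (mul_ne_zero h2 hν0))
  have := congrArg (π * ·) k'
  simpa only [mul_sub, l, sl0, sub_zero, mul_zero] using this

omit [StarLin F A] in
theorem contra_one (h : Two F π π') (h2 : (2 : F) ≠ 0) {x β : A} {μ δ : F} (b : Blk π π' x μ β)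
    (hδ : δ ≠ 0) (h1 : β * star β = δ • π) {u : unitary A} (hu : Sup π u)
    (uu : (u : A) * u = 1 - 2 * π)
    (c : x * ((u : A) * x * star (u : A)) = (u : A) * x * star (u : A) * x) : False := by
  have k := b.comm h (b.conj h hu) c
  rw [star_mul, ← mul_assoc, mul_assoc (u : A), h1, smul_mul_assoc, mul_smul_comm] at k
  have k1 := smul_right_injective A hδ k
  have k2 : π * star (u : A) = star (u : A) * π :=
    (Sup.comm h.p.st ((supG π).inv_mem hu) :)
  rw [k2, star_pi h.p uu] at k1
  have k3 : (u : A) * π = 0 := QB.two_cancel h2 k1.symm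
  have := sq_pi h.p uu
  rw [k3, mul_zero] at this
  exact h.p.ne (neg_eq_zero.1 this.symm)

omit [StarLin F A] in
/-- The centre of the corner algebra consists of scalars. -/
theorem QB.scalar {I J : A} (q : QB π I J) (h : Pl F π) (h2 : (2 : F) ≠ 0) {f : A}
    (l : π * f = f) (r : f * π = f) (c1 : f * I = I * f) (c2 : f * J = J * f) :
    ∃ c : F, f = c • π := by
  have d1 : star f * I = I * star f := by
    have := congrArg star c1
    rw [star_mul, star_mul, q.sI, neg_mul, mul_neg, neg_inj] at this; exact this.symm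
  have d2 : star f * J = J * star f := by
    have := congrArg star c2
    rw [star_mul, star_mul, q.sJ, neg_mul, mul_neg, neg_inj] at this; exact this.symm
  have sl : π * star f = star f := by simpa only [star_mul, h.st] using congrArg star r
  have sr : star f * π = star f := by simpa only [star_mul, h.st] using congrArg star l
  obtain ⟨s, hs⟩ : ∃ s, s = f - star f := ⟨_, rfl⟩
  have s0 : star s = -s := by rw [hs, star_sub, star_star, neg_sub]
  have s1 : s * I = I * s := by rw [hs, sub_mul, mul_sub, c1, d1]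
  have s2 : s * J = J * s := by rw [hs, sub_mul, mul_sub, c2, d2]
  have s3 : π * s = s := by rw [hs, mul_sub, l, sl]
  have s4 : s * π = s := by rw [hs, sub_mul, r, sr]
  obtain ⟨t, ht⟩ := h.sc h2 (a := s * I) (by rw [star_mul, q.sI, s0, neg_mul_neg, s1])
  rw [← mul_assoc, s3, mul_assoc, q.rI] at ht
  have e1 : s = -(t • I) := by
    have := congrArg (· * I) ht
    simp only [mul_assoc, q.II, mul_neg, s4, smul_mul_assoc, q.lI] at this
    rw [← this, neg_neg]
  have e2 : t • (I * J) = 0 := by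
    rw [e1, neg_mul, mul_neg, neg_inj, smul_mul_assoc, mul_smul_comm, q.JI, smul_neg] at s2
    exact QB.two_cancel h2 s2
  have e3 : t = 0 := (smul_eq_zero.1 e2).resolve_right fun e => by
    have := q.KK
    rw [e, zero_mul] at this
    exact h.ne (neg_eq_zero.1 this.symm)
  rw [e3, zero_smul, neg_zero] at e1
  obtain ⟨c, hc⟩ := h.sc h2 (a := f) (by rw [e1] at hs; exact (sub_eq_zero.1 hs.symm).symm)
  exact ⟨c, by rw [← hc, l, r]⟩

theorem contra_two (h : Two F π π') (h2 : (2 : F) ≠ 0) {x β : A} {μ δ : F} (b : Blk π π' x μ β)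
    (hδ : δ ≠ 0) (h1 : β * star β = δ • π) (h1' : star β * β = δ • π') {u v w : unitary A}
    (q : QP π u v) (hw : Sup (π + π') w) (cp : π * w = w * π) (c0 : w * x = x * w)
    (c1 : w * ((u : A) * x * star (u : A)) = (u : A) * x * star (u : A) * w)
    (c2 : w * ((v : A) * x * star (v : A)) = (v : A) * x * star (v : A) * w) : w * w = 1 := by
  have cq : π' * w = w * π' := by
    have := hw.comm h.st
    rwa [add_mul, mul_add, cp, add_right_inj] at this
  have k : ∀ {x β : A}, Blk π π' x μ β → w * x = x * w → w * β = β * w := fun {x β} b c => by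
    rw [← b.beta h, ← mul_assoc, ← mul_assoc, ← cp, mul_assoc π, c, mul_assoc, mul_assoc, ← cq]
    simp only [mul_assoc]
  have k0 := k b c0
  have k' : ∀ {u : unitary A}, Sup π u →
      w * ((u : A) * x * star (u : A)) = (u : A) * x * star (u : A) * w →
      (w * π) * (u * π) = (u * π) * (w * π) := fun {u} hu c => by
    have k1 := congrArg (· * star β) (k (b.conj h hu) c)
    simp only [mul_assoc] at k1
    rw [← mul_assoc β, ← k0, mul_assoc, h1, mul_smul_comm, mul_smul_comm, mul_smul_comm,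
      mul_smul_comm] at k1
    have k2 := smul_right_injective A hδ k1
    have cu := hu.comm h.p.st
    rw [mul_assoc, mul_assoc, ← mul_assoc π, ← mul_assoc π, cu, cp, mul_assoc, mul_assoc, h.p.id,
      k2]
  obtain ⟨c, hc⟩ := (q.qb h.p).scalar h.p h2 (f := w * π)
    (by rw [← mul_assoc, cp, mul_assoc, h.p.id]) (by rw [mul_assoc, h.p.id]) (k' q.su c1)
    (k' q.sv c2)
  have cc : c * c = 1 := by
    have : star ((w : A) * π) * (w * π) = π := by rw [star_mul, h.p.st, mul_assoc, su', h.p.id]
    rw [hc, StarLin.star_smul, h.p.st, smul_mul_smul_comm, h.p.id] at this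
    exact h.p.inj (by rw [this, one_smul])
  have hq : (w : A) * π' = c • π' := by
    have k1 : (w : A) * β = c • β := by rw [← b.l, ← mul_assoc, hc, smul_mul_assoc]
    have k2 := congrArg (star β * ·) (k0.symm.trans k1)
    simp only [← mul_assoc, mul_smul_comm, h1', smul_mul_assoc] at k2
    rw [smul_comm, cq] at k2
    exact smul_right_injective A hδ k2
  have d : (w : A) = 1 - (π + π') + c • (π + π') := by
    have := hw.right h.st
    rw [← this, smul_add, ← hc, ← hq]; noncomm_ring
  ext1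
  change (w : A) * w = 1
  rw [d]
  simp only [add_mul, mul_add, mul_sub, sub_mul, smul_mul_assoc, mul_smul_comm, h.p.id, h.q.id,
    h.pq, h.qp, mul_one, one_mul, smul_add, smul_zero, add_zero, zero_add, smul_smul, cc, one_smul,
    smul_sub]
  abel

/-- The involution of `π` centralises every odd `r`-subgroup of `Sp₄` normalised by the quaternion
group, `r` not the characteristic. -/
theorem Two.comm_of_pgroup (h : Two F π π') (h2 : (2 : F) ≠ 0) {u v : unitary A} (q : QP π u v)
    {R : Subgroup (unitary A)} [Finite R] {r : ℕ} [hr : Fact r.Prime] (hr2 : r ≠ 2)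
    (hF : (r : F) ≠ 0) (hR : IsPGroup r R) (hs : R ≤ supG (π + π'))
    (nu : ∀ x ∈ R, u * x * u⁻¹ ∈ R) (nv : ∀ x ∈ R, v * x * v⁻¹ ∈ R) :
    ∀ y ∈ R, u * u * y = y * (u * u) := by
  obtain ⟨z, hz⟩ : ∃ z, z = u * u := ⟨_, rfl⟩
  have hz1 : (z : A) = 1 - 2 * π := by rw [hz]; exact q.uu
  have hzv : z = v * v := Subtype.ext (hz1.trans q.vv.symm)
  have zz : z * z = 1 := Subtype.ext (by
    change (z : A) * z = 1
    rw [hz1]
    simp only [two_mul, mul_sub, sub_mul, mul_add, add_mul, h.p.id, mul_one, one_mul]; abel)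
  have zi : z⁻¹ = z := inv_eq_of_mul_eq_one_right zz
  have nz : ∀ x ∈ R, z * x * z ∈ R := fun x hx => by
    have := nu _ (nu x hx)
    rwa [show u * (u * x * u⁻¹) * u⁻¹ = z * x * z⁻¹ by rw [hz]; group, zi] at this
  have ord : ∀ x ∈ R, ∃ n : ℕ, Odd n ∧ (n : F) ≠ 0 ∧ x ^ n = 1 := fun x hx => by
    obtain ⟨k, hk⟩ := hR ⟨x, hx⟩
    exact ⟨r ^ k, (hr.out.odd_of_ne_two hr2).pow, by exact_mod_cast pow_ne_zero k hF,
      congrArg Subtype.val hk⟩
  rw [← hz]
  by_contra hc
  push Not at hc
  obtain ⟨y, hy, hzy⟩ := hc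
  set I : Set (unitary A) := {x | x ∈ R ∧ z * x * z = x⁻¹} with hI
  have mk : ∀ y ∈ R, y⁻¹ * (z * y * z) ∈ I := fun y hy =>
    ⟨R.mul_mem (R.inv_mem hy) (nz y hy), by
      rw [mul_inv_rev, mul_inv_rev, mul_inv_rev, zi, inv_inv]
      simp only [mul_assoc, zz, mul_one]⟩
  have mk1 : ∀ y : unitary A, y⁻¹ * (z * y * z) = 1 → z * y = y * z := fun y e => by
    rw [inv_mul_eq_one] at e
    conv_rhs => rw [e, mul_assoc, zz, mul_one]
  have cI : ∀ g : unitary A, z = g * g → (∀ x ∈ R, g * x * g⁻¹ ∈ R) → ∀ x ∈ I, g * x * g⁻¹ ∈ I :=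
    fun g hg ng x hx => ⟨ng x hx.1, by
      rw [show z * (g * x * g⁻¹) * z = g * (z * x * z) * g⁻¹ by rw [hg]; group, hx.2]; group⟩
  have blk : ∀ x ∈ I, x ≠ 1 → ∃ (μ δ : F) (β : A),
      Blk π π' x μ β ∧ δ ≠ 0 ∧ β * star β = δ • π ∧ star β * β = δ • π' := fun x hx h1 => by
    obtain ⟨n, n1, n2, n3⟩ := ord x hx.1
    exact h.exists_blk h2 hz1 (hs hx.1) hx.2 n1 n2 n3 h1
  have hN : Subgroup.closure I ≤ R := (Subgroup.closure_le _).2 fun x hx => hx.1
  have x0 : y⁻¹ * (z * y * z) ≠ 1 := fun e => hzy (mk1 y e)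
  have : Finite (Subgroup.closure I) := Finite.of_injective _ (Subgroup.inclusion_injective hN)
  have : Nontrivial (Subgroup.closure I) :=
    ⟨⟨⟨_, Subgroup.subset_closure (mk y hy)⟩, 1, fun e => x0 (congrArg Subtype.val e)⟩⟩
  have := (hR.to_le hN).center_nontrivial
  obtain ⟨⟨⟨w, hw⟩, hwc⟩, hw1⟩ := exists_ne (1 : Subgroup.center (Subgroup.closure I))
  have hw1' : w ≠ 1 := fun e => hw1 (by subst e; rfl)
  have wc : ∀ x ∈ I, w * x = x * w := fun x hx =>
    (congrArg Subtype.val (Subgroup.mem_center_iff.1 hwc ⟨x, Subgroup.subset_closure hx⟩)).symm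
  by_cases hw' : w⁻¹ * (z * w * z) = 1
  · obtain ⟨μ, δ, β, b, hδ, b1, b2⟩ := blk _ (mk y hy) x0
    obtain ⟨n, n1, -, n3⟩ := ord w (hN hw)
    refine hw1' (eq_one_of_sq n1 n3 (contra_two h h2 b hδ b1 b2 q (hs (hN hw)) ?_
      (congrArg Subtype.val (wc _ (mk y hy)) :)
      (congrArg Subtype.val (wc _ (cI u hz nu _ (mk y hy))) :)
      (congrArg Subtype.val (wc _ (cI v hzv nv _ (mk y hy))) :)))
    have e : (z : A) * w = w * z := congrArg Subtype.val (mk1 w hw')
    rw [hz1, sub_mul, mul_sub, one_mul, mul_one, sub_right_inj, two_mul, add_mul, mul_add] at e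
    refine smul_right_injective A h2 ?_
    simpa only [two_smul] using e
  · obtain ⟨μ, δ, β, b, hδ, b1, -⟩ := blk _ (mk w (hN hw)) hw'
    have wc' : ∀ x ∈ I, w⁻¹ * (z * w * z) * x = x * (w⁻¹ * (z * w * z)) := fun x hx => by
      have e1 : Commute w x := wc x hx
      have e2 : Commute (z * w * z) x := by
        have e3 : x = z * x⁻¹ * z := by
          rw [← hx.2]; simp only [← mul_assoc, zz, one_mul]; rw [mul_assoc, zz, mul_one]
        rw [e3]
        have := e1.inv_right.eq
        change z * w * z * (z * x⁻¹ * z) = z * x⁻¹ * z * (z * w * z)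
        simp only [mul_assoc]
        rw [← mul_assoc z z, ← mul_assoc z z, zz, one_mul, one_mul, ← mul_assoc w, this, mul_assoc]
      exact (e1.inv_left.mul_left e2).eq
    exact contra_one h h2 b hδ b1 q.su q.uu
      (congrArg Subtype.val (wc' _ (cI u hz nu _ (mk w (hN hw)))) :)

end Cfsg.Agent.Cl.Pln
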