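import Mathlib
import Cfsg.Agent.Cl.PlnAlg
import Cfsg.Agent.Cl.ProTwo
import Cfsg.Agent.Inv.QuatAut
import Cfsg.Agent.GT.TransferSL23
import Cfsg.Agent.GT.MinNormal
import Cfsg.Agent.S0950
import Cfsg.Agent.S0205

/-! The group of norm one quaternions over a finite field of odd order and its `2`-subgroups. -/

set_option autoImplicit false

namespace Cfsg.Agent.Cl.Pln

open Subgroup
open scoped Quaternion

variable {F : Type*} [Field F]

theorem unit_iff {x : ℍ[F]} :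
    x ∈ unitary ℍ[F] ↔ x.re ^ 2 + x.imI ^ 2 + x.imJ ^ 2 + x.imK ^ 2 = 1 := by
  rw [Unitary.mem_iff, Quaternion.star_mul_self, Quaternion.self_mul_star, and_self,
    ← Quaternion.coe_one, Quaternion.coe_inj, Quaternion.normSq_def']

variable (F) in
/-- The quaternion `i`. -/
def uI : unitary ℍ[F] := ⟨⟨0, 1, 0, 0⟩, unit_iff.2 (by simp)⟩
variable (F) in
/-- The quaternion `j`. -/
def uJ : unitary ℍ[F] := ⟨⟨0, 0, 1, 0⟩, unit_iff.2 (by simp)⟩
variable (F) in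
/-- The quaternion `k`. -/
def uK : unitary ℍ[F] := ⟨⟨0, 0, 0, 1⟩, unit_iff.2 (by simp)⟩
/-- The quaternion `(-1 + i + j + k) / 2`. -/
def uW (h2 : (2 : F) ≠ 0) : unitary ℍ[F] :=
  ⟨⟨-2⁻¹, 2⁻¹, 2⁻¹, 2⁻¹⟩, unit_iff.2 (by field_simp; norm_num)⟩

@[simp] theorem uI_re : ((uI F : unitary ℍ[F]) : ℍ[F]).re = 0 := rfl
@[simp] theorem uI_imI : ((uI F : unitary ℍ[F]) : ℍ[F]).imI = 1 := rfl
@[simp] theorem uI_imJ : ((uI F : unitary ℍ[F]) : ℍ[F]).imJ = 0 := rfl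
@[simp] theorem uI_imK : ((uI F : unitary ℍ[F]) : ℍ[F]).imK = 0 := rfl
@[simp] theorem uJ_re : ((uJ F : unitary ℍ[F]) : ℍ[F]).re = 0 := rfl
@[simp] theorem uJ_imI : ((uJ F : unitary ℍ[F]) : ℍ[F]).imI = 0 := rfl
@[simp] theorem uJ_imJ : ((uJ F : unitary ℍ[F]) : ℍ[F]).imJ = 1 := rfl
@[simp] theorem uJ_imK : ((uJ F : unitary ℍ[F]) : ℍ[F]).imK = 0 := rfl
@[simp] theorem uK_re : ((uK F : unitary ℍ[F]) : ℍ[F]).re = 0 := rfl
@[simp] theorem uK_imI : ((uK F : unitary ℍ[F]) : ℍ[F]).imI = 0 := rfl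
@[simp] theorem uK_imJ : ((uK F : unitary ℍ[F]) : ℍ[F]).imJ = 0 := rfl
@[simp] theorem uK_imK : ((uK F : unitary ℍ[F]) : ℍ[F]).imK = 1 := rfl
@[simp] theorem uW_re (h2 : (2 : F) ≠ 0) : ((uW h2 : unitary ℍ[F]) : ℍ[F]).re = -2⁻¹ := rfl
@[simp] theorem uW_imI (h2 : (2 : F) ≠ 0) : ((uW h2 : unitary ℍ[F]) : ℍ[F]).imI = 2⁻¹ := rfl
@[simp] theorem uW_imJ (h2 : (2 : F) ≠ 0) : ((uW h2 : unitary ℍ[F]) : ℍ[F]).imJ = 2⁻¹ := rfl
@[simp] theorem uW_imK (h2 : (2 : F) ≠ 0) : ((uW h2 : unitary ℍ[F]) : ℍ[F]).imK = 2⁻¹ := rfl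

attribute [local simp] Unitary.coe_neg

theorem uext {x y : unitary ℍ[F]} (h1 : x.1.re = y.1.re) (h2 : x.1.imI = y.1.imI)
    (h3 : x.1.imJ = y.1.imJ) (h4 : x.1.imK = y.1.imK) : x = y :=
  Subtype.ext (Quaternion.ext _ _ h1 h2 h3 h4)

theorem II : uI F * uI F = -1 := by apply uext <;> simp
theorem JJ : uJ F * uJ F = -1 := by apply uext <;> simp
theorem KK : uK F * uK F = -1 := by apply uext <;> simp
theorem IJ : uI F * uJ F = uK F := by apply uext <;> simp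
theorem JI : uJ F * uI F = -uK F := by apply uext <;> simp
theorem JK : uJ F * uK F = uI F := by apply uext <;> simp
theorem KI : uK F * uI F = uJ F := by apply uext <;> simp
theorem IK : uI F * uK F = -uJ F := by apply uext <;> simp
theorem KJ : uK F * uJ F = -uI F := by apply uext <;> simp
theorem WI (h2 : (2 : F) ≠ 0) : uW h2 * uI F = uK F * uW h2 := by apply uext <;> simp
theorem WJ (h2 : (2 : F) ≠ 0) : uW h2 * uJ F = uI F * uW h2 := by apply uext <;> simp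
theorem WK (h2 : (2 : F) ≠ 0) : uW h2 * uK F = uJ F * uW h2 := by apply uext <;> simp
theorem WWW (h2 : (2 : F) ≠ 0) : uW h2 * uW h2 * uW h2 = 1 := by
  apply uext <;> simp <;> field_simp <;> norm_num

theorem ne_neg (h2 : (2 : F) ≠ 0) (x : unitary ℍ[F]) : x ≠ -x := fun h => by
  have h1 : (1 : unitary ℍ[F]) = -1 := mul_right_cancel (b := x) (by rw [one_mul, neg_one_mul, ← h])
  have := congrArg (fun y : unitary ℍ[F] => y.1.re) h1
  simp only [OneMemClass.coe_one, Quaternion.re_one, Unitary.coe_neg, Quaternion.re_neg] at this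
  exact h2 (by linear_combination this)

/-- `x` maps the axis of `a` to the axis of `b`. -/
def Ax (a b x : unitary ℍ[F]) : Prop := x * a = b * x ∨ x * a = -(b * x)

theorem Ax.mul {a b a' b' x : unitary ℍ[F]} (h : Ax a b x) (h' : Ax a' b' x) :
    Ax (a * a') (b * b') x := by
  rcases h with h | h <;> rcases h' with h' | h' <;>
    simp [Ax, ← mul_assoc, h] <;> simp [mul_assoc, h']

theorem Ax.comp {a b c x y : unitary ℍ[F]} (h : Ax a b x) (h' : Ax b c y) : Ax a c (y * x) := by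
  rcases h with h | h <;> rcases h' with h' | h' <;>
    simp [Ax, mul_assoc, h] <;> simp [← mul_assoc, h']

theorem Ax.inv {a b x : unitary ℍ[F]} (h : Ax a b x) : Ax b a x⁻¹ := by
  rcases h with h | h
  · left; rw [inv_mul_eq_iff_eq_mul, ← mul_assoc, h, mul_inv_cancel_right]
  · right; rw [inv_mul_eq_iff_eq_mul, mul_neg, ← mul_assoc, h]; simp

theorem Ax.neg_right {a b x : unitary ℍ[F]} (h : Ax a (-b) x) : Ax a b x := by
  rcases h with h | h <;> simp [Ax, h]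

theorem Ax.neg_left {a b x : unitary ℍ[F]} (h : Ax (-a) b x) : Ax a b x := by
  rcases h with h | h
  · right; rw [← h]; simp
  · left; simpa using h

/-- The stabiliser of an axis. -/
def axG (a : unitary ℍ[F]) : Subgroup (unitary ℍ[F]) where
  carrier := {x | Ax a a x}
  one_mem' := Or.inl (by simp)
  mul_mem' := fun h h' => Ax.comp h' h
  inv_mem' := Ax.inv

theorem ax_conj {a b g y : unitary ℍ[F]} (h : Ax a b g) (hy : y ∈ axG a) : g * y * g⁻¹ ∈ axG b := by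
  rw [mul_assoc]; exact Ax.comp (Ax.comp h.inv hy) h

variable (F) in
/-- The quaternion group. -/
def Q8 : Subgroup (unitary ℍ[F]) := axG (uI F) ⊓ axG (uJ F)

theorem Q8_IJ {x : unitary ℍ[F]} (h : x ∈ Q8 F) : x ∈ axG (uK F) := IJ (F := F) ▸ Ax.mul h.1 h.2
theorem Q8_JK {x : unitary ℍ[F]} (h : x ∈ axG (uJ F)) (h' : x ∈ axG (uK F)) : x ∈ Q8 F :=
  ⟨JK (F := F) ▸ Ax.mul h h', h⟩
theorem Q8_KI {x : unitary ℍ[F]} (h : x ∈ axG (uK F)) (h' : x ∈ axG (uI F)) : x ∈ Q8 F :=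
  ⟨h', KI (F := F) ▸ Ax.mul h h'⟩

theorem I_mem : uI F ∈ Q8 F := ⟨Or.inl rfl, Or.inr (by rw [IJ, JI, neg_neg])⟩
theorem J_mem : uJ F ∈ Q8 F := ⟨Or.inr (by rw [IJ, JI]), Or.inl rfl⟩
theorem K_mem : uK F ∈ Q8 F := IJ (F := F) ▸ (Q8 F).mul_mem I_mem J_mem
theorem neg_mem_Q8 {x : unitary ℍ[F]} (h : x ∈ Q8 F) : -x ∈ Q8 F := by
  rw [← neg_one_mul, ← II]; exact (Q8 F).mul_mem ((Q8 F).mul_mem I_mem I_mem) h

theorem two_eq (h2 : (2 : F) ≠ 0) {a : F} (h : a = -a) : a = 0 :=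
  (mul_eq_zero.1 (by linear_combination h : 2 * a = 0)).resolve_left h2

theorem comm_I (h2 : (2 : F) ≠ 0) {x : unitary ℍ[F]} (h : x * uI F = uI F * x) :
    x.1.imJ = 0 ∧ x.1.imK = 0 := by
  have h1 := congrArg (fun y : unitary ℍ[F] => y.1.imJ) h
  have h3 := congrArg (fun y : unitary ℍ[F] => y.1.imK) h
  simp at h1 h3
  exact ⟨two_eq h2 h3.symm, two_eq h2 h1⟩

theorem anti_I (h2 : (2 : F) ≠ 0) {x : unitary ℍ[F]} (h : x * uI F = -(uI F * x)) :
    x.1.re = 0 ∧ x.1.imI = 0 := by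
  have h1 := congrArg (fun y : unitary ℍ[F] => y.1.re) h
  have h3 := congrArg (fun y : unitary ℍ[F] => y.1.imI) h
  simp at h1 h3
  exact ⟨two_eq h2 h3, two_eq h2 h1.symm⟩

theorem comm_J (h2 : (2 : F) ≠ 0) {x : unitary ℍ[F]} (h : x * uJ F = uJ F * x) :
    x.1.imI = 0 ∧ x.1.imK = 0 := by
  have h1 := congrArg (fun y : unitary ℍ[F] => y.1.imI) h
  have h3 := congrArg (fun y : unitary ℍ[F] => y.1.imK) h
  simp at h1 h3
  exact ⟨two_eq h2 h3, two_eq h2 h1.symm⟩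

theorem anti_J (h2 : (2 : F) ≠ 0) {x : unitary ℍ[F]} (h : x * uJ F = -(uJ F * x)) :
    x.1.re = 0 ∧ x.1.imJ = 0 := by
  have h1 := congrArg (fun y : unitary ℍ[F] => y.1.re) h
  have h3 := congrArg (fun y : unitary ℍ[F] => y.1.imJ) h
  simp at h1 h3
  exact ⟨two_eq h2 h3, two_eq h2 h1.symm⟩

theorem pm_one {x : unitary ℍ[F]} (h1 : x.1.imI = 0) (h2 : x.1.imJ = 0) (h3 : x.1.imK = 0) :
    x = 1 ∨ x = -1 := by
  have n := unit_iff.1 x.2
  rw [h1, h2, h3] at n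
  rcases sq_eq_one_iff_of_ne_zero_or.1 (by linear_combination n : x.1.re ^ 2 = 1) with h | h
  · left; apply uext <;> simp [*]
  · right; apply uext <;> simp [*]
where sq_eq_one_iff_of_ne_zero_or {a : F} : a ^ 2 = 1 ↔ a = 1 ∨ a = -1 := sq_eq_one_iff

theorem pm_of_comm (h2 : (2 : F) ≠ 0) {x : unitary ℍ[F]} (h : x * uI F = uI F * x)
    (h' : x * uJ F = uJ F * x) : x = 1 ∨ x = -1 :=
  pm_one (comm_J h2 h').1 (comm_I h2 h).1 (comm_I h2 h).2

theorem pm_of_sq (h2 : (2 : F) ≠ 0) {x : unitary ℍ[F]} (h : x * x = 1) : x = 1 ∨ x = -1 := by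
  have e : star x.1 = x.1 := congrArg Subtype.val (inv_eq_of_mul_eq_one_right h)
  refine pm_one (two_eq h2 ?_) (two_eq h2 ?_) (two_eq h2 ?_)
  · simpa using (congrArg (·.imI) e).symm
  · simpa using (congrArg (·.imJ) e).symm
  · simpa using (congrArg (·.imK) e).symm

theorem Q8_cases (h2 : (2 : F) ≠ 0) {x : unitary ℍ[F]} (h : x ∈ Q8 F) :
    (x = 1 ∨ x = -1) ∨ (x = uI F ∨ x = -uI F) ∨ (x = uJ F ∨ x = -uJ F) ∨
      (x = uK F ∨ x = -uK F) := by
  have k : ∀ a : unitary ℍ[F], a * a = -1 → (x * a = 1 ∨ x * a = -1) → x = a ∨ x = -a :=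
    fun a ha h => by
      rcases h with h | h
      · right; exact mul_right_cancel (b := a) (by rw [h, neg_mul, ha, neg_neg])
      · left; exact mul_right_cancel (b := a) (by rw [h, ha])
  rcases h with ⟨h | h, h' | h'⟩
  · exact Or.inl (pm_of_comm h2 h h')
  · refine Or.inr (Or.inl (k _ II (pm_one ?_ ?_ ?_))) <;>
      simp [comm_I h2 h, anti_J h2 h']
  · refine Or.inr (Or.inr (Or.inl (k _ JJ (pm_one ?_ ?_ ?_)))) <;>
      simp [anti_I h2 h, comm_J h2 h']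
  · refine Or.inr (Or.inr (Or.inr (k _ KK (pm_one ?_ ?_ ?_)))) <;>
      simp [anti_I h2 h, anti_J h2 h']

theorem Q8_pow (h2 : (2 : F) ≠ 0) {x : unitary ℍ[F]} (h : x ∈ Q8 F) : x ^ 2 ^ 2 = 1 := by
  have : x * x = 1 ∨ x * x = -1 := by
    rcases Q8_cases h2 h with (h | h) | (h | h) | (h | h) | (h | h) <;> simp [h, II, JJ, KK]
  rw [show 2 ^ 2 = 2 * 2 from rfl, pow_mul, sq, sq]
  rcases this with h | h <;> simp [h]

theorem Q8_pgroup (h2 : (2 : F) ≠ 0) : IsPGroup 2 (Q8 F) := fun x =>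
  ⟨2, Subtype.ext (Q8_pow h2 x.2)⟩

theorem ax_of_norm (h2 : (2 : F) ≠ 0) {x a : unitary ℍ[F]}
    (hx : x ∈ normalizer (Q8 F : Set (unitary ℍ[F]))) (ha : a ∈ Q8 F) (aa : a * a = -1) :
    Ax a (uI F) x ∨ Ax a (uJ F) x ∨ Ax a (uK F) x := by
  have h := (mem_normalizer_iff.1 hx a).1 ha
  have k : ∀ b, x * a * x⁻¹ = b ∨ x * a * x⁻¹ = -b → Ax a b x := fun b h =>
    h.imp (fun h => by rw [← h, inv_mul_cancel_right]) fun h => by
      rw [← neg_mul, ← h, inv_mul_cancel_right]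
  rcases Q8_cases h2 h with h | h | h | h
  · exfalso
    have : x * a * x⁻¹ * (x * a * x⁻¹) = -1 := by
      rw [show x * a * x⁻¹ * (x * a * x⁻¹) = x * (a * a) * x⁻¹ by group, aa]; simp
    rcases h with h | h <;> rw [h] at this <;> exact ne_neg h2 1 (by simpa using this)
  exacts [Or.inl (k _ h), Or.inr (Or.inl (k _ h)), Or.inr (Or.inr (k _ h))]

variable [Finite F]

instance finite_unit : Finite (unitary ℍ[F]) := by
  have : Finite ℍ[F] := Module.finite_of_finite F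
  infer_instance

theorem W_norm (h2 : (2 : F) ≠ 0) : uW h2 ∈ normalizer (Q8 F : Set (unitary ℍ[F])) :=
  mem_normalizer_fintype fun _ hn =>
    ⟨ax_conj (Or.inl (WJ h2)) hn.2, ax_conj (Or.inl (WK h2)) (Q8_IJ hn)⟩

omit [Finite F] in
theorem W_not_mem (h2 : (2 : F) ≠ 0) {k : ℕ} : uW h2 ^ 2 ^ k ≠ 1 := fun h => by
  have h3 : uW h2 ^ 3 = 1 := by rw [pow_three', WWW]
  have := pow_gcd_eq_one.2 ⟨h3, h⟩
  rw [Nat.Coprime.gcd_eq_one (Nat.Coprime.pow_right k (by decide)), pow_one] at this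
  have := congrArg (fun y : unitary ℍ[F] => y.1.imI) this
  simp [h2] at this

omit [Finite F] in
theorem mem_of_fix (h2 : (2 : F) ≠ 0) {P : Sylow 2 (unitary ℍ[F])} (hP : P.1 = Q8 F)
    {x : unitary ℍ[F]} (hx : x ∈ normalizer (Q8 F : Set (unitary ℍ[F]))) (h : x ∈ axG (uI F)) :
    x ∈ Q8 F := by
  rcases ax_of_norm h2 hx J_mem JJ with h' | h' | h'
  · have e := (h'.comp (Ax.inv h))
    rw [inv_mul_cancel] at e
    exfalso
    rcases e with e | e <;> simpa using congrArg (fun y : unitary ℍ[F] => y.1.imJ) e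
  · exact ⟨h, h'⟩
  · have h1 : Ax (uK F) (uJ F) x := by
      have := Ax.mul h h'
      rw [IJ, IK] at this; exact this.neg_right
    have h3 : x * x ∈ Q8 F := ⟨(axG _).mul_mem h h, h'.comp h1⟩
    rw [← hP] at hx ⊢
    exact Pro.mem_sylow_of_pow P hx (k := 3) (by rw [← Q8_pow h2 h3, ← sq, ← pow_mul]; rfl)

theorem norm_cases (h2 : (2 : F) ≠ 0) {P : Sylow 2 (unitary ℍ[F])} (hP : P.1 = Q8 F)
    {x : unitary ℍ[F]} (hx : x ∈ normalizer (Q8 F : Set (unitary ℍ[F]))) :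
    x ∈ Q8 F ∨ uW h2 * x ∈ Q8 F ∨ (uW h2)⁻¹ * x ∈ Q8 F := by
  rcases ax_of_norm h2 hx I_mem II with h | h | h
  · exact Or.inl (mem_of_fix h2 hP hx h)
  · exact Or.inr (Or.inl (mem_of_fix h2 hP (mul_mem (W_norm h2) hx) (h.comp (Or.inl (WJ h2)))))
  · exact Or.inr (Or.inr (mem_of_fix h2 hP (mul_mem (inv_mem (W_norm h2)) hx)
      (h.comp (Ax.inv (Or.inl (WI h2))))))

theorem comm_of_cases {G : Type*} [Group G] {Q : Subgroup G} {w : G}
    (hw : w ∈ normalizer (Q : Set G))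
    (h : ∀ x ∈ normalizer (Q : Set G), x ∈ Q ∨ w * x ∈ Q ∨ w⁻¹ * x ∈ Q) {x y : G}
    (hx : x ∈ normalizer (Q : Set G)) (hy : y ∈ normalizer (Q : Set G)) : x * y * x⁻¹ * y⁻¹ ∈ Q := by
  let N := normalizer (Q : Set G)
  let f := QuotientGroup.mk' (Q.subgroupOf N)
  have k : ∀ x : N, f x ∈ zpowers (f ⟨_, hw⟩) := fun x => by
    have e : ∀ x : N, x.1 ∈ Q → f x = 1 := fun x hx => (QuotientGroup.eq_one_iff x).2 hx
    rcases h _ x.2 with h | h | h
    · rw [e x h]; exact one_mem _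
    · have := e (⟨_, hw⟩ * x) h
      rw [map_mul, mul_eq_one_iff_inv_eq] at this
      rw [← this]; exact inv_mem (mem_zpowers _)
    · have := e (⟨_, hw⟩⁻¹ * x) h
      rw [map_mul, map_inv, inv_mul_eq_one] at this
      rw [← this]; exact mem_zpowers _
  obtain ⟨a, ha⟩ := k ⟨x, hx⟩
  obtain ⟨b, hb⟩ := k ⟨y, hy⟩
  have : f (⟨x, hx⟩ * ⟨y, hy⟩ * ⟨x, hx⟩⁻¹ * ⟨y, hy⟩⁻¹) = 1 := by
    simp only [map_mul, map_inv, ← ha, ← hb]; group
  exact (QuotientGroup.eq_one_iff (N := Q.subgroupOf N) _).1 this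

theorem norm_comm (h2 : (2 : F) ≠ 0) {P : Sylow 2 (unitary ℍ[F])} (hP : P.1 = Q8 F)
    {x y : unitary ℍ[F]} (hx : x ∈ normalizer (Q8 F : Set (unitary ℍ[F])))
    (hy : y ∈ normalizer (Q8 F : Set (unitary ℍ[F]))) : x * y * x⁻¹ * y⁻¹ ∈ Q8 F :=
  comm_of_cases (W_norm h2) (fun _ h => norm_cases h2 hP h) hx hy

omit [Finite F] in
theorem pow_of_aut (h2 : (2 : F) ≠ 0) {T : Subgroup (unitary ℍ[F])} (hQ : Q8 F ≤ T)
    (hA : IsPGroup 2 (MulAut T)) {x : unitary ℍ[F]} (hx : x ∈ normalizer (T : Set (unitary ℍ[F]))) :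
    ∃ k, x ^ 2 ^ k = 1 := by
  obtain ⟨k, hk⟩ := hA (T.normalizerMonoidHom ⟨x, hx⟩)
  rw [← map_pow] at hk
  have c : ∀ a ∈ T, x ^ 2 ^ k * a = a * x ^ 2 ^ k := fun a ha => by
    have := congrArg (fun φ : MulAut T => (φ ⟨a, ha⟩ : unitary ℍ[F])) hk
    exact mul_inv_eq_iff_eq_mul.1 this
  refine ⟨k + 1, ?_⟩
  rw [pow_succ, pow_mul]
  rcases pm_of_comm h2 (c _ (hQ I_mem)) (c _ (hQ J_mem)) with h | h <;> simp [h]

theorem aut_or (h2 : (2 : F) ≠ 0) {T : Subgroup (unitary ℍ[F])} (hT : IsPGroup 2 T) :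
    IsPGroup 2 (MulAut T) ∨ Nonempty (T ≃* QuaternionGroup 2) := by
  refine Inv.QA.isPGroup_mulAut_or_quaternion hT
    (GT.Tr.pRankLE_one_of_unique_involution fun a b ha hb => ?_)
  have k : ∀ a : T, orderOf a = 2 → a.1 = -1 := fun a ha =>
    (pm_of_sq h2 (by
      have := congrArg Subtype.val (ha ▸ pow_orderOf_eq_one a)
      rwa [sq] at this)).resolve_left fun h => by
      rw [show a = 1 from Subtype.ext h, orderOf_one] at ha; exact absurd ha (by decide)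
  exact Subtype.ext ((k a ha).trans (k b hb).symm)

theorem Q8_equiv (h2 : (2 : F) ≠ 0) : Nonempty (Q8 F ≃* QuaternionGroup 2) :=
  (aut_or h2 (Q8_pgroup h2)).resolve_left fun h => by
    obtain ⟨k, hk⟩ := pow_of_aut h2 le_rfl h (W_norm h2)
    exact W_not_mem h2 hk

theorem sylow_cases (h2 : (2 : F) ≠ 0) (P : Sylow 2 (unitary ℍ[F])) (hQ : Q8 F ≤ P.1) :
    P.1 = Q8 F ∨ normalizer (P.1 : Set (unitary ℍ[F])) ≤ P.1 := by
  rcases aut_or h2 P.2 with h | ⟨⟨e⟩⟩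
  · refine Or.inr fun x hx => ?_
    obtain ⟨k, hk⟩ := pow_of_aut h2 hQ h hx
    exact Pro.mem_sylow_of_pow P hx hk
  · obtain ⟨e'⟩ := Q8_equiv h2
    exact Or.inl (eq_of_le_of_card_ge hQ (Nat.card_congr (e.trans e'.symm).toEquiv).le).symm

omit [Finite F] in
theorem ax_of_comm (h2 : (2 : F) ≠ 0) {w a l : unitary ℍ[F]} {s t : F} (ht : t ≠ 0)
    (hw : w.1 = (s : ℍ[F]) + t • a.1) (ha : a = uI F ∨ a = uJ F ∨ a = uK F)
    (h : l * w * l⁻¹ * w = w * (l * w * l⁻¹)) : l ∈ axG a := by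
  have aa : a * a = -1 := by rcases ha with rfl | rfl | rfl; exacts [II, JJ, KK]
  obtain ⟨b, hb⟩ : ∃ b, b = l * a * l⁻¹ := ⟨_, rfl⟩
  have bb : b * b = -1 := by
    rw [hb, show l * a * l⁻¹ * (l * a * l⁻¹) = l * (a * a) * l⁻¹ by group, aa]; simp
  have e : (l * w * l⁻¹).1 = (s : ℍ[F]) + t • b.1 := by
    rw [hb]
    simp only [Submonoid.coe_mul, hw, mul_add, add_mul, mul_smul_comm, smul_mul_assoc]
    rw [← Quaternion.coe_commutes, mul_assoc, coe_inv', us, mul_one]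
  have c : b * a = a * b := by
    have : (l * w * l⁻¹).1 * w.1 = w.1 * (l * w * l⁻¹).1 := congrArg Subtype.val h
    rw [e, hw] at this
    simp only [mul_add, add_mul, mul_smul_comm, smul_mul_assoc,
      Quaternion.coe_commutes s] at this
    refine Subtype.ext (smul_right_injective _ (mul_ne_zero ht ht) ?_)
    simp only [Submonoid.coe_mul]
    rw [← sub_eq_zero] at this ⊢
    rw [← this, smul_add, smul_add, mul_smul, mul_smul]; abel
  have sq : b * a * (b * a) = 1 := by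
    rw [mul_assoc, ← mul_assoc a, ← c, mul_assoc, aa, ← mul_assoc, bb]; simp
  rcases pm_of_sq h2 sq with h | h
  · right
    have : b = -a := mul_right_cancel (b := a) (by rw [h, neg_mul, aa, neg_neg])
    rw [← neg_mul, ← this, hb, inv_mul_cancel_right]
  · left
    have : b = a := mul_right_cancel (b := a) (by rw [h, aa])
    conv_rhs => rw [← this, hb, inv_mul_cancel_right]

theorem le_ax (h2 : (2 : F) ≠ 0) {P : Sylow 2 (unitary ℍ[F])} (hP : P.1 = Q8 F)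
    {L : Subgroup (unitary ℍ[F])} (hQ : Q8 F ≤ L) (hW : uW h2 ∉ L) :
    L ≤ axG (uI F) ∨ L ≤ axG (uJ F) ∨ L ≤ axG (uK F) := by
  let S : Sylow 2 L := P.subtype (hP ▸ hQ)
  have hS : ∀ x : L, x ∈ S.1 ↔ x.1 ∈ Q8 F := fun x => by rw [← hP]; rfl
  obtain ⟨e⟩ := Q8_equiv h2
  have e' : S.1 ≃* QuaternionGroup 2 :=
    ((subgroupOfEquivOfLe (hP ▸ hQ : P.1 ≤ L)).trans (MulEquiv.subgroupCongr hP)).trans e
  have o4 : ∀ a : L, a.1 * a.1 = -1 → Nat.card (zpowers a) = 4 := fun a ha => by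
    rw [Nat.card_zpowers, ← orderOf_coe]
    exact orderOf_eq_prime_pow (p := 2) (n := 1) (by
      rw [pow_one, sq, ha]; exact (ne_neg h2 1).symm) (by
      rw [show 2 ^ (1 + 1) = 2 * 2 from rfl, pow_mul, sq, sq, ha]; simp)
  obtain ⟨N, hN, hc⟩ : ∃ N : Subgroup L, N.Normal ∧ N.IsComplement' S.1 := by
    by_contra hh
    push Not at hh
    obtain ⟨n, hn, h⟩ := S0950.result S e' hh (zpowers ⟨_, hQ I_mem⟩) (zpowers ⟨_, hQ J_mem⟩)
      (zpowers_le.2 ((hS _).2 I_mem)) (zpowers_le.2 ((hS _).2 J_mem)) (o4 _ II) (o4 _ JJ)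
    have n1 : n.1 ∈ normalizer (Q8 F : Set (unitary ℍ[F])) := mem_normalizer_fintype fun x hx =>
      (hS _).1 ((mem_normalizer_iff.1 hn ⟨x, hQ hx⟩).1 ((hS _).2 hx))
    have n2 : n.1 ∈ Q8 F := by
      rcases norm_cases h2 hP n1 with h | h | h
      · exact h
      · exact absurd ((mul_mem_cancel_right n.2).1 (hQ h)) hW
      · exact absurd (inv_mem_iff.1 ((mul_mem_cancel_right n.2).1 (hQ h))) hW
    obtain ⟨_, ⟨k, rfl⟩, hk⟩ := h ▸ mem_zpowers (⟨_, hQ J_mem⟩ : L)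
    have h1 : n.1 * uI F ^ k * n.1⁻¹ = uJ F := congrArg Subtype.val hk
    have h3 : Commute (n.1 * uI F * n.1⁻¹) (uJ F) := by
      rw [← h1, ← conj_zpow]; exact (Commute.refl _).zpow_right k
    have h4 : Commute (uI F) (uJ F) := by
      rcases n2.1 with h | h <;> rw [h] at h3
      · rwa [mul_inv_cancel_right] at h3
      · rw [neg_mul, mul_inv_cancel_right] at h3; simpa using h3.neg_left
    exact ne_neg h2 _ (by rw [← JI, ← h4.eq, IJ])
  have odd : Odd (Nat.card N) := by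
    rw [← hc.index_eq_card, ← Nat.not_even_iff_odd, even_iff_two_dvd]; exact S.not_dvd_index
  by_cases hb : N = ⊥
  · subst hb
    exact Or.inl fun x hx => ((hS ⟨x, hx⟩).1 (by
      rw [isComplement'_bot_left.1 hc]; exact mem_top _)).1
  obtain ⟨M, hM, hMN⟩ := GT.exists_isMinInv_le (M := ⊤) (le_normalizer_of_normal (H := N)) hb
  have := S0205.result odd
  have := GT.isSolvable_of_le hMN
  obtain ⟨p, -, hE⟩ := hM.elementary
  obtain ⟨⟨w, hw⟩, hw1⟩ := ne_bot_iff_exists_ne_one.1 hM.2.1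
  have cm : ∀ l ∈ L, l * w.1 * l⁻¹ * w.1 = w.1 * (l * w.1 * l⁻¹) := fun l hl =>
    congrArg (fun x : M => x.1.1) (hE.1.1.1
      ⟨_, (mem_normalizer_iff.1 (hM.1 (mem_top (⟨l, hl⟩ : L))) w).1 hw⟩ ⟨w, hw⟩)
  have c1 := cm _ (hQ I_mem)
  have c2 := cm _ (hQ J_mem)
  have d1 := congrArg (fun y : unitary ℍ[F] => y.1.imJ) c1
  have d2 := congrArg (fun y : unitary ℍ[F] => y.1.imK) c1
  have d3 := congrArg (fun y : unitary ℍ[F] => y.1.imI) c2
  simp only [Submonoid.coe_mul, coe_inv'] at d1 d2 d3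
  simp at d1 d2 d3
  have four : (2 : F) * 2 ≠ 0 := mul_ne_zero h2 h2
  have e1 : w.1.1.imI * w.1.1.imK = 0 := mul_left_cancel₀ four (by linear_combination -d1)
  have e2 : w.1.1.imI * w.1.1.imJ = 0 := mul_left_cancel₀ four (by linear_combination d2)
  have e3 : w.1.1.imJ * w.1.1.imK = 0 := mul_left_cancel₀ four (by linear_combination d3)
  by_cases a1 : w.1.1.imI ≠ 0
  · refine Or.inl fun l hl => ax_of_comm h2 (s := w.1.1.re) a1 ?_ (Or.inl rfl) (cm l hl)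
    ext <;> simp [(mul_eq_zero.1 e1).resolve_left a1, (mul_eq_zero.1 e2).resolve_left a1]
  rw [not_not] at a1
  by_cases a2 : w.1.1.imJ ≠ 0
  · refine Or.inr (Or.inl fun l hl =>
      ax_of_comm h2 (s := w.1.1.re) a2 ?_ (Or.inr (Or.inl rfl)) (cm l hl))
    ext <;> simp [(mul_eq_zero.1 e3).resolve_left a2, a1]
  rw [not_not] at a2
  by_cases a3 : w.1.1.imK ≠ 0
  · refine Or.inr (Or.inr fun l hl =>
      ax_of_comm h2 (s := w.1.1.re) a3 ?_ (Or.inr (Or.inr rfl)) (cm l hl))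
    ext <;> simp [a2, a1]
  rw [not_not] at a3
  exfalso
  have ww : w * w = 1 := Subtype.ext (by
    rcases pm_one a1 a2 a3 with h | h <;> simp [h])
  have ow : Odd (orderOf w) := odd.of_dvd_nat (orderOf_dvd_natCard _ (hMN hw))
  obtain ⟨k, hk⟩ := ow
  have := pow_orderOf_eq_one w
  rw [hk, pow_succ, pow_mul, sq, ww, one_pow, one_mul] at this
  exact hw1 (Subtype.ext this)

theorem mem_Q8_of_conj (h2 : (2 : F) ≠ 0) {P : Sylow 2 (unitary ℍ[F])} (hP : P.1 = Q8 F)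
    {L : Subgroup (unitary ℍ[F])} (hQ : Q8 F ≤ L) (hW : uW h2 ∉ L) {u k : unitary ℍ[F]}
    (hu : u ∈ normalizer (Q8 F : Set (unitary ℍ[F]))) (hu' : u ∉ Q8 F) (hk : k ∈ L)
    (hk' : u * k * u⁻¹ ∈ L) : k ∈ Q8 F := by
  have I1 : Ax (uI F) (uK F) (uW h2) := Or.inl (WI h2)
  have I2 : Ax (uJ F) (uI F) (uW h2) := Or.inl (WJ h2)
  have I3 : Ax (uK F) (uJ F) (uW h2) := Or.inl (WK h2)
  have e : k = u⁻¹ * (u * k * u⁻¹) * u⁻¹⁻¹ := by group
  have k1 : ∀ {a b w : unitary ℍ[F]}, Ax a b w → w * u ∈ axG b → L ≤ axG a → k ∈ axG b :=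
    fun {a b w} h h' hL => by
      rw [e]
      refine ax_conj ?_ (hL hk')
      rw [show u⁻¹ = (w * u)⁻¹ * w by group]
      exact h.comp (Ax.inv h')
  rcases (norm_cases h2 hP hu).resolve_left hu' with h | h <;>
    rcases le_ax h2 hP hQ hW with hL | hL | hL
  · exact Q8_KI (k1 I1 (Q8_IJ h) hL) (hL hk)
  · exact ⟨k1 I2 h.1 hL, hL hk⟩
  · exact Q8_JK (k1 I3 h.2 hL) (hL hk)
  · exact ⟨hL hk, k1 I2.inv h.2 hL⟩
  · exact Q8_JK (hL hk) (k1 I3.inv (Q8_IJ h) hL)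
  · exact Q8_KI (hL hk) (k1 I1.inv h.1 hL)

end Cfsg.Agent.Cl.Pln
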