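import Mathlib
import Cfsg.Agent.Cl.PlnBlock
import Cfsg.Agent.Blk.ZStar
import Cfsg.Agent.GT.CoprimeSylow

/-! Rigidity of orthogonal frames of planes carrying quaternion groups (via the Z*-theorem). -/

set_option autoImplicit false

namespace Cfsg.Agent.Cl.Pln

open Subgroup

section Grp

variable {K : Type*} [Group K] [Finite K]

theorem mem_odd_of_quot {Z : Subgroup K} [Z.Normal] (hc : Z ≤ center K) {x : K}
    (hx : (x : K ⧸ Z) ∈ oddCore (K ⧸ Z)) (ho : Odd (orderOf x)) : x ∈ oddCore K := by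
  let f := QuotientGroup.mk' (oddCore K)
  have hf : Function.Surjective f := QuotientGroup.mk'_surjective _
  have : (Z.map f).Normal := Normal.map inferInstance f hf
  have hc' : Z.map f ≤ center _ := by
    rintro _ ⟨z, hz, rfl⟩
    refine mem_center_iff.2 fun g => ?_
    obtain ⟨g, rfl⟩ := hf g
    rw [← map_mul, ← map_mul, mem_center_iff.1 (hc hz) g]
  let g := QuotientGroup.map Z (Z.map f) f (le_comap_map f Z)
  have hg : Function.Surjective g := fun y => by
    obtain ⟨y, rfl⟩ := QuotientGroup.mk_surjective y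
    obtain ⟨y, rfl⟩ := hf y
    exact ⟨y, rfl⟩
  exact (QuotientGroup.eq_one_iff x).1 (Blk.ZStar.eq_one_of_mem_oddCore_quotient
    GT.pPrimeCore_quotient_pPrimeCore (Z.map f) hc' (x := f x)
    (ho.of_dvd_nat (orderOf_map_dvd f x)) (GT.map_pPrimeCore_le hg ⟨_, hx, rfl⟩))

omit [Finite K] in
theorem mem_zpowers_sq {e x : K} (he : e * e = 1) (hx : x ∈ zpowers e) : x = 1 ∨ x = e := by
  obtain ⟨k, rfl⟩ := mem_zpowers_iff.1 hx
  have h2 : e ^ (2 : ℤ) = 1 := by rw [zpow_two, he]
  obtain ⟨j, rfl | rfl⟩ := Int.even_or_odd' k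
  · left; rw [zpow_mul, h2, one_zpow]
  · right; rw [zpow_add, zpow_mul, h2, one_zpow, one_mul, zpow_one]

/-- The Z*-theorem modulo a central involution. -/
theorem zstar_mod_inv {e z : K} (he : e * e = 1) (hc : ∀ g, g * e = e * g) (hz : z * z = 1)
    (h1 : z ≠ 1) (h2 : z ≠ e)
    (h3 : ∀ g, z * (g * z * g⁻¹) = g * z * g⁻¹ * z → g * z * g⁻¹ = z ∨ g * z * g⁻¹ = e * z)
    (h4 : ∀ g, z * (g * z * g⁻¹) * z ≠ e * (g * z * g⁻¹)) (g : K) :
    (z * g * z⁻¹ * g⁻¹) ^ 2 ∈ oddCore K := by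
  have hc' : zpowers e ≤ center K := zpowers_le.2 (mem_center_iff.2 hc)
  have : (zpowers e).Normal := ⟨fun n hn g => by
    rwa [mem_center_iff.1 (hc' hn) g, mul_inv_cancel_right]⟩
  have zi : z⁻¹ = z := inv_eq_of_mul_eq_one_right hz
  have he1 : (e : K ⧸ zpowers e) = 1 := (QuotientGroup.eq_one_iff e).2 (mem_zpowers e)
  have iso : IsIsolatedInvolution (z : K ⧸ zpowers e) := by
    refine ⟨orderOf_eq_prime (by rw [sq, ← QuotientGroup.mk_mul, hz]; rfl) fun h => ?_, fun g h => ?_⟩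
    · rcases mem_zpowers_sq he ((QuotientGroup.eq_one_iff z).1 h) with h | h
      exacts [h1 h, h2 h]
    · obtain ⟨g, rfl⟩ := QuotientGroup.mk_surjective g
      have k : ((z * (g * z * g⁻¹) * z * (g * z * g⁻¹)⁻¹ : K) : K ⧸ zpowers e) = 1 := by
        simp only [QuotientGroup.mk_mul, QuotientGroup.mk_inv]
        rw [h.eq, mul_assoc _ (z : K ⧸ zpowers e) (z : K ⧸ zpowers e),
          ← QuotientGroup.mk_mul _ z z, hz,
          QuotientGroup.mk_one, mul_one, mul_inv_cancel]
      rcases mem_zpowers_sq he ((QuotientGroup.eq_one_iff _).1 k) with k | k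
      · rw [mul_inv_eq_one] at k
        have k' : z * (g * z * g⁻¹) = g * z * g⁻¹ * z := by
          conv_rhs => rw [← k, mul_assoc, hz, mul_one]
        change ((g * z * g⁻¹ : K) : K ⧸ zpowers e) = _
        rcases h3 g k' with k | k
        · rw [k]
        · rw [k, QuotientGroup.mk_mul, he1, one_mul]
      · exact absurd (mul_inv_eq_iff_eq_mul.1 k) (h4 g)
  have k : ((z * g * z⁻¹ * g⁻¹ : K) : K ⧸ zpowers e) ∈ oddCore _ := iso.commutator_mem_oddCore g
  refine mem_odd_of_quot hc' (pow_mem k 2) ?_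
  have k1 : Odd (orderOf ((z * g * z⁻¹ * g⁻¹ : K) : K ⧸ zpowers e)) :=
    GT.odd_card_oddCore.of_dvd_nat (orderOf_dvd_natCard _ k)
  refine k1.of_dvd_nat (orderOf_dvd_of_pow_eq_one ?_)
  rw [← pow_mul, mul_comm, pow_mul, sq]
  have k2 := pow_orderOf_eq_one ((z * g * z⁻¹ * g⁻¹ : K) : K ⧸ zpowers e)
  rw [← QuotientGroup.mk_pow] at k2
  rcases mem_zpowers_sq he ((QuotientGroup.eq_one_iff _).1 k2) with k | k
  · rw [k, one_mul]
  · rw [k, he]

/-- If `z` centralises an invariant Sylow `r`-subgroup of `O` for each `r ≠ p`, then it inverts only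
`p`-elements. -/
theorem pow_of_inverted {O T : Subgroup K} (hO : Odd (Nat.card O)) (hT : IsPGroup 2 T)
    (hTO : T ≤ normalizer (O : Set K)) {z : K} (hz : z ∈ T) {p : ℕ}
    (h : ∀ (r : ℕ) [Fact r.Prime], r ≠ 2 → r ≠ p → ∀ R ≤ O, IsPGroup r R →
      T ≤ normalizer (R : Set K) → ∀ y ∈ R, z * y = y * z)
    {x : K} (hx : x ∈ O) (hi : z * x * z⁻¹ = x⁻¹) : ∃ k, x ^ p ^ k = 1 := by
  by_contra hc
  have h0 : orderOf x ≠ 0 := (orderOf_pos x).ne'
  obtain ⟨r, hr, hrx, hrp⟩ : ∃ r : ℕ, r.Prime ∧ r ∣ orderOf x ∧ r ≠ p := by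
    by_contra hh
    push Not at hh
    exact hc ⟨_, by rw [← Nat.eq_prime_pow_of_unique_prime_dvd h0 (fun h1 h2 => hh _ h1 h2),
      pow_orderOf_eq_one]⟩
  have := Fact.mk hr
  have ho : Odd r := hO.of_dvd_nat (hrx.trans (orderOf_dvd_natCard _ hx))
  have hr2 : r ≠ 2 := by rintro rfl; exact absurd ho (by decide)
  have cop : ∀ B : Subgroup K, B ≤ T → (Nat.card B).Coprime (Nat.card O) ∧ Group.IsSolvable B :=
    fun B hB => by
      have hB' := hT.to_le hB
      obtain ⟨n, hn⟩ := hB'.exists_card_eq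
      have := hB'.isNilpotent
      exact ⟨by rw [hn]; exact (Nat.coprime_two_left.2 hO).pow_left n, inferInstance⟩
  obtain ⟨P, hP⟩ := GT.CopAct.exists_invariant_sylow hTO (cop T le_rfl).1 (Or.inl (cop T le_rfl).2) r
  have hzT : zpowers z ≤ T := zpowers_le.2 hz
  set y := x ^ (orderOf x / r) with hy
  have oy : orderOf y = r := orderOf_pow_orderOf_div h0 hrx
  have iy : z * y * z⁻¹ = y⁻¹ := by rw [hy, ← conj_pow, hi, inv_pow]
  obtain ⟨P', h1, h2⟩ := GT.CopAct.exists_invariant_sylow_ge (hzT.trans hTO) (cop _ hzT).1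
    (Or.inl (cop _ hzT).2) (p := r) (U := zpowers y) (zpowers_le.2 (pow_mem hx _))
    (IsPGroup.of_card (n := 1) (by rw [Nat.card_zpowers, oy, pow_one]))
    (zpowers_le.2 (mem_normalizer_fintype fun n hn => by
      obtain ⟨k, rfl⟩ := mem_zpowers_iff.1 hn
      rw [← conj_zpow, iy]; exact zpow_mem (inv_mem (mem_zpowers y)) k))
  obtain ⟨c, hc1, hc2⟩ := GT.CopAct.invariant_sylow_conj (hzT.trans hTO) (cop _ hzT).1
    (Or.inl (cop _ hzT).2) P P' (hzT.trans hP) h2
  obtain ⟨y', hy', e⟩ := h1 (mem_zpowers y)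
  rw [← hc2] at hy'
  obtain ⟨w, hw, rfl⟩ := hy'
  have k1 := h r hr2 hrp _ (map_subtype_le _) (P.2.map _) hP w ⟨w, hw, rfl⟩
  have k2 : z * c = c * z := hc1 z (mem_zpowers z)
  have e' : y = c * w * (c : K)⁻¹ := e.symm
  have k3 : Commute z y := by
    rw [e']; exact (Commute.mul_right k2 k1).mul_right (Commute.inv_right k2)
  rw [k3.eq, mul_inv_cancel_right] at iy
  have k4 : y = 1 := eq_one_of_sq ho (by rw [← oy, pow_orderOf_eq_one])
    (by nth_rewrite 1 [iy]; exact inv_mul_cancel y)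
  rw [k4, orderOf_one] at oy
  exact hr.ne_one oy.symm

end Grp

variable {F A : Type*} [Field F] [Ring A] [StarRing A] [Algebra F A]

/-- The involution with eigenspace `e`. -/
def refl {e : A} (h1 : star e = e) (h2 : e * e = e) : unitary A :=
  ⟨1 - 2 * e, by
    have : (1 - 2 * e) * (1 - 2 * e) = 1 := by
      simp only [two_mul, mul_sub, sub_mul, mul_add, add_mul, h2, mul_one, one_mul]; abel
    have h3 : star (1 - 2 * e) = 1 - 2 * e := by rw [two_mul, star_sub, star_add, h1, star_one]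
    exact ⟨by rw [h3, this], by rw [h3, this]⟩⟩

theorem sq_refl {e : A} (h2 : e * e = e) {z : unitary A} (hz : (z : A) = 1 - 2 * e) : z * z = 1 :=
  Subtype.ext (by
    change (z : A) * z = 1
    rw [hz]; simp only [two_mul, mul_sub, sub_mul, mul_add, add_mul, h2, mul_one, one_mul]; abel)

omit [StarRing A] in
theorem refl_inj (h2 : (2 : F) ≠ 0) {a b : A} (h : 1 - 2 * a = 1 - 2 * b) : a = b := by
  rw [sub_right_inj, two_mul, two_mul] at h
  exact smul_right_injective A h2 (by simpa only [two_smul] using h)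

variable (F) in
/-- A system of planes with quaternion groups in `H`, without pairs at the angle `π / 4`. -/
structure Sys (H : Subgroup (unitary A)) (D : Set A) : Prop where
  pl : ∀ ρ ∈ D, Pl F ρ
  qp : ∀ ρ ∈ D, ∃ u v, QP ρ u v ∧ ∃ T ≤ H, IsPGroup 2 T ∧ u ∈ T ∧ v ∈ T
  conj : ∀ ρ ∈ D, ∀ h ∈ H, (h : A) * ρ * star (h : A) ∈ D
  eqv : ∀ ρ ∈ D, ∀ ρ' ∈ D, ∃ g : unitary A, ρ' = g * ρ * star (g : A)
  half : ∀ ρ ∈ D, ∀ ρ' ∈ D, ρ * ρ' * ρ ≠ (2⁻¹ : F) • ρ

theorem nil_step {p : ℕ} [hp : Fact p.Prime] [CharP F p] {π ρ : A} (h : Pl F π) (h2 : (2 : F) ≠ 0)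
    {c : F} (e : π * ρ * π = c • π) {z d : unitary A} (hz : (z : A) = 1 - 2 * π)
    (hd : (d : A) = 1 - 2 * ρ) (dd : d * d = 1) {k : ℕ} (hk : ((z * d) ^ 4) ^ p ^ k = 1) :
    c = 0 ∨ c = 1 ∨ c = 2⁻¹ := by
  have : Nontrivial A := ⟨⟨π, 0, h.ne⟩⟩
  have : CharP A p := charP_of_injective_algebraMap (algebraMap F A).injective p
  have zz := sq_refl h.id hz
  obtain ⟨y, hy⟩ : ∃ y : A, y = z * d := ⟨_, rfl⟩
  obtain ⟨y', hy'⟩ : ∃ y' : A, y' = d * z := ⟨_, rfl⟩
  have y1 : y * y' = 1 := by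
    have : z * d * (d * z) = 1 := by rw [mul_assoc, ← mul_assoc d, dd, one_mul, zz]
    rw [hy, hy']; exact congrArg Subtype.val this
  have y2 : y' * y = 1 := by
    have : d * z * (z * d) = 1 := by rw [mul_assoc, ← mul_assoc z, zz, one_mul, dd]
    rw [hy, hy']; exact congrArg Subtype.val this
  have y1' : ∀ a, y * (y' * a) = a := fun a => by rw [← mul_assoc, y1, one_mul]
  have y2' : ∀ a, y' * (y * a) = a := fun a => by rw [← mul_assoc, y2, one_mul]
  have sp : (y + y') * π = (4 * c - 2) • π := by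
    rw [hy, hy', hz, hd]
    simp only [two_mul, mul_sub, sub_mul, mul_add, add_mul, mul_one, one_mul, mul_assoc, h.id]
    rw [← mul_assoc π ρ π, e]; module
  have n1 : (y ^ 4 - 1) ^ p ^ k = 0 := by
    rw [sub_pow_char_pow_of_commute p k (Commute.one_right _), one_pow, sub_eq_zero, hy]
    exact congrArg Subtype.val hk
  have n2 : (y' * y') * (y ^ 4 - 1) * ((y' * y') * (y ^ 4 - 1)) =
      (y + y') * (y + y') * ((y + y') * (y + y') - 4) := by
    rw [show (4 : A) = 1 + 1 + 1 + 1 by norm_num]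
    simp only [pow_succ, pow_zero, one_mul, mul_sub, sub_mul, mul_add, add_mul, mul_assoc, y1', y2',
      y1, y2, mul_one]
    abel
  have c1 : Commute (y' * y') (y ^ 4 - 1) := by
    have : Commute y' y := y2.trans y1.symm
    exact ((this.pow_right 4).sub_right (Commute.one_right _)).mul_left
      ((this.pow_right 4).sub_right (Commute.one_right _))
  have n3 : ((y + y') * (y + y') * ((y + y') * (y + y') - 4)) ^ p ^ k = 0 := by
    rw [← n2, ← sq, ← pow_mul, mul_comm, pow_mul, c1.mul_pow, n1, mul_zero, sq, zero_mul]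
  have n4 : ∀ {s : A} {a : F}, s * π = a • π → ∀ n : ℕ, s ^ n * π = a ^ n • π := fun {s a} hs n => by
    induction n with
    | zero => simp
    | succ n ih => rw [pow_succ, mul_assoc, hs, mul_smul_comm, ih, smul_smul, pow_succ']
  have n5 : (y + y') * (y + y') * ((y + y') * (y + y') - 4) * π =
      ((4 * c - 2) ^ 2 * ((4 * c - 2) ^ 2 - 4)) • π := by
    have h4 : (4 : A) * π = (4 : F) • π := by rw [← Nat.cast_ofNat, ← nsmul_eq_mul]; module
    simp only [mul_assoc, sub_mul, mul_sub, sp, mul_smul_comm, h4]; module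
  have n6 := n4 n5 (p ^ k)
  rw [n3, zero_mul] at n6
  have n7 := pow_eq_zero_iff (pow_ne_zero k hp.out.ne_zero) |>.1
    (h.inj (n6.symm.trans (zero_smul _ _).symm))
  have n8 : (2 : F) ^ 6 * (c * ((c - 1) * (2 * c - 1) ^ 2)) = 0 := by rw [← n7]; ring
  rcases mul_eq_zero.1 ((mul_eq_zero.1 n8).resolve_left (pow_ne_zero _ h2)) with h | h
  · exact Or.inl h
  rcases mul_eq_zero.1 h with h | h
  · exact Or.inr (Or.inl (sub_eq_zero.1 h))
  · refine Or.inr (Or.inr (eq_inv_of_mul_eq_one_right ?_))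
    exact sub_eq_zero.1 (pow_eq_zero_iff two_ne_zero |>.1 h)

variable [StarLin F A] {H : Subgroup (unitary A)} {D : Set A}

theorem Sys.lam [Finite (unitary A)] {p : ℕ} [hp : Fact p.Prime] [CharP F p] (S : Sys F H D)
    (h2 : (2 : F) ≠ 0) {π ρ : A} (hπ : π ∈ D) (hρ : ρ ∈ D) {c : F} (e : π * ρ * π = c • π) :
    c = 0 ∨ c = 1 := by
  by_cases hc : c = 1
  · exact Or.inr hc
  have P := S.pl π hπ
  obtain ⟨π', P', pq, er⟩ := P.compl (S.pl ρ hρ) h2 e hc
  have W : Two F π π' := ⟨P, P', pq⟩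
  obtain ⟨u, v, q, T, hTH, hT, huT, hvT⟩ := S.qp π hπ
  obtain ⟨u', v', q', T', hTH', -, huT', -⟩ := S.qp ρ hρ
  let ε : unitary A := refl W.st W.ee
  have hε : (ε : A) = 1 - 2 * (π + π') := rfl
  have εε := sq_refl W.ee hε
  have cε : ∀ x : unitary A, Sup (π + π') x → x * ε = ε * x := fun x hx => Subtype.ext (by
    change (x : A) * ε = ε * x
    rw [hε, two_mul, mul_sub, sub_mul, mul_add, add_mul (π + π'), hx.comm W.st, mul_one, one_mul])
  have sr : ∀ {a : A} {x : unitary A}, (x : A) = 1 - 2 * a → (π + π') * a = a → Sup (π + π') x :=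
    fun {a x} hx ha => by
      rw [Sup, hx, two_mul, mul_sub, mul_add, sub_mul 1 _ a, ha, one_mul, sub_self]; simp
  let K : Subgroup (unitary A) :=
    { carrier := {x | Sup (π + π') x ∧ (x ∈ H ∨ ε * x ∈ H)}
      one_mem' := ⟨(supG _).one_mem, Or.inl H.one_mem⟩
      mul_mem' := fun {a b} ha hb => ⟨(supG _).mul_mem ha.1 hb.1, by
        rcases ha.2 with h1 | h1 <;> rcases hb.2 with h3 | h3
        · exact Or.inl (H.mul_mem h1 h3)
        · right; rw [← mul_assoc, ← cε a ha.1, mul_assoc]; exact H.mul_mem h1 h3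
        · right; rw [← mul_assoc]; exact H.mul_mem h1 h3
        · left
          have := H.mul_mem h1 h3
          rwa [← cε a ha.1, mul_assoc, ← mul_assoc ε, εε, one_mul] at this⟩
      inv_mem' := fun {a} ha => ⟨(supG _).inv_mem ha.1, ha.2.imp H.inv_mem fun h1 => by
        have := H.inv_mem h1
        rwa [← cε a ha.1, mul_inv_rev, inv_eq_of_mul_eq_one_right εε] at this⟩ }
  have hεK : ε ∈ K := ⟨sr hε W.ee, Or.inr (by rw [εε]; exact H.one_mem)⟩
  have huK : u ∈ K := ⟨W.sup q.su, Or.inl (hTH huT)⟩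
  have hvK : v ∈ K := ⟨W.sup q.sv, Or.inl (hTH hvT)⟩
  have hz : ((u * u : unitary A) : A) = 1 - 2 * π := q.uu
  have hd : ((u' * u' : unitary A) : A) = 1 - 2 * ρ := q'.uu
  have hdK : u' * u' ∈ K := ⟨sr hd er, Or.inl (H.mul_mem (hTH' huT') (hTH' huT'))⟩
  obtain ⟨z, hzu⟩ : ∃ z, z = u * u := ⟨_, rfl⟩
  have hzK : z ∈ K := hzu ▸ K.mul_mem huK huK
  rw [← hzu] at hz
  have zz := sq_refl P.id hz
  have dd := sq_refl (S.pl ρ hρ).id hd
  have cj : ∀ g ∈ K, ∃ σ ∈ D, (π + π') * σ = σ ∧ ((g * z * g⁻¹ : unitary A) : A) = 1 - 2 * σ :=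
    fun g hg => by
      have k : ∀ g : unitary A, ((g * z * g⁻¹ : unitary A) : A) =
          1 - 2 * ((g : A) * π * star (g : A)) := fun g => by
        simp only [Submonoid.coe_mul, coe_inv', hz, two_mul, mul_sub, sub_mul, mul_add, add_mul,
          mul_one, us]
      have k' : ∀ g : unitary A, Sup (π + π') g →
          (π + π') * ((g : A) * π * star (g : A)) = g * π * star (g : A) := fun g hg => by
        rw [← mul_assoc, ← mul_assoc, hg.comm W.st, mul_assoc _ _ π, add_mul, P.id, W.qp, add_zero]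
      rcases hg.2 with h1 | h1
      · exact ⟨_, S.conj π hπ g h1, k' g hg.1, k g⟩
      · refine ⟨_, S.conj π hπ _ h1, k' _ ((supG _).mul_mem hεK.1 hg.1), ?_⟩
        rw [← k, mul_inv_rev, inv_eq_of_mul_eq_one_right εε, mul_assoc ε, mul_assoc ε, ← mul_assoc _ _ ε,
          cε _ (K.mul_mem (K.mul_mem hg hzK) (K.inv_mem hg)).1, ← mul_assoc, εε, one_mul]
  have Z := zstar_mod_inv (K := K) (e := ⟨ε, hεK⟩) (z := ⟨z, hzK⟩) (Subtype.ext εε)
    (fun g => Subtype.ext (cε g g.2.1)) (Subtype.ext zz) (fun h => ?_) (fun h => ?_)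
    (fun g h => ?_) (fun g h => ?_) ⟨u' * u', hdK⟩
  · have hO : K ≤ normalizer (GT.pPrimeCoreOf 2 K : Set (unitary A)) :=
      GT.le_normalizer_pPrimeCoreOf K
    obtain ⟨k, hk⟩ := pow_of_inverted (O := GT.pPrimeCoreOf 2 K) (T := T ⊓ K) (z := z) (p := p)
      (Nat.coprime_two_right.1 (GT.coprime_card_pPrimeCoreOf 2 K)) (hT.to_le inf_le_left)
      (inf_le_right.trans hO) ⟨hzu ▸ T.mul_mem huT huT, hzK⟩ (fun r hr r2 rp R hR hR' hn => by
        rw [hzu]
        refine W.comm_of_pgroup h2 q r2 (fun h => rp ?_) hR'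
          (fun x hx => (GT.pPrimeCoreOf_le K (hR hx)).1)
          (fun x hx => (mem_normalizer_iff.1 (hn ⟨huT, huK⟩) x).1 hx)
          (fun x hx => (mem_normalizer_iff.1 (hn ⟨hvT, hvK⟩) x).1 hx)
        exact ((Nat.prime_dvd_prime_iff_eq hp.out hr.out).1
          ((CharP.cast_eq_zero_iff F p r).1 h)).symm)
      (x := (z * (u' * u')) ^ 4) ⟨_, Z, by
        change (z * (u' * u') * z⁻¹ * (u' * u')⁻¹) ^ 2 = _
        rw [inv_eq_of_mul_eq_one_right zz, inv_eq_of_mul_eq_one_right dd, mul_assoc, ← sq,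
          ← pow_mul]⟩ (by
        rw [← conj_pow, ← inv_pow, mul_inv_rev, inv_eq_of_mul_eq_one_right zz,
          inv_eq_of_mul_eq_one_right dd, ← mul_assoc, zz, one_mul])
    rcases nil_step P h2 e hz hd dd hk with h | h | h
    exacts [Or.inl h, Or.inr h, absurd (h ▸ e) (S.half π hπ ρ hρ)]
  · have h' : z = 1 := congrArg Subtype.val h
    rw [h'] at hz
    exact P.ne (refl_inj h2 (hz.symm.trans (by simp)))
  · have h' : z = ε := congrArg Subtype.val h
    rw [h', hε] at hz
    exact P'.ne (add_eq_left.1 (refl_inj h2 hz))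
  · obtain ⟨σ, hσ, s1, s2⟩ := cj g g.2
    have Q := S.pl σ hσ
    have h' : (z : A) * (g.1 * z * g.1⁻¹ : unitary A) = (g.1 * z * g.1⁻¹ : unitary A) * z :=
      congrArg (fun x : K => ((x : unitary A) : A)) h
    rw [s2, hz] at h'
    have cm : π * σ = σ * π := by
      refine smul_right_injective A (mul_ne_zero h2 h2) ?_
      simp only [two_mul, mul_sub, sub_mul, mul_add, add_mul, mul_one, one_mul] at h'
      simp only [mul_smul, two_smul]
      rw [← sub_eq_zero] at h' ⊢
      rw [← h']; abel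
    obtain ⟨a, ha⟩ := P.sc h2 Q.st
    rw [mul_assoc, ← cm, P.id'] at ha
    have a2 : a * a = a := P.inj (by
      rw [← P.id, ← smul_mul_smul_comm, P.id, ← ha, mul_assoc, ← mul_assoc σ, ← cm, mul_assoc, Q.id,
        P.id'])
    by_cases a0 : a = 0
    · right
      rw [a0, zero_smul] at ha
      rw [add_mul, ha, zero_add] at s1
      refine Subtype.ext (Subtype.ext ?_)
      change ((g.1 * z * g.1⁻¹ : unitary A) : A) = ε * z
      rw [s2, hε, hz, P'.eq_of_le Q h2 s1]
      simp only [two_mul, mul_sub, sub_mul, mul_add, add_mul, mul_one, one_mul, P.id, W.qp]; abel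
    · left
      rw [mul_left_cancel₀ a0 (a2.trans (mul_one a).symm), one_smul, cm] at ha
      refine Subtype.ext (Subtype.ext ?_)
      change ((g.1 * z * g.1⁻¹ : unitary A) : A) = z
      rw [s2, hz, Q.eq_of_le P h2 ha]
  · obtain ⟨σ, hσ, s1, s2⟩ := cj g g.2
    have h' : (z : A) * (g.1 * z * g.1⁻¹ : unitary A) * z = ε * (g.1 * z * g.1⁻¹ : unitary A) :=
      congrArg (fun x : K => ((x : unitary A) : A)) h
    rw [s2, hz, hε] at h'
    have h'' := congrArg (fun x => π * x * π) h'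
    simp only [two_mul, mul_sub, sub_mul, mul_add, add_mul, mul_one, one_mul, mul_assoc, P.id,
      P.id', W.pq', W.pq, zero_mul] at h''
    refine S.half π hπ σ hσ (smul_right_injective A (mul_ne_zero h2 h2) ?_)
    simp only [smul_smul, mul_assoc, mul_inv_cancel₀ h2, mul_one]
    simp only [mul_smul, two_smul]
    rw [← sub_eq_zero] at h'' ⊢
    rw [← neg_eq_zero, ← h'']; abel

omit [StarLin F A] in
theorem QB.eq_zero_of_sand {π I J f : A} (q : QB π I J) (h : Pl F π) (h2 : (2 : F) ≠ 0)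
    (l : π * f = f) (r : f * π = f) (h0 : star f * f = 0) (h1 : star f * I * f = 0)
    (h3 : star f * J * f = 0) (h4 : star f * (I * J) * f = 0) : f = 0 := by
  have sl : π * star f = star f := by simpa only [star_mul, h.st] using congrArg star r
  have sr : star f * π = star f := by simpa only [star_mul, h.st] using congrArg star l
  obtain ⟨t, ht⟩ := h.tr f
  rw [mul_add, add_mul, l, r, sl, sr] at ht
  have ff : star f * star f = t • star f := by
    have := congrArg (star f * ·) ht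
    simpa only [mul_add, h0, zero_add, mul_smul_comm, sr] using this
  have k : ∀ a : A, π * a = a → a * π = a → star a = -a → star f * a * f = 0 →
      ∃ s : F, a * f - star f * a = s • π ∧ t • (star f * a) = -(s • star f) :=
    fun a al ar sa e => by
      obtain ⟨s, hs⟩ := h.tr (a * f)
      rw [star_mul, sa, mul_neg, mul_add, add_mul, ← mul_assoc, al, mul_assoc, r, mul_neg, neg_mul,
        ← mul_assoc, sl, mul_assoc, ar, ← sub_eq_add_neg] at hs
      refine ⟨s, hs, ?_⟩
      have := congrArg (star f * ·) hs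
      simp only [mul_sub, ← mul_assoc, e, ff, mul_smul_comm, sr, smul_mul_assoc, zero_sub] at this
      rw [← this, neg_neg]
  obtain ⟨s1, a1, b1⟩ := k I q.lI q.rI q.sI h1
  obtain ⟨s2, a2, b2⟩ := k J q.lJ q.rJ q.sJ h3
  obtain ⟨s3, a3, b3⟩ := k (I * J) (q.lI' J) (by rw [mul_assoc, q.rJ]) q.sK h4
  by_contra hf
  have hf' : star f ≠ 0 := fun e => hf (star_eq_zero.1 e)
  by_cases t0 : t = 0
  · rw [t0, zero_smul, eq_comm, neg_eq_zero, smul_eq_zero] at b1 b2 b3
    rw [t0, zero_smul, add_eq_zero_iff_neg_eq] at ht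
    rw [b1.resolve_right hf', zero_smul, ← ht, neg_mul, sub_neg_eq_add, add_eq_zero_iff_neg_eq] at a1
    rw [b2.resolve_right hf', zero_smul, ← ht, neg_mul, sub_neg_eq_add, add_eq_zero_iff_neg_eq] at a2
    rw [b3.resolve_right hf', zero_smul, ← ht, neg_mul, sub_neg_eq_add, add_eq_zero_iff_neg_eq] at a3
    exact hf (q.eq_zero_of_anti h2 r a1.symm a2.symm a3.symm)
  · have e1 : (t * t) • (star f * (I * J)) = (s1 * s2) • star f := by
      rw [mul_smul, ← mul_assoc, ← smul_mul_assoc, b1, neg_mul, smul_mul_assoc, smul_neg, smul_comm,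
        b2, smul_neg, neg_neg, smul_smul]
    have e2 : (t * t) • (star f * (J * I)) = (s1 * s2) • star f := by
      rw [mul_smul, ← mul_assoc, ← smul_mul_assoc, b2, neg_mul, smul_mul_assoc, smul_neg, smul_comm,
        b1, smul_neg, neg_neg, smul_smul, mul_comm]
    rw [← e2, q.JI, mul_neg] at e1
    have e3 := QB.two_cancel h2 (smul_right_injective A (mul_ne_zero t0 t0) e1)
    have e4 := congrArg (· * (I * J)) e3
    simp only [zero_mul] at e4
    rw [mul_assoc, q.KK, mul_neg, sr, neg_eq_zero] at e4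
    exact hf' e4

omit [StarLin F A] in
theorem Sup.eq {π : A} (h : Pl F π) {u : unitary A} (hu : Sup π u) : (u : A) = 1 - π + u * π := by
  rw [← hu.right h.st]; noncomm_ring

omit [StarLin F A] in
theorem Two.mul_eq {π π' : A} (h : Two F π π') {u w : unitary A} (hu : Sup π u) (hw : Sup π' w) :
    ((u * w : unitary A) : A) = 1 - π - π' + u * π + w * π' := by
  have h1 := h.fix hu
  have h2 : π * (w * π') = 0 := by rw [← hw.comm h.q.st, h.pq']
  have h3 : (u : A) * (w * π') = w * π' := by rw [← hw.comm h.q.st, ← mul_assoc, h1]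
  change (u : A) * w = _
  conv_lhs => rw [hw.eq h.q]
  rw [mul_add, mul_sub, mul_one, h1, h3]
  conv_lhs => rw [hu.eq h.p]
  abel

omit [StarLin F A] in
theorem QB.sand {π ρ I J : A} (q : QB π I J) (h : Pl F ρ) (e : ρ * π * ρ = ρ)
    (e' : π * ρ * π = π) : QB ρ (ρ * I * ρ) (ρ * J * ρ) ∧ ρ * I * ρ * (ρ * J * ρ) = ρ * (I * J) * ρ := by
  have k : ∀ a b : A, a * π = a → π * b = b → ρ * a * ρ * (ρ * b * ρ) = ρ * (a * b) * ρ :=
    fun a b ha hb => by
      have : a * ρ * b = a * b := by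
        conv_lhs => rw [← ha, ← hb]
        rw [mul_assoc a, mul_assoc a, ← mul_assoc _ π b, e', hb]
      rw [← this]; simp only [mul_assoc, h.id']
  refine ⟨⟨?_, ?_, ?_, ?_, ?_, ?_, ?_, ?_, ?_⟩, k _ _ q.rI q.lJ⟩
  · simp only [mul_assoc, h.id']
  · simp only [mul_assoc, h.id]
  · simp only [mul_assoc, h.id']
  · simp only [mul_assoc, h.id]
  · rw [k _ _ q.rI q.lI, q.II, mul_neg, neg_mul, e]
  · rw [k _ _ q.rJ q.lJ, q.JJ, mul_neg, neg_mul, e]
  · rw [k _ _ q.rJ q.lI, k _ _ q.rI q.lJ, q.JI, mul_neg, neg_mul]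
  · rw [star_mul, star_mul, h.st, q.sI]; noncomm_ring
  · rw [star_mul, star_mul, h.st, q.sJ]; noncomm_ring

/-- A frame inside a system of planes is the whole system. -/
theorem Sys.rigid [Finite (unitary A)] {p : ℕ} [hp : Fact p.Prime] [CharP F p] (S : Sys F H D)
    (h2 : (2 : F) ≠ 0) {ι : Type*} [Fintype ι] {π : ι → A} (hπ : ∀ i, π i ∈ D)
    (ho : ∀ i j, i ≠ j → π i * π j = 0) (hs : ∑ i, π i = 1) {ρ : A} (hρ : ρ ∈ D) :
    ∃ i, ρ = π i := by
  have R := S.pl ρ hρ
  choose c hc using fun i => R.sc h2 (S.pl _ (hπ i)).st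
  have c01 : ∀ i, c i = 0 ∨ c i = 1 := fun i => S.lam (p := p) h2 hρ (hπ i) (hc i)
  have W : ∀ i j, i ≠ j → Two F (π i) (π j) := fun i j h => ⟨S.pl _ (hπ i), S.pl _ (hπ j), ho i j h⟩
  have N : ∀ w ∈ H, ∀ (f : A) (n : F), ρ * w * ρ = f → f * star f = n • ρ → n = 0 ∨ n = 1 :=
    fun w hw f n e e' => S.lam (p := p) h2 hρ (S.conj ρ hρ w hw) (by
      rw [← e', ← e, star_mul, star_mul, R.st]; simp only [mul_assoc, R.id'])
  choose u v q T hTH hT hu hv using fun i => S.qp _ (hπ i)
  have qb := fun i => (q i).qb (S.pl _ (hπ i))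
  have uu : ∀ i, ((u i * u i : unitary A) : A) * π i = -π i := fun i => by
    rw [Submonoid.coe_mul, mul_assoc, sq_pi (S.pl _ (hπ i)) (q i).uu]
  have suu : ∀ i, Sup (π i) (u i * u i) := fun i => (supG _).mul_mem (q i).su (q i).su
  have uuH : ∀ i, u i * u i ∈ H := fun i => H.mul_mem (hTH i (hu i)) (hTH i (hu i))
  have sd : ∀ i, c i = 1 → ρ * π i * ρ = ρ ∧ π i * ρ * π i = π i := fun i h => by
    have := hc i
    have h' := R.symm (S.pl _ (hπ i)) h2 this
    rw [h, one_smul] at this h'; exact ⟨this, h'⟩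
  obtain ⟨i, hi⟩ : ∃ i, c i = 1 := by
    by_contra h
    push Not at h
    refine R.ne ?_
    rw [show ρ = ρ * (∑ i, π i) * ρ by rw [hs, mul_one, R.id], Finset.mul_sum, Finset.sum_mul]
    exact Finset.sum_eq_zero fun i _ => by rw [hc i, (c01 i).resolve_right (h i), zero_smul]
  have ex : ∀ {j : ι} (h : i ≠ j) {a b : unitary A}, Sup (π i) a → Sup (π j) b →
      ρ * (a * b : unitary A) * ρ = ρ * (a * π i) * ρ + ρ * (b * π j) * ρ - ρ * π j * ρ :=
    fun {j} h a b ha hb => by
      rw [(W i j h).mul_eq ha hb]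
      simp only [mul_add, add_mul, mul_sub, sub_mul, mul_one, R.id, (sd i hi).1]; abel
  have c0 : ∀ j, i ≠ j → c j = 0 := fun j h => (c01 j).resolve_right fun hj => by
    have n1 := N _ (H.mul_mem (uuH i) (uuH j)) ((-3 : F) • ρ) 9 (by
      rw [ex h (suu i) (suu j), uu, uu, mul_neg, neg_mul, mul_neg, neg_mul, (sd i hi).1, (sd j hj).1]
      module) (by rw [StarLin.star_smul, R.st, smul_mul_smul_comm, R.id]; norm_num)
    have Q := ((qb j).sand R (sd j hj).1 (sd j hj).2).1
    have n2 := N _ (H.mul_mem (uuH i) (hTH j (hu j))) (ρ * (u j * π j) * ρ - (2 : F) • ρ) 5 (by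
      rw [ex h (suu i) (q j).su, uu, mul_neg, neg_mul, (sd i hi).1, (sd j hj).1]
      module) (by
      rw [star_sub, StarLin.star_smul, R.st, Q.sI]
      simp only [mul_sub, sub_mul, mul_neg, mul_smul_comm, smul_mul_assoc, Q.II, Q.lI, Q.rI,
        R.id]
      module)
    have k8 : (2 : F) ^ 3 ≠ 0 := pow_ne_zero _ h2
    rcases n1 with n1 | n1
    · have k3 : (3 : F) = 0 := pow_eq_zero_iff two_ne_zero |>.1 (by rw [← n1]; norm_num)
      rcases n2 with n2 | n2
      · exact h2 (by linear_combination n2 - k3)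
      · exact k8 (by linear_combination 2 * n2)
    · exact k8 (by linear_combination n1)
  obtain ⟨Q, QK⟩ := (qb i).sand R (sd i hi).1 (sd i hi).2
  have z0 : ∀ j, i ≠ j → π j * ρ = 0 := fun j h => by
    have P := S.pl _ (hπ j)
    have l1 : ρ * π j * ρ = 0 := by rw [hc, c0 j h, zero_smul]
    have l2 : π j * ρ * π j = 0 := by rw [R.symm P h2 (hc j), c0 j h, zero_smul]
    have g0 : ∀ b ∈ H, Sup (π j) b → star ((b : A) * π j) = -(b * π j) → ρ * (b * π j) * ρ = 0 :=
      fun b hb sb hs => by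
        obtain ⟨g, hg⟩ : ∃ g, g = ρ * (b * π j) * ρ := ⟨_, rfl⟩
        have gs : star g = -g := by rw [hg, star_mul, star_mul, hs, R.st]; noncomm_ring
        have gg : g * g = 0 := by
          have : ρ * (b * π j) * ρ * (ρ * (π j * b) * ρ) = ρ * b * (π j * ρ * π j) * b * ρ := by
            simp only [mul_assoc, R.id']
          rw [hg]; nth_rewrite 2 [← sb.comm P.st]
          rw [this, l2]; simp
        have an : ∀ a ∈ H, Sup (π i) a → ∀ a' : A, ρ * (a * π i) * ρ = a' → star a' = -a' →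
            a' * a' = -ρ → g * a' = -(a' * g) := fun a ha sa a' e1 e2 e3 => by
          have m1 := N _ (H.mul_mem ha hb) (a' + g) 
          have m2 := N _ (H.mul_mem (H.mul_mem ha (uuH i)) hb) (-a' + g)
          rw [ex h sa sb, e1, ← hg, l1, sub_zero] at m1
          rw [ex h ((supG _).mul_mem sa (suu i)) sb, Submonoid.coe_mul, mul_assoc (a : A), uu, mul_neg,
            mul_neg, neg_mul, e1, ← hg, l1, sub_zero] at m2
          have gl : ρ * g = g := by rw [hg]; simp only [mul_assoc, R.id']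
          have gr : g * ρ = g := by rw [hg]; simp only [mul_assoc, R.id]
          have al : ρ * a' = a' := by rw [← e1]; simp only [mul_assoc, R.id']
          have ar : a' * ρ = a' := by rw [← e1]; simp only [mul_assoc, R.id]
          obtain ⟨t, ht⟩ := R.sc h2 (a := a' * g + g * a') (by
            rw [star_add, star_mul, star_mul, gs, e2, neg_mul_neg, neg_mul_neg, add_comm])
          rw [mul_add, add_mul, ← mul_assoc, ← mul_assoc, al, gl, mul_assoc, mul_assoc, gr, ar] at ht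
          have n1 := m1 (1 - t) rfl (by
            rw [star_add, e2, gs, sub_smul, ← ht]
            simp only [mul_add, add_mul, mul_neg, e3, gg, one_smul]; abel)
          have n2 := m2 (1 + t) rfl (by
            rw [star_add, star_neg, e2, gs, add_smul, ← ht]
            simp only [mul_add, add_mul, mul_neg, neg_mul, neg_neg, e3, gg, one_smul]; abel)
          have t0 : t = 0 := by
            rcases n2 with n2 | n2
            · rcases n1 with n1 | n1
              · exact absurd (by linear_combination n1 + n2) h2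
              · linear_combination -n1
            · linear_combination n2
          rw [t0, zero_smul, add_eq_zero_iff_neg_eq] at ht
          exact ht.symm
        rw [← hg]
        refine Q.eq_zero_of_anti h2 (by rw [hg]; simp only [mul_assoc, R.id])
          (an _ (hTH i (hu i)) (q i).su _ rfl Q.sI Q.II)
          (an _ (hTH i (hv i)) (q i).sv _ rfl Q.sJ Q.JJ)
          (an _ (H.mul_mem (hTH i (hu i)) (hTH i (hv i))) ((supG _).mul_mem (q i).su (q i).sv) _ ?_
            Q.sK Q.KK)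
        rw [QK, mul_assoc (u i : A) (π i), (qb i).lJ, Submonoid.coe_mul, mul_assoc (u i : A)]
    obtain ⟨g, hg⟩ := S.eqv _ (hπ j) ρ hρ
    have rg : ρ * g = g * π j := by rw [hg, mul_assoc, su, mul_one]
    have sa : ∀ a : A, π j * a = a → a * π j = a → ρ * a * ρ = 0 →
        star (π j * ρ * g) * a * (π j * ρ * g) = 0 := fun a h1 h3 h4 => by
      have : star (π j * ρ * g) * a * (π j * ρ * g) =
          star (g : A) * (ρ * (π j * a * π j) * ρ) * g := by
        rw [star_mul, star_mul, R.st, P.st]; simp only [mul_assoc]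
      rw [this, h1, h3, h4, mul_zero, zero_mul]
    have uv : (u j : A) * π j * (v j * π j) = (u j * v j : unitary A) * π j := by
      rw [mul_assoc, (qb j).lJ, Submonoid.coe_mul, mul_assoc]
    have f0 := (qb j).eq_zero_of_sand P h2 (f := π j * ρ * g) (by simp only [mul_assoc, P.id'])
      (by rw [mul_assoc, mul_assoc, ← mul_assoc ρ, rg, mul_assoc, P.id, mul_assoc, rg])
      (by
        have := sa (π j) P.id P.id l1
        simpa only [mul_assoc, P.id'] using this)
      (sa _ (qb j).lI (qb j).rI (g0 _ (hTH j (hu j)) (q j).su (qb j).sI))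
      (sa _ (qb j).lJ (qb j).rJ (g0 _ (hTH j (hv j)) (q j).sv (qb j).sJ))
      (sa _ ((qb j).lI' _) (by rw [mul_assoc, (qb j).rJ]) (by
        rw [uv]
        exact g0 _ (H.mul_mem (hTH j (hu j)) (hTH j (hv j))) ((supG _).mul_mem (q j).su (q j).sv)
          (by rw [← uv, (qb j).sK])))
    have := congrArg (· * star (g : A)) f0
    simpa only [mul_assoc, us, mul_one, zero_mul] using this
  refine ⟨i, (S.pl _ (hπ i)).eq_of_le R h2 ?_⟩
  conv_rhs => rw [← one_mul ρ, ← hs, Finset.sum_mul]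
  exact (Finset.sum_eq_single i (fun j _ h => z0 j h.symm) (by simp)).symm

end Cfsg.Agent.Cl.Pln
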