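import Mathlib
import Cfsg.Agent.Cl.PlnQuat
import Cfsg.Agent.Cl.PlnRigid
import Cfsg.Agent.Cl.SpSylow

/-! The symplectic group as a quaternionic unitary group; monomial matrices. -/

set_option autoImplicit false

namespace Cfsg.Agent.Cl.Pln

open Subgroup Matrix Equiv
open scoped Quaternion

variable {F : Type*} [Field F] {ι : Type*} [Fintype ι] [DecidableEq ι]

section Iso

variable (a b : F)

/-- Matrix coordinates of a quaternion. -/
def e11 : ℍ[F] →+ F := ⟨⟨fun q => q.re + a * q.imI - b * q.imK, by simp⟩, fun _ _ => by simp; ring⟩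
/-- Matrix coordinates of a quaternion. -/
def e12 : ℍ[F] →+ F := ⟨⟨fun q => b * q.imI + q.imJ + a * q.imK, by simp⟩, fun _ _ => by simp; ring⟩
/-- Matrix coordinates of a quaternion. -/
def e21 : ℍ[F] →+ F := ⟨⟨fun q => b * q.imI - q.imJ + a * q.imK, by simp⟩, fun _ _ => by simp; ring⟩
/-- Matrix coordinates of a quaternion. -/
def e22 : ℍ[F] →+ F := ⟨⟨fun q => q.re - a * q.imI + b * q.imK, by simp⟩, fun _ _ => by simp; ring⟩

/-- The splitting of quaternionic matrices. -/
def spl (X : Matrix ι ι ℍ[F]) : Matrix (ι ⊕ ι) (ι ⊕ ι) F :=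
  fromBlocks (X.map (e11 a b)) (X.map (e12 a b)) (X.map (e21 a b)) (X.map (e22 a b))

/-- The inverse of the splitting. -/
def unspl (M : Matrix (ι ⊕ ι) (ι ⊕ ι) F) : Matrix ι ι ℍ[F] := of fun i j =>
  (((M (.inl i) (.inl j) + M (.inr i) (.inr j)) / 2 : F) : ℍ[F]) +
  (-(a * (M (.inl i) (.inl j) - M (.inr i) (.inr j)) +
    b * (M (.inl i) (.inr j) + M (.inr i) (.inl j))) / 2) • (uI F).1 +
  ((M (.inl i) (.inr j) - M (.inr i) (.inl j)) / 2) • (uJ F).1 +
  (-(a * (M (.inl i) (.inr j) + M (.inr i) (.inl j)) -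
    b * (M (.inl i) (.inl j) - M (.inr i) (.inr j))) / 2) • (uK F).1

variable {a b}

omit [DecidableEq ι] in
theorem spl_mul (h : a ^ 2 + b ^ 2 = -1) (X Y : Matrix ι ι ℍ[F]) :
    spl a b (X * Y) = spl a b X * spl a b Y := by
  rw [spl, spl, spl, fromBlocks_multiply]
  congr 1 <;> ext i j <;>
    simp only [map_apply, mul_apply, map_sum, Matrix.add_apply, ← Finset.sum_add_distrib] <;>
    refine Finset.sum_congr rfl fun k _ => ?_ <;> simp [e11, e12, e21, e22]
  · linear_combination (-(X i k).imI * (Y k j).imI - (X i k).imK * (Y k j).imK) * h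
  · linear_combination ((X i k).imK * (Y k j).imI - (X i k).imI * (Y k j).imK) * h
  · linear_combination ((X i k).imI * (Y k j).imK - (X i k).imK * (Y k j).imI) * h
  · linear_combination (-(X i k).imI * (Y k j).imI - (X i k).imK * (Y k j).imK) * h

omit [Fintype ι] in
theorem spl_one : spl a b (1 : Matrix ι ι ℍ[F]) = 1 := by
  rw [spl, ← fromBlocks_one]
  congr 1 <;> ext i j <;> by_cases h : i = j <;> simp [one_apply, h, e11, e12, e21, e22]

theorem spl_star (X : Matrix ι ι ℍ[F]) :
    spl a b (star X) = -(J ι F * (spl a b X)ᵀ * J ι F) := by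
  rw [spl, spl, fromBlocks_transpose, J, fromBlocks_multiply, fromBlocks_multiply, fromBlocks_neg]
  congr 1 <;> ext i j <;> simp [e11, e12, e21, e22] <;> ring

omit [Fintype ι] [DecidableEq ι] in
theorem spl_unspl (h : a ^ 2 + b ^ 2 = -1) (h2 : (2 : F) ≠ 0) (M : Matrix (ι ⊕ ι) (ι ⊕ ι) F) :
    spl a b (unspl a b M) = M := by
  ext (i | i) (j | j) <;> simp [spl, unspl, e11, e12, e21, e22] <;> field_simp
  · linear_combination (M (.inr i) (.inr j) - M (.inl i) (.inl j)) * h
  · linear_combination (-M (.inl i) (.inr j) - M (.inr i) (.inl j)) * h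
  · linear_combination (-M (.inl i) (.inr j) - M (.inr i) (.inl j)) * h
  · linear_combination (M (.inl i) (.inl j) - M (.inr i) (.inr j)) * h

omit [Fintype ι] [DecidableEq ι] in
theorem unspl_spl (h : a ^ 2 + b ^ 2 = -1) (h2 : (2 : F) ≠ 0) (X : Matrix ι ι ℍ[F]) :
    unspl a b (spl a b X) = X := by
  ext i j <;> simp [spl, unspl, e11, e12, e21, e22] <;> field_simp
  · ring
  · linear_combination (-2 * (X i j).imI) * h
  · ring
  · linear_combination (-2 * (X i j).imK) * h

theorem exists_sp_equiv [Finite F] (h2 : (2 : F) ≠ 0) :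
    Nonempty (unitary (Matrix ι ι ℍ[F]) ≃* symplecticGroup ι F) := by
  obtain ⟨a, b, h⟩ : ∃ a b : F, a ^ 2 + b ^ 2 = -1 := by
    obtain ⟨p, hp⟩ := CharP.exists F
    have := Fintype.ofFinite F
    have hc : Fintype.card F % 2 = 1 := FiniteField.odd_card_of_char_ne_two fun e =>
      h2 (by exact_mod_cast (ringChar.spec F 2).2 (e ▸ dvd_rfl))
    obtain ⟨a, b, hab⟩ := FiniteField.exists_root_sum_quadratic (f := Polynomial.X ^ 2 + 1)
      (g := Polynomial.X ^ 2) (Polynomial.degree_X_pow_add_C (by decide) (1 : F))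
      (Polynomial.degree_X_pow 2) hc
    simp only [Polynomial.eval_add, Polynomial.eval_pow, Polynomial.eval_X,
      Polynomial.eval_one] at hab
    exact ⟨a, b, by linear_combination hab⟩
  have inj : Function.Injective (spl (ι := ι) a b) :=
    Function.LeftInverse.injective (unspl_spl h h2)
  refine ⟨MulEquiv.ofBijective (F := _ →* _) ⟨⟨fun x => ⟨spl a b x.1, ?_⟩, Subtype.ext spl_one⟩,
    fun x y => Subtype.ext (spl_mul h _ _)⟩ ⟨fun x y e => Subtype.ext (inj (congrArg Subtype.val e)),
    fun M => ⟨⟨unspl a b M.1, ?_⟩, Subtype.ext (spl_unspl h h2 _)⟩⟩⟩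
  · have := congrArg (fun y => spl a b y * J ι F) (us x)
    simp only [spl_mul h, spl_star, spl_one, Matrix.mul_neg, Matrix.neg_mul, Matrix.mul_assoc,
      J_squared, Matrix.mul_one, Matrix.one_mul, neg_neg] at this
    rw [SymplecticGroup.mem_iff, Matrix.mul_assoc, this]
  · have k : spl a b (unspl a b M.1) * spl a b (star (unspl a b M.1)) = 1 := by
      rw [spl_star, spl_unspl h h2, Matrix.mul_neg, ← Matrix.mul_assoc, ← Matrix.mul_assoc,
        SymplecticGroup.mem_iff.1 M.2, J_squared, neg_neg]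
    exact ⟨inj (by rw [spl_mul h, spl_one, mul_eq_one_comm.1 k]), inj (by rw [spl_mul h, spl_one, k])⟩

end Iso

instance starLin_mat : StarLin F (Matrix ι ι ℍ[F]) :=
  ⟨fun c X => by ext1 i j; simp only [star_apply, Matrix.smul_apply, Quaternion.star_smul]⟩

variable (F) in
/-- The standard frame. -/
def fr (i : ι) : Matrix ι ι ℍ[F] := single i i 1

theorem fr_mul_mul (i j : ι) (X : Matrix ι ι ℍ[F]) : fr F i * X * fr F j = single i j (X i j) := by
  rw [fr, fr, single_mul_mul_single, one_mul, mul_one]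

omit [Fintype ι] in
theorem fr_inj {i j : ι} (h : fr F i = fr F j) : i = j := by
  by_contra hh
  have := congrFun (congrFun h i) i
  simp [fr, Ne.symm hh] at this

theorem fr_pl (i : ι) : Pl F (fr F i) where
  st := by rw [fr, star_eq_conjTranspose, conjTranspose_single, star_one]
  id := by rw [fr, single_mul_single_same, mul_one]
  ne := fun h => by simpa [fr] using congrFun (congrFun h i) i
  tr X := ⟨2 * (X i i).re, by
    rw [fr_mul_mul, Matrix.add_apply, star_apply, Quaternion.self_add_star', fr, smul_single,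
      Quaternion.smul_coe_one_aux]⟩
where Quaternion.smul_coe_one_aux {c : F} : c • (1 : ℍ[F]) = c := by ext <;> simp

theorem fr_orth {i j : ι} (h : i ≠ j) : fr F i * fr F j = 0 := single_mul_single_of_ne _ _ _ _ h _

theorem fr_sum : ∑ i : ι, fr F i = 1 := by
  ext1 i j
  simp only [fr, Matrix.sum_apply, single_apply, Matrix.one_apply]
  by_cases h : i = j
  · subst h; simp
  · simp only [h, if_false]
    exact Finset.sum_eq_zero fun k _ => if_neg fun e => h (e.1.symm.trans e.2)

/-- The matrix of a monomial element. -/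
def monM (w : Wr (unitary ℍ[F]) ι (Perm ι)) : Matrix ι ι ℍ[F] :=
  of fun i j => if i = w.right j then (w.left i : ℍ[F]) else 0

omit [Fintype ι] in
theorem monM_apply (w : Wr (unitary ℍ[F]) ι (Perm ι)) (i j : ι) :
    monM w i j = if i = w.right j then (w.left i : ℍ[F]) else 0 := rfl

theorem monM_mul (w w' : Wr (unitary ℍ[F]) ι (Perm ι)) : monM (w * w') = monM w * monM w' := by
  ext1 i k
  rw [mul_apply, Finset.sum_eq_single (w'.right k) (fun j _ h => by simp [monM_apply, h]) (by simp)]
  simp only [monM_apply, SemidirectProduct.mul_right, Perm.mul_apply, if_true, wr_mul_left]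
  split_ifs with h
  · subst h; simp
  · simp [h]

omit [Fintype ι] in
theorem monM_one : monM (1 : Wr (unitary ℍ[F]) ι (Perm ι)) = 1 := by
  ext1 i j; by_cases h : i = j <;> simp [monM_apply, h, Matrix.one_apply]

omit [Fintype ι] in
theorem monM_inv (w : Wr (unitary ℍ[F]) ι (Perm ι)) : monM w⁻¹ = star (monM w) := by
  ext1 i j
  simp only [monM_apply, star_apply, wr_inv_left, SemidirectProduct.inv_right, Perm.smul_def]
  by_cases h : j = w.right i
  · subst h; simp [coe_inv']
  · rw [if_neg h, if_neg fun e => h (by simp [e]), star_zero]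

/-- The monomial group. -/
def mono : Wr (unitary ℍ[F]) ι (Perm ι) →* unitary (Matrix ι ι ℍ[F]) where
  toFun w := ⟨monM w, by
    rw [← monM_inv, ← monM_mul, inv_mul_cancel, monM_one], by
    rw [← monM_inv, ← monM_mul, mul_inv_cancel, monM_one]⟩
  map_one' := Subtype.ext monM_one
  map_mul' w w' := Subtype.ext (monM_mul w w')

theorem mono_apply (w : Wr (unitary ℍ[F]) ι (Perm ι)) (i j : ι) :
    (mono w).1 i j = if i = w.right j then (w.left i : ℍ[F]) else 0 := rfl

theorem unit_ne (u : unitary ℍ[F]) : (u : ℍ[F]) ≠ 0 := fun h => by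
  have := us u
  rw [h, zero_mul] at this; exact zero_ne_one this

theorem mono_fr (w : Wr (unitary ℍ[F]) ι (Perm ι)) (j : ι) :
    (mono w).1 * fr F j * star (mono w).1 = fr F (w.right j) := by
  have : (mono w).1 * fr F j = fr F (w.right j) * (mono w).1 := by
    ext1 i k
    by_cases h : k = j
    · subst h
      rw [fr, mul_single_apply_same, mul_one]
      by_cases h' : i = w.right k
      · subst h'; rw [fr, single_mul_apply_same, one_mul]
      · rw [fr, single_mul_apply_of_ne _ _ _ _ _ h', mono_apply, if_neg h']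
    · rw [fr, mul_single_apply_of_ne _ _ _ _ _ h]
      by_cases h' : i = w.right j
      · subst h'
        rw [fr, single_mul_apply_same, one_mul, mono_apply,
          if_neg fun e => h (w.right.injective e).symm]
      · rw [fr, single_mul_apply_of_ne _ _ _ _ _ h']
  rw [this, mul_assoc, us, mul_one]

theorem mono_injective : Function.Injective (mono (F := F) (ι := ι)) := by
  refine (injective_iff_map_eq_one _).2 fun w h => ?_
  have h1 : w.right = 1 := Equiv.ext fun j => fr_inj (F := F) (by
    rw [← mono_fr, h]; simp)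
  refine SemidirectProduct.ext (funext fun i => Subtype.ext ?_) h1
  have := congrFun (congrFun (congrArg Subtype.val h) i) i
  simpa [mono_apply, h1] using this

theorem exists_mono {g : unitary (Matrix ι ι ℍ[F])}
    (h : ∀ j, ∃ i, g.1 * fr F j * star g.1 = fr F i) : ∃ w, mono w = g := by
  choose s hs using h
  have hs' : ∀ j, g.1 * fr F j = fr F (s j) * g.1 := fun j => by
    rw [← hs, mul_assoc, su, mul_one]
  have inj : Function.Injective s := fun j k e => fr_inj (F := F) (by
    rw [← su' g (fr F j), hs', e, ← hs', su'])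
  let σ : Perm ι := Equiv.ofBijective s inj.bijective_of_finite
  have z : ∀ i j, i ≠ σ j → g.1 i j = 0 := fun i j (h : i ≠ s j) => by
    have := congrFun (congrFun (hs' j) i) j
    rwa [fr, fr, mul_single_apply_same, mul_one, single_mul_apply_of_ne _ _ _ _ _ h] at this
  have un : ∀ i, g.1 i (σ⁻¹ i) ∈ unitary ℍ[F] := fun i => by
    have := congrFun (congrFun (us g) i) i
    rw [mul_apply, Finset.sum_eq_single (σ⁻¹ i) (fun j _ h => by
      rw [z i j fun e => h (by simp [e]), zero_mul]) (by simp), one_apply_eq, star_apply] at this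
    exact ⟨by rw [Quaternion.star_mul_self, ← Quaternion.self_mul_star, this], this⟩
  refine ⟨⟨fun i => ⟨_, un i⟩, σ⟩, Subtype.ext ?_⟩
  ext1 i j
  rw [mono_apply]
  split_ifs with h
  · subst h; simp
  · exact (z i j h).symm

/-- The unit group acting on the `i`-th plane. -/
def sg (i : ι) : unitary ℍ[F] →* unitary (Matrix ι ι ℍ[F]) := mono.comp (wrSingle _ i)

theorem sg_val (i : ι) (u : unitary ℍ[F]) : (sg i u).1 = 1 - fr F i + single i i u.1 := by
  ext1 j k
  simp only [sg, MonoidHom.comp_apply, mono_apply, wrSingle_right, wrSingle_left, Perm.one_apply,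
    Matrix.add_apply, Matrix.sub_apply, Matrix.one_apply, fr, single_apply]
  by_cases h : j = k
  · subst h
    by_cases h' : i = j
    · subst h'; simp
    · simp [h']
  · have : ¬ (i = j ∧ i = k) := fun e => h (e.1.symm.trans e.2)
    simp [h, this]

theorem sg_injective (i : ι) : Function.Injective (sg (F := F) i) :=
  mono_injective.comp (wrSingle_injective i)

theorem sg_fr (i : ι) (u : unitary ℍ[F]) : (sg i u).1 * fr F i = single i i u.1 := by
  rw [sg_val, add_mul, sub_mul, (fr_pl i).id, one_mul, sub_self, zero_add, fr,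
    single_mul_single_same, mul_one]

theorem sup_sg (i : ι) (u : unitary ℍ[F]) : Sup (fr F i) (sg i u) := by
  have : fr F i * single i i u.1 = single i i u.1 := by rw [fr, single_mul_single_same, one_mul]
  rw [Sup, sg_val]
  simp only [mul_add, mul_sub, sub_mul, one_mul, mul_one, (fr_pl i).id, this]; abel

theorem exists_sg {i : ι} {x : unitary (Matrix ι ι ℍ[F])} (h : Sup (fr F i) x) :
    ∃ u, sg i u = x := by
  have c := h.comm (fr_pl i).st
  have e : x.1 * fr F i = single i i (x.1 i i) := by
    rw [← fr_mul_mul, c, mul_assoc, (fr_pl i).id]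
  have k : star (x.1 i i) * x.1 i i = 1 := by
    have : star (x.1 * fr F i) * (x.1 * fr F i) = fr F i := by
      rw [star_mul, (fr_pl i).st, mul_assoc, su', (fr_pl i).id]
    rw [e, star_eq_conjTranspose, conjTranspose_single, single_mul_single_same] at this
    simpa [fr] using congrFun (congrFun this i) i
  refine ⟨⟨x.1 i i, k, by rw [Quaternion.self_mul_star, ← Quaternion.star_mul_self, k]⟩,
    Subtype.ext ?_⟩
  rw [sg_val]; exact (e ▸ h.eq (fr_pl i)).symm

theorem sg_neg_one (i : ι) : (sg i (-1 : unitary ℍ[F])).1 = 1 - 2 * fr F i := by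
  rw [sg_val, Unitary.coe_neg, OneMemClass.coe_one, ← single_neg, two_mul, fr]; abel

theorem qp_fr (i : ι) : QP (fr F i) (sg i (uI F)) (sg i (uJ F)) where
  su := sup_sg _ _
  sv := sup_sg _ _
  uu := by rw [← Submonoid.coe_mul, ← map_mul, II, sg_neg_one]
  vv := by rw [← Submonoid.coe_mul, ← map_mul, JJ, sg_neg_one]
  uv := by
    rw [← Submonoid.coe_mul, ← Submonoid.coe_mul, ← map_mul, ← map_mul, IJ, JI, sg_fr, sg_fr,
      Unitary.coe_neg, ← single_neg, neg_neg]

/-- The wreath product of two subgroups. -/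
def subW (T : Subgroup (unitary ℍ[F])) (P : Subgroup (Perm ι)) :
    Subgroup (Wr (unitary ℍ[F]) ι (Perm ι)) :=
  (wrMap T.subtype P.subtype fun _ _ => rfl).range

omit [Fintype ι] [DecidableEq ι] in
theorem mem_subW {T : Subgroup (unitary ℍ[F])} {P : Subgroup (Perm ι)}
    {w : Wr (unitary ℍ[F]) ι (Perm ι)} : w ∈ subW T P ↔ (∀ i, w.left i ∈ T) ∧ w.right ∈ P :=
  ⟨by rintro ⟨v, rfl⟩; exact ⟨fun i => (v.left i).2, v.right.2⟩,
    fun h => ⟨⟨fun i => ⟨_, h.1 i⟩, ⟨_, h.2⟩⟩, rfl⟩⟩

variable [Finite F]

instance finite_mat : Finite (unitary (Matrix ι ι ℍ[F])) := by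
  have : Finite ℍ[F] := Module.finite_of_finite F
  infer_instance

theorem fact_card (hF : Odd (Nat.card F)) (m : ℕ) :
    (Nat.card (unitary (Matrix (Fin m) (Fin m) ℍ[F]))).factorization 2 =
      m * padicValNat 2 (Nat.card F ^ 2 - 1) + padicValNat 2 m.factorial := by
  obtain ⟨e⟩ := exists_sp_equiv (ι := Fin m) (sp_two_ne_zero_of_odd hF)
  rw [Nat.card_congr (e.trans (spStdEquiv m F)).toEquiv,
    sp_factorization_two hF spB_nondegenerate spB_isAlt (sp_finrank_std (m := m))]

theorem fact_card_unit (hF : Odd (Nat.card F)) :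
    (Nat.card (unitary ℍ[F])).factorization 2 = padicValNat 2 (Nat.card F ^ 2 - 1) := by
  have := fact_card hF 1
  rw [← Nat.card_congr (Equiv.ofBijective (sg (F := F) (0 : Fin 1)) ⟨sg_injective 0, fun x =>
    exists_sg (by
      rw [Sup, ← fr_sum (F := F) (ι := Fin 1)]; simp)⟩)] at this
  simpa using this

theorem exists_sylow (hF : Odd (Nat.card F)) {m : ℕ} (T : Sylow 2 (unitary ℍ[F]))
    (P : Sylow 2 (Perm (Fin m))) : ∃ S : Sylow 2 (unitary (Matrix (Fin m) (Fin m) ℍ[F])),
      S.1 = (subW T.1 P.1).map mono := by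
  refine ⟨Sylow.ofCard ((subW T.1 P.1).map mono) ?_, rfl⟩
  have e : Nat.card (subW T.1 P.1) = Nat.card (Wr T.1 (Fin m) P.1) := (Nat.card_congr
    (MonoidHom.ofInjective (wrMap_injective _ T.1.subtype_injective P.1.subtype_injective)).toEquiv).symm
  rw [card_map_of_injective mono_injective, e, wr_card,
    T.card_eq_multiplicity, wr_card_sylow_perm, fact_card hF, fact_card_unit hF, ← pow_mul,
    ← pow_add, Nat.card_fin, mul_comm, Nat.factorization_def _ Nat.prime_two]

end Cfsg.Agent.Cl.Pln
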