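import Mathlib
import Cfsg.Agent.Cl.PlnMon
import Cfsg.Agent.Inv.Dihedral
import Cfsg.Agent.FG.ClassIdx
import Cfsg.Agent.GT.TransferSylow

/-! Overgroups of the monomial Sylow `2`-subgroup of a quaternionic unitary group. -/

set_option autoImplicit false

namespace Cfsg.Agent.Cl.Pln

open Subgroup Matrix Equiv SemidirectProduct
open scoped Quaternion

section Alg

variable {F A : Type*} [Field F] [Ring A] [StarRing A] [Algebra F A]

theorem pow_four_of_half (h2 : (2 : F) ≠ 0) {a b : A} (ha : a * a = a) (hb : b * b = b)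
    (e : b * a * b = (2⁻¹ : F) • b) {z d : unitary A} (hz : (z : A) = 1 - 2 * a)
    (hd : (d : A) = 1 - 2 * b) : (z * d) ^ 2 ^ 2 = 1 := by
  have zz : (z : A) * z = 1 := congrArg Subtype.val (sq_refl ha hz)
  have zz' : ∀ x, (z : A) * (z * x) = x := fun x => by rw [← mul_assoc, zz, one_mul]
  have k : b * (z * b) = 0 := by
    have : b * a * b + b * a * b = b := by
      rw [e, ← two_smul F, smul_smul, mul_inv_cancel₀ h2, one_smul]
    rw [hz, sub_mul, mul_sub, one_mul, hb, two_mul, add_mul, mul_add, ← mul_assoc, this, sub_self]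
  refine Subtype.ext ?_
  change ((z : A) * d) ^ 2 ^ 2 = 1
  rw [hd]
  simp only [pow_succ, pow_zero, one_mul, two_mul, mul_sub, sub_mul, mul_add, add_mul, mul_assoc,
    mul_one, zz, zz', k, hb, mul_zero, zero_mul]
  abel

/-- The part of `d` supported on `e`. -/
def part {e : A} (he : star e = e) (ee : e * e = e) (d : unitary A) (c : e * d = d * e) :
    unitary A := ⟨1 - e + e * d, by
  have c' : star (d : A) * e = e * star (d : A) := by
    simpa only [star_mul, he] using congrArg star c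
  have k1 : e * (d * (star (d : A) * e)) = e := by rw [us', ee]
  have k2 : star (d : A) * (e * d) = e := by rw [c, su']
  have k3 : e * (e * d) = e * d := by rw [← mul_assoc, ee]
  have k4 : e * (d * e) = e * d := by rw [← c, k3]
  have k5 : e * (star (d : A) * e) = star (d : A) * e := by rw [c', ← mul_assoc, ee]
  constructor <;>
    simp only [star_add, star_sub, star_one, star_mul, he, mul_add, add_mul, mul_sub, sub_mul,
      mul_assoc, one_mul, mul_one, ee, k1, k2, k3, k4, k5] <;> abel⟩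

theorem part_sup {e : A} (he : star e = e) (ee : e * e = e) (d : unitary A) (c : e * d = d * e) :
    Sup e (part he ee d c) := by
  change (1 - e) * (1 - e + e * d) = 1 - e
  simp only [mul_add, mul_sub, sub_mul, ← mul_assoc, one_mul, mul_one, ee]; abel

theorem part_pow {e : A} (he : star e = e) (ee : e * e = e) (d : unitary A) (c : e * d = d * e)
    (n : ℕ) : ((part he ee d c ^ n : unitary A) : A) = 1 - e + e * (d ^ n : unitary A) := by
  induction n with
  | zero => simp
  | succ n ih =>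
    have k : e * (d * e) = e * d := by rw [← c, ← mul_assoc, ee]
    have k' : ∀ x, e * (d * (e * x)) = e * (d * x) := fun x => by
      rw [← mul_assoc (d : A), ← mul_assoc, k, mul_assoc]
    have ee' : ∀ x, e * (e * x) = e * x := fun x => by rw [← mul_assoc, ee]
    rw [pow_succ', pow_succ', Submonoid.coe_mul, Submonoid.coe_mul, ih]
    change (1 - e + e * d) * _ = _
    simp only [mul_add, add_mul, mul_sub, sub_mul, mul_assoc, one_mul, mul_one, ee, k, k', ee']
    abel

theorem part_conj {e : A} (he : star e = e) (ee : e * e = e) (d : unitary A) (c : e * d = d * e)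
    {x : unitary A} (hx : Sup e x) :
    part he ee d c * x * (part he ee d c)⁻¹ = d * x * d⁻¹ := by
  have h1 : (1 - e) * (x : A) = 1 - e := hx
  have h2 := hx.comm he
  rw [mul_inv_eq_iff_eq_mul]
  refine Subtype.ext ?_
  change (1 - e + e * d) * x = d * x * star (d : A) * (1 - e + e * d)
  have c' : star (d : A) * e = e * star (d : A) := by
    simpa only [star_mul, he] using congrArg star c
  have k1 : star (d : A) * (e * d) = e := by rw [c, su']
  have k2 : star (d : A) * (1 - e) = (1 - e) * star (d : A) := by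
    rw [mul_sub, sub_mul, c', mul_one, one_mul]
  have k3 : (d : A) * (1 - e) = (1 - e) * d := by rw [mul_sub, sub_mul, c, mul_one, one_mul]
  rw [add_mul, h1, mul_assoc (d * x : A), mul_add, k1, k2, mul_add, mul_assoc (d : A) x,
    ← mul_assoc (x : A), hx.right he, ← mul_assoc (d : A), k3, mul_assoc (1 - e) (d : A), us,
    mul_one, mul_assoc (d : A), ← h2, ← mul_assoc (d : A), ← c]

theorem Sup.conj {e : A} {x : unitary A} (hx : Sup e x) (g : unitary A) :
    Sup ((g : A) * e * star (g : A)) (g * x * g⁻¹) := by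
  have := congrArg (fun y => (g : A) * y * star (g : A)) hx
  simp only [Sup, Submonoid.coe_mul, coe_inv', mul_sub, sub_mul, mul_assoc, su', mul_one,
    one_mul, us] at this ⊢
  exact this

theorem conj_refl {e : A} {z : unitary A} (hz : (z : A) = 1 - 2 * e) (g : unitary A) :
    ((g * z * g⁻¹ : unitary A) : A) = 1 - 2 * (g * e * star (g : A)) := by
  simp only [Submonoid.coe_mul, coe_inv', hz, two_mul, mul_sub, sub_mul, mul_add, add_mul, mul_one,
    us]

end Alg

variable {F : Type*} [Field F] {ι : Type*} [Fintype ι] [DecidableEq ι]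

/-- A plane whose involution is monomial is in the frame, or gives a transposition. -/
theorem frame_or_swap (h2 : (2 : F) ≠ 0) {ρ : Matrix ι ι ℍ[F]} (hρ : Pl F ρ)
    {w : Wr (unitary ℍ[F]) ι (Perm ι)} (hw : (mono w).1 = 1 - 2 * ρ) :
    (∃ i, ρ = fr F i) ∨ ∃ i j, i ≠ j ∧
      w = wrSingle _ i (w.left i) * inr (swap i j) * (wrSingle _ i (w.left i))⁻¹ := by
  have ww : w * w = 1 := mono_injective (by rw [map_mul, sq_refl hρ.id hw, map_one])
  have en : ∀ k l, (2 : F) • ρ k l = (1 : Matrix ι ι ℍ[F]) k l - (mono w).1 k l := fun k l => by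
    rw [hw, two_mul, Matrix.sub_apply, Matrix.add_apply, two_smul, sub_sub_cancel]
  have e0 : ∀ k l, k ≠ l → k ≠ w.right l → ρ k l = 0 := fun k l h h' => by
    have := en k l
    rw [one_apply_ne h, mono_apply, if_neg h', sub_zero] at this
    exact (smul_eq_zero.1 this).resolve_left h2
  have dd : ∀ k, w.left k * w.left (w.right⁻¹ k) = 1 := fun k => congrArg (fun x => x.left k) ww
  by_cases h : ∀ j, w.right j = j
  · left
    have h1 : w.right = 1 := Equiv.ext h
    by_contra hh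
    refine hρ.ne (refl_inj h2 (hw.symm.trans ?_))
    rw [show w = 1 from SemidirectProduct.ext (funext fun k => ?_) h1, map_one]
    · simp
    refine (pm_of_sq h2 (by simpa [h1] using dd k)).resolve_right fun e => hh ⟨k, ?_⟩
    refine (hρ.eq_of_le (fr_pl k) h2 ?_).symm
    ext1 a b
    by_cases hb : b = k
    · subst hb
      rw [fr, mul_single_apply_same, mul_one]
      by_cases ha : a = b
      · subst ha
        have := en a a
        rw [one_apply_eq, mono_apply, if_pos (h a).symm, e, Unitary.coe_neg, sub_neg_eq_add,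
          OneMemClass.coe_one, ← two_smul F] at this
        rw [smul_right_injective _ h2 this, single_apply_same]
      · rw [e0 a b ha (by rwa [h]), single_apply_of_row_ne (Ne.symm ha)]
    · rw [fr, mul_single_apply_of_ne _ _ _ _ _ hb, single_apply_of_col_ne _ _ (Ne.symm hb)]
  right
  push Not at h
  obtain ⟨j, hj⟩ := h
  have e1 : fr F j * ρ * fr F j = (2⁻¹ : F) • fr F j := by
    have := en j j
    rw [one_apply_eq, mono_apply, if_neg hj.symm, sub_zero] at this
    rw [fr_mul_mul, fr, smul_single, ← this, smul_smul, inv_mul_cancel₀ h2, one_smul]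
  have e2 := (fr_pl j).symm hρ h2 e1
  have e3 : ∀ k, k ≠ j → k ≠ w.right j → w.right k = k ∧ w.left k = 1 := fun k h h' => by
    have a1 := congrFun (congrFun e2 k) k
    rw [mul_apply, Finset.sum_eq_zero (fun l _ => by
      by_cases hl : l = j
      · rw [hl, fr, mul_single_apply_same, e0 k j h h', zero_mul, zero_mul]
      · rw [fr, mul_single_apply_of_ne _ _ _ _ _ hl, zero_mul]), Matrix.smul_apply, eq_comm,
      smul_eq_zero] at a1
    have a2 := en k k
    rw [a1.resolve_left (inv_ne_zero h2), smul_zero, one_apply_eq, mono_apply, eq_comm,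
      sub_eq_zero] at a2
    split_ifs at a2 with h3
    · exact ⟨h3.symm, Subtype.ext a2.symm⟩
    · exact absurd a2 one_ne_zero
  have r2 : w.right (w.right j) = j := congrArg (fun x => x.right j) ww
  have e4 : w.right = swap (w.right j) j := Equiv.ext fun k => by
    by_cases h : k = j
    · rw [h, swap_apply_right]
    by_cases h' : k = w.right j
    · rw [h', swap_apply_left, r2]
    rw [swap_apply_of_ne_of_ne h' h, (e3 k h h').1]
  refine ⟨w.right j, j, hj, SemidirectProduct.ext (funext fun k => ?_) (by simpa using e4)⟩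
  simp only [wr_mul_left, wr_inv_left, wrSingle_left, wrSingle_right, left_inr, right_inr,
    mul_right, one_mul, one_smul, swap_inv, Perm.smul_def, Pi.one_apply, mul_one]
  by_cases h : k = j
  · have := dd j
    rw [e4, swap_inv, swap_apply_right] at this
    rw [h, swap_apply_right, Pi.mulSingle_eq_same, Pi.mulSingle_eq_of_ne hj.symm, one_mul,
      eq_inv_of_mul_eq_one_left this]
  by_cases h' : k = w.right j
  · rw [h', swap_apply_left, Pi.mulSingle_eq_same, Pi.mulSingle_eq_of_ne hj.symm, inv_one, mul_one]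
  rw [swap_apply_of_ne_of_ne h' h, Pi.mulSingle_eq_of_ne h', (e3 k h h').2, inv_one, mul_one]

/-- A `2 × 2` block. -/
def cor (i j : ι) (a b c d : ℍ[F]) : Matrix ι ι ℍ[F] :=
  single i i a + single i j b + single j i c + single j j d

theorem cor_mul {i j : ι} (h : i ≠ j) (a b c d a' b' c' d' : ℍ[F]) :
    cor i j a b c d * cor i j a' b' c' d' =
      cor i j (a * a' + b * c') (a * b' + b * d') (c * a' + d * c') (c * b' + d * d') := by
  simp only [cor, mul_add, add_mul, single_mul_single_same, single_mul_single_of_ne _ _ _ _ h,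
    single_mul_single_of_ne _ _ _ _ h.symm, single_add]
  abel

/-- A `2 × 2` block, extended by the identity. -/
def blk (i j : ι) (a b c d : ℍ[F]) : Matrix ι ι ℍ[F] := 1 - cor i j 1 0 0 1 + cor i j a b c d

theorem blk_mul {i j : ι} (h : i ≠ j) (a b c d a' b' c' d' : ℍ[F]) :
    blk i j a b c d * blk i j a' b' c' d' =
      blk i j (a * a' + b * c') (a * b' + b * d') (c * a' + d * c') (c * b' + d * d') := by
  simp only [blk, mul_add, add_mul, mul_sub, sub_mul, cor_mul h, one_mul, mul_one, zero_mul,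
    mul_zero, add_zero, zero_add]
  abel

theorem sg_blk (i j : ι) (u : unitary ℍ[F]) : (sg i u).1 = blk i j u 0 0 1 := by
  simp only [sg_val, blk, cor, fr, single_zero]; abel

theorem sg_blk' (i j : ι) (u : unitary ℍ[F]) : (sg j u).1 = blk i j 1 0 0 u := by
  simp only [sg_val, blk, cor, fr, single_zero]; abel

theorem sg_sg {i j : ι} (h : i ≠ j) (u v : unitary ℍ[F]) :
    (sg i u * sg j v).1 = blk i j u 0 0 v := by
  rw [Submonoid.coe_mul, sg_blk i j, sg_blk' i j, blk_mul h]; simp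

theorem swap_blk {i j : ι} (h : i ≠ j) :
    (mono (inr (swap i j) : Wr (unitary ℍ[F]) ι (Perm ι))).1 = blk i j 0 1 1 0 := by
  ext1 k l
  simp only [mono_apply, right_inr, left_inr, Pi.one_apply, OneMemClass.coe_one, blk, cor,
    Matrix.add_apply, Matrix.sub_apply, single_apply, Matrix.one_apply, swap_apply_def]
  by_cases h1 : l = i
  · subst h1
    by_cases h2 : k = l
    · subst h2; simp [h, h.symm]
    · by_cases h3 : k = j
      · simp [h, h.symm, h3]
      · simp [h.symm, h2, Ne.symm h2, h3, Ne.symm h3]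
  by_cases h1' : l = j
  · subst h1'
    by_cases h2 : k = l
    · subst h2; simp [h, h.symm]
    · by_cases h3 : k = i
      · simp [h, h.symm, h3]
      · simp [h, h.symm, h2, Ne.symm h2, h3, Ne.symm h3]
  simp [h1, h1', Ne.symm h1, Ne.symm h1']

variable (F) in
/-- The plane of a transposition. -/
def swp (i j : ι) : Matrix ι ι ℍ[F] :=
  cor i j (2⁻¹ : F) (-((2⁻¹ : F) : ℍ[F])) (-((2⁻¹ : F) : ℍ[F])) (2⁻¹ : F)

theorem sup_blk {i j : ι} (h : i ≠ j) (h2 : (2 : F) ≠ 0) (a : ℍ[F]) :
    1 - swp F i j + swp F i j * blk i j a 0 0 a =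
    blk i j ((2⁻¹ : F) • (1 + a)) ((2⁻¹ : F) • (1 - a)) ((2⁻¹ : F) • (1 - a))
      ((2⁻¹ : F) • (1 + a)) := by
  have e : (1 : ℍ[F]) = (2⁻¹ : F) + (2⁻¹ : F) := by
    rw [← Quaternion.coe_add, ← two_mul, mul_inv_cancel₀ h2, Quaternion.coe_one]
  have e' : single i i (1 : ℍ[F]) = single i i ((2⁻¹ : F) : ℍ[F]) + single i i ((2⁻¹ : F) : ℍ[F]) := by
    rw [← single_add, ← e]
  have e'' : single j j (1 : ℍ[F]) = single j j ((2⁻¹ : F) : ℍ[F]) + single j j ((2⁻¹ : F) : ℍ[F]) := by
    rw [← single_add, ← e]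
  simp only [swp, blk, mul_add, mul_sub, cor_mul h, mul_one, mul_zero, add_zero, zero_add,
    ← Quaternion.coe_mul_eq_smul, neg_mul]
  simp only [cor, sub_eq_add_neg, single_add, ← single_neg, single_zero, e', e'']
  abel

theorem swap_swp {i j : ι} (h : i ≠ j) (h2 : (2 : F) ≠ 0) :
    (mono (inr (swap i j) : Wr (unitary ℍ[F]) ι (Perm ι))).1 = 1 - 2 * swp F i j := by
  have e : ((2⁻¹ : F) : ℍ[F]) + (2⁻¹ : F) = 1 := by
    rw [← Quaternion.coe_add, ← two_mul, mul_inv_cancel₀ h2, Quaternion.coe_one]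
  have : swp F i j + swp F i j = cor i j 1 (-1) (-1) 1 := by
    rw [← e, neg_add]; simp only [swp, cor, single_add]; abel
  rw [swap_blk h, two_mul, this]
  simp only [blk, cor, single_zero, ← single_neg]; abel

theorem swp_comm {i j : ι} (h : i ≠ j) (a : ℍ[F]) :
    swp F i j * blk i j a 0 0 a = blk i j a 0 0 a * swp F i j := by
  simp only [swp, blk, mul_add, mul_sub, add_mul, sub_mul, cor_mul h, mul_one, one_mul, mul_zero,
    zero_mul, add_zero, zero_add, neg_mul, mul_neg, neg_zero, Quaternion.coe_commutes]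

/-- The scalar matrices. -/
def dg : unitary ℍ[F] →* unitary (Matrix ι ι ℍ[F]) :=
  mono.comp ((inl : (ι → unitary ℍ[F]) →* Wr (unitary ℍ[F]) ι (Perm ι)).comp
    (Pi.constMonoidHom ι _))

theorem inl_mem {L : Subgroup (unitary (Matrix ι ι ℍ[F]))} {x : ι → unitary ℍ[F]}
    (h : ∀ i, sg i (x i) ∈ L) : mono (inl x) ∈ L := wr_inl_mem (L.comap mono) x h

theorem mono_sg (w : Wr (unitary ℍ[F]) ι (Perm ι)) (j : ι) (u : unitary ℍ[F]) :
    mono w * sg j u * (mono w)⁻¹ =
      sg (w.right j) (w.left (w.right j) * u * (w.left (w.right j))⁻¹) := by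
  rw [sg, sg, MonoidHom.comp_apply, MonoidHom.comp_apply, ← map_inv, ← map_mul, ← map_mul]
  refine congrArg _ (SemidirectProduct.ext (funext fun k => ?_) (by simp))
  simp only [wr_mul_left, wr_inv_left, wrSingle_left, wrSingle_right, mul_right, mul_one,
    smul_inv_smul]
  by_cases h : k = w.right j
  · subst h; simp
  · rw [Pi.mulSingle_eq_of_ne h, Pi.mulSingle_eq_of_ne fun e => h (by simp [← e])]; simp

variable [Finite F] {L : Subgroup (unitary (Matrix ι ι ℍ[F]))} {T : Subgroup (unitary ℍ[F])}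

theorem part_mem (hT : ¬ 2 ∣ T.index) {a : ι} (hL : ∀ t ∈ T, sg a t ∈ L)
    {h : unitary (Matrix ι ι ℍ[F])} (hh : h ∈ L) {ρ : Matrix ι ι ℍ[F]}
    (hρ : ρ = h * fr F a * star h.1) (he : star ρ = ρ) (ee : ρ * ρ = ρ)
    {d : unitary (Matrix ι ι ℍ[F])} (hd : d ∈ L) (c : ρ * d = d * ρ) {k : ℕ}
    (hk : d ^ 2 ^ k = 1) : part he ee d c ∈ L := by
  obtain ⟨x, hx⟩ := exists_sg (i := a) (x := h⁻¹ * part he ee d c * h⁻¹⁻¹) (by
    have := (part_sup he ee d c).conj h⁻¹
    rwa [show (h⁻¹).1 * ρ * star (h⁻¹).1 = fr F a by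
      simp only [hρ, coe_inv', star_star, mul_assoc, su, su', mul_one]] at this)
  have : x ∈ L.comap (sg a) := by
    refine FG.CI.mem_of_pow_mem_of_coprime_index (n := 2 ^ k)
      (mem_normalizer_fintype fun y (hy : sg a y ∈ L) => ?_) ?_ (Nat.Coprime.pow_left k
      (Nat.prime_two.coprime_iff_not_dvd.2 fun e => hT (e.trans (index_dvd_of_le hL))))
    · have k1 := part_conj he ee d c (hρ ▸ (sup_sg a y).conj h)
      have k2 : sg a (x * y * x⁻¹) = h⁻¹ * (d * (h * sg a y * h⁻¹) * d⁻¹) * h := by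
        rw [← k1, map_mul, map_mul, map_inv, hx]; group
      change sg a _ ∈ L
      rw [k2]
      exact mul_mem (mul_mem (inv_mem hh) (mul_mem (mul_mem hd (mul_mem (mul_mem hh hy)
        (inv_mem hh))) (inv_mem hd))) hh
    · have k1 : part he ee d c ^ 2 ^ k = 1 := Subtype.ext (by rw [part_pow, hk]; simp)
      rw [mem_comap, map_pow, hx, conj_pow, k1, mul_one, mul_inv_cancel]; exact one_mem _
  have e : part he ee d c = h * sg a x * h⁻¹ := by rw [hx]; group
  rw [e]; exact mul_mem (mul_mem hh this) (inv_mem hh)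

theorem pair_mem (h2 : (2 : F) ≠ 0) (hQ : Q8 F ≤ T) (hT : ¬ 2 ∣ T.index)
    (hL : ∀ a, ∀ t ∈ T, sg a t ∈ L) {a : ι} {h : unitary (Matrix ι ι ℍ[F])} (hh : h ∈ L)
    {i j : ι} (ij : i ≠ j) (hρ : swp F i j = h * fr F a * star h.1) :
    sg i (uW h2) * sg j (uW h2) ∈ L := by
  have P := hρ ▸ (fr_pl (F := F) a).conj h
  have c : ∀ q : unitary ℍ[F], swp F i j * (sg i q * sg j q).1 = (sg i q * sg j q).1 * swp F i j :=
    fun q => by rw [sg_sg ij, swp_comm ij]
  have k : ∀ q ∈ Q8 F, part P.st P.id _ (c q) ∈ L := fun q hq =>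
    part_mem hT (hL a) hh hρ _ _ (mul_mem (hL _ _ (hQ hq)) (hL _ _ (hQ hq))) _ (k := 2) (by
      have : Commute (sg i q) (sg j q) :=
        (((Pi.mulSingle_commute ij q q).map inl).map mono :)
      rw [this.mul_pow, ← map_pow, ← map_pow, Q8_pow h2 hq, map_one, map_one, mul_one])
  have v : ∀ q, (part P.st P.id _ (c q)).1 = blk i j ((2⁻¹ : F) • (1 + q.1))
      ((2⁻¹ : F) • (1 - q.1)) ((2⁻¹ : F) • (1 - q.1)) ((2⁻¹ : F) • (1 + q.1)) := fun q => by
    rw [← sup_blk ij h2, ← sg_sg ij]; rfl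
  have e : part P.st P.id _ (c (uI F)) * sg i (uK F) * part P.st P.id _ (c (uJ F)) =
      sg i ((uW h2)⁻¹ * uI F) * sg j (-(uW h2)⁻¹) := Subtype.ext (by
    rw [Submonoid.coe_mul, Submonoid.coe_mul, v, v, sg_blk i j, blk_mul ij, blk_mul ij, sg_sg ij]
    congr 1 <;> ext <;> simp [coe_inv', Unitary.coe_neg] <;> field_simp <;> norm_num)
  have m := mul_mem (mul_mem (k _ I_mem) (hL i _ (hQ K_mem))) (k _ J_mem)
  rw [e] at m
  have e' : sg i (uW h2) * sg j (uW h2) = sg i (uI F) * sg j (-1) *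
      (sg i ((uW h2)⁻¹ * uI F) * sg j (-(uW h2)⁻¹))⁻¹ := by
    rw [eq_mul_inv_iff_mul_eq]
    refine Subtype.ext ?_
    rw [Submonoid.coe_mul, sg_sg ij, sg_sg ij, sg_sg ij, blk_mul ij]
    simp only [mul_zero, zero_mul, add_zero, zero_add, ← Submonoid.coe_mul, mul_inv_cancel_left,
      mul_neg, mul_inv_cancel]
  rw [e']
  exact mul_mem (mul_mem (hL _ _ (hQ I_mem)) (hL _ _ (hQ (neg_mem_Q8 (one_mem _))))) (inv_mem m)

omit [Finite F] in
theorem dg_mem {P : Subgroup (Perm ι)} [MulAction.IsPretransitive P ι] (hP : ¬ 3 ∣ Nat.card P)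
    (hL : ∀ σ ∈ P, mono (inr σ) ∈ L) {w : unitary ℍ[F]} (hw : w ^ 3 = 1) {i j : ι}
    (h : sg i w * sg j w ∈ L) : dg w ∈ L := by
  have := Fintype.ofFinite P
  let M : AddSubgroup (ι → ℤ) :=
    { carrier := {c | mono (inl fun k => w ^ c k) ∈ L}
      zero_mem' := by
        change mono (inl fun _ => w ^ (0 : ℤ)) ∈ L
        rw [show (fun _ : ι => w ^ (0 : ℤ)) = 1 from funext fun _ => zpow_zero w, map_one, map_one]
        exact one_mem _
      add_mem' := fun {a b} ha hb => by
        have := L.mul_mem ha hb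
        rw [← map_mul, ← map_mul] at this
        change mono (inl _) ∈ L
        rwa [(funext fun k => _root_.zpow_add w (a k) (b k) : (fun k => w ^ (a + b) k) = _)]
      neg_mem' := fun {a} ha => by
        have := L.inv_mem ha
        rw [← map_inv, ← map_inv] at this
        change mono (inl _) ∈ L
        rwa [(funext fun k => _root_.zpow_neg w (a k) : (fun k => w ^ (-a) k) = _)] }
  let v : ι → ℤ := ∑ σ : P, (Pi.single (σ • i) 1 + Pi.single (σ • j) 1)
  have h1 : v ∈ M := sum_mem fun σ _ => by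
    have := mul_mem (mul_mem (hL σ σ.2) h) (inv_mem (hL σ σ.2))
    rw [← conj_mul, mono_sg, mono_sg] at this
    simp only [left_inr, right_inr, Pi.one_apply, one_mul, inv_one, mul_one] at this
    change mono (inl _) ∈ L
    convert this using 1
    change _ = mono (inl _) * mono (inl _)
    rw [← map_mul, ← map_mul]
    refine congrArg _ (congrArg _ (funext fun k => ?_))
    simp only [Pi.add_apply, _root_.zpow_add, Pi.mul_apply, MonoidHom.mulSingle_apply, Pi.single_apply,
      Pi.mulSingle_apply]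
    congr 1 <;> split_ifs <;> simp_all [Subgroup.smul_def]
  have h2 : ∀ k, v k = v i := fun k => by
    obtain ⟨τ, rfl⟩ := MulAction.exists_smul_eq P i k
    simp only [v, Finset.sum_apply, Pi.add_apply, Pi.single_apply]
    refine (Fintype.sum_equiv (Equiv.mulLeft τ) _ _ fun σ => ?_).symm
    simp only [Equiv.coe_mulLeft, mul_smul, smul_left_cancel_iff]
  have h3 : (Fintype.card ι : ℤ) * v i = 2 * Nat.card P := by
    rw [← nsmul_eq_mul, ← Finset.card_univ, ← Finset.sum_const,
      ← Finset.sum_congr rfl fun k _ => h2 k]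
    simp only [v, Finset.sum_apply]
    rw [Finset.sum_comm]
    simp [Finset.sum_add_distrib, Pi.single_apply, mul_comm]
  have h4 : w ^ (v i * v i) = w := by
    have : ¬ (3 : ℤ) ∣ v i := fun e => hP (by
      have := h3 ▸ e.mul_left (Fintype.card ι : ℤ)
      omega)
    obtain ⟨c, hc⟩ : ∃ c, v i * v i = 3 * c + 1 := by
      obtain ⟨c, hc | hc⟩ : ∃ c, v i = 3 * c + 1 ∨ v i = 3 * c + 2 := ⟨v i / 3, by omega⟩
      exacts [⟨3 * c * c + 2 * c, by rw [hc]; ring⟩, ⟨3 * c * c + 4 * c + 1, by rw [hc]; ring⟩]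
    rw [hc, _root_.zpow_add, _root_.zpow_mul, zpow_ofNat, hw, _root_.one_zpow, one_mul, zpow_one]
  have h5 := zpow_mem (show mono (inl fun k => w ^ v k) ∈ L from h1) (v i)
  rw [← map_zpow, ← map_zpow] at h5
  convert h5 using 1
  refine congrArg mono (congrArg inl (funext fun k => ?_))
  rw [Pi.pow_apply, h2, ← _root_.zpow_mul, h4]; rfl

omit [Finite F] in
theorem sg_mem_sub {P : Subgroup (Perm ι)} (a : ι) {t : unitary ℍ[F]} (ht : t ∈ T) :
    sg a t ∈ (subW T P).map mono :=
  mem_map_of_mem _ (mem_subW.2 ⟨fun i => by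
    rw [wrSingle_left, Pi.mulSingle_apply]; split_ifs; exacts [ht, one_mem _], one_mem _⟩)

omit [Finite F] in
theorem inr_mem_sub {P : Subgroup (Perm ι)} {σ : Perm ι} (h : σ ∈ P) :
    mono (inr σ) ∈ (subW T P).map mono :=
  mem_map_of_mem _ (mem_subW.2 ⟨fun _ => one_mem _, h⟩)

/-- An overgroup of the monomial Sylow subgroup is monomial or contains a scalar of order `3`. -/
theorem mono_or (h2 : (2 : F) ≠ 0) (hQ : Q8 F ≤ T) (hT : ¬ 2 ∣ T.index) {P : Subgroup (Perm ι)}
    [MulAction.IsPretransitive P ι] (hP : ¬ 3 ∣ Nat.card P) (a : ι)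
    (S : Sylow 2 (unitary (Matrix ι ι ℍ[F]))) (hS : S.1 = (subW T P).map mono) (hL : S.1 ≤ L) :
    L ≤ mono.range ∨ dg (uW h2) ∈ L := by
  have l1 : ∀ a, ∀ t ∈ T, sg a t ∈ L := fun a t ht => hL (hS ▸ sg_mem_sub a ht)
  have l2 : ∀ σ ∈ P, mono (inr σ) ∈ L := fun σ h => hL (hS ▸ inr_mem_sub h)
  let D : Set (Matrix ι ι ℍ[F]) := {ρ | ∃ h ∈ L, ρ = h.1 * fr F a * star h.1}
  have cj : ∀ ρ ∈ D, ∀ h ∈ L, h.1 * ρ * star h.1 ∈ D := by
    rintro _ ⟨g, hg, rfl⟩ h hh
    exact ⟨h * g, mul_mem hh hg, by simp only [Submonoid.coe_mul, star_mul, mul_assoc]⟩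
  have pl : ∀ ρ ∈ D, Pl F ρ := by rintro _ ⟨g, -, rfl⟩; exact (fr_pl a).conj g
  by_cases hh : ∀ ρ ∈ D, ∀ ρ' ∈ D, ρ * ρ' * ρ ≠ (2⁻¹ : F) • ρ
  · obtain ⟨p, hp⟩ := CharP.exists F
    have : Fact p.Prime := ⟨CharP.char_is_prime F p⟩
    have fD : ∀ i, fr F i ∈ D := fun i => by
      obtain ⟨σ, rfl⟩ := MulAction.exists_smul_eq P a i
      exact ⟨_, l2 σ σ.2, (mono_fr (inr σ.1) a).symm⟩
    have Y : Sys F L D := ⟨pl, ?_, cj, ?_, hh⟩
    · refine Or.inl fun g hg => exists_mono fun j => ?_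
      exact Y.rigid h2 fD (fun _ _ => fr_orth) fr_sum (cj _ (fD j) g hg)
    · rintro _ ⟨g, hg, rfl⟩
      refine ⟨_, _, (qp_fr a).conj g, _, GT.map_conj_le_of_mem hL hg, GT.Tr.isPGroup_map_conj S.2 g,
        GT.conj_mem_map_conj.2 ?_, GT.conj_mem_map_conj.2 ?_⟩
      exacts [hS ▸ sg_mem_sub a (hQ I_mem), hS ▸ sg_mem_sub a (hQ J_mem)]
    · rintro _ ⟨g, hg, rfl⟩ _ ⟨g', hg', rfl⟩
      exact ⟨g' * g⁻¹, by
        simp only [Submonoid.coe_mul, coe_inv', star_mul, star_star, mul_assoc, su']⟩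
  right
  push Not at hh
  obtain ⟨ρ, hρ, ρ', hρ', e⟩ := hh
  have rf : ∀ ρ ∈ D, ∃ z ∈ L, z.1 = 1 - 2 * ρ := by
    rintro _ ⟨g, hg, rfl⟩
    exact ⟨_, mul_mem (mul_mem hg (l1 a _ (hQ (neg_mem_Q8 (one_mem _))))) (inv_mem hg),
      conj_refl (sg_neg_one a) g⟩
  obtain ⟨z, hz, ez⟩ := rf ρ hρ
  obtain ⟨z', hz', ez'⟩ := rf ρ' hρ'
  obtain ⟨g, hg, hg'⟩ := GT.Tr.exists_conj_le_sylowIn (H := L) S.2
    (fun e => S.not_dvd_index (e.trans (relIndex_dvd_index_of_le hL)))
    (Inv.isPGroup_closure_pair (sq_refl (pl _ hρ').id ez') (sq_refl (pl _ hρ).id ez)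
      (pow_four_of_half h2 (pl _ hρ').id (pl _ hρ).id e ez' ez))
    ((closure_le _).2 (by rintro _ (rfl | rfl); exacts [hz', hz]))
  have key : ∀ ρ ∈ D, ∀ z : unitary (Matrix ι ι ℍ[F]), z.1 = 1 - 2 * ρ → g * z * g⁻¹ ∈ S.1 →
      (∃ i, g.1 * ρ * star g.1 = fr F i) ∨ dg (uW h2) ∈ L := fun ρ hρ z ez hz => by
    rw [hS] at hz
    obtain ⟨w, hw, ew⟩ := hz
    have e1 := conj_refl ez g
    rw [← ew] at e1
    refine (frame_or_swap h2 (pl _ (cj _ hρ g hg)) e1).imp_right ?_
    rintro ⟨i, j, ij, e2⟩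
    have e3 := conj_refl e1 (sg i (w.left i))⁻¹
    have e5 : (sg i (w.left i))⁻¹ * mono w * (sg i (w.left i))⁻¹⁻¹ = mono (inr (swap i j)) := by
      have := congrArg mono e2
      rw [map_mul, map_mul, map_inv] at this
      rw [this, sg, MonoidHom.comp_apply]; group
    obtain ⟨h, hh, e4⟩ := cj _ (cj _ hρ g hg) _ (inv_mem (l1 i _ ((mem_subW.1 hw).1 i)))
    rw [e5, swap_swp ij h2, e4] at e3
    exact dg_mem hP l2 (by rw [pow_three', WWW]) (pair_mem h2 hQ hT l1 hh ij (refl_inj h2 e3))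
  rcases key ρ hρ z ez (hg' _ (subset_closure (by simp))) with ⟨i, hi⟩ | h
  swap; · exact h
  rcases key ρ' hρ' z' ez' (hg' _ (subset_closure (by simp))) with ⟨j, hj⟩ | h
  swap; · exact h
  exfalso
  have e1 : fr F i * fr F j * fr F i = (2⁻¹ : F) • fr F i := by
    have := congrArg (fun x => g.1 * x * star g.1) e
    rw [← hi, ← hj]
    simpa only [mul_assoc, su', mul_smul_comm, smul_mul_assoc] using this
  by_cases ij : i = j
  · rw [← ij, (fr_pl i).id, (fr_pl i).id] at e1
    have := (fr_pl i).inj ((one_smul F _).trans e1)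
    exact one_ne_zero (by linear_combination inv_eq_one.1 this.symm : (1 : F) = 0)
  · rw [fr_orth ij, zero_mul] at e1
    exact inv_ne_zero h2 ((fr_pl i).inj (e1.symm.trans (zero_smul F _).symm))

end Cfsg.Agent.Cl.Pln
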