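import Mathlib
import Cfsg.Agent.Cl.PlnHalf
import Cfsg.Agent.Cl.ProChar
import Cfsg.Agent.Sym.SylowTwo
import Cfsg.Agent.Perm.PermModule

/-! Subgroups of odd index in products of symplectic groups of `2`-power dimension. -/

set_option autoImplicit false

namespace Cfsg.Agent.Cl.Pln

open Subgroup Matrix Equiv SemidirectProduct Cfsg.Agent.FG.PN Cfsg.Agent.Cl.Pro
open scoped Quaternion

/-- A form of pronormality of the subgroups of odd index that passes to direct products. -/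
def Good (G : Type*) [Group G] : Prop :=
  ∃ S : Sylow 2 G, (∀ x ∈ normalizer (S.1 : Set G), ∀ y ∈ normalizer (S.1 : Set G),
    x * y * x⁻¹ * y⁻¹ ∈ S.1) ∧ ∀ K : Subgroup G, S.1 ≤ K → ∀ g ∈ normalizer (S.1 : Set G),
      g ∈ K ⊔ K.map (MulAut.conj g).toMonoidHom ∨ g ∈ normalizer (K : Set G)

theorem allPro_pi {ι : Type*} [Finite ι] {G : ι → Type*} [∀ i, Group (G i)] [∀ i, Finite (G i)]
    (h : ∀ i, Good (G i)) : AllPro 2 (Π i, G i) := by
  classical
  have := Fintype.ofFinite ι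
  choose S hc hS using h
  have ms : ∀ i, ∀ s ∈ (S i).1, Pi.mulSingle i s ∈ Subgroup.pi Set.univ fun i => (S i).1 :=
    fun i s hs j _ => by
      by_cases e : j = i
      · subst e; rwa [Pi.mulSingle_eq_same]
      · rw [Pi.mulSingle_eq_of_ne e]; exact (S j).1.one_mem
  have cj : ∀ (x : Π i, G i) i (a : G i),
      Pi.mulSingle i (x i * a * (x i)⁻¹) = x * Pi.mulSingle i a * x⁻¹ := fun x i a => by
    funext j
    by_cases e : j = i
    · subst e; simp
    · simp [Pi.mulSingle_eq_of_ne e]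
  let Q : Sylow 2 (Π i, G i) := ⟨Subgroup.pi Set.univ fun i => (S i).1, fun x => by
      choose k hk using fun i => (S i).2 ⟨x.1 i, x.2 i trivial⟩
      refine ⟨∑ i, k i, Subtype.ext (funext fun i => ?_)⟩
      obtain ⟨c, hc⟩ := pow_dvd_pow 2 (Finset.single_le_sum (f := k) (fun _ _ => Nat.zero_le _)
        (Finset.mem_univ i))
      have : x.1 i ^ 2 ^ k i = 1 := congrArg Subtype.val (hk i)
      change x.1 i ^ _ = 1
      rw [hc, pow_mul, this, one_pow],
    fun {R} hR hle => le_antisymm (fun x hx i _ => by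
      change x i ∈ (S i).1
      rw [← (S i).3 (hR.map (Pi.evalMonoidHom G i)) fun s hs => ⟨_, hle (ms i s hs), by simp⟩]
      exact ⟨x, hx, rfl⟩) hle⟩
  refine allPro_of_sylow Q fun H hH g hg => ?_
  have hg' : ∀ i, g i ∈ normalizer ((S i).1 : Set (G i)) := fun i =>
    mem_normalizer_fintype fun s hs => by
      have := (mem_normalizer_iff.1 hg _).1 (ms i s hs) i trivial
      rwa [← cj, Pi.mulSingle_eq_same] at this
  let K : ∀ i, Subgroup (G i) := fun i => H.comap (MonoidHom.mulSingle G i)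
  have hK : ∀ i, (S i).1 ≤ K i := fun i s hs => hH (ms i s hs)
  refine ProAt.of_mul (x := fun i => if g i ∈ normalizer (K i : Set (G i)) then 1 else g i)
    (pi_mem_of_mulSingle_mem _ fun i => ?_) (ProAt.of_mem_normalizer
      (mem_normalizer_fintype fun x (hx : x ∈ H) => ?_))
  · split_ifs with e
    · rw [Pi.mulSingle_one]; exact one_mem _
    · refine (sup_le (comap_mono le_sup_left) ?_ : _ ≤ comap (MonoidHom.mulSingle G i)
        (H ⊔ H.map (MulAut.conj g).toMonoidHom)) ((hS i _ (hK i) _ (hg' i)).resolve_right e)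
      rintro _ ⟨a, ha, rfl⟩
      exact mem_sup_right ⟨_, ha, (cj g i a).symm⟩
  · rw [← inv_mul_cancel_right (_ * x * _) x]
    refine mul_mem (pi_mem_of_mulSingle_mem _ fun i => ?_) hx
    change _ ∈ K i
    simp only [Pi.mul_apply, Pi.inv_apply]
    split_ifs with e
    swap
    · simp
    obtain ⟨m, hm, n, hn, e'⟩ := GT.Tr.frattini_sylowIn (S i).2 (hK i)
      (fun e => (S i).not_dvd_index (e.trans (relIndex_dvd_index_of_le (hK i)))) (n := x i)
      (mem_normalizer_fintype fun a (ha : Pi.mulSingle i a ∈ H) => by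
        change Pi.mulSingle i _ ∈ H
        rw [cj]; exact mul_mem (mul_mem hx ha) (inv_mem hx))
    have := mul_mem (mul_mem ((mem_normalizer_iff.1 e m).1 hm) (hK i (hc i _ (hg' i) _ hn)))
      (inv_mem hm)
    convert this using 1
    rw [e']; group

variable {F : Type*} [Field F] [Finite F] {ι : Type*} [Fintype ι] [DecidableEq ι]
  {T : Subgroup (unitary ℍ[F])} {P : Subgroup (Perm ι)}

omit [Finite F] in
theorem dg_conj (u : unitary ℍ[F]) (w : Wr (unitary ℍ[F]) ι (Perm ι)) :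
    dg u * mono w * (dg u)⁻¹ = mono ⟨fun i => u * w.left i * u⁻¹, w.right⟩ := by
  rw [dg, MonoidHom.comp_apply, ← map_inv, ← map_mul, ← map_mul]
  exact congrArg _ (SemidirectProduct.ext (funext fun i => by simp [wr_mul_left]) (by simp))

theorem dg_norm {u : unitary ℍ[F]} (hu : u ∈ normalizer (T : Set (unitary ℍ[F]))) :
    dg u ∈ normalizer ((subW T P).map mono : Set (unitary (Matrix ι ι ℍ[F]))) :=
  mem_normalizer_fintype (by
    rintro _ ⟨w, hw, rfl⟩
    rw [dg_conj]
    exact mem_map_of_mem _ (mem_subW.2 ⟨fun i =>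
      (mem_normalizer_iff.1 hu _).1 ((mem_subW.1 hw).1 i), (mem_subW.1 hw).2⟩))

omit [Finite F] in
theorem dg_mem_sub {t : unitary ℍ[F]} (ht : t ∈ T) : dg t ∈ (subW T P).map mono :=
  mem_map_of_mem _ (mem_subW.2 ⟨fun _ => ht, one_mem _⟩)

theorem norm_mono (h2 : (2 : F) ≠ 0) (hQ : Q8 F ≤ T) [MulAction.IsPretransitive P ι]
    (hP : normalizer (P : Set (Perm ι)) ≤ P) (a : ι) {n : unitary (Matrix ι ι ℍ[F])}
    (hn : n ∈ normalizer ((subW T P).map mono : Set (unitary (Matrix ι ι ℍ[F])))) :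
    ∃ u ∈ normalizer (T : Set (unitary ℍ[F])), ∃ s ∈ (subW T P).map mono, n = dg u * s := by
  have cj : ∀ s ∈ (subW T P).map mono, n * s * n⁻¹ ∈ (subW T P).map mono := fun s =>
    (mem_normalizer_iff.1 hn s).1
  obtain ⟨w, rfl⟩ := exists_mono (g := n) fun j => by
    obtain ⟨w, -, e⟩ := cj _ (sg_mem_sub j (hQ I_mem))
    have e1 := conj_refl (sg_neg_one j) n
    rw [← II, map_mul, ← conj_mul, ← e, ← map_mul] at e1
    refine (frame_or_swap h2 ((fr_pl j).conj n) e1).resolve_right ?_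
    rintro ⟨i, l, il, e2⟩
    have := congrArg (fun x => Perm.sign x.right) e2
    simp [Perm.sign_swap il] at this
  have cj' : ∀ v ∈ subW T P, w * v * w⁻¹ ∈ subW T P := fun v hv => by
    have := cj _ (mem_map_of_mem _ hv)
    rwa [← map_inv, ← map_mul, ← map_mul, mem_map_iff_mem mono_injective] at this
  have h1 : w.right ∈ P := hP (mem_normalizer_fintype fun τ hτ => by
    simpa using (mem_subW.1 (cj' (inr τ) (mem_subW.2 ⟨fun _ => one_mem _, hτ⟩))).2)
  have h3 : w.left a ∈ normalizer (T : Set (unitary ℍ[F])) := mem_normalizer_fintype fun t ht => by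
    have := cj _ (sg_mem_sub (w.right⁻¹ a) ht)
    rw [mono_sg, show w.right (w.right⁻¹ a) = a by simp, sg, MonoidHom.comp_apply,
      mem_map_iff_mem mono_injective] at this
    simpa using (mem_subW.1 this).1 a
  have h4 : ∀ i, (w.left a)⁻¹ * w.left i ∈ T := fun i => by
    obtain ⟨τ, rfl⟩ := MulAction.exists_smul_eq P a i
    have := (mem_subW.1 (cj' (inr (w.right⁻¹ * τ * w.right)) (mem_subW.2 ⟨fun _ => one_mem _,
      mul_mem (mul_mem (inv_mem h1) τ.2) h1⟩))).1 (τ • a)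
    simp only [wr_mul_left, wr_inv_left, left_inr, Pi.one_apply, mul_one, mul_right, right_inr,
      ← mul_assoc, mul_inv_cancel, one_mul, Subgroup.smul_def, ← mul_smul, _root_.mul_inv_rev,
      inv_mul_cancel_right, one_smul] at this
    have := (mem_normalizer_iff.1 (inv_mem h3) _).1 this
    simpa [mul_assoc, Subgroup.smul_def] using this
  refine ⟨_, h3, mono ⟨fun i => (w.left a)⁻¹ * w.left i, w.right⟩,
    mem_map_of_mem _ (mem_subW.2 ⟨h4, h1⟩), ?_⟩
  rw [dg, MonoidHom.comp_apply, ← map_mul]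
  exact congrArg _ (SemidirectProduct.ext (funext fun i => by simp [wr_mul_left]) (by simp))

theorem dg_normalizes (h2 : (2 : F) ≠ 0) {T : Sylow 2 (unitary ℍ[F])} (hT : T.1 = Q8 F)
    [MulAction.IsPretransitive P ι] {K L : Subgroup (unitary (Matrix ι ι ℍ[F]))}
    (hK : (subW (Q8 F) P).map mono ≤ K) (hL : K ≤ L) (hM : L ≤ mono.range) (hW : dg (uW h2) ∉ L)
    {u : unitary ℍ[F]} (hu : u ∈ normalizer (Q8 F : Set (unitary ℍ[F]))) (hu' : u ∉ Q8 F)
    (h : ∀ k ∈ K, dg u * k * (dg u)⁻¹ ∈ L) :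
    dg u ∈ normalizer (K : Set (unitary (Matrix ι ι ℍ[F]))) := by
  have h1 : ∀ i, sg i (uW h2) ∉ L := fun i e => hW (inl_mem fun j => by
    obtain ⟨σ, rfl⟩ := MulAction.exists_smul_eq P i j
    have m := hL (hK (inr_mem_sub σ.2))
    have := mul_mem (mul_mem m e) (inv_mem m)
    rw [mono_sg] at this
    simpa [Subgroup.smul_def] using this)
  have h3 : ∀ i k, sg i k ∈ K → k ∈ Q8 F := fun i k hk =>
    mem_Q8_of_conj h2 hT (L := L.comap (sg i)) (fun q hq => hL (hK (sg_mem_sub i hq))) (h1 i)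
      hu hu' (hL hk) (by
        have := h _ hk
        rw [dg, MonoidHom.comp_apply, mono_sg] at this
        exact this)
  refine mem_normalizer_fintype fun k (hk : k ∈ K) => ?_
  obtain ⟨w, rfl⟩ := hM (hL hk)
  have h4 : ∀ i, w.left i ∈ normalizer (Q8 F : Set (unitary ℍ[F])) := fun i =>
    mem_normalizer_fintype fun q hq => h3 i _ (by
      have := mul_mem (mul_mem hk (hK (sg_mem_sub (w.right⁻¹ i) hq))) (inv_mem hk)
      rwa [mono_sg, show w.right (w.right⁻¹ i) = i by simp] at this)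
  have h5 : dg u * mono w * (dg u)⁻¹ =
      mono (inl fun i => u * w.left i * u⁻¹ * (w.left i)⁻¹) * mono w := by
    rw [dg_conj, ← map_mul]
    exact congrArg _ (SemidirectProduct.ext (funext fun i => by simp [wr_mul_left]) (by simp))
  change _ ∈ K
  rw [h5]
  exact mul_mem (inl_mem fun i => hK (sg_mem_sub i (norm_comm h2 hT hu (h4 i)))) hk

theorem good_unitary (hF : Odd (Nat.card F)) {m k : ℕ} (hm : m = 2 ^ k) :
    Good (unitary (Matrix (Fin m) (Fin m) ℍ[F])) := by
  have h2 := sp_two_ne_zero_of_odd hF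
  obtain ⟨T, hQ⟩ := (Q8_pgroup h2).exists_le_sylow
  obtain ⟨P⟩ : Nonempty (Sylow 2 (Perm (Fin m))) := inferInstance
  obtain ⟨S, hS⟩ := exists_sylow hF T P
  have := Perm.sylow_isPretransitive_of_card_eq_pow (Ω := Fin m) (by rw [Nat.card_fin, hm]) P
  have a : Fin m := ⟨0, hm ▸ Nat.two_pow_pos k⟩
  have N := fun n (hn : n ∈ normalizer (S.1 : Set (unitary (Matrix (Fin m) (Fin m) ℍ[F])))) =>
    norm_mono h2 hQ (Sym.normalizer_sylow_two_perm P).le a (hS ▸ hn)
  rw [← hS] at N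
  rcases sylow_cases h2 T hQ with hT | hT
  swap
  · have N' : normalizer (S.1 : Set (unitary (Matrix (Fin m) (Fin m) ℍ[F]))) ≤ S.1 := fun n hn => by
      obtain ⟨u, hu, s, hs, rfl⟩ := N n hn
      exact mul_mem (hS ▸ dg_mem_sub (hT hu)) hs
    exact ⟨S, fun x hx y hy => N' (mul_mem (mul_mem (mul_mem hx hy) (inv_mem hx)) (inv_mem hy)),
      fun K hK g hg => Or.inl (mem_sup_left (hK (N' hg)))⟩
  have C : ∀ x ∈ normalizer (S.1 : Set (unitary (Matrix (Fin m) (Fin m) ℍ[F]))),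
      x ∈ S.1 ∨ dg (uW h2) * x ∈ S.1 ∨ (dg (uW h2))⁻¹ * x ∈ S.1 := fun x hx => by
    obtain ⟨u, hu, s, hs, rfl⟩ := N x hx
    have k : ∀ t ∈ Q8 F, dg t * s ∈ S.1 := fun t ht => mul_mem (hS ▸ dg_mem_sub (hQ ht)) hs
    rw [← map_inv, ← mul_assoc, ← mul_assoc, ← map_mul, ← map_mul]
    exact (norm_cases h2 hT (hT ▸ hu)).imp (k _) (Or.imp (k _) (k _))
  refine ⟨S, fun x hx y hy => comm_of_cases (hS ▸ dg_norm (hT ▸ W_norm h2)) C hx hy,
    fun K hK g hg => or_iff_not_imp_left.2 fun hg' => ?_⟩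
  have hL : S.1 ≤ K ⊔ K.map (MulAut.conj g).toMonoidHom := hK.trans le_sup_left
  have hW : dg (uW h2) ∉ K ⊔ K.map (MulAut.conj g).toMonoidHom := fun e => hg' (by
    rcases C g hg with h | h | h
    exacts [hL h, (mul_mem_cancel_left e).1 (hL h), (mul_mem_cancel_left (inv_mem e)).1 (hL h)])
  obtain ⟨u, hu, s, hs, e⟩ := N g hg
  rw [e]
  refine mul_mem (dg_normalizes (P := P.1) h2 hT (hT ▸ hS ▸ hK) le_sup_left ((mono_or h2 hQ
    T.not_dvd_index ?_ a S hS hL).resolve_right hW) hW (hT ▸ hu)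
    (fun h => hg' (hL (e ▸ mul_mem (hS ▸ dg_mem_sub (hQ h)) hs))) fun x hx => mem_sup_right
      ⟨s⁻¹ * x * s, mul_mem (mul_mem (inv_mem (hK hs)) hx) (hK hs), ?_⟩) (le_normalizer (hK hs))
  · rw [P.card_eq_multiplicity]
    exact fun h => absurd (Nat.prime_three.dvd_of_dvd_pow h) (by decide)
  · change g * _ * g⁻¹ = _
    rw [e]; group

end Cfsg.Agent.Cl.Pln
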