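import Mathlib
import Cfsg.Agent.Cl.GLSyl

/-!
# Normalisers of iterated wreath products `R ≀ C₂` in linear groups

If the odd-order elements normalising a `2`-group `R ≤ GL(V)` are scalars, the same holds for
`R ≀ C₂ ≤ GL(V ⊕ V)` and for its intersection with `SL(V ⊕ V)`.
-/

set_option autoImplicit false

namespace Cfsg.Agent.Cl.Pro

open Module Equiv SemidirectProduct GLS

section Wr

variable {D T ι : Type*} [Group D] [Group T] [MulAction T ι] [DecidableEq ι]

theorem conj_single (w : Wr D ι T) (i : ι) (d : D) : w * wrSingle T i d * w⁻¹ =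
    wrSingle T (w.right • i) (w.left (w.right • i) * d * (w.left (w.right • i))⁻¹) := by
  refine SemidirectProduct.ext (funext fun j => ?_) (by simp)
  simp only [wr_mul_left, wr_inv_left, wrSingle_left, SemidirectProduct.mul_right, wrSingle_right,
    mul_one, smul_inv_smul]
  by_cases hj : j = w.right • i
  · subst hj; simp
  · rw [Pi.mulSingle_eq_of_ne hj, Pi.mulSingle_eq_of_ne (fun h => hj (by rw [← h, smul_inv_smul])),
      mul_one, mul_inv_cancel]

end Wr

theorem commute_of_sq {G : Type*} [Group G] {x z : G} (hx : Odd (orderOf x))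
    (h : Commute (x ^ 2) z) : Commute x z := by
  obtain ⟨k, hk⟩ := hx
  have : x = (x ^ 2) ^ (k + 1) := by
    rw [← pow_mul, show 2 * (k + 1) = orderOf x + 1 by omega, pow_succ, pow_orderOf_eq_one, one_mul]
  rw [this]
  exact h.pow_left _

theorem eq_one_of_odd {G : Type*} [Group G] {R : Subgroup G} (hR : IsPGroup 2 R) {g : G}
    (hg : g ∈ R) {n : ℕ} (hn : Odd n) (h : g ^ n = 1) : g = 1 := by
  obtain ⟨k, hk⟩ := hR ⟨g, hg⟩
  have h3 := pow_gcd_eq_one.2 ⟨h, (congrArg Subtype.val hk : g ^ 2 ^ k = 1)⟩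
  rwa [Nat.Coprime.gcd_eq_one (Nat.Coprime.pow_right k (Nat.coprime_two_right.2 hn)), pow_one] at h3

variable {F : Type*} [Field F] {V : Type*} [AddCommGroup V] [Module F V]

/-- Scalar transformations. -/
def IsSc (x : V ≃ₗ[F] V) : Prop := ∃ c : F, ∀ v, x v = c • v

theorem IsSc.comm {x : V ≃ₗ[F] V} (h : IsSc x) (y : V ≃ₗ[F] V) : x * y = y * x := by
  obtain ⟨c, hc⟩ := h
  exact LinearEquiv.ext fun v => by simp only [LinearEquiv.mul_apply, hc, map_smul]

variable (F V) in
/-- The map `-1`. -/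
def ng : V ≃ₗ[F] V := LinearEquiv.neg F

theorem ng_apply (v : V) : ng F V v = -v := rfl

theorem isSc_ng : IsSc (ng F V) := ⟨-1, fun v => by rw [ng_apply, neg_one_smul]⟩

theorem ng_mul_ng : ng F V * ng F V = 1 := LinearEquiv.ext fun v => neg_neg v

theorem ng_ne_one [Nontrivial V] (h2 : (2 : F) ≠ 0) : ng F V ≠ 1 := fun h => by
  obtain ⟨v, hv⟩ := exists_ne (0 : V)
  have h1 : -v = v := LinearEquiv.congr_fun h v
  have : (2 : F) • v = 0 := by rw [two_smul]; nth_rw 1 [← h1]; exact neg_add_cancel v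
  exact hv ((smul_eq_zero.1 this).resolve_left h2)

theorem det_ng [FiniteDimensional F V] (h : Even (finrank F V)) : LinearEquiv.det (ng F V) = 1 := by
  ext
  have : (ng F V : V →ₗ[F] V) = (-1 : F) • LinearMap.id := by ext v; simp [ng_apply]
  rw [LinearEquiv.coe_det, this, LinearMap.det_smul, h.neg_one_pow, LinearMap.det_id, one_mul,
    Units.val_one]

theorem IsSc.eq_of_sq {x : V ≃ₗ[F] V} (h : IsSc x) (h2 : x * x = 1) : x = 1 ∨ x = ng F V := by
  obtain ⟨c, hc⟩ := h
  rcases subsingleton_or_nontrivial V with _ | _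
  · exact .inl (LinearEquiv.ext fun _ => Subsingleton.elim _ _)
  obtain ⟨v, hv⟩ := exists_ne (0 : V)
  have h1 : (c * c) • v = (1 : F) • v := by
    rw [one_smul, mul_smul, ← hc, ← hc]; exact LinearEquiv.congr_fun h2 v
  rcases mul_self_eq_one_iff.1 (smul_left_injective F hv h1) with rfl | rfl
  · exact .inl (LinearEquiv.ext fun v => by simp [hc])
  · exact .inr (LinearEquiv.ext fun v => by simp [hc, ng_apply])

/-- The odd-order elements normalising `R` are scalars. -/
def OddSc (R : Subgroup (V ≃ₗ[F] V)) : Prop :=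
  ∀ x ∈ Subgroup.normalizer (R : Set (V ≃ₗ[F] V)), Odd (orderOf x) → IsSc x

/-- The inductive hypothesis. -/
structure Good (R : Subgroup (V ≃ₗ[F] V)) : Prop where
  fin : Finite R
  pgrp : IsPGroup 2 R
  neg : ng F V ∈ R
  cent : ∀ x : V ≃ₗ[F] V, (∀ s ∈ R, LinearEquiv.det s = 1 → x * s = s * x) → IsSc x
  norm : OddSc R
  ex : ∃ s ∈ R, LinearEquiv.det s = 1 ∧ s ≠ 1 ∧ s ≠ ng F V

variable (F V) in
/-- `GL(V) ≀ C₂`. -/
abbrev W2 := Wr (V ≃ₗ[F] V) Bool (Perm Bool)

/-- The embedding of `R ≀ C₂`. -/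
def dblHom (R : Subgroup (V ≃ₗ[F] V)) : Wr R Bool (Perm Bool) →* ((Bool → V) ≃ₗ[F] (Bool → V)) :=
  (formWrLin Bool).comp (wrMap R.subtype (MonoidHom.id _) fun _ _ => rfl)

/-- `R ≀ C₂` in `GL(V ⊕ V)`. -/
def dbl (R : Subgroup (V ≃ₗ[F] V)) : Subgroup ((Bool → V) ≃ₗ[F] (Bool → V)) := (dblHom R).range

theorem dblHom_injective [Nontrivial V] (R : Subgroup (V ≃ₗ[F] V)) :
    Function.Injective (dblHom R) :=
  formWrLin_injective.comp (wrMap_injective (fun _ _ => rfl) R.subtype_injective fun _ _ h => h)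

theorem card_dbl [Nontrivial V] (R : Subgroup (V ≃ₗ[F] V)) :
    Nat.card (dbl R) = Nat.card R ^ 2 * 2 := by
  rw [dbl, ← Nat.card_congr (MonoidHom.ofInjective (dblHom_injective R)).toEquiv, wr_card,
    Nat.card_perm]
  simp

theorem mem_dbl {R : Subgroup (V ≃ₗ[F] V)} {g : (Bool → V) ≃ₗ[F] (Bool → V)} :
    g ∈ dbl R ↔ ∃ w : W2 F V, (∀ i, w.left i ∈ R) ∧ formWrLin Bool w = g := by
  constructor
  · rintro ⟨w, rfl⟩
    exact ⟨_, fun i => (w.left i).2, rfl⟩
  · rintro ⟨w, hw, rfl⟩
    exact ⟨⟨fun i => ⟨_, hw i⟩, w.right⟩, rfl⟩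

theorem mem_dbl' [Nontrivial V] {R : Subgroup (V ≃ₗ[F] V)} {w : W2 F V} :
    formWrLin Bool w ∈ dbl R ↔ ∀ i, w.left i ∈ R := by
  rw [mem_dbl]
  refine ⟨?_, fun h => ⟨w, h, rfl⟩⟩
  rintro ⟨w', hw, h⟩
  rwa [← formWrLin_injective h]

theorem single_mem_dbl {R : Subgroup (V ≃ₗ[F] V)} (i : Bool) {s : V ≃ₗ[F] V} (hs : s ∈ R) :
    formWrLin Bool (wrSingle (Perm Bool) i s) ∈ dbl R :=
  mem_dbl.2 ⟨_, fun j => by
    by_cases hj : j = i
    · subst hj; simpa
    · simp [Pi.mulSingle_eq_of_ne hj], rfl⟩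

theorem inr_mem_dbl {R : Subgroup (V ≃ₗ[F] V)} (t : Perm Bool) :
    formWrLin Bool (inr t) ∈ dbl R := mem_dbl.2 ⟨_, fun _ => R.one_mem, rfl⟩

variable (F V) in
/-- The involution with eigenspaces the two summands. -/
def zz : (Bool → V) ≃ₗ[F] (Bool → V) := formWrLin Bool (wrSingle (Perm Bool) true (ng F V))

theorem zz_true (v : Bool → V) : zz F V v true = -v true := rfl

theorem zz_false (v : Bool → V) : zz F V v false = v false := rfl

theorem zz_mul_zz : zz F V * zz F V = 1 := by
  rw [zz, ← map_mul, ← map_mul, ng_mul_ng, map_one, map_one]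

theorem ng_eq : ng F (Bool → V) = formWrLin Bool (inl fun _ => ng F V) := rfl

theorem exists_inl_of_commute (h2 : (2 : F) ≠ 0) {x : (Bool → V) ≃ₗ[F] (Bool → V)}
    (h : Commute x (zz F V)) : ∃ y : Bool → V ≃ₗ[F] V, x = formWrLin Bool (inl y) := by
  have key : ∀ {x : (Bool → V) ≃ₗ[F] (Bool → V)}, Commute x (zz F V) → ∀ i v,
      Pi.single i (x (Pi.single i v) i) = x (Pi.single i v) := by
    intro x h i v
    have h1 : x (zz F V (Pi.single i v)) = zz F V (x (Pi.single i v)) := LinearEquiv.congr_fun h _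
    have h3 : ∀ u : V, -u = u → u = 0 := fun u hu => by
      have : (2 : F) • u = 0 := by rw [two_smul]; nth_rw 1 [← hu]; exact neg_add_cancel u
      exact (smul_eq_zero.1 this).resolve_left h2
    cases i
    · have : zz F V (Pi.single false v) = Pi.single false v := by
        funext j; cases j <;> simp [zz_true, zz_false]
      rw [this] at h1
      funext j
      cases j
      · simp
      · simpa using (h3 _ ((zz_true _).symm.trans (congrFun h1 true).symm)).symm
    · have : zz F V (Pi.single true v) = -Pi.single true v := by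
        funext j; cases j <;> simp [zz_true, zz_false]
      rw [this, map_neg] at h1
      funext j
      cases j
      · simpa using (h3 _ ((congrFun h1 false).trans (zz_false _))).symm
      · simp
  refine ⟨fun i => LinearEquiv.ofLinearMap
    ((LinearMap.proj i) ∘ₗ x.toLinearMap ∘ₗ LinearMap.single F (fun _ => V) i)
    ((LinearMap.proj i) ∘ₗ (x⁻¹).toLinearMap ∘ₗ LinearMap.single F (fun _ => V) i) ?_ ?_, ?_⟩
  · ext v
    change x (Pi.single i (x⁻¹ (Pi.single i v) i)) i = v
    rw [key h.inv_left, ← LinearEquiv.mul_apply, mul_inv_cancel]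
    simp
  · ext v
    change x⁻¹ (Pi.single i (x (Pi.single i v) i)) i = v
    rw [key h, ← LinearEquiv.mul_apply, inv_mul_cancel]
    simp
  · ext v i
    change x v i = x (Pi.single i (v i)) i
    conv_lhs => rw [← Finset.univ_sum_single v, map_sum, Finset.sum_apply]
    refine Finset.sum_eq_single i (fun j _ hj => ?_) fun h => absurd (Finset.mem_univ i) h
    rw [← key h, Pi.single_eq_of_ne hj.symm]

variable [FiniteDimensional F V] [Nontrivial V] {R : Subgroup (V ≃ₗ[F] V)}

omit [FiniteDimensional F V] [Nontrivial V] in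
theorem isSc_of_inl {y : Bool → V ≃ₗ[F] V} (h : IsSc (y true)) (h' : y false = y true) :
    IsSc (formWrLin Bool (inl y)) := by
  obtain ⟨c, hc⟩ := h
  refine ⟨c, fun v => funext fun i => ?_⟩
  cases i
  · change y false (v false) = c • v false
    rw [h', hc]
  · exact hc _

theorem Good.eq_zz (hR : Good R) (h2 : (2 : F) ≠ 0) {u : (Bool → V) ≃ₗ[F] (Bool → V)}
    (hu : u ∈ dbl R) (h1 : u * u = 1) (h3 : u ≠ 1) (h4 : u ≠ ng F _)
    (h : ∀ s ∈ dbl R, LinearEquiv.det s = 1 →
      u * s * u⁻¹ * s⁻¹ = 1 ∨ u * s * u⁻¹ * s⁻¹ = ng F _) :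
    u = zz F V ∨ u = ng F _ * zz F V := by
  obtain ⟨w, hw, rfl⟩ := mem_dbl.1 hu
  have h5 : ∀ i, ∀ s ∈ R, LinearEquiv.det s = 1 → ∀ j,
      (w * wrSingle (Perm Bool) i s * w⁻¹ * (wrSingle (Perm Bool) i s)⁻¹).left j =
      (w * wrSingle (Perm Bool) i s * w⁻¹ * (wrSingle (Perm Bool) i s)⁻¹).left i ∧
      ((w * wrSingle (Perm Bool) i s * w⁻¹ * (wrSingle (Perm Bool) i s)⁻¹).left i = 1 ∨
      (w * wrSingle (Perm Bool) i s * w⁻¹ * (wrSingle (Perm Bool) i s)⁻¹).left i = ng F V) := by
    intro i s hs hs' j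
    have := h _ (single_mem_dbl i hs) (by rw [det_wr_single, hs'])
    rw [← map_inv, ← map_inv, ← map_mul, ← map_mul, ← map_mul, ng_eq,
      ← map_one (formWrLin (F := F) (U := V) Bool)] at this
    rcases this with h | h <;> rw [formWrLin_injective h]
    · exact ⟨rfl, .inl rfl⟩
    · exact ⟨rfl, .inr rfl⟩
  have hfix : ∀ i : Bool, w.right • i = i := fun i => by
    by_contra hi
    have hi' : i ≠ w.right • i := fun h => hi h.symm
    obtain ⟨s, hs, hs', hs1, hs2⟩ := hR.ex
    have := (h5 i s hs hs' i).2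
    rw [conj_single, ← map_inv, wr_mul_left] at this
    rw [wrSingle_left, wrSingle_left, wrSingle_right, inv_one, one_smul, Pi.mulSingle_eq_same,
      Pi.mulSingle_eq_of_ne hi', one_mul] at this
    rcases this with h | h
    · exact hs1 (inv_eq_one.1 h)
    · exact hs2 (by rw [← inv_inv s, h]; exact inv_eq_of_mul_eq_one_right ng_mul_ng)
  have hr : w.right = 1 := Equiv.ext hfix
  have hsc : ∀ i, w.left i = 1 ∨ w.left i = ng F V := fun i => by
    refine (hR.cent _ fun s hs hs' => ?_).eq_of_sq ?_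
    · have := (h5 i s hs hs' (!i)).1
      rw [conj_single, hfix, ← map_inv, ← map_mul, wrSingle_left, Pi.mulSingle_eq_same,
        Pi.mulSingle_eq_of_ne (by cases i <;> simp)] at this
      rw [← mul_inv_eq_one, mul_inv_rev, ← mul_assoc, this]
    · rw [← map_mul, ← map_one (formWrLin (F := F) (U := V) Bool)] at h1
      have := congrArg (fun w => w.left i) (formWrLin_injective h1)
      simpa [wr_mul_left, hr] using this
  have hw' : w = inl w.left := SemidirectProduct.ext rfl hr
  rw [hw'] at h3 h4 ⊢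
  rcases hsc true with e1 | e1 <;> rcases hsc false with e2 | e2
  · refine absurd ?_ h3
    rw [show w.left = 1 from funext fun i => by cases i <;> assumption, map_one, map_one]
  · right
    ext v i
    cases i
    · change w.left false (v false) = -v false
      rw [e2, ng_apply]
    · change w.left true (v true) = - -v true
      rw [e1, neg_neg]; rfl
  · left
    ext v i
    cases i
    · change w.left false (v false) = v false
      rw [e2]; rfl
    · change w.left true (v true) = -v true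
      rw [e1, ng_apply]
  · refine absurd ?_ h4
    rw [show w.left = fun _ => ng F V from funext fun i => by cases i <;> assumption, ng_eq]

omit [FiniteDimensional F V] [Nontrivial V] in
theorem zz_conj {s : (Bool → V) ≃ₗ[F] (Bool → V)} (hs : s ∈ dbl R) :
    zz F V * s * (zz F V)⁻¹ * s⁻¹ = 1 ∨ zz F V * s * (zz F V)⁻¹ * s⁻¹ = ng F _ := by
  obtain ⟨w, -, rfl⟩ := mem_dbl.1 hs
  have h1 : zz F V * formWrLin Bool w * (zz F V)⁻¹ * (formWrLin Bool w)⁻¹ =
      zz F V * formWrLin Bool (wrSingle (Perm Bool) (w.right • true) (ng F V)) := by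
    rw [inv_eq_of_mul_eq_one_right zz_mul_zz, mul_assoc, mul_assoc, ← mul_assoc (formWrLin Bool w),
      zz, ← map_inv, ← map_mul, ← map_mul, conj_single, ← isSc_ng.comm, mul_inv_cancel_right]
  rw [h1]
  cases w.right • true
  · right
    ext v i
    cases i <;> rfl
  · exact .inl zz_mul_zz

theorem Good.oddSc (hR : Good R) (h2 : (2 : F) ≠ 0) (hV : Even (finrank F V))
    {P : Subgroup ((Bool → V) ≃ₗ[F] (Bool → V))} (h1 : P ≤ dbl R)
    (h3 : ∀ s ∈ dbl R, LinearEquiv.det s = 1 → s ∈ P) : OddSc P := by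
  intro x hx hodd
  have hz : zz F V ∈ P := h3 _ (single_mem_dbl _ hR.neg) (by rw [zz, det_wr_single, det_ng hV])
  have hzn : zz F V ≠ ng F _ := fun h => ng_ne_one (V := V) h2 (LinearEquiv.ext fun v => by
    simpa [zz_false, ng_apply] using (congrFun (LinearEquiv.congr_fun h fun _ => v) false).symm)
  have hz1 : zz F V ≠ 1 := fun h => ng_ne_one (V := V) h2 (LinearEquiv.ext fun v =>
    congrFun (LinearEquiv.congr_fun h fun _ => v) true)
  have hc : Commute x (zz F V) := by
    rcases hR.eq_zz h2 (u := x * zz F V * x⁻¹) (h1 ((hx _).1 hz))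
      (by rw [conj_mul, zz_mul_zz]; group) (fun h => hz1 (by simpa using h))
      (fun h => hzn (by
        rw [mul_inv_eq_iff_eq_mul, isSc_ng.comm] at h
        exact mul_left_cancel h)) (fun s hs hs' => by
        have h4 := zz_conj (h1 ((Subgroup.inv_mem _ hx _).1 (h3 s hs hs')))
        have : x * zz F V * x⁻¹ * s * (x * zz F V * x⁻¹)⁻¹ * s⁻¹ = x * (zz F V * (x⁻¹ * s * x⁻¹⁻¹) *
          (zz F V)⁻¹ * (x⁻¹ * s * x⁻¹⁻¹)⁻¹) * x⁻¹ := by group
        rw [this]
        rcases h4 with h | h <;> rw [h]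
        · left; group
        · right; rw [← isSc_ng.comm, mul_inv_cancel_right]) with h | h
    · exact mul_inv_eq_iff_eq_mul.1 h
    · refine commute_of_sq hodd (mul_inv_eq_iff_eq_mul.1 ?_)
      have : x ^ 2 * zz F V * (x ^ 2)⁻¹ = x * (x * zz F V * x⁻¹) * x⁻¹ := by rw [pow_two]; group
      rw [this, h, ← mul_assoc, ← isSc_ng.comm, mul_assoc (ng F _), mul_assoc (ng F _), h,
        ← mul_assoc, ng_mul_ng, one_mul]
  obtain ⟨y, rfl⟩ := exists_inl_of_commute h2 hc
  have hy : y ^ orderOf (formWrLin Bool (inl y)) = 1 := by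
    apply inl_injective (φ := mulAutArrow (G := Perm Bool))
    apply formWrLin_injective
    rw [map_pow, map_pow, pow_orderOf_eq_one, map_one, map_one]
  have := hR.fin
  have hsc : ∀ i, IsSc (y i) := fun i => by
    refine hR.norm _ (Subgroup.mem_normalizer_fintype fun r hr => ?_)
      (hodd.of_dvd_nat (orderOf_dvd_of_pow_eq_one (congrFun hy i)))
    have h4 := h1 ((hx _).1 (h3 _ (Subgroup.mul_mem _ (single_mem_dbl i hr)
      (single_mem_dbl (!i) (R.inv_mem hr))) (by
        rw [map_mul, det_wr_single, det_wr_single, map_inv, mul_inv_cancel])))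
    rw [← map_mul, ← map_inv, ← map_mul, ← map_mul, mem_dbl'] at h4
    have := h4 i
    cases i <;> simpa [wr_mul_left, wr_inv_left] using this
  have h4 := h1 (P.mul_mem ((hx _).1 (h3 _ (inr_mem_dbl (Equiv.swap true false))
    (det_wr_inr hV _))) (P.inv_mem (h3 _ (inr_mem_dbl (Equiv.swap true false)) (det_wr_inr hV _))))
  rw [← map_inv (formWrLin Bool), ← map_inv (formWrLin Bool), ← map_mul, ← map_mul, ← map_mul,
    mem_dbl'] at h4
  have h5 : y true * (y false)⁻¹ ∈ R := by simpa [wr_mul_left, wr_inv_left] using h4 true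
  have h6 := eq_one_of_odd hR.pgrp h5 hodd (by
    rw [(show Commute (y true) (y false)⁻¹ from (hsc true).comm _).mul_pow, inv_pow,
      show y true ^ _ = 1 from congrFun hy true, show y false ^ _ = 1 from congrFun hy false]
    simp)
  exact isSc_of_inl (hsc true) (mul_inv_eq_one.1 h6).symm

theorem Good.dbl (hR : Good R) (h2 : (2 : F) ≠ 0) (hV : Even (finrank F V)) : Good (dbl R) := by
  have := hR.fin
  have hz : zz F V ∈ Pro.dbl R := single_mem_dbl _ hR.neg
  have hz' : LinearEquiv.det (zz F V) = 1 := by rw [zz, det_wr_single, det_ng hV]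
  refine ⟨Finite.of_surjective _ (dblHom R).rangeRestrict_surjective,
    (wr_isPGroup hR.pgrp (IsPGroup.of_card (n := 1) (by rw [Nat.card_perm]; simp))).of_surjective
      _ (dblHom R).rangeRestrict_surjective, mem_dbl.2 ⟨inl fun _ => ng F V, fun _ => hR.neg, rfl⟩,
    fun x hx => ?_, hR.oddSc h2 hV le_rfl fun _ h _ => h, _, hz, hz', fun h => ?_, fun h => ?_⟩
  · obtain ⟨y, rfl⟩ := exists_inl_of_commute h2 (hx _ hz hz')
    refine isSc_of_inl (hR.cent _ fun s hs hs' => ?_) ?_
    · have := hx _ (single_mem_dbl true hs) (by rw [det_wr_single, hs'])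
      rw [← map_mul, ← map_mul] at this
      simpa [wr_mul_left] using congrArg (fun w => w.left true) (formWrLin_injective this)
    · have := hx _ (inr_mem_dbl (Equiv.swap true false)) (det_wr_inr hV _)
      rw [← map_mul, ← map_mul] at this
      simpa [wr_mul_left] using congrArg (fun w => w.left false) (formWrLin_injective this)
  · exact ng_ne_one (V := V) h2 (LinearEquiv.ext fun v =>
      congrFun (LinearEquiv.congr_fun h fun _ => v) true)
  · exact ng_ne_one (V := V) h2 (LinearEquiv.ext fun v => by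
      simpa [zz_false, ng_apply] using (congrFun (LinearEquiv.congr_fun h fun _ => v) false).symm)

end Cfsg.Agent.Cl.Pro
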