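import Mathlib
import Cfsg.Agent.Cl.S4OG
import Cfsg.Agent.Cl.S4OX
import Cfsg.Agent.Cl.S4OAltA
import Cfsg.Agent.Inv.RankOneP
import Cfsg.Agent.Ch.Metacyclic
import Cfsg.Agent.GW.Cover
import Cfsg.Agent.FG.C1Base
import Cfsg.Agent.Hay.Jac
import Cfsg.Agent.S0205
import Cfsg.Agent.S0483

/-!
# Quasisimple subgroups of `Sp₄(q)` without non-central involutions
-/

set_option autoImplicit false
set_option linter.ambiguousOpen false

namespace Cfsg.Agent.Cl.S4O

open Matrix Low Max Mx Geo
open scoped MatrixGroups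

namespace I

open Subgroup

/-- A perfect group with a unique involution has dihedral Sylow 2-subgroups modulo it. -/
theorem exists_dihedral {X G : Type*} [Group X] [Group G] [Finite X] [Group.IsPerfect X]
    {π : X →* G} (hπ : Function.Surjective π) {z : X} (hz : orderOf z = 2)
    (hk : ∀ x, π x = 1 ↔ x = 1 ∨ x = z) (hu : ∀ x : X, x * x = 1 → x = 1 ∨ x = z) :
    ∃ (S : Sylow 2 G) (n : ℕ), 2 ≤ n ∧ Nonempty ((S : Subgroup G) ≃* DihedralGroup n) := by
  obtain ⟨S, hS⟩ := (IsPGroup.of_card (p := 2) (n := 1) (G := zpowers z)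
    (by rw [Nat.card_zpowers, hz, pow_one])).exists_le_sylow
  have zS : z ∈ (S : Subgroup X) := hS (mem_zpowers z)
  have z1 : z ≠ 1 := by rintro rfl; simp at hz
  have ho : ∀ x : X, orderOf x = 2 → x = z := fun x hx =>
    (hu x (by rw [← sq, ← hx, pow_orderOf_eq_one])).resolve_left (by rintro rfl; simp at hx)
  rcases Inv.SE.cyclic_or_quaternion_of_uniqOrd' S.2 (fun x _ y _ hx hy => by
    rw [ho x hx, ho y hy]; exact mem_zpowers z) with h | ⟨n, ⟨e⟩⟩
  · exfalso
    have hp : (Nat.card X).minFac = 2 := (Nat.minFac_eq_two_iff _).2 (hz ▸ orderOf_dvd_natCard z)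
    have hc := IsCyclic.isComplement' hp h
    set f := MonoidHom.transferSylow S (h.normalizer_le_centralizer hp)
    have : z ∈ f.ker := by
      have h1 : z ∈ commutator X := Group.IsPerfect.mem_commutator
      refine (commutator_le.2 fun a _ b _ => ?_ : ⁅⊤, ⊤⁆ ≤ f.ker) h1
      rw [MonoidHom.mem_ker, map_commutatorElement, commutatorElement_eq_one_iff_mul_comm]
      exact h.isMulCommutative.1.1 _ _
    exact z1 (disjoint_def.1 hc.disjoint this zS)
  · let f := (Ch.quatToDihedral (2 ^ (n + 1))).comp e.toMonoidHom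
    have hf : Function.Surjective f := (Ch.isStemExtension_quatToDihedral _
      (by simp [Nat.even_pow])).1.comp e.surjective
    have hc : Nat.card f.ker = 2 := by
      refine .trans ?_ (Ch.card_ker_quatToDihedral (2 ^ (n + 1)))
      rw [← MonoidHom.comap_ker]
      exact Nat.card_congr (e.subgroupMap _ |>.trans (MulEquiv.subgroupCongr
        (map_comap_eq_self_of_surjective e.surjective _))).toEquiv
    have h1 : ∀ x ∈ f.ker, π x = 1 := fun x hx => (hk x).2 (hu x (by
      have := pow_card_eq_one' (x := (⟨x, hx⟩ : f.ker))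
      rw [hc, sq] at this
      exact congrArg (fun y : f.ker => ((y : S) : X)) this))
    let g : S →* S.mapSurjective hπ := π.subgroupMap S
    have hg : f.ker = g.ker := by
      refine le_antisymm (fun x hx => Subtype.ext (h1 x hx)) fun x hx => ?_
      rcases (hk x).1 (congrArg Subtype.val hx) with h | h
      · rw [show x = 1 from Subtype.ext h]; exact one_mem _
      · obtain ⟨y, hy, -⟩ := (Nat.card_eq_two_iff' (1 : f.ker)).1 hc
        rcases (hk _).1 (h1 y y.2) with h' | h'
        · exact (hy (Subtype.ext (Subtype.ext h'))).elim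
        · rw [show x = y from Subtype.ext (h.trans h'.symm)]; exact y.2
    exact ⟨S.mapSurjective hπ, 2 ^ (n + 1), Nat.le_self_pow (by omega) 2,
      ⟨((QuotientGroup.quotientKerEquivOfSurjective g (π.subgroupMap_surjective S)).symm.trans
        (QuotientGroup.quotientMulEquivOfEq hg.symm)).trans
        (QuotientGroup.quotientKerEquivOfSurjective f hf)⟩⟩

variable {F : Type*} [Field F] {P : Subgroup (GL I4 F)}

theorem pm_of_smul {a b : M4 F} {c : F} (ha : a * a = 1) (hb : b * b = 1) (e : a = c • b) :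
    Pm a b := by
  rw [e, smul_mul_smul_comm, hb, ← one_smul F (1 : M4 F), smul_smul, mul_one] at ha
  rcases mul_self_eq_one_iff.1 (smul_one_inj ha) with rfl | rfl
  · exact .inl (by rw [e, one_smul])
  · exact .inr (by rw [e, neg_smul, one_smul])

theorem w_of_sq (h2 : (2 : F) ≠ 0) {t : M4 F} (ha : ad t * t = 1) (ht : t * t = 1)
    (h1 : ¬ Pm t 1) : W t := by
  have e0 : ad t = t := by rw [← Matrix.mul_one (ad t), ← ht, ← Matrix.mul_assoc, ha, Matrix.one_mul]
  refine ⟨e0, ?_⟩
  by_contra h0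
  obtain ⟨d, e⟩ := sa_sq h2 e0
  have h3 : t.trace / 2 ≠ 0 := div_ne_zero h0 h2
  refine h1 (pm_of_smul (c := (t.trace / 2)⁻¹ * (1 + d)) ht (mul_one _) ?_)
  rw [← smul_smul, add_smul, one_smul]
  nth_rw 1 [← ht]
  rw [e, sub_add_cancel, smul_smul, inv_mul_cancel₀ h3, one_smul]

theorem quad (h2 : (2 : F) ≠ 0) (h3 : (3 : F) = 0) {x : M4 F} (ha : ad x * x = 1)
    (hx : x ^ 3 = 1) : (x - 1) * (x - 1) = 0 := by
  have ha' : x * ad x = 1 := mul_eq_one_comm.1 ha
  have c3 : (3 : M4 F) = 0 := by rw [← map_ofNat (algebraMap F (M4 F)), h3, map_zero]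
  have n3 : (x - 1) * (x - 1) * (x - 1) = 0 := by
    linear_combination (norm := noncomm_ring) hx + c3 * (x - x * x)
  obtain ⟨X, hX⟩ : ∃ X, X = x + ad x - (1 + 1) := ⟨_, rfl⟩
  have e1 : X = ad x * ((x - 1) * (x - 1)) := by
    linear_combination (norm := noncomm_ring) hX - (ha * x) + 2 * ha
  have e2 : X = (x - 1) * (x - 1) * ad x := by
    linear_combination (norm := noncomm_ring) hX - (x * ha') + 2 * ha'
  have sa : ad X = X := by rw [hX, ad_sub, ad_add, ad_add, ad_ad, ad_one, add_comm (ad x)]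
  have a1 : X * (x - 1) = 0 := by rw [e1, mul_assoc, n3, mul_zero]
  have a2 : (x - 1) * X = 0 := by rw [e2, ← mul_assoc, ← mul_assoc, n3, zero_mul]
  by_cases h1 : ∀ a b, X ≠ vecMulVec a b
  · refine mat_ext fun v => ?_
    obtain ⟨u, hu⟩ := ker_im (N := X) (by
      nth_rw 2 [e2]
      rw [← mul_assoc, ← mul_assoc, a1, zero_mul, zero_mul]) h1 (v := (x - 1) *ᵥ v)
      (by rw [mulVec_mulVec, a1, zero_mulVec])
    rw [← mulVec_mulVec, ← hu, mulVec_mulVec, a2, zero_mulVec, zero_mulVec]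
  · push Not at h1
    obtain ⟨a, b, e⟩ := h1
    rw [e, sa_rank h2 (e ▸ sa)] at e1
    linear_combination (norm := noncomm_ring) -(x * e1) - ha' * ((x - 1) * (x - 1))

theorem rank (h : Ctx P) (hs : Small P) (h3 : (3 : F) = 0) {x y : P} (hx : x ^ 3 = 1)
    (hy : y ^ 3 = 1) (e : x * y = y * x) : x = 1 ∨ y = 1 ∨ y = x ∨ y = x * x := by
  have q : ∀ {x : P}, x ^ 3 = 1 → (mx x - 1) * (mx x - 1) = 0 := fun {x} hx =>
    quad h.two h3 (h.ad_mul (mem_mx x)) (by rw [← mx_pow, hx, mx_one])
  by_cases x1 : x = 1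
  · exact .inl x1
  have e' := congrArg mx e
  rw [mx_mul, mx_mul] at e'
  have c3 : (3 : M4 F) = 0 := by rw [← map_ofNat (algebraMap F (M4 F)), h3, map_zero]
  refine .inr ((hs (mx x - 1) (mx y - 1) (by simpa using mem_mx x) (by simpa using mem_mx y)
    (q hx) (q hy) (fun e => x1 (mx_inj (by rw [mx_one]; exact sub_eq_zero.1 e)))
    (by linear_combination (norm := noncomm_ring) e')).imp
    (fun e => mx_inj (by rw [mx_one]; exact sub_eq_zero.1 e)) (Or.imp
    (fun e => mx_inj (sub_left_injective e)) fun e => mx_inj ?_))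
  rw [mx_mul]
  linear_combination (norm := noncomm_ring) e - q hx + c3 * (1 - mx x)

theorem not_alt (h : Ctx P) (hs : Small P) (h3 : (3 : F) = 0)
    {π : P →* alternatingGroup (Fin 7)} (hπ : Cov P π) : False := by
  let σ : alternatingGroup (Fin 7) :=
    ⟨Equiv.swap 0 1 * Equiv.swap 1 2, Equiv.Perm.mem_alternatingGroup.2 (by decide)⟩
  let τ : alternatingGroup (Fin 7) :=
    ⟨Equiv.swap 3 4 * Equiv.swap 4 5, Equiv.Perm.mem_alternatingGroup.2 (by decide)⟩
  obtain ⟨_, ⟨x, rfl, hx⟩, x3⟩ := Alt.R.odd h hπ (n := 3) (σ := σ) (by decide) (by decide)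
  obtain ⟨_, ⟨y, rfl, hy⟩, y3⟩ := Alt.R.odd h hπ (n := 3) (σ := τ) (by decide) (by decide)
  replace x3 : x ^ 3 = 1 := mx_inj (by rw [mx_pow, mx_one]; exact x3)
  replace y3 : y ^ 3 = 1 := mx_inj (by rw [mx_pow, mx_one]; exact y3)
  have e : x * y * x⁻¹ = y := by
    rcases (hπ.eq_iff (x := x * y * x⁻¹) (y := y)).1
      (by rw [map_mul, map_mul, map_inv, hx, hy]; decide) with e | e
    · exact mx_inj e
    · have := congrArg (· ^ 3) e
      simp only [← mx_pow, conj_pow, y3, Odd.neg_pow (by decide : Odd 3), mul_one,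
        mul_inv_cancel, mx_one] at this
      exact (one_ne_neg_one h.two this).elim
  rcases rank h hs h3 x3 y3 (mul_inv_eq_iff_eq_mul.1 e) with e | e | e | e <;>
    replace e := congrArg π e <;> simp only [map_mul, map_one, hx, hy] at e <;>
    exact absurd e (by decide)

open Hay

theorem not_char3 (h : Ctx P) (hs : Small P) (h3 : (3 : F) = 0) {K : Type} [Field K] [Fintype K]
    (hK : (3 : K) = 0) (h4 : 3 < Fintype.card K) (e : SL(2, K) ≃* P) : False := by
  classical
  obtain ⟨c, hc⟩ : ∃ c : K, c ∉ ({0, 1, 1 + 1} : Finset K) := by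
    by_contra hc
    push Not at hc
    have := Finset.card_le_card (show Finset.univ ⊆ ({0, 1, 1 + 1} : Finset K) from fun c _ => hc c)
    have := Finset.card_le_three (a := (0 : K)) (b := 1) (c := 1 + 1)
    rw [Finset.card_univ] at *
    omega
  have u3 : ∀ c : K, e (uu c) ^ 3 = 1 := fun c => by
    rw [← map_pow, pow_three', uu_mul, uu_mul, show c + c + c = 0 by linear_combination c * hK,
      uu_zero, map_one]
  have inj : ∀ {a b : K}, e (uu a) = e (uu b) → a = b := fun e' =>
    congrArg (fun g : SL(2, K) => g.1 0 1) (e.injective e')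
  have := rank h hs h3 (u3 1) (u3 c) (by simp only [← map_mul, uu_mul, add_comm])
  rw [← map_mul, uu_mul, ← map_one e, ← uu_zero] at this
  rcases this with e' | e' | e' | e'
  · exact one_ne_zero (inj e')
  all_goals exact hc (by simp [inj e'])

theorem not_five (h : Ctx P) (h3 : (3 : F) = 0) {K : Type} [Field K] [Fintype K]
    (hK : Fintype.card K = 5) (e : SL(2, K) ≃* P) : False := by
  have c5 : (5 : K) = 0 := by simpa [hK] using FiniteField.cast_card_eq_zero K
  have : Fact (Nat.Prime 5) := ⟨by norm_num⟩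
  have : CharP K 5 := (CharP.charP_iff_prime_eq_zero (by norm_num)).2 c5
  have hn : ∀ c : K, ∃ n : ℕ, (n : K) = c := fun c => by
    obtain ⟨a, rfl⟩ := (ZMod.castHom_bijective K hK).2 c
    exact ⟨a.val, by simp⟩
  let x : SL(2, K) := slm 0 (-1) 1 (-1) (by ring)
  let y : SL(2, K) := slm 0 1 (-1) (-1) (by ring)
  have q : ∀ {x : SL(2, K)}, x ^ 3 = 1 →
      mx (e x) * mx (e x) = (2 : F) • mx (e x) + (-1 : F) • 1 := fun {x} hx => by
    have := quad h.two h3 (h.ad_mul (mem_mx (e x))) (by rw [← mx_pow, ← map_pow, hx, map_one, mx_one])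
    rw [two_smul, neg_smul, one_smul]
    linear_combination (norm := noncomm_ring) this
  refine h.q2 (q (x := x) (by rw [pow_three']; apply Hay.sl_ext <;> simp [x]))
    (q (x := y) (by rw [pow_three']; apply Hay.sl_ext <;> simp [y])) fun g hg => ?_
  obtain ⟨k, rfl⟩ := hg.exists
  obtain ⟨k, rfl⟩ := e.surjective k
  have hx : x ∈ closure {x, y} := subset_closure (by simp)
  have hy : y ∈ closure {x, y} := subset_closure (by simp)
  have hk : k ∈ (closure {x, y}).toSubmonoid := by
    rw [sl_eq_top_of_transvection_mem (closure {x, y}) fun i j hij c => ?_]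
    · trivial
    obtain ⟨n, rfl⟩ := hn c
    induction n with
    | zero => simp
    | succ n ih =>
      rw [Nat.cast_succ, SpecialLinearGroup.transvection_add]
      refine mul_mem ih ?_
      fin_cases i <;> fin_cases j
      · exact (hij rfl).elim
      · convert mul_mem (mul_mem (inv_mem hy) hx) (mul_mem (inv_mem hy) hx) using 1
        apply Hay.sl_ext <;> simp [x, y, SpecialLinearGroup.transvection, Matrix.transvection]
        linear_combination c5
      · convert mul_mem (mul_mem hy (inv_mem hx)) (mul_mem hy (inv_mem hx)) using 1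
        apply Hay.sl_ext <;> simp [x, y, SpecialLinearGroup.transvection, Matrix.transvection]
        linear_combination c5
      · exact (hij rfl).elim
  rw [closure_toSubmonoid_of_finite] at hk
  clear hg
  induction hk using Submonoid.closure_induction with
  | mem a ha => exact Algebra.subset_adjoin (by rcases ha with rfl | rfl <;> simp)
  | one => rw [map_one, mx_one]; exact one_mem _
  | mul a b _ _ ha hb => rw [map_mul, mx_mul]; exact mul_mem ha hb

end I

variable {F : Type*} [Field F] {P : Subgroup (GL I4 F)}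

theorem neg_mem [Finite F] (h2 : (2 : F) ≠ 0) (hle : P ≤ spGL 2 F) (hq : QS P) : Mem P (-1) := by
  by_contra hn
  have hπ := cov_mk hle
  set π := QuotientGroup.mk' ((scalars I4 F).subgroupOf P)
  have := hπ.simple hle hq
  have hc := hπ.not_comm hq
  have : Fact (Nat.Prime 2) := ⟨Nat.prime_two⟩
  obtain ⟨σ, hσ⟩ := exists_prime_orderOf_dvd_card' (G := P ⧸ (scalars I4 F).subgroupOf P) 2 (by
    by_contra ho
    exact hc ⟨⟨IsSimpleGroup.comm_iff_isSolvable.2
      (S0205.result (Nat.not_even_iff_odd.1 (fun e => ho e.two_dvd)))⟩⟩)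
  obtain ⟨γ, h1, h1'⟩ := Inv.ZS.exists_conj_commute_ne (Inv.ZS.card_ne_two_of_not_comm hc) hσ
  obtain ⟨t, rfl⟩ := hπ.surj σ
  obtain ⟨g, rfl⟩ := hπ.surj γ
  have k1 : ∀ x : P, π x = 1 → x = 1 := fun x hx =>
    mx_inj (((hπ.ker x).1 hx).resolve_right fun e => hn (e ▸ mem_mx x))
  have tt : t * t = 1 := k1 _ (by
    rw [map_mul, ← sq]; exact orderOf_dvd_iff_pow_eq_one.1 hσ.dvd)
  have w : ∀ s : P, s * s = 1 → s ≠ 1 → W (mx s) := fun s hs s1 =>
    I.w_of_sq h2 (mem_sp_iff.1 (hle s.2)) (by rw [← mx_mul, hs, mx_one])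
      fun e => s1 (k1 s ((hπ.ker s).2 e))
  have t1 : t ≠ 1 := by rintro rfl; simp at hσ
  have tt' : g * t * g⁻¹ * (g * t * g⁻¹) = 1 := by rw [_root_.conj_mul, tt]; simp
  have hcm : t * (g * t * g⁻¹) = g * t * g⁻¹ * t := mul_inv_eq_one.1 (k1 _ (by
    simp only [map_mul, map_inv, mul_inv_eq_one]; exact h1))
  obtain ⟨c, e⟩ := W.par_of_commute h2 (w t tt t1) (w _ tt' (by simpa using t1))
    (mem_mx t).isUnit.ne_zero (by rw [← mx_mul, hcm, mx_mul])
  refine h1' ?_
  rw [← map_inv, ← map_mul, ← map_mul, hπ.eq_iff]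
  exact I.pm_of_smul (by rw [← mx_mul, tt', mx_one]) (by rw [← mx_mul, tt, mx_one]) e

theorem classify [Finite F] (h : Ctx P) (hD : ∀ t, ¬ D P t) :
    (∃ (K : Type) (_ : Field K) (_ : Fintype K), Odd (Fintype.card K) ∧ 3 < Fintype.card K ∧
      Nonempty (SL(2, K) ≃* P)) ∨ ∃ π : P →* alternatingGroup (Fin 7), Cov P π := by
  have hπ := cov_mk h.le
  set π := QuotientGroup.mk' ((scalars I4 F).subgroupOf P)
  have := hπ.simple h.le h.qs
  have : Group.IsPerfect P := ⟨perfect_of_qs h.qs⟩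
  obtain ⟨z, hz⟩ := h.neg.exists
  have z1 : z ≠ 1 := fun e => one_ne_neg_one h.two (by rw [← hz, e, mx_one])
  have zz : z * z = 1 := mx_inj (by rw [mx_mul, hz, mx_one, neg_mul_neg, mul_one])
  have pm : ∀ x : P, Pm (mx x) 1 ↔ x = 1 ∨ x = z := fun x =>
    or_congr ⟨fun e => mx_inj e, fun e => e ▸ mx_one⟩
      ⟨fun e => mx_inj (e.trans hz.symm), fun e => e ▸ hz⟩
  have hk : ∀ x, π x = 1 ↔ x = 1 ∨ x = z := fun x => (hπ.ker x).trans (pm x)
  obtain ⟨S, n, hn, ⟨e⟩⟩ := I.exists_dihedral hπ.surj (orderOf_eq_prime (by rw [sq, zz]) z1) hk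
    fun x hx => (pm x).1 (by
      by_contra hc
      exact hD _ ⟨mem_mx x, by rw [← mx_mul, hx, mx_one], fun e => hc (.inl e),
        fun e => hc (.inr e)⟩)
  have ho := FG.C1.oddCore_eq_bot (G := P ⧸ (scalars I4 F).subgroupOf P)
    (Dvd.dvd.trans (by rw [Nat.card_congr e.toEquiv, DihedralGroup.nat_card]; simp)
      (S : Subgroup _).card_subgroup_dvd_card)
  let ε := (QuotientGroup.quotientBot.symm.trans (QuotientGroup.quotientMulEquivOfEq ho.symm))
  rcases S0483.result S n hn ⟨e⟩ with ⟨K, _, _, h1, h3, ⟨f⟩⟩ | ⟨⟨f⟩⟩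
  · let ρ := (ε.trans f).toMonoidHom.comp π
    have hρ : ∀ x, x ∈ ρ.ker ↔ x = 1 ∨ x = z := fun x =>
      ((ε.trans f).map_eq_one_iff).trans (hk x)
    obtain ⟨φ⟩ := GW.nonempty_sl2 (by rwa [Nat.card_eq_fintype_card])
      (by rwa [Nat.card_eq_fintype_card]) ρ ((ε.trans f).surjective.comp hπ.surj)
      (fun x hx => Subgroup.mem_center_iff.2 fun g => by
        rcases (hρ x).1 hx with rfl | rfl
        · simp
        · exact mx_inj (by rw [mx_mul, mx_mul, hz, mul_neg, neg_mul, mul_one, one_mul]))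
      (fun x => ⟨1, Subtype.ext (by
        rcases (hρ x).1 x.2 with e | e <;> simp [e, sq, zz])⟩)
      (fun e => z1 (Subgroup.mem_bot.1 (e ▸ (hρ z).2 (.inr rfl))))
    exact .inl ⟨K, _, _, h1, h3, ⟨φ.symm⟩⟩
  · exact .inr ⟨(ε.trans f).toMonoidHom.comp π, (ε.trans f).surjective.comp hπ.surj,
      fun g => ((ε.trans f).map_eq_one_iff).trans (hπ.ker g)⟩

theorem three_ne [Finite F] (h : Ctx P) (hs : Small P) (hD : ∀ t, ¬ D P t) : (3 : F) ≠ 0 := by
  intro h3
  rcases classify h hD with ⟨K, _, _, h1, h4, ⟨e⟩⟩ | ⟨π, hπ⟩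
  · by_cases hK : (3 : K) = 0
    · exact I.not_char3 h hs h3 hK h4 e
    have hF : ringChar F = 3 :=
      CharP.ringChar_of_prime_eq_zero Nat.prime_three (by exact_mod_cast h3)
    rcases cross h (fun e => hK (by
      exact_mod_cast (ringChar.spec K 3).2 (by rw [e, hF]))) h1 h4 e with h5 | h9
    · exact I.not_five h h3 h5 e
    · have := FiniteField.cast_card_eq_zero K
      rw [h9] at this
      exact hK (pow_eq_zero_iff (n := 2) (by norm_num) |>.1 (by
        push_cast at this; linear_combination this))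
  · exact I.not_alt h hs h3 hπ

end Cfsg.Agent.Cl.S4O
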