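import Mathlib
import Cfsg.Agent.Cl.S4OT
import Cfsg.Agent.Cl.S4OQ
import Cfsg.Agent.Cl.S4OB
import Cfsg.Agent.Cl.S4OAlt
import Cfsg.Agent.Cl.S4OL7
import Cfsg.Agent.Cl.S4OA5
import Cfsg.Agent.Cl.S4OX
import Cfsg.Agent.Cl.S4OI
import Cfsg.Agent.Cl.LinearIso

/-!
# The residual maximal subgroups of `Sp₄(q)`, `q` odd
-/

set_option autoImplicit false
set_option linter.ambiguousOpen false

namespace Cfsg.Agent.Cl.S4O

open Matrix Low Max Mx Geo
open scoped MatrixGroups

variable {F : Type*} [Field F] {H P : Subgroup (GL I4 F)} {G G' : Type*} [Group G] [Group G']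
  {π : P →* G}

theorem Cov.nonempty_equiv (hπ : Cov P π) (hle : P ≤ spGL 2 F) :
    Nonempty ((P ⧸ (scalars I4 F).subgroupOf P) ≃* G) :=
  ⟨(QuotientGroup.quotientMulEquivOfEq (Subgroup.ext fun g => ((QuotientGroup.eq_one_iff g).symm.trans
    (((cov_mk hle).ker g).trans (hπ.ker g).symm)))).trans
    (QuotientGroup.quotientKerEquivOfSurjective π hπ.surj)⟩

theorem Cov.comp (hπ : Cov P π) (e : G ≃* G') : Cov P ((e : G →* G').comp π) :=
  ⟨e.surjective.comp hπ.surj, fun g => (map_eq_one_iff e e.injective).trans (hπ.ker g)⟩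

theorem cov_center (h : Ctx P) (e : G ≃* P) :
    Cov P ((QuotientGroup.mk' (Subgroup.center G)).comp (e.symm : P →* G)) where
  surj := (QuotientGroup.mk'_surjective _).comp e.symm.surjective
  ker := fun g => by
    refine (QuotientGroup.eq_one_iff _).trans ((mulEquiv_mem_center_iff e.symm g).trans
      (Subgroup.mem_center_iff.trans ⟨fun hg => ?_, fun hg k => mx_inj ?_⟩))
    · obtain ⟨c, hc⟩ := h.scalar (X := mx g) fun k hk => by
        obtain ⟨k, rfl⟩ := hk.exists
        exact congrArg mx (hg k).symm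
      exact h.pm (mem_mx g) hc
    · rw [mx_mul, mx_mul]
      rcases hg with e | e <;> simp [mx, e]

theorem qs_of_core [Finite F] (h : IsResidualCore H P) : QS P where
  two_le := by simp
  perfect := h.perfect
  spans := spans_of_acts h.absIrred
  simple := fun N hN hn => by
    have hN' : (N.subgroupOf P).Normal := ⟨fun x hx g => hn g g.2 x hx⟩
    have := h.simple
    let π := QuotientGroup.mk' ((scalars I4 F).subgroupOf P)
    rcases (Subgroup.Normal.map hN' π (QuotientGroup.mk'_surjective _)).eq_bot_or_eq_top with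
      h1 | h1
    · exact Or.inl fun x hx => (QuotientGroup.eq_one_iff (⟨x, hN hx⟩ : P)).1
        (Subgroup.mem_bot.1 (h1 ▸ Subgroup.mem_map_of_mem π
          (show (⟨x, hN hx⟩ : P) ∈ N.subgroupOf P from hx)))
    · refine Or.inr (le_antisymm hN ?_)
      have key : ∀ x ∈ P, ∃ n ∈ N, ∃ z ∈ scalars I4 F, x = n * z := fun x hx => by
        obtain ⟨n, hn, e⟩ : π ⟨x, hx⟩ ∈ (N.subgroupOf P).map π := h1 ▸ Subgroup.mem_top _
        exact ⟨n, hn, (n : GL I4 F)⁻¹ * x, (QuotientGroup.eq (a := n) (b := ⟨x, hx⟩)).1 e,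
          by simp⟩
      rw [← h.perfect, Subgroup.commutator_le]
      intro x hx y hy
      obtain ⟨a, ha, z, hz, rfl⟩ := key x hx
      obtain ⟨b, hb, w, hw, rfl⟩ := key y hy
      have e : a * z * (b * w) * (a * z)⁻¹ * (b * w)⁻¹ = a * b * a⁻¹ * b⁻¹ := by
        calc _ = a * (z * (b * w) * z⁻¹) * a⁻¹ * w⁻¹ * b⁻¹ := by group
          _ = a * b * (w * a⁻¹ * w⁻¹) * b⁻¹ := by
            rw [mul_comm_of_mem_scalars hz, mul_inv_cancel_right]; group
          _ = _ := by rw [mul_comm_of_mem_scalars hw, mul_inv_cancel_right]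
      rw [commutatorElement_def, e]
      exact N.mul_mem (N.mul_mem (N.mul_mem ha hb) (N.inv_mem ha)) (N.inv_mem hb)

theorem trGen_of_core [Finite F] (h : IsResidualCore H P) : TrGen P := fun k hk => by
  by_contra h0
  have hs := spans_of_acts h.absIrred
  obtain ⟨Q, hQ⟩ := exists_rat_of_trace hs.irr (one_mem_matrixSet P) (mul_mem_matrixSet P)
    (NormsG.norms fun a ha b hb => P.mul_mem (P.mul_mem ha hb) (P.inv_mem ha)) hs k
    (by rintro _ ⟨g, hg, rfl⟩; exact hk _ (mem_coe hg))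
  exact h.no_subfield k h0 ⟨Q⁻¹, fun s hs => (hQ s).1 (Submodule.subset_span hs)⟩

theorem cases [Fintype F] {p : ℕ} [Fact p.Prime] [CharP F p] (h2 : (2 : F) ≠ 0)
    (hH : IsMaximalIn (spGL 2 F) H) (hP : IsResidualCore H P) : 5 ≤ p ∧
    (((∃ π : P →* alternatingGroup (Fin 6), Cov P π) ∧ Fintype.card F = p ∧ p ≠ 7) ∨
      ((∃ π : P →* alternatingGroup (Fin 7), Cov P π) ∧ Fintype.card F = 7) ∨
      (∃ π : P →* PSL(2, F), Cov P π) ∧ 7 < Fintype.card F) := by
  have hle := hP.le.trans hH.1.le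
  have h : Ctx P := ⟨h2, hle, neg_mem h2 hle (qs_of_core hP), qs_of_core hP⟩
  have ht := trGen_of_core hP
  have hs := small h (noTv h ht fun e => hH.1.not_ge (e ▸ hP.le))
  have hD : ∀ t, ¬ D P t := fun t => no_D h hs
  have h3 := three_ne h hs hD
  have nm : ¬ NotMax P := fun hn => hn H hP.le hP.normal hH
  have hp : p.Prime := Fact.out
  have p2 : p ≠ 2 := by rintro rfl; exact h2 (by exact_mod_cast CharP.cast_eq_zero F 2)
  have p3 : p ≠ 3 := by rintro rfl; exact h3 (by exact_mod_cast CharP.cast_eq_zero F 3)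
  have p5 := hp.five_le_of_ne_two_of_ne_three p2 p3
  obtain ⟨n, -, hn⟩ := FiniteField.card F p
  refine ⟨p5, ?_⟩
  rcases classify h hD with ⟨K, _, _, ho, hK, ⟨e⟩⟩ | ⟨π, hπ⟩
  swap
  · exact .inr (.inl ⟨⟨π, hπ⟩, alt7 h hD ht h3 hπ⟩)
  have k5 : Fintype.card K ≠ 5 := fun hc => nm (a5 h h3
    ((slMapEquiv _ (ZMod.ringEquivOfPrime K (by norm_num) hc)).trans e))
  by_cases hc : ringChar K = ringChar F
  · have hq := defining h hs ht h3 hc e
    have k7 : Fintype.card K ≠ 7 := fun hc => nm (l27 h (hq ▸ hc)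
      ((slMapEquiv _ (ZMod.ringEquivOfPrime K (by norm_num) hc)).trans e))
    refine .inr (.inr ⟨⟨_, (cov_center h e).comp
      (pslMapEquiv _ (FiniteField.ringEquivOfCardEq hq))⟩, ?_⟩)
    obtain ⟨m, hm⟩ := ho
    omega
  · obtain ⟨e'⟩ := psl2_nine_equiv_alt (F := K)
      (by rw [Nat.card_eq_fintype_card, (cross h hc ho hK e).resolve_left k5])
    have hπ := (cov_center h e).comp e'
    obtain ⟨h4, h5⟩ := alt6 h hD ht h3 hπ
    have hq : Fintype.card F = p := by
      rw [hn] at h4 ⊢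
      rw [h4.eq_one_of_pow, pow_one]
    exact .inl ⟨⟨_, hπ⟩, hq, fun e => nm (h5 (hq.trans e))⟩

end Cfsg.Agent.Cl.S4O
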