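import Mathlib
import Cfsg.Agent.Cl.Syl2O

/-!
# Sylow 2-subgroups of special orthogonal groups in odd characteristic have elementary
abelianization (dimension at least 4, model form)
-/

set_option autoImplicit false

namespace Cfsg.Agent.Cl.S2W

open QuadraticMap Module Equiv SemidirectProduct
open scoped commutatorElement

section Abstract

variable {D E T ι : Type*} [Group D] [Group E] [Group T] [MulAction T ι] [DecidableEq ι]
  [Finite ι]

theorem ker_sq_mem_sign (Φ : Wr D ι T × E →* ℤˣ) (π : D →* ℤˣ)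
    (h1 : ∀ i d, Φ (sg E T i d) = π d) (h2 : ∀ t, Φ (tp D E ι t) = 1)
    (hT : ∀ t : T, t ^ 2 ∈ commutator T) {i₀ j₀ : ι} (hij : i₀ ≠ j₀)
    (hπ : ∀ d, π d = -1 → d ^ 2 = 1) {r : D} (hr : π r = -1)
    {SE : Set E} (hSE : Subgroup.closure SE = ⊤)
    (hE : ∀ e ∈ SE, e ^ 2 = 1 ∧ Φ (MonoidHom.inr _ _ e) = -1)
    (x : Φ.ker) : x ^ 2 ∈ commutator Φ.ker := by
  have hdg : ∀ i j d, sg E T i d * sg E T j d ∈ Φ.ker := fun i j d => by
    rw [MonoidHom.mem_ker, map_mul, h1, h1, ← pow_two, Int.units_sq]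
  refine sq_mem_of_le_sqK (le_of_gens sqK_le i₀ (closure_sq_eq_top_of_sign π hπ hr) hSE
    (fun t => ?_) (fun i hi d hd => ?_) (fun e he => ?_) (fun k hk => ?_)) x
  · exact map_mem_sqK _ h2 (hT t)
  · refine ⟨d, mem_sqK_of_sq (hdg _ _ _) ?_⟩
    rw [(sg_comm hi d d).mul_pow, ← map_pow, ← map_pow, hd, map_one, map_one, one_mul]
  · obtain ⟨he2, h⟩ := hE e he
    refine ⟨r, mem_sqK_of_sq (by rw [MonoidHom.mem_ker, map_mul, h1, h, hr]; rfl) ?_⟩
    rw [(sg_comm_inr i₀ r e).mul_pow, ← map_pow, ← map_pow, hπ r hr, he2, map_one, map_one,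
      one_mul]
  · refine mem_sqK.2 ⟨hk, ?_⟩
    have hk1 : π k = 1 := by rw [← h1 i₀]; exact hk
    have h3 : r * k⁻¹ * r⁻¹ = k := by
      have h4 := hπ (r * k⁻¹) (by rw [map_mul, map_inv, hr, hk1]; rfl)
      have h5 := hπ r hr
      rw [pow_two] at h4 h5
      rw [inv_eq_of_mul_eq_one_right h5]
      calc r * k⁻¹ * r = r * k⁻¹ * (r * k⁻¹) * k := by group
        _ = k := by rw [h4, one_mul]
    have : sg E T i₀ k ^ 2 = ⁅sg E T i₀ k, sg E T i₀ r * sg E T j₀ r⁆ := by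
      have h6 : sg E T j₀ r * sg E T i₀ k⁻¹ * (sg E T j₀ r)⁻¹ = sg E T i₀ k⁻¹ := by
        rw [← (sg_comm hij k⁻¹ r).eq, mul_inv_cancel_right]
      calc sg E T i₀ k ^ 2 = sg E T i₀ k * sg E T i₀ (r * k⁻¹ * r⁻¹) := by rw [h3, pow_two]
        _ = sg E T i₀ k * (sg E T i₀ r * (sg E T j₀ r * sg E T i₀ k⁻¹ * (sg E T j₀ r)⁻¹) *
            (sg E T i₀ r)⁻¹) := by rw [h6, map_mul, map_mul, map_inv (sg E T i₀ : D →* _) r]
        _ = _ := by rw [commutatorElement_def, map_inv]; group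
    rw [this]
    exact Subgroup.commutator_mem_commutator hk (hdg _ _ _)

end Abstract

variable {F : Type*} [Field F] [Fintype F] {V : Type*} [AddCommGroup V] [Module F V]
  [FiniteDimensional F V] {Q : QuadraticForm F V}

theorem model_sq_mem_so (h2 : (2 : F) ≠ 0) {m k : ℕ} (hm : 2 ≤ m) {d : Fin k → F}
    (hd : ∀ i, d i ≠ 0) (D : Sylow 2 (OG (q0 F))) (T : Sylow 2 (Perm (Fin m)))
    (h4 : (polarBilin (qM m d)).Nondegenerate)
    (x : ((dickson h4).ker).comap (fM d D T)) :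
    x ^ 2 ∈ commutator (((dickson h4).ker).comap (fM d D T)) := by
  have h0 := q0_nondeg h2
  have h1 := qPi_nondeg (ι := Fin m) h0
  have h3 := o_wss_nondeg h2 hd
  revert x
  rw [MonoidHom.comap_ker]
  obtain ⟨r, hrD, hr⟩ := exists_invol h2 D one_ne_zero
  have hr' : dickson h0 r = -1 := congrArg Prod.fst hr
  refine ker_sq_mem_sign _ ((dickson h0).comp (D : Subgroup (OG (q0 F))).subtype)
    (fun i x => ?_) (fun t => ?_) (wr_sylow_perm_sq_mem_commutator T)
    (i₀ := ⟨0, by omega⟩) (j₀ := ⟨1, by omega⟩) (by simp)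
    (fun g hg => Subtype.ext (q0_sq_of_dickson h2 g.1 hg)) (r := ⟨r, hrD⟩) hr'
    (closure_signs k) ?_
  · rw [MonoidHom.comp_apply, fM_sg, dickson_prod h1 h3, map_one, mul_one]
    exact congrArg Prod.fst (ds_oWr_single h2 h0 i x.1)
  · rw [MonoidHom.comp_apply, fM_tp, dickson_prod h1 h3, map_one, mul_one]
    exact congrArg Prod.fst (ds_oWr_inr h2 t.1)
  · rintro _ ⟨j, rfl⟩
    refine ⟨by rw [← Pi.mulSingle_pow, neg_one_sq, Pi.mulSingle_one], ?_⟩
    rw [MonoidHom.comp_apply, fM_inr, dickson_prod h1 h3, map_one, one_mul,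
      sgnHom_single (hd j), dickson_orefl h3 (by rw [o_wss_single]; exact hd j)]

theorem so_of_model (h2 : (2 : F) ≠ 0) (hQ : (polarBilin Q).Nondegenerate) {m k : ℕ} (hm : 2 ≤ m)
    {d : Fin k → F} (hd : ∀ i, d i ≠ 0) (e : ((Fin m → F × F) × (Fin k → F)) ≃ₗ[F] V)
    (he : ∀ v, Q (e v) = qM m d v)
    (hc : (Nat.card (OG Q)).factorization 2 =
      m * padicValNat 2 (Nat.card F ^ 2 - 1) + padicValNat 2 m.factorial + k)
    {G : Type*} [Group G] (ρ : G →* OG Q) (hρ : Function.Injective ρ)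
    (hr : ρ.range = (dickson hQ).ker) (P : Sylow 2 G)
    (x : (P : Subgroup G)) : x ^ 2 ∈ commutator (P : Subgroup G) := by
  have : Finite (OG Q) := finite_OG
  obtain ⟨D⟩ : Nonempty (Sylow 2 (OG (q0 F))) := inferInstance
  obtain ⟨T⟩ : Nonempty (Sylow 2 (Perm (Fin m))) := inferInstance
  have hN : ρ.range.Normal := by rw [hr]; infer_instance
  have h4 : (polarBilin (qM m d)).Nondegenerate :=
    o_prod_nondeg (qPi_nondeg (q0_nondeg h2)) (o_wss_nondeg h2 hd)
  refine sylow_transfer ρ hρ ((OG.congr e he).toMonoidHom.comp (fM d D T))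
    ((OG.congr e he).injective.comp (fM_injective h2 d _ _)) ?_ ?_ P x
  · rw [card_W h2, hc]
  · have : (dickson hQ).ker.comap (OG.congr e he).toMonoidHom = (dickson h4).ker := by
      ext y
      rw [Subgroup.mem_comap, MonoidHom.mem_ker, MonoidHom.mem_ker, ← dickson_congr h4 hQ e he]
      rfl
    rw [hr, ← Subgroup.comap_comap, this]
    exact model_sq_mem_so h2 hm hd D T h4

theorem so_four (h2 : (2 : F) ≠ 0) (hQ : (polarBilin Q).Nondegenerate) (hV : finrank F V = 4)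
    {ι : Type*} [Fintype ι] [DecidableEq ι] (b : Basis ι F V) (hsq : IsSquare (quad_disc Q b))
    {G : Type*} [Group G] (ρ : G →* OG Q) (hρ : Function.Injective ρ)
    (hr : ρ.range = (dickson hQ).ker) (P : Sylow 2 G)
    (x : (P : Subgroup G)) : x ^ 2 ∈ commutator (P : Subgroup G) := by
  obtain ⟨e, he⟩ := exists_model h2 hQ (m := 2) (k := 0) (d := ![]) (fun i => i.elim0) hV b
    (by rw [add_zero, pow_mul']; simpa using hsq.mul (IsSquare.sq _))
  exact so_of_model h2 hQ le_rfl (fun i => i.elim0) e he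
    ((fact_even (m := 1) h2 hQ hV b).1 hsq) ρ hρ hr P x

end Cfsg.Agent.Cl.S2W
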